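import Mathlib
import Groth.Agent.S17014

/-!
# Half-discriminant: Laplace expansion along an isolated index
-/

set_option autoImplicit false
set_option linter.unusedSectionVars false
set_option linter.unusedVariables false

namespace Groth.Agent.Lib.Helper31.QH

open Groth.Agent.S17014 Matrix MvPolynomial

theorem hd_of_row_zero_aux {S : Type*} [CommRing S] [NoZeroDivisors S] [CharZero S] {k : ℕ}
    (hk : Odd (k + 1)) (a : Sym2 (Fin (k + 1)) → S) (i₀ : Fin (k + 1))
    (h0 : ∀ j, j ≠ i₀ → a s(i₀, j) = 0) :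
    hd a = a s(i₀, i₀) * ((polarMat a).submatrix i₀.succAbove i₀.succAbove).det := by
  have h1 : 2 * hd a = 2 * (a s(i₀, i₀) * ((polarMat a).submatrix i₀.succAbove i₀.succAbove).det) := by
    rw [two_mul_hd hk, Matrix.det_succ_row _ i₀, Finset.sum_eq_single i₀]
    · have : (polarMat a) i₀ i₀ = 2 * a s(i₀, i₀) := by simp [polarMat]
      rw [this, ← two_mul, pow_mul]
      simp
      ring
    · intro j _ hj
      have : (polarMat a) i₀ j = 0 := by
        simp only [polarMat, Matrix.of_apply]
        rw [if_neg (Ne.symm hj)]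
        exact h0 j hj
      rw [this]
      ring
    · intro h
      exact absurd (Finset.mem_univ i₀) h
  exact mul_left_cancel₀ two_ne_zero h1

theorem hd_of_row_zero {R : Type*} [CommRing R] {k : ℕ}
    (hk : Odd (k + 1)) (a : Sym2 (Fin (k + 1)) → R) (i₀ : Fin (k + 1))
    (h0 : ∀ j, j ≠ i₀ → a s(i₀, j) = 0) :
    hd a = a s(i₀, i₀) * ((polarMat a).submatrix i₀.succAbove i₀.succAbove).det := by
  classical
  let S := MvPolynomial (Sym2 (Fin (k + 1))) ℤ
  let aU : Sym2 (Fin (k + 1)) → S := fun s =>
    if ∃ j, j ≠ i₀ ∧ s = s(i₀, j) then 0 else X s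
  let ψ : S →+* R := MvPolynomial.eval₂Hom (Int.castRingHom R) a
  have ha : (fun s => ψ (aU s)) = a := by
    funext s
    simp only [aU]
    split_ifs with h
    · obtain ⟨j, hj, rfl⟩ := h
      rw [map_zero, h0 j hj]
    · exact MvPolynomial.eval₂Hom_X' _ _ _
  have hU0 : ∀ j, j ≠ i₀ → aU s(i₀, j) = 0 := by
    intro j hj
    simp only [aU]
    rw [if_pos ⟨j, hj, rfl⟩]
  have hU := hd_of_row_zero_aux hk aU i₀ hU0
  have := congrArg ψ hU
  rw [hd_map, map_mul, RingHom.map_det, ha] at this
  rw [this]
  congr 1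
  · exact congrFun ha s(i₀, i₀)
  · congr 1
    ext p q
    simp only [RingHom.mapMatrix_apply, Matrix.map_apply, Matrix.submatrix_apply, polarMat,
      Matrix.of_apply]
    split_ifs with h
    · rw [map_mul, map_ofNat]
      congr 1
      exact congrFun ha _
    · exact congrFun ha _

end Groth.Agent.Lib.Helper31.QH
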