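import Mathlib
import Groth.Agent.S17014
import Groth.Agent.Lib.Helper31.QH1

/-!
# Half-discriminant over a field: isolated index
-/

set_option autoImplicit false
set_option linter.unusedSectionVars false
set_option linter.unusedVariables false

namespace Groth.Agent.Lib.Helper31.QH

open Groth.Agent.S17014 Matrix QuadGrp

section Field

variable {K : Type*} [Field K] {V : Type*} [AddCommGroup V] [Module K V] {k : ℕ}
  (b : Module.Basis (Fin (k + 1)) K V) (Q : QuadraticForm K V)

lemma polarMat_coeffs (p q : Fin (k + 1)) :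
    polarMat (coeffs b (LinearEquiv.refl K K) Q) p q = QuadraticMap.polar Q (b p) (b q) := by
  simp only [polarMat, Matrix.of_apply, coeffs_mk, LinearEquiv.refl_apply]
  by_cases h : p = q
  · subst h
    simp [QuadraticMap.polar_self, two_mul]
  · simp [h]

lemma polar_sum (x : Fin (k + 1) → K) (p : Fin (k + 1)) :
    QuadraticMap.polar Q (b p) (∑ j, x j • b j)
      = (polarMat (coeffs b (LinearEquiv.refl K K) Q) *ᵥ x) p := by
  rw [← QuadraticMap.polarBilin_apply_apply, map_sum]
  simp only [Matrix.mulVec, dotProduct, map_smul, smul_eq_mul, QuadraticMap.polarBilin_apply_apply,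
    polarMat_coeffs]
  apply Finset.sum_congr rfl
  intro j _
  ring

lemma mem_ker_iff (x : Fin (k + 1) → K) :
    (∑ j, x j • b j) ∈ LinearMap.ker (QuadraticMap.polarBilin Q)
      ↔ polarMat (coeffs b (LinearEquiv.refl K K) Q) *ᵥ x = 0 := by
  rw [LinearMap.mem_ker]
  constructor
  · intro h
    funext p
    rw [← polar_sum, QuadraticMap.polar_comm, ← QuadraticMap.polarBilin_apply_apply, h]
    rfl
  · intro h
    apply b.ext
    intro p
    rw [QuadraticMap.polarBilin_apply_apply, QuadraticMap.polar_comm, polar_sum, h]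
    rfl

lemma mem_ker_iff' (v : V) :
    v ∈ LinearMap.ker (QuadraticMap.polarBilin Q)
      ↔ polarMat (coeffs b (LinearEquiv.refl K K) Q) *ᵥ (fun j => b.repr v j) = 0 := by
  rw [← mem_ker_iff, b.sum_repr]

lemma ker_eq_bot_iff :
    LinearMap.ker (QuadraticMap.polarBilin Q) = ⊥
      ↔ (polarMat (coeffs b (LinearEquiv.refl K K) Q)).det ≠ 0 := by
  classical
  constructor
  · intro h hdet
    obtain ⟨x, hx, hMx⟩ := Matrix.exists_mulVec_eq_zero_iff.mpr hdet
    have h1 := (mem_ker_iff b Q x).mpr hMx
    rw [h, Submodule.mem_bot] at h1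
    apply hx
    have h2 : (b.repr (∑ j, x j • b j) : Fin (k + 1) → K) = x := b.repr_sum_self x
    rw [h1, map_zero] at h2
    rw [← h2]
    rfl
  · intro hdet
    rw [eq_bot_iff]
    intro v hv
    rw [mem_ker_iff' b] at hv
    have h1 := Matrix.eq_zero_of_mulVec_eq_zero hdet hv
    rw [Submodule.mem_bot]
    apply b.repr.injective
    rw [map_zero]
    ext j
    exact congrFun h1 j

/-- characteristic different from two -/
theorem hd_ne_zero_iff_of_two_ne_zero (hk : Odd (k + 1)) (h2 : (2 : K) ≠ 0) :
    hd (coeffs b (LinearEquiv.refl K K) Q) ≠ 0 ↔ Q.Nondegenerate := by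
  have : Invertible (2 : K) := invertibleOfNonzero h2
  rw [QuadraticMap.nondegenerate_iff_radical_eq_bot, QuadraticMap.radical_eq_ker_polarBilin,
    ker_eq_bot_iff b, ← two_mul_hd hk]
  constructor
  · intro h
    exact mul_ne_zero h2 h
  · intro h h0
    rw [h0, mul_zero] at h
    exact h rfl

/-- the minor at an index -/
noncomputable def minorAt (i₀ : Fin (k + 1)) : Matrix (Fin k) (Fin k) K :=
  Matrix.of fun p q => QuadraticMap.polar Q (b (i₀.succAbove p)) (b (i₀.succAbove q))

theorem hd_isolated (hk : Odd (k + 1)) (i₀ : Fin (k + 1))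
    (h0 : ∀ j, j ≠ i₀ → QuadraticMap.polar Q (b i₀) (b j) = 0) :
    hd (coeffs b (LinearEquiv.refl K K) Q) = Q (b i₀) * (minorAt b Q i₀).det := by
  rw [hd_of_row_zero hk _ i₀]
  · congr 1
    · rw [coeffs_mk, if_pos rfl]
      rfl
    · congr 1
      ext p q
      simp only [Matrix.submatrix_apply, minorAt, Matrix.of_apply, polarMat_coeffs]
  · intro j hj
    rw [coeffs_mk, if_neg (Ne.symm hj)]
    exact h0 j hj

theorem ker_le_of_minor_det_ne_zero (i₀ : Fin (k + 1))
    (hi₀ : b i₀ ∈ LinearMap.ker (QuadraticMap.polarBilin Q))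
    (hdet : (minorAt b Q i₀).det ≠ 0) :
    LinearMap.ker (QuadraticMap.polarBilin Q) ≤ Submodule.span K {b i₀} := by
  intro u hu
  rw [LinearMap.mem_ker] at hu hi₀
  set y : Fin (k + 1) → K := fun j => b.repr u j with hy
  have hu' : u = ∑ j, y j • b j := (b.sum_repr u).symm
  have h1 : minorAt b Q i₀ *ᵥ (fun q => y (i₀.succAbove q)) = 0 := by
    funext p
    have h2 : QuadraticMap.polar Q u (b (i₀.succAbove p)) = 0 := by
      rw [← QuadraticMap.polarBilin_apply_apply, hu]; rfl
    have h4 : QuadraticMap.polar Q (b (i₀.succAbove p)) (b i₀) = 0 := by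
      rw [QuadraticMap.polar_comm, ← QuadraticMap.polarBilin_apply_apply, hi₀]; rfl
    rw [QuadraticMap.polar_comm, hu', ← QuadraticMap.polarBilin_apply_apply, map_sum,
      Fin.sum_univ_succAbove _ i₀] at h2
    simp only [map_smul, smul_eq_mul, QuadraticMap.polarBilin_apply_apply, h4, mul_zero,
      zero_add] at h2
    rw [Pi.zero_apply, ← h2]
    simp only [Matrix.mulVec, dotProduct, minorAt, Matrix.of_apply]
    apply Finset.sum_congr rfl
    intro q _
    ring
  have h5 := Matrix.eq_zero_of_mulVec_eq_zero hdet h1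
  rw [hu', Fin.sum_univ_succAbove _ i₀]
  have h6 : ∑ q, y (i₀.succAbove q) • b (i₀.succAbove q) = 0 := by
    apply Finset.sum_eq_zero
    intro q _
    have := congrFun h5 q
    simp only [Pi.zero_apply] at this
    rw [this, zero_smul]
  rw [h6, add_zero]
  exact Submodule.smul_mem _ _ (Submodule.mem_span_singleton_self _)

theorem minor_det_ne_zero_of_ker_le (i₀ : Fin (k + 1))
    (hi₀ : b i₀ ∈ LinearMap.ker (QuadraticMap.polarBilin Q))
    (hle : LinearMap.ker (QuadraticMap.polarBilin Q) ≤ Submodule.span K {b i₀}) :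
    (minorAt b Q i₀).det ≠ 0 := by
  classical
  intro hdet
  obtain ⟨z, hz, hMz⟩ := Matrix.exists_mulVec_eq_zero_iff.mpr hdet
  rw [LinearMap.mem_ker] at hi₀
  set u : V := ∑ q, z q • b (i₀.succAbove q) with hu
  have hpol : ∀ j, QuadraticMap.polar Q (b j) u = 0 := by
    intro j
    rcases Fin.eq_self_or_eq_succAbove i₀ j with rfl | ⟨p, rfl⟩
    · rw [← QuadraticMap.polarBilin_apply_apply, hi₀]; rfl
    · have := congrFun hMz p
      rw [Pi.zero_apply] at this
      rw [← this, hu, ← QuadraticMap.polarBilin_apply_apply, map_sum]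
      simp only [map_smul, smul_eq_mul, QuadraticMap.polarBilin_apply_apply, Matrix.mulVec,
        dotProduct, minorAt, Matrix.of_apply]
      apply Finset.sum_congr rfl
      intro q _
      ring
  have hker : u ∈ LinearMap.ker (QuadraticMap.polarBilin Q) := by
    rw [LinearMap.mem_ker]
    apply b.ext
    intro j
    rw [QuadraticMap.polarBilin_apply_apply, QuadraticMap.polar_comm, hpol j]
    rfl
  obtain ⟨a, ha⟩ := Submodule.mem_span_singleton.mp (hle hker)
  apply hz
  funext q
  have h1 : b.repr u (i₀.succAbove q) = z q := by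
    rw [hu, map_sum]
    simp only [map_smul, Module.Basis.repr_self, Finsupp.coe_finsetSum, Finsupp.coe_smul,
      Finset.sum_apply, Pi.smul_apply, smul_eq_mul]
    rw [Finset.sum_eq_single q]
    · simp
    · intro q' _ hq'
      rw [Finsupp.single_eq_of_ne, mul_zero]
      intro h
      exact hq' (Fin.succAbove_right_injective h).symm
    · intro h
      exact absurd (Finset.mem_univ q) h
  have h2 : b.repr u (i₀.succAbove q) = 0 := by
    rw [← ha, map_smul, Module.Basis.repr_self]
    simp only [Finsupp.coe_smul, Pi.smul_apply, smul_eq_mul]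
    rw [Finsupp.single_eq_of_ne, mul_zero]
    exact Fin.succAbove_ne i₀ q
  rw [← h1, h2]
  rfl

end Field

end Groth.Agent.Lib.Helper31.QH
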