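import Mathlib
import Groth.Agent.S17014
import Groth.Agent.Lib.Helper31.QH2

/-!
# Half-discriminant over a field of characteristic two
-/

set_option autoImplicit false
set_option linter.unusedSectionVars false
set_option linter.unusedVariables false

namespace Groth.Agent.Lib.Helper31.QH

open Groth.Agent.S17014 Matrix QuadGrp

section Field

variable {K : Type*} [Field K] {V : Type*} [AddCommGroup V] [Module K V] {k : ℕ}
  (b : Module.Basis (Fin (k + 1)) K V) (Q : QuadraticForm K V)

lemma polar_comp (g : V →ₗ[K] V) (x y : V) :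
    QuadraticMap.polar (Q.comp g) x y = QuadraticMap.polar Q (g x) (g y) := by
  simp [QuadraticMap.polar, QuadraticMap.comp_apply]

/-- replace the `i₀`-th basis vector by `v₀` -/
noncomputable def swapMap (i₀ : Fin (k + 1)) (v₀ : V) : V →ₗ[K] V :=
  b.constr K (Function.update b i₀ v₀)

lemma swapMap_self (i₀ : Fin (k + 1)) (v₀ : V) : swapMap b i₀ v₀ (b i₀) = v₀ := by
  simp [swapMap]

lemma swapMap_of_ne (i₀ : Fin (k + 1)) (v₀ : V) (j : Fin (k + 1)) (hj : j ≠ i₀) :
    swapMap b i₀ v₀ (b j) = b j := by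
  simp [swapMap, Function.update_of_ne hj]

lemma det_swapMap (i₀ : Fin (k + 1)) (v₀ : V) :
    LinearMap.det (swapMap b i₀ v₀) = b.repr v₀ i₀ := by
  classical
  rw [← LinearMap.det_toMatrix b]
  have : LinearMap.toMatrix b b (swapMap b i₀ v₀)
      = (1 : Matrix (Fin (k + 1)) (Fin (k + 1)) K).updateCol i₀ (fun p => b.repr v₀ p) := by
    ext p j
    rw [LinearMap.toMatrix_apply, Matrix.updateCol_apply]
    by_cases hj : j = i₀
    · subst hj
      rw [swapMap_self, if_pos rfl]
    · rw [swapMap_of_ne b i₀ v₀ j hj, if_neg hj, Module.Basis.repr_self, Matrix.one_apply]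
      by_cases hpj : p = j
      · subst hpj; simp
      · rw [if_neg hpj, Finsupp.single_eq_of_ne hpj]
  rw [this, ← Matrix.cramer_apply, Matrix.cramer_one]
  rfl

/-- the key equivalence for an arbitrary nonzero vector of the polar kernel -/
theorem hd_ne_zero_iff_of_mem_ker (hk : Odd (k + 1)) (v₀ : V) (hv₀ : v₀ ≠ 0)
    (hker : v₀ ∈ LinearMap.ker (QuadraticMap.polarBilin Q)) :
    hd (coeffs b (LinearEquiv.refl K K) Q) ≠ 0 ↔
      (Q v₀ ≠ 0 ∧ LinearMap.ker (QuadraticMap.polarBilin Q) ≤ Submodule.span K {v₀}) := by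
  classical
  -- choose a nonzero coordinate
  have hx : ∃ i₀, b.repr v₀ i₀ ≠ 0 := by
    by_contra h
    push Not at h
    apply hv₀
    apply b.repr.injective
    rw [map_zero]
    ext j
    exact h j
  obtain ⟨i₀, hi₀⟩ := hx
  set g := swapMap b i₀ v₀ with hg
  have hdet : LinearMap.det g ≠ 0 := by rw [hg, det_swapMap]; exact hi₀
  have hunit : IsUnit (LinearMap.toMatrix b b g).det := by
    rw [LinearMap.det_toMatrix]; exact isUnit_iff_ne_zero.mpr hdet
  set e : V ≃ₗ[K] V := LinearEquiv.ofIsUnitDet hunit with he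
  have heg : ∀ v, e v = g v := fun v => by
    rw [he, LinearEquiv.ofIsUnitDet_apply]
  set Q' := Q.comp g with hQ'
  have hmain : hd (coeffs b (LinearEquiv.refl K K) Q')
      = LinearMap.det g ^ 2 * hd (coeffs b (LinearEquiv.refl K K) Q) := by
    obtain ⟨m, hm⟩ := hk
    have hkm : k = 2 * m := by omega
    subst hkm
    exact Groth.Agent.S17014.main m b Q g
  rw [LinearMap.mem_ker] at hker
  have hker' : b i₀ ∈ LinearMap.ker (QuadraticMap.polarBilin Q') := by
    rw [LinearMap.mem_ker]
    ext w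
    rw [QuadraticMap.polarBilin_apply_apply, hQ', polar_comp, hg, swapMap_self,
      ← QuadraticMap.polarBilin_apply_apply, hker]
    rfl
  have hiso : ∀ j, j ≠ i₀ → QuadraticMap.polar Q' (b i₀) (b j) = 0 := by
    intro j _
    rw [LinearMap.mem_ker] at hker'
    rw [← QuadraticMap.polarBilin_apply_apply, hker']
    rfl
  have hform := hd_isolated b Q' hk i₀ hiso
  have hQ'i₀ : Q' (b i₀) = Q v₀ := by
    rw [hQ', QuadraticMap.comp_apply, hg, swapMap_self]
  -- kernel transport
  have hkmem : ∀ u, u ∈ LinearMap.ker (QuadraticMap.polarBilin Q')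
      ↔ g u ∈ LinearMap.ker (QuadraticMap.polarBilin Q) := by
    intro u
    rw [LinearMap.mem_ker, LinearMap.mem_ker]
    constructor
    · intro h
      ext w
      obtain ⟨w', rfl⟩ := e.surjective w
      rw [heg, QuadraticMap.polarBilin_apply_apply, ← polar_comp,
        ← QuadraticMap.polarBilin_apply_apply, ← hQ', h]
      rfl
    · intro h
      ext w
      rw [QuadraticMap.polarBilin_apply_apply, hQ', polar_comp,
        ← QuadraticMap.polarBilin_apply_apply, h]
      rfl
  have hktrans : LinearMap.ker (QuadraticMap.polarBilin Q') ≤ Submodule.span K {b i₀}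
      ↔ LinearMap.ker (QuadraticMap.polarBilin Q) ≤ Submodule.span K {v₀} := by
    constructor
    · intro h u hu
      obtain ⟨u', rfl⟩ := e.surjective u
      rw [heg] at hu ⊢
      have h1 := h ((hkmem u').mpr hu)
      obtain ⟨a, rfl⟩ := Submodule.mem_span_singleton.mp h1
      rw [map_smul, hg, swapMap_self]
      exact Submodule.smul_mem _ _ (Submodule.mem_span_singleton_self _)
    · intro h u hu
      have h1 := h ((hkmem u).mp hu)
      obtain ⟨a, ha⟩ := Submodule.mem_span_singleton.mp h1
      have h2 : e u = e (a • b i₀) := by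
        rw [heg, heg, map_smul, hg, swapMap_self, ← ha]
      rw [e.injective h2]
      exact Submodule.smul_mem _ _ (Submodule.mem_span_singleton_self _)
  have hsq : LinearMap.det g ^ 2 ≠ 0 := pow_ne_zero 2 hdet
  constructor
  · intro h
    have h1 : hd (coeffs b (LinearEquiv.refl K K) Q') ≠ 0 := by
      rw [hmain]; exact mul_ne_zero hsq h
    rw [hform, hQ'i₀] at h1
    refine ⟨left_ne_zero_of_mul h1, ?_⟩
    rw [← hktrans]
    exact ker_le_of_minor_det_ne_zero b Q' i₀ hker' (right_ne_zero_of_mul h1)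
  · rintro ⟨h1, h2⟩
    have h3 := minor_det_ne_zero_of_ker_le b Q' i₀ hker' (hktrans.mpr h2)
    have h4 : hd (coeffs b (LinearEquiv.refl K K) Q') ≠ 0 := by
      rw [hform, hQ'i₀]; exact mul_ne_zero h1 h3
    rw [hmain] at h4
    exact right_ne_zero_of_mul h4

/-- characteristic two -/
theorem hd_ne_zero_iff_of_two_eq_zero (hk : Odd (k + 1)) (h2 : (2 : K) = 0) :
    hd (coeffs b (LinearEquiv.refl K K) Q) ≠ 0 ↔ Q.Nondegenerate := by
  classical
  -- existence of a nonzero vector in the polar kernel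
  have hdet : (polarMat (coeffs b (LinearEquiv.refl K K) Q)).det = 0 := by
    rw [← two_mul_hd hk, h2, zero_mul]
  obtain ⟨x, hx, hMx⟩ := Matrix.exists_mulVec_eq_zero_iff.mpr hdet
  set v₀ : V := ∑ j, x j • b j with hv₀def
  have hker : v₀ ∈ LinearMap.ker (QuadraticMap.polarBilin Q) := (mem_ker_iff b Q x).mpr hMx
  have hv₀ : v₀ ≠ 0 := by
    intro h
    apply hx
    have h2 : (b.repr (∑ j, x j • b j) : Fin (k + 1) → K) = x := b.repr_sum_self x
    rw [← hv₀def, h, map_zero] at h2
    rw [← h2]
    rfl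
  rw [hd_ne_zero_iff_of_mem_ker b Q hk v₀ hv₀ hker]
  constructor
  · rintro ⟨h1, hle⟩
    refine ⟨?_, ?_⟩
    · rw [eq_bot_iff]
      intro v hv
      have hv1 : Q v = 0 := hv.1
      have hv2 : v ∈ LinearMap.ker (QuadraticMap.polarBilin Q) := by
        rw [LinearMap.mem_ker]; exact hv.2
      obtain ⟨a, rfl⟩ := Submodule.mem_span_singleton.mp (hle hv2)
      rw [QuadraticMap.map_smul, smul_eq_mul] at hv1
      rcases mul_eq_zero.mp hv1 with h | h
      · have : a = 0 := by simpa using h
        rw [this, zero_smul]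
        exact Submodule.zero_mem _
      · exact absurd h h1
    · exact (rank_submodule_le_one_iff' _).mpr ⟨v₀, hle⟩
  · intro hnd
    have h1 : Q v₀ ≠ 0 := by
      intro h
      have : v₀ ∈ Q.radical := by
        refine ⟨h, ?_⟩
        rw [LinearMap.mem_ker] at hker
        exact hker
      rw [hnd.radical_eq_bot, Submodule.mem_bot] at this
      exact hv₀ this
    refine ⟨h1, ?_⟩
    obtain ⟨v₁, hv₁⟩ := (rank_submodule_le_one_iff' _).mp hnd.rank_rad_polar_le
    obtain ⟨a, ha⟩ := Submodule.mem_span_singleton.mp (hv₁ hker)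
    have ha0 : a ≠ 0 := by
      rintro rfl
      rw [zero_smul] at ha
      exact hv₀ ha.symm
    intro u hu
    obtain ⟨c, rfl⟩ := Submodule.mem_span_singleton.mp (hv₁ hu)
    rw [Submodule.mem_span_singleton]
    refine ⟨c * a⁻¹, ?_⟩
    rw [← ha, smul_smul, mul_assoc, inv_mul_cancel₀ ha0, mul_one]

end Field

end Groth.Agent.Lib.Helper31.QH
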