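import Mathlib
import Groth.Agent.S17014
import Groth.Agent.Lib.Helper31.QH3

/-!
# Half-discriminant: unit iff fibrewise nondegenerate
-/

set_option autoImplicit false
set_option linter.unusedSectionVars false
set_option linter.unusedVariables false

namespace Groth.Agent.Lib.Helper31.QH

open Groth.Agent.S17014 Matrix QuadGrp TensorProduct

universe u v w

section FieldAll

variable {K : Type*} [Field K] {V : Type*} [AddCommGroup V] [Module K V] {k : ℕ}
  (b : Module.Basis (Fin (k + 1)) K V) (Q : QuadraticForm K V)

theorem hd_ne_zero_iff_nondegenerate (hk : Odd (k + 1)) :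
    hd (coeffs b (LinearEquiv.refl K K) Q) ≠ 0 ↔ Q.Nondegenerate := by
  by_cases h2 : (2 : K) = 0
  · exact hd_ne_zero_iff_of_two_eq_zero b Q hk h2
  · exact hd_ne_zero_iff_of_two_ne_zero b Q hk h2

end FieldAll

section BC

variable {R : Type u} [CommRing R] {M : Type v} [AddCommGroup M] [Module R M] [Module.Free R M]
  (A : Type w) [CommRing A] [Algebra R A] {n : ℕ} (b : Module.Basis (Fin n) R M)
  (Q : QuadraticForm R M)

lemma baseChangeForm_tmul (a : A) (m : M) :
    QuadGrp.baseChangeForm A Q (a ⊗ₜ[R] m) = algebraMap R A (Q m) * (a * a) := by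
  unfold QuadGrp.baseChangeForm
  rw [LinearMap.compQuadraticMap_apply, QuadGrp.baseChange_tmul]
  simp [Algebra.smul_def]

lemma coeffs_baseChange (s : Sym2 (Fin n)) :
    coeffs (b.baseChange A) (LinearEquiv.refl A A) (QuadGrp.baseChangeForm A Q) s
      = algebraMap R A (coeffs b (LinearEquiv.refl R R) Q s) := by
  induction s using Sym2.ind with
  | _ i j =>
    rw [coeffs_mk, coeffs_mk]
    by_cases h : i = j
    · subst h
      simp only [if_true, LinearEquiv.refl_apply, Module.Basis.baseChange_apply]
      rw [baseChangeForm_tmul]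
      simp
    · simp only [h, if_false, LinearEquiv.refl_apply, Module.Basis.baseChange_apply]
      unfold QuadraticMap.polar
      rw [← TensorProduct.tmul_add, baseChangeForm_tmul, baseChangeForm_tmul, baseChangeForm_tmul]
      simp

theorem halfDisc_baseChange :
    QuadGrp.halfDisc (b.baseChange A) (LinearEquiv.refl A A) (QuadGrp.baseChangeForm A Q)
      = algebraMap R A (QuadGrp.halfDisc b (LinearEquiv.refl R R) Q) := by
  show hd _ = algebraMap R A (hd _)
  rw [hd_map]
  congr 1
  funext s
  exact coeffs_baseChange A b Q s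

end BC

lemma isUnit_iff_forall_residueField {R : Type u} [CommRing R] (r : R) :
    IsUnit r ↔ ∀ (p : Ideal R) [p.IsPrime], algebraMap R p.ResidueField r ≠ 0 := by
  constructor
  · intro h p _
    exact (h.map (algebraMap R p.ResidueField)).ne_zero
  · intro h
    by_contra hr
    obtain ⟨I, hI, hrI⟩ := exists_max_ideal_of_mem_nonunits hr
    have := hI.isPrime
    exact h I (Ideal.algebraMap_residueField_eq_zero.mpr hrI)

theorem main {R : Type u} [CommRing R]
    {M : Type v} [AddCommGroup M] [Module R M] [Module.Free R M]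
    (m : ℕ) (b : Module.Basis (Fin (2 * m + 1)) R M) (Q : QuadraticForm R M) :
    IsUnit (QuadGrp.halfDisc b (LinearEquiv.refl R R) Q) ↔
      ∀ (p : Ideal R) [p.IsPrime],
        QuadraticMap.Nondegenerate (Q := QuadGrp.baseChangeForm p.ResidueField Q) := by
  rw [isUnit_iff_forall_residueField]
  have hk : Odd (2 * m + 1) := ⟨m, rfl⟩
  constructor
  · intro h p _
    have h1 := h p
    rw [← halfDisc_baseChange p.ResidueField b Q] at h1
    exact (hd_ne_zero_iff_nondegenerate (b.baseChange p.ResidueField) _ hk).mp h1
  · intro h p _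
    rw [← halfDisc_baseChange p.ResidueField b Q]
    exact (hd_ne_zero_iff_nondegenerate (b.baseChange p.ResidueField) _ hk).mpr (h p)

end Groth.Agent.Lib.Helper31.QH
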