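import Mathlib

set_option autoImplicit false
universe u
open CategoryTheory CategoryTheory.Limits AlgebraicGeometry

namespace Groth.Agent.Lib.Helper31.NeutRepK6

/-- Morphisms `Spec R_a ⟶ Y` which all factor through `Spec 𝒪_{Y,y}` glue to a morphism from
`Spec (∏ R_a)`. General version of the product trick. -/
theorem exists_lift_pi_aux {X Y : Scheme.{u}} (i : Y ⟶ X) {J : Type u} (R : J → Type u)
    [∀ a, CommRing (R a)] (x : X) (y : Y) (hxy : i y ⤳ x)
    (Θ : X.presheaf.stalk x ⟶ CommRingCat.of (∀ a, R a))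
    (ψ : ∀ a, Y.presheaf.stalk y ⟶ CommRingCat.of (R a))
    (hψ : ∀ a, Spec.map (ψ a) ≫ Y.fromSpecStalk y ≫ i =
      Spec.map (Θ ≫ CommRingCat.ofHom (Pi.evalRingHom R a)) ≫ X.fromSpecStalk x) :
    ∃ z : Spec (CommRingCat.of (∀ a, R a)) ⟶ Y,
      z ≫ i = Spec.map Θ ≫ X.fromSpecStalk x := by
  let Ψ : Y.presheaf.stalk y ⟶ CommRingCat.of (∀ a, R a) :=
    CommRingCat.ofHom (RingHom.pi fun a => (ψ a).hom)
  refine ⟨Spec.map Ψ ≫ Y.fromSpecStalk y, ?_⟩
  have key : X.presheaf.stalkSpecializes hxy ≫ i.stalkMap y ≫ Ψ = Θ := by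
    ext t a
    have h1 : Spec.map (X.presheaf.stalkSpecializes hxy ≫ i.stalkMap y ≫ ψ a) ≫
        X.fromSpecStalk x = Spec.map (Θ ≫ CommRingCat.ofHom (Pi.evalRingHom R a)) ≫
        X.fromSpecStalk x := by
      rw [← hψ a]
      simp only [Spec.map_comp, Category.assoc]
      rw [Scheme.SpecMap_stalkSpecializes_fromSpecStalk, Scheme.SpecMap_stalkMap_fromSpecStalk]
    have h2 := Spec.map_injective ((cancel_mono (X.fromSpecStalk x)).mp h1)
    have h3 := congrArg (fun φ => φ.hom t) h2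
    have h4 : (Θ.hom t) a = (ψ a).hom ((i.stalkMap y).hom ((X.presheaf.stalkSpecializes hxy).hom t)) := by
      simpa using h3.symm
    exact h4.symm
  rw [← key]
  simp only [Spec.map_comp, Category.assoc]
  rw [Scheme.SpecMap_stalkSpecializes_fromSpecStalk, Scheme.SpecMap_stalkMap_fromSpecStalk]


theorem exists_lift_pi {X Y : Scheme.{u}} (i : Y ⟶ X) [Mono i] (A : Type u) [CommRing A]
    [IsLocalRing A] (h : Spec (CommRingCat.of A) ⟶ X) {J : Type u} [Nonempty J]
    (I : J → Ideal A) (hI : ∀ a, I a ≠ ⊤)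
    (hz : ∀ a, ∃ z : Spec (CommRingCat.of (A ⧸ I a)) ⟶ Y,
      z ≫ i = Spec.map (CommRingCat.ofHom (Ideal.Quotient.mk (I a))) ≫ h) :
    ∃ z : Spec (CommRingCat.of (∀ a, A ⧸ I a)) ⟶ Y,
      z ≫ i = Spec.map (CommRingCat.ofHom (RingHom.pi (fun a => Ideal.Quotient.mk (I a)))) ≫ h := by
  classical
  have hnt : ∀ a, Nontrivial (A ⧸ I a) := fun a => Ideal.Quotient.nontrivial_iff.mpr (hI a)
  have hloc : ∀ a, IsLocalRing (A ⧸ I a) := fun a =>
    IsLocalRing.of_surjective' (Ideal.Quotient.mk (I a)) Ideal.Quotient.mk_surjective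
  have hlh : ∀ a, IsLocalHom (Ideal.Quotient.mk (I a)) := fun a =>
    IsLocalHom.of_surjective (Ideal.Quotient.mk (I a)) Ideal.Quotient.mk_surjective
  haveI : IsLocalRing (CommRingCat.of A) := ‹IsLocalRing A›
  haveI : ∀ a, IsLocalRing (CommRingCat.of (A ⧸ I a)) := hloc
  haveI : ∀ a, IsLocalHom (CommRingCat.ofHom (Ideal.Quotient.mk (I a))).hom := hlh
  choose z hzi using hz
  set x : X := h (IsLocalRing.closedPoint (CommRingCat.of A)) with hx
  obtain ⟨a₀⟩ := ‹Nonempty J›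
  set y : Y := z a₀ (IsLocalRing.closedPoint (CommRingCat.of (A ⧸ I a₀))) with hy
  have hiy : ∀ a, i (z a (IsLocalRing.closedPoint (CommRingCat.of (A ⧸ I a)))) = x := by
    intro a
    have := congrArg (fun f => f (IsLocalRing.closedPoint (CommRingCat.of (A ⧸ I a)))) (hzi a)
    simp only [Scheme.Hom.comp_apply] at this
    rw [this, Spec_closedPoint]
  have hya : ∀ a, z a (IsLocalRing.closedPoint (CommRingCat.of (A ⧸ I a))) = y := by
    intro a
    apply i.injective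
    rw [hiy a, hy, hiy a₀]
  have hxy : i y ⤳ x := by
    rw [hy, hiy a₀]
  -- the local data
  let θ : X.presheaf.stalk x ⟶ CommRingCat.of A := Scheme.stalkClosedPointTo h
  have hθ : Spec.map θ ≫ X.fromSpecStalk x = h := Scheme.Spec_stalkClosedPointTo_fromSpecStalk h
  let ψ : ∀ a, Y.presheaf.stalk y ⟶ CommRingCat.of (A ⧸ I a) := fun a =>
    Y.presheaf.stalkSpecializes (show z a (IsLocalRing.closedPoint _) ⤳ y from by rw [hya a]) ≫
      Scheme.stalkClosedPointTo (z a)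
  have hψ : ∀ a, Spec.map (ψ a) ≫ Y.fromSpecStalk y = z a := by
    intro a
    simp only [ψ, Spec.map_comp, Category.assoc]
    rw [Scheme.SpecMap_stalkSpecializes_fromSpecStalk]
    exact Scheme.Spec_stalkClosedPointTo_fromSpecStalk (z a)
  let Θ : X.presheaf.stalk x ⟶ CommRingCat.of (∀ a, A ⧸ I a) :=
    θ ≫ CommRingCat.ofHom (RingHom.pi (fun a => Ideal.Quotient.mk (I a)))
  obtain ⟨w, hw⟩ := exists_lift_pi_aux i (fun a => A ⧸ I a) x y hxy Θ ψ (by
    intro a
    rw [← Category.assoc, hψ a, hzi a, ← hθ]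
    have e : CommRingCat.ofHom (Ideal.Quotient.mk (I a)) =
        CommRingCat.ofHom (RingHom.pi (fun a => Ideal.Quotient.mk (I a))) ≫
          CommRingCat.ofHom (Pi.evalRingHom (fun a => A ⧸ I a) a) := rfl
    rw [e]
    simp only [Θ, Spec.map_comp, Category.assoc])
  refine ⟨w, ?_⟩
  rw [hw]
  simp only [Θ, Spec.map_comp, Category.assoc]
  rw [hθ]

end Groth.Agent.Lib.Helper31.NeutRepK6
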