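import Mathlib
import Groth.Prelude.Def_Found
import Groth.Prelude.Def_FSch3
import Groth.Agent.Lib.Helper34.AA7202H
import Groth.Agent.S7414
import Groth.Agent.S3869
import Groth.Agent.Lib.Helper76.SchlCompl

set_option autoImplicit false
universe u
open IsLocalRing CategoryTheory AlgebraicGeometry

namespace Groth.Agent.Lib.Helper31.AA7202CORE

open Groth.Agent.Lib.Helper34.AA7202H

/-- The statement of the [INJ] split (helper87's `AA7202INJ.inj`), as a hypothesis. -/
def HInj : Prop := ∀ {R R' : Type u} [CommRing R] [CommRing R'] [Algebra R R'] [Algebra.Etale R R']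
    (p : Ideal R) [p.IsPrime] (p' : Ideal R') [p'.IsPrime]
    (_ : p'.comap (algebraMap R R') = p)
    (_ : ∀ x : R', ∃ r s : R, s ∉ p ∧ algebraMap R R' s * x - algebraMap R R' r ∈ p')
    (ψ : R' →+* AdicCompletion (IsLocalRing.maximalIdeal (Localization.AtPrime p))
      (Localization.AtPrime p))
    (_ : ∀ r : R, ψ (algebraMap R R' r) =
      algebraMap (Localization.AtPrime p) _ (algebraMap R (Localization.AtPrime p) r))
    (_ : ∀ x ∈ p', ψ x ∈ (IsLocalRing.maximalIdeal (Localization.AtPrime p)).map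
      (algebraMap (Localization.AtPrime p)
        (AdicCompletion (IsLocalRing.maximalIdeal (Localization.AtPrime p))
          (Localization.AtPrime p))))
    (N : ℕ) (z : R')
    (_ : ψ z ∈ (IsLocalRing.maximalIdeal (Localization.AtPrime p) ^ N).map
      (algebraMap (Localization.AtPrime p)
        (AdicCompletion (IsLocalRing.maximalIdeal (Localization.AtPrime p))
          (Localization.AtPrime p)))),
    ∃ w : R', w ∉ p' ∧ w * z ∈ p' ^ N

/-- G-rings are invariant under ring isomorphisms. -/
theorem isGRing_of_ringEquiv {A L : Type u} [CommRing A] [CommRing L] (σ : A ≃+* L)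
    (hG : CAlg.IsGRing A) : CAlg.IsGRing L := by
  haveI := hG.1
  refine ⟨isNoetherianRing_of_ringEquiv A σ, fun P _ => ?_⟩
  let P' : Ideal A := P.comap (σ : A →+* L)
  haveI : P'.IsPrime := Ideal.comap_isPrime _ _
  let e : Localization.AtPrime P' ≃+* Localization.AtPrime P :=
    Localization.localRingEquiv P' P σ rfl
  exact Groth.Agent.S7414.isRegularHom_completion_of_ringEquiv e (hG.2 P')

/-- `FSch.complMap` is compatible with the canonical maps to the completions. -/
theorem complMap_algebraMap {B' B : Type u} [CommRing B'] [CommRing B]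
    (I' : Ideal B') (I : Ideal B) (φ : B' →+* B) (h : I'.map φ ≤ I) (b : B') :
    FSch.complMap I' I φ h (algebraMap B' (AdicCompletion I' B') b) =
      algebraMap B (AdicCompletion I B) (φ b) := by
  apply AdicCompletion.ext_evalₐ
  intro n
  rw [Groth.Agent.S3869.evalₐ_complMap]
  rw [AdicCompletion.algebraMap_apply, AdicCompletion.algebraMap_apply,
    AdicCompletion.evalₐ_of, AdicCompletion.evalₐ_of]
  simp

section Aux

variable {L : Type u} [CommRing L] [IsLocalRing L]

/-- `m L^` is a proper ideal of the completion. -/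
theorem map_maximalIdeal_ne_top :
    (maximalIdeal L).map (algebraMap L (AdicCompletion (maximalIdeal L) L)) ≠ ⊤ := by
  intro h
  have h1 : (1 : AdicCompletion (maximalIdeal L) L) ∈
      (maximalIdeal L).map (algebraMap L (AdicCompletion (maximalIdeal L) L)) := by
    rw [h]; trivial
  have hle : (maximalIdeal L).map (algebraMap L (AdicCompletion (maximalIdeal L) L)) ≤
      RingHom.ker (AdicCompletion.evalₐ (maximalIdeal L) 1) := by
    rw [Ideal.map_le_iff_le_comap]
    intro x hx
    rw [Ideal.mem_comap, RingHom.mem_ker, AdicCompletion.algebraMap_apply,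
      AdicCompletion.evalₐ_of, Ideal.Quotient.eq_zero_iff_mem, pow_one]
    exact hx
  have h2 := hle h1
  rw [RingHom.mem_ker, map_one] at h2
  have h3 : (1 : L) ∈ maximalIdeal L ^ 1 := by
    rw [← Ideal.Quotient.eq_zero_iff_mem, map_one]; exact h2
  rw [pow_one] at h3
  exact (maximalIdeal.isMaximal L).ne_top ((Ideal.eq_top_iff_one _).mpr h3)

theorem not_mem_map_maximalIdeal_of_isUnit {x : AdicCompletion (maximalIdeal L) L}
    (hx : IsUnit x) :
    x ∉ (maximalIdeal L).map (algebraMap L (AdicCompletion (maximalIdeal L) L)) := fun h =>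
  map_maximalIdeal_ne_top (Ideal.eq_top_of_isUnit_mem _ h hx)

end Aux

open MvPolynomial in
theorem core_of_inj (HI : HInj.{u}) (H : H6843.{u}) {Λ₀ A₀ B₀ : Type u}
    [CommRing Λ₀] [CommRing A₀] [CommRing B₀]
    [Algebra Λ₀ A₀] [Algebra Λ₀ B₀]
    [IsNoetherianRing Λ₀] [Algebra.FiniteType Λ₀ A₀] [Algebra.FiniteType Λ₀ B₀]
    (p : Ideal A₀) [p.IsPrime] (𝔮 : Ideal B₀) [𝔮.IsPrime]
    (A : Type u) [CommRing A] [IsLocalRing A] [Algebra A₀ A] [IsLocalization.AtPrime A p]
    (hG : CAlg.IsGRing A)
    (B : Type u) [CommRing B] [IsLocalRing B] [Algebra B₀ B] [IsLocalization.AtPrime B 𝔮]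
    (φ : B →+* AdicCompletion (maximalIdeal A) A)
    (hφ : ∀ l : Λ₀, φ (algebraMap B₀ B (algebraMap Λ₀ B₀ l)) =
      algebraMap A (AdicCompletion (maximalIdeal A) A) (algebraMap A₀ A (algebraMap Λ₀ A₀ l)))
    (hloc : ∀ b ∈ maximalIdeal B,
      φ b ∈ (maximalIdeal A).map (algebraMap A (AdicCompletion (maximalIdeal A) A)))
    (N : ℕ) (hN : 1 ≤ N) :
    ∃ (R' : Type u) (_ : CommRing R') (_ : Algebra A₀ R') (_ : Algebra.Etale A₀ R')
      (p' : Ideal R') (_ : p'.IsPrime) (g : B₀ →+* R'),
      p'.comap (algebraMap A₀ R') = p ∧ p'.comap g = 𝔮 ∧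
      (∀ l : Λ₀, g (algebraMap Λ₀ B₀ l) = algebraMap A₀ R' (algebraMap Λ₀ A₀ l)) ∧
      (∀ z : R', ∃ r s : A₀, s ∉ p ∧ algebraMap A₀ R' s * z - algebraMap A₀ R' r ∈ p') ∧
      ∀ (b₀ t : B₀) (c₀ s : A₀) (b : B) (c : A), t ∉ 𝔮 → s ∉ p →
        algebraMap B₀ B t * b = algebraMap B₀ B b₀ → algebraMap A₀ A s * c = algebraMap A₀ A c₀ →
        AdicCompletion.evalₐ (maximalIdeal A) N (φ b) = Ideal.Quotient.mk (maximalIdeal A ^ N) c →
        ∃ w : R', w ∉ p' ∧
          w * (g b₀ * algebraMap A₀ R' s - algebraMap A₀ R' c₀ * g t) ∈ p' ^ N := by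
  classical
  haveI : IsNoetherianRing A₀ := Algebra.FiniteType.isNoetherianRing Λ₀ A₀
  haveI : IsNoetherianRing A := IsLocalization.isNoetherianRing p.primeCompl A inferInstance
  -- presentation of B₀
  obtain ⟨n, π, hπ⟩ := Algebra.FiniteType.iff_quotient_mvPolynomial''.mp
    (inferInstance : Algebra.FiniteType Λ₀ B₀)
  have hkfg : (RingHom.ker π.toRingHom).FG := IsNoetherian.noetherian _
  obtain ⟨sG, hsG⟩ := hkfg
  let m := sG.card
  let eG : sG ≃ Fin m := sG.equivFin
  let G : Fin m → MvPolynomial (Fin n) Λ₀ := fun j => (eG.symm j).1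
  have hGspan : Ideal.span (Set.range G) = RingHom.ker π.toRingHom := by
    rw [← hsG]
    congr 1
    ext x
    constructor
    · rintro ⟨j, rfl⟩
      exact (eG.symm j).2
    · intro hx
      exact ⟨eG ⟨x, hx⟩, by simp [G]⟩
  have hπG : ∀ j, π (G j) = 0 := by
    intro j
    have : G j ∈ RingHom.ker π.toRingHom := by
      rw [← hGspan]; exact Ideal.subset_span ⟨j, rfl⟩
    exact this
  -- the standard localization and the comparison
  let L := Localization.AtPrime p
  let σ : A ≃ₐ[A₀] L := IsLocalization.algEquiv p.primeCompl A L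
  let σr : A →+* L := σ.toRingEquiv.toRingHom
  have hσr : ∀ x, σr x = σ x := fun _ => rfl
  have hGL : CAlg.IsGRing L := isGRing_of_ringEquiv σ.toRingEquiv hG
  have hσm : (maximalIdeal A).map σr ≤ maximalIdeal L := by
    rw [Ideal.map_le_iff_le_comap]
    intro x hx
    rw [Ideal.mem_comap, mem_maximalIdeal, mem_nonunits_iff] at *
    intro hu
    apply hx
    have := hu.map σ.symm.toRingEquiv.toRingHom
    simpa [σr] using this
  let κ : AdicCompletion (maximalIdeal A) A →+* AdicCompletion (maximalIdeal L) L :=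
    FSch.complMap (maximalIdeal A) (maximalIdeal L) σr hσm
  have hκ : ∀ x : A, κ (algebraMap A _ x) = algebraMap L _ (σ x) := fun x =>
    complMap_algebraMap _ _ _ hσm x
  have hκK : ∀ (k : ℕ) (y : AdicCompletion (maximalIdeal A) A),
      y ∈ (maximalIdeal A ^ k).map (algebraMap A (AdicCompletion (maximalIdeal A) A)) →
      κ y ∈ (maximalIdeal L ^ k).map (algebraMap L (AdicCompletion (maximalIdeal L) L)) := by
    intro k y hy
    have hle : ((maximalIdeal A ^ k).map (algebraMap A (AdicCompletion (maximalIdeal A) A))).map κ ≤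
        (maximalIdeal L ^ k).map (algebraMap L (AdicCompletion (maximalIdeal L) L)) := by
      rw [Ideal.map_map, Ideal.map_le_iff_le_comap]
      intro x hx
      rw [Ideal.mem_comap, RingHom.comp_apply, hκ]
      apply Ideal.mem_map_of_mem
      have h1 : (maximalIdeal A ^ k).map σr ≤ maximalIdeal L ^ k := by
        rw [Ideal.map_pow]; exact Ideal.pow_right_mono hσm k
      exact h1 (Ideal.mem_map_of_mem σr hx)
    exact hle (Ideal.mem_map_of_mem κ hy)
  -- the system and its formal solution
  let Θ : MvPolynomial (Fin n) Λ₀ →+* AdicCompletion (maximalIdeal L) L :=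
    κ.comp (φ.comp ((algebraMap B₀ B).comp π.toRingHom))
  let c₀ : Λ₀ →+* AdicCompletion (maximalIdeal L) L :=
    (algebraMap L (AdicCompletion (maximalIdeal L) L)).comp
      ((algebraMap A₀ L).comp (algebraMap Λ₀ A₀))
  have hΘC : ∀ l, Θ (C l) = c₀ l := by
    intro l
    have h1 : π (C l) = algebraMap Λ₀ B₀ l := by
      rw [← MvPolynomial.algebraMap_eq]; exact π.commutes l
    show κ (φ (algebraMap B₀ B (π (C l)))) = _
    rw [h1, hφ, hκ, σ.commutes]
    rfl
  let a : Fin n → AdicCompletion (maximalIdeal L) L := fun i => Θ (X i)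
  have hΘ : Θ = eval₂Hom c₀ a := by
    apply MvPolynomial.ringHom_ext
    · intro l; rw [hΘC]; simp
    · intro i; simp [a]
  let F : Fin m → MvPolynomial (Fin n) A₀ := fun j => MvPolynomial.map (algebraMap Λ₀ A₀) (G j)
  have ha : ∀ j, MvPolynomial.aeval a (MvPolynomial.map (algebraMap A₀ L) (F j)) = 0 := by
    intro j
    have h1 : Θ (G j) = 0 := by
      show κ (φ (algebraMap B₀ B (π (G j)))) = 0
      rw [hπG, map_zero, map_zero, map_zero]
    rw [hΘ] at h1
    rw [MvPolynomial.aeval_def, MvPolynomial.eval₂_map, MvPolynomial.eval₂_map]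
    exact h1
  obtain ⟨R', _, _, hEt, ψ, p', hp'prime, hψ, hcomap, hfrac, hψp', b, hb0, hbN⟩ :=
    H p hGL F a ha N
  haveI := hEt
  haveI := hp'prime
  -- the map g
  let g₀ : MvPolynomial (Fin n) Λ₀ →+* R' :=
    eval₂Hom ((algebraMap A₀ R').comp (algebraMap Λ₀ A₀)) b
  have hg₀G : ∀ j, g₀ (G j) = 0 := by
    intro j
    have := hb0 j
    rw [MvPolynomial.aeval_def, MvPolynomial.eval₂_map] at this
    exact this
  have hker : RingHom.ker π.toRingHom ≤ RingHom.ker g₀ := by
    rw [← hGspan, Ideal.span_le]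
    rintro _ ⟨j, rfl⟩
    exact hg₀G j
  let g : B₀ →+* R' := π.toRingHom.liftOfRightInverse (Function.surjInv hπ)
    (Function.rightInverse_surjInv hπ) ⟨g₀, hker⟩
  have hgπ : ∀ P, g (π P) = g₀ P := fun P =>
    RingHom.liftOfRightInverse_comp_apply π.toRingHom (Function.surjInv hπ)
      (Function.rightInverse_surjInv hπ) ⟨g₀, hker⟩ P
  set KN : Ideal (AdicCompletion (maximalIdeal L) L) :=
    (maximalIdeal L ^ N).map (algebraMap L (AdicCompletion (maximalIdeal L) L)) with hKN
  set ML : Ideal (AdicCompletion (maximalIdeal L) L) :=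
    (maximalIdeal L).map (algebraMap L (AdicCompletion (maximalIdeal L) L)) with hML
  have hKNle : KN ≤ ML := Ideal.map_mono (Ideal.pow_le_self (by omega))
  have hcong : ∀ P : MvPolynomial (Fin n) Λ₀, ψ (g₀ P) - Θ P ∈ KN := by
    intro P
    have h1 : (Ideal.Quotient.mk KN).comp (ψ.comp g₀) = (Ideal.Quotient.mk KN).comp Θ := by
      apply MvPolynomial.ringHom_ext
      · intro l
        have h5 : ψ (g₀ (C l)) = Θ (C l) := by
          rw [hΘC]
          simp only [g₀, coe_eval₂Hom, eval₂_C, RingHom.comp_apply, hψ, c₀]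
          rfl
        simp only [RingHom.comp_apply]
        rw [h5]
      · intro i
        simp only [RingHom.comp_apply]
        rw [Ideal.Quotient.eq]
        have h2 : ψ (g₀ (X i)) - Θ (X i) = -(a i - ψ (b i)) := by
          simp [g₀, a]
        rw [h2]
        exact neg_mem (hbN i)
    have h3 := RingHom.congr_fun h1 P
    simp only [RingHom.comp_apply] at h3
    exact Ideal.Quotient.eq.mp h3
  have hcongB : ∀ y : B₀, ψ (g y) - κ (φ (algebraMap B₀ B y)) ∈ KN := by
    intro y
    obtain ⟨P, rfl⟩ := hπ y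
    rw [hgπ]
    exact hcong P
  have hκM : ∀ y ∈ (maximalIdeal A).map (algebraMap A (AdicCompletion (maximalIdeal A) A)),
      κ y ∈ ML := by
    intro y hy
    have := hκK 1 y (by rwa [pow_one])
    rwa [pow_one] at this
  have hnot : ∀ z : R', z ∉ p' → ψ z ∉ ML := by
    intro z hz hmem
    obtain ⟨r, s, hs, hrs⟩ := hfrac z
    have hsp' : algebraMap A₀ R' s ∉ p' := by
      rw [← hcomap] at hs; exact hs
    have hr : r ∉ p := by
      intro hr
      have hr' : algebraMap A₀ R' r ∈ p' := by
        rw [← hcomap] at hr; exact hr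
      have h1 : algebraMap A₀ R' s * z ∈ p' := by
        have := p'.add_mem hrs hr'
        simpa using this
      rcases hp'prime.mem_or_mem h1 with h | h
      · exact hsp' h
      · exact hz h
    have h1 : ψ (algebraMap A₀ R' r) ∈ ML := by
      have e : algebraMap A₀ R' r =
          algebraMap A₀ R' s * z - (algebraMap A₀ R' s * z - algebraMap A₀ R' r) := by ring
      rw [e, map_sub, map_mul]
      exact ML.sub_mem (ML.mul_mem_left _ hmem) (hψp' _ hrs)
    rw [hψ] at h1
    have hu : IsUnit (algebraMap A₀ L r) := IsLocalization.map_units L (⟨r, hr⟩ : p.primeCompl)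
    exact not_mem_map_maximalIdeal_of_isUnit (hu.map _) h1
  refine ⟨R', inferInstance, inferInstance, hEt, p', hp'prime, g, hcomap, ?_, ?_, hfrac, ?_⟩
  · ext y
    rw [Ideal.mem_comap]
    constructor
    · intro hy
      by_contra hyq
      have hu : IsUnit (algebraMap B₀ B y) := IsLocalization.map_units B (⟨y, hyq⟩ : 𝔮.primeCompl)
      have hu' : IsUnit (κ (φ (algebraMap B₀ B y))) := (hu.map φ).map κ
      have h1 : ψ (g y) ∈ ML := hψp' _ hy
      have h2 : κ (φ (algebraMap B₀ B y)) ∈ ML := by
        have e : κ (φ (algebraMap B₀ B y)) =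
            ψ (g y) - (ψ (g y) - κ (φ (algebraMap B₀ B y))) := by ring
        rw [e]
        exact ML.sub_mem h1 (hKNle (hcongB y))
      exact not_mem_map_maximalIdeal_of_isUnit hu' h2
    · intro hy
      by_contra hgy
      apply hnot _ hgy
      have h1 : algebraMap B₀ B y ∈ maximalIdeal B :=
        (IsLocalization.AtPrime.to_map_mem_maximal_iff B 𝔮 y).mpr hy
      have h2 : κ (φ (algebraMap B₀ B y)) ∈ ML := hκM _ (hloc _ h1)
      have e : ψ (g y) = (ψ (g y) - κ (φ (algebraMap B₀ B y))) + κ (φ (algebraMap B₀ B y)) := by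
        ring
      rw [e]
      exact ML.add_mem (hKNle (hcongB y)) h2
  · intro l
    have h1 : π (C l) = algebraMap Λ₀ B₀ l := by
      rw [← MvPolynomial.algebraMap_eq]; exact π.commutes l
    rw [← h1, hgπ]
    simp [g₀]
  · intro b₀ t c₀' s bb c ht hs htb hsc hev
    have hzK : ψ (g b₀ * algebraMap A₀ R' s - algebraMap A₀ R' c₀' * g t) ∈ KN := by
      have hD : φ bb - algebraMap A _ c ∈
          (maximalIdeal A ^ N).map (algebraMap A (AdicCompletion (maximalIdeal A) A)) := by
        have h1 : φ bb - algebraMap A _ c ∈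
            RingHom.ker (AdicCompletion.evalₐ (maximalIdeal A) N) := by
          have h6 : algebraMap A (AdicCompletion (maximalIdeal A) A) c =
              AdicCompletion.of (maximalIdeal A) A c := rfl
          rw [RingHom.mem_ker, map_sub, hev, h6, AdicCompletion.evalₐ_of, sub_self]
        rw [Groth.Agent.Lib.Helper76.ker_evalₐ_eq _ (IsNoetherian.noetherian _)] at h1
        rwa [Ideal.map_pow]
      have hκD : κ (φ bb) - algebraMap L _ (σ c) ∈ KN := by
        have := hκK N _ hD
        rwa [map_sub, hκ] at this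
      have e1 : κ (φ (algebraMap B₀ B b₀)) = κ (φ (algebraMap B₀ B t)) * κ (φ bb) := by
        rw [← htb, map_mul, map_mul]
      have e2 : ψ (algebraMap A₀ R' s) = algebraMap L _ (algebraMap A₀ L s) := hψ s
      have e3 : ψ (algebraMap A₀ R' c₀') =
          algebraMap L _ (algebraMap A₀ L s) * algebraMap L _ (σ c) := by
        rw [hψ, ← map_mul]
        congr 1
        rw [← σ.commutes c₀', ← hsc, map_mul, σ.commutes]
      have hx1 := hcongB b₀
      have hx2 := hcongB t
      have e : ψ (g b₀ * algebraMap A₀ R' s - algebraMap A₀ R' c₀' * g t) =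
          (ψ (g b₀) - κ (φ (algebraMap B₀ B b₀))) * ψ (algebraMap A₀ R' s)
          - ψ (algebraMap A₀ R' c₀') * (ψ (g t) - κ (φ (algebraMap B₀ B t)))
          + κ (φ (algebraMap B₀ B t)) * algebraMap L _ (algebraMap A₀ L s) *
            (κ (φ bb) - algebraMap L _ (σ c)) := by
        rw [map_sub, map_mul, map_mul, e1, e3, e2]; ring
      rw [e]
      exact KN.add_mem (KN.sub_mem (KN.mul_mem_right _ hx1) (KN.mul_mem_left _ hx2))
        (KN.mul_mem_left _ hκD)
    exact HI p p' hcomap hfrac ψ hψ hψp' N _ hzK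

end Groth.Agent.Lib.Helper31.AA7202CORE
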