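import Mathlib
import Groth.Prelude.Def_Found
import Groth.Agent.Lib.Helper34.AA7202H
import Groth.Agent.Lib.Helper31.AA7202COREa
import Groth.Agent.Lib.Helper87.AA7202INJ

set_option autoImplicit false
universe u
open IsLocalRing CategoryTheory AlgebraicGeometry

namespace Groth.Agent.Lib.Helper31.AA7202CORE

open Groth.Agent.Lib.Helper34.AA7202H

theorem hInj : HInj.{u} := by
  intro R R' _ _ _ _ p _ p' _ hp hfrac ψ hψ hψp N z hz
  exact Groth.Agent.Lib.Helper87.AA7202INJ.inj p p' hp hfrac ψ hψ hψp N z hz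

theorem core (H : H6843.{u}) {Λ₀ A₀ B₀ : Type u} [CommRing Λ₀] [CommRing A₀] [CommRing B₀]
    [Algebra Λ₀ A₀] [Algebra Λ₀ B₀]
    [IsNoetherianRing Λ₀] [Algebra.FiniteType Λ₀ A₀] [Algebra.FiniteType Λ₀ B₀]
    (p : Ideal A₀) [p.IsPrime] (𝔮 : Ideal B₀) [𝔮.IsPrime]
    (A : Type u) [CommRing A] [IsLocalRing A] [Algebra A₀ A] [IsLocalization.AtPrime A p]
    (hG : CAlg.IsGRing A)
    (B : Type u) [CommRing B] [IsLocalRing B] [Algebra B₀ B] [IsLocalization.AtPrime B 𝔮]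
    (φ : B →+* AdicCompletion (maximalIdeal A) A)
    (hφ : ∀ l : Λ₀, φ (algebraMap B₀ B (algebraMap Λ₀ B₀ l)) =
      algebraMap A (AdicCompletion (maximalIdeal A) A) (algebraMap A₀ A (algebraMap Λ₀ A₀ l)))
    (hloc : ∀ b ∈ maximalIdeal B,
      φ b ∈ (maximalIdeal A).map (algebraMap A (AdicCompletion (maximalIdeal A) A)))
    (N : ℕ) (hN : 1 ≤ N) :
    ∃ (R' : Type u) (_ : CommRing R') (_ : Algebra A₀ R') (_ : Algebra.Etale A₀ R')
      (p' : Ideal R') (_ : p'.IsPrime) (g : B₀ →+* R'),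
      p'.comap (algebraMap A₀ R') = p ∧ p'.comap g = 𝔮 ∧
      (∀ l : Λ₀, g (algebraMap Λ₀ B₀ l) = algebraMap A₀ R' (algebraMap Λ₀ A₀ l)) ∧
      (∀ z : R', ∃ r s : A₀, s ∉ p ∧ algebraMap A₀ R' s * z - algebraMap A₀ R' r ∈ p') ∧
      ∀ (b₀ t : B₀) (c₀ s : A₀) (b : B) (c : A), t ∉ 𝔮 → s ∉ p →
        algebraMap B₀ B t * b = algebraMap B₀ B b₀ → algebraMap A₀ A s * c = algebraMap A₀ A c₀ →
        AdicCompletion.evalₐ (maximalIdeal A) N (φ b) = Ideal.Quotient.mk (maximalIdeal A ^ N) c →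
        ∃ w : R', w ∉ p' ∧
          w * (g b₀ * algebraMap A₀ R' s - algebraMap A₀ R' c₀ * g t) ∈ p' ^ N :=
  core_of_inj hInj H p 𝔮 A hG B φ hφ hloc N hN

end Groth.Agent.Lib.Helper31.AA7202CORE
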