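import Mathlib
import Groth.Agent.Lib.Helper39.NumGenus2
import Groth.Agent.S2178

/-! Affine classification for `n ≥ 10` (helper31): basics, certificate principle, row lemmas. -/

set_option linter.unusedSectionVars false
set_option linter.unusedVariables false

namespace Groth.Agent.Lib.Helper31.Aff

open Finset Models
open Groth.Agent.Lib.Helper39.NT

variable {n : ℕ} (T : NumericalType n)

/-- adjacency in the dual graph -/
def Adj (x y : Fin n) : Prop := x ≠ y ∧ T.a x y ≠ 0

theorem Adj.symm {T : NumericalType n} {x y : Fin n} (h : Adj T x y) : Adj T y x :=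
  ⟨h.1.symm, by rw [symm' T]; exact h.2⟩

theorem Adj.pos {T : NumericalType n} {x y : Fin n} (h : Adj T x y) : 0 < T.a x y :=
  pos_of_ne T h.1 h.2

theorem Adj.le {T : NumericalType n} {x y : Fin n} (h : Adj T x y) : T.w x ≤ T.a x y :=
  lb1 T x y h.1 h.2

theorem adj_of_pos {x y : Fin n} (hxy : x ≠ y) (h : 0 < T.a x y) : Adj T x y := ⟨hxy, h.ne'⟩

theorem a_nonneg {x y : Fin n} (hxy : x ≠ y) : 0 ≤ T.a x y := T.offDiag_nonneg x y hxy

/-- bond values: `a x y ∈ {w x, 2 w x}` or `≥ 3 w x`. -/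
theorem bond_cases {x y : Fin n} (h : Adj T x y) :
    T.a x y = T.w x ∨ T.a x y = 2 * T.w x ∨ 3 * T.w x ≤ T.a x y :=
  edge3 T x y h.1 h.2

/-- lower bound of a row sum by a finite set of terms. -/
theorem row_lower (z : Fin n → ℤ) (hz : ∀ i, 0 ≤ z i) (s : Fin n) (N : Finset (Fin n))
    (hs : s ∉ N) :
    T.a s s * z s + ∑ x ∈ N, T.a s x * z x ≤ ∑ x, T.a s x * z x := by
  classical
  have h1 : T.a s s * z s + ∑ x ∈ N, T.a s x * z x = ∑ x ∈ insert s N, T.a s x * z x :=
    (Finset.sum_insert (f := fun x => T.a s x * z x) hs).symm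
  rw [h1]
  apply Finset.sum_le_sum_of_subset_of_nonneg (Finset.subset_univ _)
  intro x _ hx
  have hxs : x ≠ s := fun h => hx (h ▸ Finset.mem_insert_self _ _)
  exact mul_nonneg (T.offDiag_nonneg _ _ hxs.symm) (hz x)

/-- lower bound of a row sum with bounds `b x ≤ a s x`. -/
theorem row_lower' (z : Fin n → ℤ) (hz : ∀ i, 0 ≤ z i) (s : Fin n) (N : Finset (Fin n))
    (hs : s ∉ N) (b : Fin n → ℤ) (hb : ∀ x ∈ N, b x ≤ T.a s x) :
    T.a s s * z s + ∑ x ∈ N, b x * z x ≤ ∑ x, T.a s x * z x := by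
  refine le_trans ?_ (row_lower T z hz s N hs)
  have : ∑ x ∈ N, b x * z x ≤ ∑ x ∈ N, T.a s x * z x :=
    Finset.sum_le_sum fun x hx => mul_le_mul_of_nonneg_right (hb x hx) (hz x)
  linarith

/-- equality extraction from a vanishing row. -/
theorem row_extract (z : Fin n → ℤ) (hz : ∀ i, 0 < z i) (s : Fin n) (N : Finset (Fin n))
    (hs : s ∉ N) (b : Fin n → ℤ) (hb : ∀ x ∈ N, b x ≤ T.a s x)
    (hrow : ∑ x, T.a s x * z x = 0)
    (hlow : 0 ≤ T.a s s * z s + ∑ x ∈ N, b x * z x) :
    (∀ x ∈ N, T.a s x = b x) ∧ (∀ y, y ∉ N → y ≠ s → T.a s y = 0) ∧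
      T.a s s * z s + ∑ x ∈ N, b x * z x = 0 := by
  classical
  have hz' : ∀ i, 0 ≤ z i := fun i => (hz i).le
  -- split the row
  have hsplit : ∑ x, T.a s x * z x = T.a s s * z s + ∑ x ∈ N, T.a s x * z x +
      ∑ x ∈ (univ \ insert s N), T.a s x * z x := by
    have h1 : T.a s s * z s + ∑ x ∈ N, T.a s x * z x = ∑ x ∈ insert s N, T.a s x * z x :=
      (Finset.sum_insert (f := fun x => T.a s x * z x) hs).symm
    rw [h1, add_comm, Finset.sum_sdiff (Finset.subset_univ _)]
  have hrest : ∀ x ∈ (univ \ insert s N), 0 ≤ T.a s x * z x := by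
    intro x hx
    rw [Finset.mem_sdiff, Finset.mem_insert, not_or] at hx
    exact mul_nonneg (T.offDiag_nonneg _ _ (Ne.symm hx.2.1)) (hz' x)
  have hN : ∀ x ∈ N, 0 ≤ (T.a s x - b x) * z x := fun x hx =>
    mul_nonneg (sub_nonneg.2 (hb x hx)) (hz' x)
  have hsumN : ∑ x ∈ N, T.a s x * z x = ∑ x ∈ N, b x * z x + ∑ x ∈ N, (T.a s x - b x) * z x := by
    rw [← Finset.sum_add_distrib]
    exact Finset.sum_congr rfl fun x _ => by ring
  have h0N := Finset.sum_nonneg hN
  have h0rest := Finset.sum_nonneg hrest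
  have hzeroN : ∑ x ∈ N, (T.a s x - b x) * z x = 0 := by linarith
  have hzerorest : ∑ x ∈ (univ \ insert s N), T.a s x * z x = 0 := by linarith
  refine ⟨?_, ?_, by linarith⟩
  · intro x hx
    have := (Finset.sum_eq_zero_iff_of_nonneg hN).1 hzeroN x hx
    rcases mul_eq_zero.1 this with h | h
    · linarith
    · exact absurd h (hz x).ne'
  · intro y hyN hys
    have hy : y ∈ univ \ insert s N := by
      rw [Finset.mem_sdiff, Finset.mem_insert, not_or]
      exact ⟨Finset.mem_univ _, hys, hyN⟩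
    have := (Finset.sum_eq_zero_iff_of_nonneg hrest).1 hzerorest y hy
    rcases mul_eq_zero.1 this with h | h
    · exact h
    · exact absurd h (hz y).ne'

/-- Certificate principle: a nonzero nonnegative vector which is subharmonic on its support is
positive everywhere, harmonic, and proportional to `m`. -/
theorem cp (z : Fin n → ℤ) (hz : ∀ i, 0 ≤ z i) (j0 : Fin n) (hj0 : 0 < z j0)
    (h : ∀ j, 0 < z j → 0 ≤ ∑ i, T.a j i * z i) :
    (∀ i, 0 < z i) ∧ (∀ j, ∑ i, T.a j i * z i = 0) ∧ ∀ i l, z i * T.m l = z l * T.m i := by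
  have hpos : ∀ i, 0 < z i := by
    intro i
    by_contra hi
    have hi0 : z i = 0 := le_antisymm (not_lt.1 hi) (hz i)
    exact no_subharmonic T z hz i hi0 j0 hj0 h
  have hzero : ∀ j, ∑ i, T.a j i * z i = 0 := harmonic T z fun j => h j (hpos j)
  refine ⟨hpos, hzero, ?_⟩
  apply Groth.Agent.S2178.ker_prop T z
  funext j
  simpa [Matrix.mulVec, dotProduct] using hzero j

/-- the harmonic equation for `m` at a vertex -/
theorem row_m (x : Fin n) : ∑ y, T.a x y * T.m y = 0 := row T x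

end Groth.Agent.Lib.Helper31.Aff
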