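import Mathlib
import Groth.Agent.Lib.Helper31.AffA

/-! Affine classification for `n ≥ 10` (helper31): local structure. -/

set_option linter.unusedSectionVars false
set_option linter.unusedVariables false

namespace Groth.Agent.Lib.Helper31.Aff

open Finset Models
open Groth.Agent.Lib.Helper39.NT

variable {n : ℕ} (T : NumericalType n)

/-- a certificate with small support is contradictory -/
theorem small_cert (z : Fin n → ℤ) (hz : ∀ i, 0 ≤ z i) (S : Finset (Fin n))
    (hS : ∀ i, 0 < z i → i ∈ S) (hcard : S.card < n) (j0 : Fin n) (hj0 : 0 < z j0)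
    (h : ∀ j, 0 < z j → 0 ≤ ∑ i, T.a j i * z i) : False := by
  have : ∃ i0, i0 ∉ S := by
    by_contra hcon
    push Not at hcon
    have : S = univ := Finset.eq_univ_iff_forall.2 hcon
    rw [this, Finset.card_univ, Fintype.card_fin] at hcard
    exact lt_irrefl _ hcard
  obtain ⟨i0, hi0⟩ := this
  have hi0z : z i0 = 0 := by
    by_contra hne
    exact hi0 (hS i0 (lt_of_le_of_ne (hz i0) (Ne.symm hne)))
  exact no_subharmonic T z hz i0 hi0z j0 hj0 h

variable (hv : ∀ i, T.IsMinusTwo i)

include hv in
theorem diag (x : Fin n) : T.a x x = -2 * T.w x := (hv x).2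

include hv in
/-- star certificate: weighted degree at least four is impossible (on few vertices). -/
theorem star_cert (x : Fin n) (N : Finset (Fin n)) (hN : ∀ y ∈ N, Adj T x y)
    (hcard : N.card + 1 < n) (hsum : 4 * T.w x ≤ ∑ y ∈ N, T.a x y) : False := by
  classical
  have hxN : x ∉ N := fun h => (hN x h).1 rfl
  let z : Fin n → ℤ := fun y => if y = x then 2 else if y ∈ N then 1 else 0
  have hzx : z x = 2 := if_pos rfl
  have hzN : ∀ y ∈ N, z y = 1 := fun y hy => by
    have : y ≠ x := fun h => hxN (h ▸ hy)
    simp [z, this, hy]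
  have hz : ∀ i, 0 ≤ z i := fun i => by
    simp only [z]
    split_ifs <;> norm_num
  refine small_cert T z hz (insert x N) ?_ ?_ x (by rw [hzx]; norm_num) ?_
  · intro i hi
    by_contra hcon
    rw [Finset.mem_insert, not_or] at hcon
    simp [z, hcon.1, hcon.2] at hi
  · rw [Finset.card_insert_of_notMem hxN]
    exact hcard
  · intro j hj
    by_cases hjx : j = x
    · subst hjx
      refine le_trans ?_ (row_lower T z hz j N hxN)
      have : ∑ y ∈ N, T.a j y * z y = ∑ y ∈ N, T.a j y :=
        Finset.sum_congr rfl fun y hy => by rw [hzN y hy, mul_one]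
      rw [this, hzx, diag T hv]
      linarith
    · have hjN : j ∈ N := by
        by_contra hcon
        simp [z, hjx, hcon] at hj
      have hadj := (hN j hjN).symm
      have hxj : j ∉ ({x} : Finset (Fin n)) := by simpa using hjx
      refine le_trans ?_ (row_lower T z hz j {x} hxj)
      rw [Finset.sum_singleton, hzx, hzN j hjN, diag T hv]
      have := hadj.le
      linarith

include hv in
/-- no bond with both Cartan integers at least two -/
theorem B4_cert (hn : 2 < n) {x y : Fin n} (h : Adj T x y) (h1 : 2 * T.w x ≤ T.a x y)
    (h2 : 2 * T.w y ≤ T.a y x) : False := by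
  classical
  let z : Fin n → ℤ := fun i => if i = x ∨ i = y then 1 else 0
  have hzx : z x = 1 := if_pos (Or.inl rfl)
  have hzy : z y = 1 := if_pos (Or.inr rfl)
  have hz : ∀ i, 0 ≤ z i := fun i => by
    simp only [z]
    split_ifs <;> norm_num
  refine small_cert T z hz {x, y} ?_ ?_ x (by rw [hzx]; norm_num) ?_
  · intro i hi
    by_contra hcon
    rw [Finset.mem_insert, Finset.mem_singleton, not_or] at hcon
    simp [z, hcon.1, hcon.2] at hi
  · rw [Finset.card_pair h.1]
    exact hn
  · intro j hj
    have hj' : j = x ∨ j = y := by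
      by_contra hcon
      simp [z, hcon] at hj
    rcases hj' with rfl | rfl
    · have hxy : j ∉ ({y} : Finset (Fin n)) := by simpa using h.1
      refine le_trans ?_ (row_lower T z hz j {y} hxy)
      rw [Finset.sum_singleton, hzx, hzy, diag T hv]
      linarith
    · have hxy : j ∉ ({x} : Finset (Fin n)) := by simpa using h.1.symm
      refine le_trans ?_ (row_lower T z hz j {x} hxy)
      rw [Finset.sum_singleton, hzx, hzy, diag T hv]
      linarith

include hv in
/-- no Cartan integer at least three -/
theorem G_cert (hn : 5 < n) {x y : Fin n} (h : Adj T x y) (h1 : 3 * T.w x ≤ T.a x y) : False := by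
  classical
  have hne : ({x, y} : Finset (Fin n)) ≠ univ := by
    intro hh
    have : ({x, y} : Finset (Fin n)).card = n := by rw [hh, Finset.card_univ, Fintype.card_fin]
    rw [Finset.card_pair h.1] at this
    omega
  obtain ⟨i, hi, j, hj, hij⟩ := T.connected {x, y} ⟨x, by simp⟩ hne
  rw [Finset.mem_insert, Finset.mem_singleton] at hi
  rw [Finset.mem_insert, Finset.mem_singleton, not_or] at hj
  rcases hi with rfl | rfl
  · -- `i` has another neighbour: star
    have hadj : Adj T i j := ⟨Ne.symm hj.1, hij⟩
    refine star_cert T hv i {y, j} ?_ ?_ ?_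
    · intro t ht
      rw [Finset.mem_insert, Finset.mem_singleton] at ht
      rcases ht with rfl | rfl
      · exact h
      · exact hadj
    · rw [Finset.card_pair (Ne.symm hj.2)]
      omega
    · rw [Finset.sum_pair (Ne.symm hj.2)]
      have := hadj.le
      linarith
  · -- `j` adjacent to `i = y`
    have hadj : Adj T i j := ⟨Ne.symm hj.2, hij⟩
    let z : Fin n → ℤ := fun t => if t = x then 3 else if t = i then 2 else if t = j then 1 else 0
    have hzx : z x = 3 := if_pos rfl
    have hzy : z i = 2 := by simp [z, h.1.symm]
    have hzj : z j = 1 := by simp [z, hj.1, hj.2]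
    have hz : ∀ t, 0 ≤ z t := fun t => by
      simp only [z]
      split_ifs <;> norm_num
    refine small_cert T z hz {x, i, j} ?_ ?_ x (by rw [hzx]; norm_num) ?_
    · intro t ht
      by_contra hcon
      simp only [Finset.mem_insert, Finset.mem_singleton, not_or] at hcon
      simp [z, hcon.1, hcon.2.1, hcon.2.2] at ht
    · have : ({x, i, j} : Finset (Fin n)).card ≤ 3 := Finset.card_le_three
      omega
    · intro t ht
      have ht' : t = x ∨ t = i ∨ t = j := by
        by_contra hcon
        simp only [not_or] at hcon
        simp [z, hcon.1, hcon.2.1, hcon.2.2] at ht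
      rcases ht' with rfl | rfl | rfl
      · have hxy : t ∉ ({i} : Finset (Fin n)) := by simpa using h.1
        refine le_trans ?_ (row_lower T z hz t {i} hxy)
        rw [Finset.sum_singleton, hzx, hzy, diag T hv]
        linarith
      · have hxy : t ∉ ({x, j} : Finset (Fin n)) := by
          simp only [Finset.mem_insert, Finset.mem_singleton, not_or]
          exact ⟨h.1.symm, Ne.symm hj.2⟩
        refine le_trans ?_ (row_lower T z hz t {x, j} hxy)
        rw [Finset.sum_pair (Ne.symm hj.1), hzx, hzy, hzj, diag T hv]
        have h2 := h.symm.le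
        have h3 := hadj.le
        linarith
      · have hxy : t ∉ ({i} : Finset (Fin n)) := by simpa using hj.2
        refine le_trans ?_ (row_lower T z hz t {i} hxy)
        rw [Finset.sum_singleton, hzy, hzj, diag T hv]
        have h3 := hadj.symm.le
        linarith

include hv in
/-- bonds are simple or double -/
theorem bond2 (hn : 5 < n) {x y : Fin n} (h : Adj T x y) :
    T.a x y = T.w x ∨ T.a x y = 2 * T.w x := by
  rcases bond_cases T h with h1 | h1 | h1
  · exact Or.inl h1
  · exact Or.inr h1
  · exact (G_cert T hv hn h h1).elim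

include hv in
/-- the reverse of a double bond is simple -/
theorem dbl_rev (hn : 5 < n) {x y : Fin n} (h : Adj T x y) (h1 : T.a x y = 2 * T.w x) :
    T.a y x = T.w y := by
  rcases bond2 T hv hn h.symm with h2 | h2
  · exact h2
  · exact (B4_cert T hv (by omega) h (by linarith) (by linarith)).elim

end Groth.Agent.Lib.Helper31.Aff
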