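import Mathlib
import Groth.Agent.Lib.Helper31.AffB

/-! Affine classification for `n ≥ 10` (helper31): the body-with-caps certificate. -/

set_option linter.unusedSectionVars false
set_option linter.unusedVariables false

namespace Groth.Agent.Lib.Helper31.Aff

open Finset Models
open Groth.Agent.Lib.Helper39.NT

variable {n : ℕ} (T : NumericalType n)

/-- a path: injective on `[0, L]` with consecutive vertices adjacent -/
structure IsPath (p : ℕ → Fin n) (L : ℕ) : Prop where
  inj : ∀ i j, i ≤ L → j ≤ L → p i = p j → i = j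
  adj : ∀ i, i < L → Adj T (p i) (p (i + 1))

/-- `x` lies on the path -/
def OnPath (p : ℕ → Fin n) (L : ℕ) (x : Fin n) : Prop := ∃ t, t ≤ L ∧ p t = x

open Classical in
/-- the certificate vector: `2` on the body, `1` on the attachments. -/
noncomputable def zc (p : ℕ → Fin n) (L : ℕ) (C : Finset (Fin n)) : Fin n → ℤ :=
  fun x => if OnPath p L x then 2 else if x ∈ C then 1 else 0

theorem zc_nonneg (p : ℕ → Fin n) (L : ℕ) (C : Finset (Fin n)) (x : Fin n) : 0 ≤ zc p L C x := by
  unfold zc
  split_ifs <;> norm_num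

theorem zc_body (p : ℕ → Fin n) (L : ℕ) (C : Finset (Fin n)) {t : ℕ} (ht : t ≤ L) :
    zc p L C (p t) = 2 := if_pos ⟨t, ht, rfl⟩

theorem zc_att (p : ℕ → Fin n) (L : ℕ) (C : Finset (Fin n)) {x : Fin n} (hx : x ∈ C)
    (hoff : ¬ OnPath p L x) : zc p L C x = 1 := by
  unfold zc
  rw [if_neg hoff, if_pos hx]

theorem zc_pos_iff (p : ℕ → Fin n) (L : ℕ) (C : Finset (Fin n)) (x : Fin n) :
    0 < zc p L C x ↔ OnPath p L x ∨ x ∈ C := by
  unfold zc
  split_ifs with h1 h2
  · simp [h1]
  · simp [h2]
  · simp [h1, h2]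

variable (hv : ∀ i, T.IsMinusTwo i)

include hv in
/-- the main certificate: a body path with caps at both ends is everything. -/
theorem config_cert (p : ℕ → Fin n) (L : ℕ) (hL : 1 ≤ L) (hp : IsPath T p L)
    (C₀ C₁ : Finset (Fin n))
    (hC₀ : ∀ x ∈ C₀, Adj T (p 0) x ∧ ¬ OnPath p L x)
    (hC₁ : ∀ x ∈ C₁, Adj T (p L) x ∧ ¬ OnPath p L x)
    (cap₀ : 4 * T.w (p 0) ≤ 2 * T.a (p 0) (p 1) + ∑ x ∈ C₀, T.a (p 0) x)
    (cap₁ : 4 * T.w (p L) ≤ 2 * T.a (p L) (p (L - 1)) + ∑ x ∈ C₁, T.a (p L) x) :
    (∀ y, OnPath p L y ∨ y ∈ C₀ ∪ C₁) ∧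
    (∀ j, ∑ i, T.a j i * zc p L (C₀ ∪ C₁) i = 0) ∧
    (∀ i l, zc p L (C₀ ∪ C₁) i * T.m l = zc p L (C₀ ∪ C₁) l * T.m i) := by
  classical
  set z := zc p L (C₀ ∪ C₁) with hzdef
  have hz : ∀ i, 0 ≤ z i := zc_nonneg p L _
  have hzb : ∀ t, t ≤ L → z (p t) = 2 := fun t ht => zc_body p L _ ht
  have hza : ∀ x, x ∈ C₀ ∪ C₁ → ¬ OnPath p L x → z x = 1 := fun x hx hoff => zc_att p L _ hx hoff
  have hne : ∀ i j, i ≤ L → j ≤ L → i ≠ j → p i ≠ p j := fun i j hi hj hij h =>
    hij (hp.inj i j hi hj h)
  have key := cp T z hz (p 0) (by rw [hzb 0 (Nat.zero_le _)]; norm_num) ?_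
  · obtain ⟨hpos, hrows, hprop⟩ := key
    refine ⟨fun y => ?_, hrows, hprop⟩
    exact (zc_pos_iff p L _ y).1 (hpos y)
  · intro j hj
    rw [hzdef, zc_pos_iff] at hj
    rcases hj with ⟨t, ht, rfl⟩ | hjC
    · -- body vertex
      by_cases ht0 : t = 0
      · subst ht0
        have hp1 : p 1 ∉ C₀ := fun h => (hC₀ _ h).2 ⟨1, hL, rfl⟩
        have hp0 : p 0 ∉ insert (p 1) C₀ := by
          rw [Finset.mem_insert, not_or]
          exact ⟨hne 0 1 (Nat.zero_le _) hL (by omega), fun h => (hC₀ _ h).2 ⟨0, Nat.zero_le _, rfl⟩⟩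
        refine le_trans ?_ (row_lower T z hz (p 0) (insert (p 1) C₀) hp0)
        rw [Finset.sum_insert hp1, hzb 0 (Nat.zero_le _), hzb 1 hL, diag T hv]
        have : ∑ x ∈ C₀, T.a (p 0) x * z x = ∑ x ∈ C₀, T.a (p 0) x :=
          Finset.sum_congr rfl fun x hx => by
            rw [hza x (Finset.mem_union_left _ hx) (hC₀ x hx).2, mul_one]
        rw [this]
        linarith
      · by_cases htL : t = L
        · subst htL
          have hp1 : p (t - 1) ∉ C₁ := fun h => (hC₁ _ h).2 ⟨t - 1, by omega, rfl⟩
          have hp0 : p t ∉ insert (p (t - 1)) C₁ := by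
            rw [Finset.mem_insert, not_or]
            exact ⟨hne t (t - 1) le_rfl (by omega) (by omega),
              fun h => (hC₁ _ h).2 ⟨t, le_rfl, rfl⟩⟩
          refine le_trans ?_ (row_lower T z hz (p t) (insert (p (t - 1)) C₁) hp0)
          rw [Finset.sum_insert hp1, hzb t le_rfl, hzb (t - 1) (by omega), diag T hv]
          have : ∑ x ∈ C₁, T.a (p t) x * z x = ∑ x ∈ C₁, T.a (p t) x :=
            Finset.sum_congr rfl fun x hx => by
              rw [hza x (Finset.mem_union_right _ hx) (hC₁ x hx).2, mul_one]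
          rw [this]
          linarith
        · -- interior
          have h1 : Adj T (p t) (p (t + 1)) := hp.adj t (by omega)
          have h2 : Adj T (p t) (p (t - 1)) := by
            have := (hp.adj (t - 1) (by omega)).symm
            rwa [show t - 1 + 1 = t by omega] at this
          have hN : p t ∉ ({p (t - 1), p (t + 1)} : Finset (Fin n)) := by
            rw [Finset.mem_insert, Finset.mem_singleton, not_or]
            exact ⟨hne _ _ ht (by omega) (by omega), hne _ _ ht (by omega) (by omega)⟩
          refine le_trans ?_ (row_lower T z hz (p t) {p (t - 1), p (t + 1)} hN)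
          rw [Finset.sum_pair (hne _ _ (by omega) (by omega) (by omega)), hzb t ht,
            hzb (t - 1) (by omega), hzb (t + 1) (by omega), diag T hv]
          have := h1.le
          have := h2.le
          linarith
    · -- attachment (possibly on the body: then treated above)
      by_cases hon : OnPath p L j
      · -- reduce to the body case by contradiction-free argument: attachments are off the body
        rcases Finset.mem_union.1 hjC with h | h
        · exact absurd hon (hC₀ j h).2
        · exact absurd hon (hC₁ j h).2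
      · rcases Finset.mem_union.1 hjC with h | h
        · have hadj := (hC₀ j h).1.symm
          have hjN : j ∉ ({p 0} : Finset (Fin n)) := by
            rw [Finset.mem_singleton]
            exact hadj.1
          refine le_trans ?_ (row_lower T z hz j {p 0} hjN)
          rw [Finset.sum_singleton, hzb 0 (Nat.zero_le _), hza j hjC hon, diag T hv]
          have := hadj.le
          linarith
        · have hadj := (hC₁ j h).1.symm
          have hjN : j ∉ ({p L} : Finset (Fin n)) := by
            rw [Finset.mem_singleton]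
            exact hadj.1
          refine le_trans ?_ (row_lower T z hz j {p L} hjN)
          rw [Finset.sum_singleton, hzb L le_rfl, hza j hjC hon, diag T hv]
          have := hadj.le
          linarith

end Groth.Agent.Lib.Helper31.Aff
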