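import Mathlib
import Groth.Agent.Lib.Helper31.AffC

/-! Affine classification for `n ≥ 10` (helper31): extraction of exact values from a configuration. -/

set_option linter.unusedSectionVars false
set_option linter.unusedVariables false

namespace Groth.Agent.Lib.Helper31.Aff

open Finset Models
open Groth.Agent.Lib.Helper39.NT

variable {n : ℕ} (T : NumericalType n)

/-- a configuration covering everything, with its harmonic certificate -/
structure Config (p : ℕ → Fin n) (L : ℕ) (C₀ C₁ : Finset (Fin n)) : Prop where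
  hL : 2 ≤ L
  path : IsPath T p L
  hC₀ : ∀ x ∈ C₀, Adj T (p 0) x ∧ ¬ OnPath p L x
  hC₁ : ∀ x ∈ C₁, Adj T (p L) x ∧ ¬ OnPath p L x
  cap₀ : 4 * T.w (p 0) ≤ 2 * T.a (p 0) (p 1) + ∑ x ∈ C₀, T.a (p 0) x
  cap₁ : 4 * T.w (p L) ≤ 2 * T.a (p L) (p (L - 1)) + ∑ x ∈ C₁, T.a (p L) x
  all : ∀ y, OnPath p L y ∨ y ∈ C₀ ∪ C₁
  rows : ∀ j, ∑ i, T.a j i * zc p L (C₀ ∪ C₁) i = 0
  prop : ∀ i l, zc p L (C₀ ∪ C₁) i * T.m l = zc p L (C₀ ∪ C₁) l * T.m i

namespace Config

variable {T} {p : ℕ → Fin n} {L : ℕ} {C₀ C₁ : Finset (Fin n)} (c : Config T p L C₀ C₁)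
variable (hv : ∀ i, T.IsMinusTwo i)

include c in
theorem zpos (y : Fin n) : 0 < zc p L (C₀ ∪ C₁) y :=
  (zc_pos_iff p L _ y).2 (c.all y)

include c in
theorem ne (i j : ℕ) (hi : i ≤ L) (hj : j ≤ L) (hij : i ≠ j) : p i ≠ p j :=
  fun h => hij (c.path.inj i j hi hj h)

include c in
theorem zb (t : ℕ) (ht : t ≤ L) : zc p L (C₀ ∪ C₁) (p t) = 2 := zc_body p L _ ht

include c in
theorem za₀ (x : Fin n) (hx : x ∈ C₀) : zc p L (C₀ ∪ C₁) x = 1 :=
  zc_att p L _ (Finset.mem_union_left _ hx) (c.hC₀ x hx).2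

include c in
theorem za₁ (x : Fin n) (hx : x ∈ C₁) : zc p L (C₀ ∪ C₁) x = 1 :=
  zc_att p L _ (Finset.mem_union_right _ hx) (c.hC₁ x hx).2

include c hv in
theorem interior (t : ℕ) (h0 : 0 < t) (hL : t < L) :
    T.a (p t) (p (t - 1)) = T.w (p t) ∧ T.a (p t) (p (t + 1)) = T.w (p t) ∧
      ∀ y, y ≠ p (t - 1) → y ≠ p (t + 1) → y ≠ p t → T.a (p t) y = 0 := by
  classical
  have h1 : Adj T (p t) (p (t + 1)) := c.path.adj t hL
  have h2 : Adj T (p t) (p (t - 1)) := by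
    have := (c.path.adj (t - 1) (by omega)).symm
    rwa [show t - 1 + 1 = t by omega] at this
  have hN : p t ∉ ({p (t - 1), p (t + 1)} : Finset (Fin n)) := by
    rw [Finset.mem_insert, Finset.mem_singleton, not_or]
    exact ⟨c.ne _ _ hL.le (by omega) (by omega), c.ne _ _ hL.le (by omega) (by omega)⟩
  have hne : p (t - 1) ≠ p (t + 1) := c.ne _ _ (by omega) (by omega) (by omega)
  obtain ⟨e1, e2, -⟩ := row_extract T _ c.zpos (p t) {p (t - 1), p (t + 1)} hN
    (fun _ => T.w (p t)) (by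
      intro x hx
      rw [Finset.mem_insert, Finset.mem_singleton] at hx
      rcases hx with rfl | rfl
      · exact h2.le
      · exact h1.le) (c.rows (p t)) (by
      rw [Finset.sum_pair hne, c.zb t hL.le, c.zb (t - 1) (by omega), c.zb (t + 1) (by omega),
        diag T hv]
      linarith)
  refine ⟨e1 _ (by simp), e1 _ (by simp), ?_⟩
  intro y hy1 hy2 hy3
  exact e2 y (by simp [hy1, hy2]) hy3

include c hv in
theorem left :
    2 * T.a (p 0) (p 1) + ∑ x ∈ C₀, T.a (p 0) x = 4 * T.w (p 0) ∧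
      ∀ y, y ≠ p 1 → y ∉ C₀ → y ≠ p 0 → T.a (p 0) y = 0 := by
  classical
  have hL1 : 1 ≤ L := le_trans (by norm_num) c.hL
  have hp1 : p 1 ∉ C₀ := fun h => (c.hC₀ _ h).2 ⟨1, hL1, rfl⟩
  have hp0 : p 0 ∉ insert (p 1) C₀ := by
    rw [Finset.mem_insert, not_or]
    exact ⟨c.ne 0 1 (Nat.zero_le _) hL1 (by omega),
      fun h => (c.hC₀ _ h).2 ⟨0, Nat.zero_le _, rfl⟩⟩
  have hsum : ∑ x ∈ insert (p 1) C₀, T.a (p 0) x * zc p L (C₀ ∪ C₁) x =
      2 * T.a (p 0) (p 1) + ∑ x ∈ C₀, T.a (p 0) x := by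
    rw [Finset.sum_insert hp1, c.zb 1 hL1]
    have : ∑ x ∈ C₀, T.a (p 0) x * zc p L (C₀ ∪ C₁) x = ∑ x ∈ C₀, T.a (p 0) x :=
      Finset.sum_congr rfl fun x hx => by rw [c.za₀ x hx, mul_one]
    rw [this]
    ring
  obtain ⟨-, e2, e3⟩ := row_extract T _ c.zpos (p 0) (insert (p 1) C₀) hp0
    (fun x => T.a (p 0) x) (fun _ _ => le_rfl) (c.rows (p 0)) (by
      rw [hsum, c.zb 0 (Nat.zero_le _), diag T hv]
      have := c.cap₀
      linarith)
  rw [hsum, c.zb 0 (Nat.zero_le _), diag T hv] at e3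
  refine ⟨by linarith, ?_⟩
  intro y hy1 hy2 hy3
  exact e2 y (by simp [hy1, hy2]) hy3

include c hv in
theorem right :
    2 * T.a (p L) (p (L - 1)) + ∑ x ∈ C₁, T.a (p L) x = 4 * T.w (p L) ∧
      ∀ y, y ≠ p (L - 1) → y ∉ C₁ → y ≠ p L → T.a (p L) y = 0 := by
  classical
  have hL1 : 1 ≤ L := le_trans (by norm_num) c.hL
  have hp1 : p (L - 1) ∉ C₁ := fun h => (c.hC₁ _ h).2 ⟨L - 1, by omega, rfl⟩
  have hp0 : p L ∉ insert (p (L - 1)) C₁ := by
    rw [Finset.mem_insert, not_or]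
    exact ⟨c.ne L (L - 1) le_rfl (by omega) (by omega),
      fun h => (c.hC₁ _ h).2 ⟨L, le_rfl, rfl⟩⟩
  have hsum : ∑ x ∈ insert (p (L - 1)) C₁, T.a (p L) x * zc p L (C₀ ∪ C₁) x =
      2 * T.a (p L) (p (L - 1)) + ∑ x ∈ C₁, T.a (p L) x := by
    rw [Finset.sum_insert hp1, c.zb (L - 1) (by omega)]
    have : ∑ x ∈ C₁, T.a (p L) x * zc p L (C₀ ∪ C₁) x = ∑ x ∈ C₁, T.a (p L) x :=
      Finset.sum_congr rfl fun x hx => by rw [c.za₁ x hx, mul_one]
    rw [this]
    ring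
  obtain ⟨-, e2, e3⟩ := row_extract T _ c.zpos (p L) (insert (p (L - 1)) C₁) hp0
    (fun x => T.a (p L) x) (fun _ _ => le_rfl) (c.rows (p L)) (by
      rw [hsum, c.zb L le_rfl, diag T hv]
      have := c.cap₁
      linarith)
  rw [hsum, c.zb L le_rfl, diag T hv] at e3
  refine ⟨by linarith, ?_⟩
  intro y hy1 hy2 hy3
  exact e2 y (by simp [hy1, hy2]) hy3

include c hv in
theorem att₀ (x : Fin n) (hx : x ∈ C₀) :
    T.a x (p 0) = T.w x ∧ ∀ y, y ≠ p 0 → y ≠ x → T.a x y = 0 := by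
  classical
  have hadj := (c.hC₀ x hx).1.symm
  have hN : x ∉ ({p 0} : Finset (Fin n)) := by
    rw [Finset.mem_singleton]
    exact hadj.1
  obtain ⟨e1, e2, -⟩ := row_extract T _ c.zpos x {p 0} hN (fun _ => T.w x) (by
      intro y hy
      rw [Finset.mem_singleton] at hy
      subst hy
      exact hadj.le) (c.rows x) (by
      rw [Finset.sum_singleton, c.zb 0 (Nat.zero_le _), c.za₀ x hx, diag T hv]
      linarith)
  refine ⟨e1 _ (by simp), ?_⟩
  intro y hy1 hy2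
  exact e2 y (by simp [hy1]) hy2

include c hv in
theorem att₁ (x : Fin n) (hx : x ∈ C₁) :
    T.a x (p L) = T.w x ∧ ∀ y, y ≠ p L → y ≠ x → T.a x y = 0 := by
  classical
  have hadj := (c.hC₁ x hx).1.symm
  have hN : x ∉ ({p L} : Finset (Fin n)) := by
    rw [Finset.mem_singleton]
    exact hadj.1
  obtain ⟨e1, e2, -⟩ := row_extract T _ c.zpos x {p L} hN (fun _ => T.w x) (by
      intro y hy
      rw [Finset.mem_singleton] at hy
      subst hy
      exact hadj.le) (c.rows x) (by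
      rw [Finset.sum_singleton, c.zb L le_rfl, c.za₁ x hx, diag T hv]
      linarith)
  refine ⟨e1 _ (by simp), ?_⟩
  intro y hy1 hy2
  exact e2 y (by simp [hy1]) hy2

include c hv in
theorem disj (x : Fin n) (hx : x ∈ C₀) : x ∉ C₁ := by
  intro hx1
  have h1 := (c.att₀ hv x hx).2 (p L) (c.ne L 0 le_rfl (Nat.zero_le _) (by have := c.hL; omega))
    (c.hC₁ x hx1).1.1
  exact (c.hC₁ x hx1).1.symm.2 h1

include c in
theorem m_body (t : ℕ) (ht : t ≤ L) : T.m (p t) = T.m (p 0) := by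
  have := c.prop (p t) (p 0)
  rw [c.zb t ht, c.zb 0 (Nat.zero_le _)] at this
  linarith

include c in
theorem m_att₀ (x : Fin n) (hx : x ∈ C₀) : 2 * T.m x = T.m (p 0) := by
  have := c.prop (p 0) x
  rw [c.za₀ x hx, c.zb 0 (Nat.zero_le _)] at this
  linarith

include c in
theorem m_att₁ (x : Fin n) (hx : x ∈ C₁) : 2 * T.m x = T.m (p 0) := by
  have := c.prop (p 0) x
  rw [c.za₁ x hx, c.zb 0 (Nat.zero_le _)] at this
  linarith

include c hv in
/-- interior weights all agree -/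
theorem w_body (t : ℕ) (h1 : 1 ≤ t) (h2 : t + 1 ≤ L) : T.w (p t) = T.w (p 1) := by
  induction t with
  | zero => omega
  | succ k ih =>
    by_cases hk : k = 0
    · subst hk; rfl
    · have e1 := (c.interior hv k (by omega) (by omega)).2.1
      have e2 := (c.interior hv (k + 1) (by omega) (by omega)).1
      rw [show k + 1 - 1 = k by omega, symm' T] at e2
      rw [← e2, e1]
      exact ih (by omega) (by omega)

include c hv in
/-- all body edges carry the interior weight -/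
theorem a_body (t : ℕ) (ht : t < L) : T.a (p t) (p (t + 1)) = T.w (p 1) := by
  by_cases h0 : t = 0
  · subst h0
    have e := (c.interior hv 1 (by omega) (by have := c.hL; omega)).1
    rw [symm' T]
    simpa using e
  · have e := (c.interior hv t (by omega) ht).2.1
    rw [e]
    exact c.w_body hv t (by omega) (by omega)

include c hv in
theorem a_body' (t : ℕ) (ht : t < L) : T.a (p (t + 1)) (p t) = T.w (p 1) := by
  rw [symm' T]
  exact c.a_body hv t ht

end Config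

end Groth.Agent.Lib.Helper31.Aff
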