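import Mathlib
import Groth.Agent.Lib.Helper31.AffD

/-! Affine classification for `n ≥ 10` (helper31): end types and the general layout. -/

set_option linter.unusedSectionVars false
set_option linter.unusedVariables false

namespace Groth.Agent.Lib.Helper31.Aff

open Finset Models
open Groth.Agent.Lib.Helper39.NT

variable {n : ℕ} {T : NumericalType n}

namespace Config

variable {p : ℕ → Fin n} {L : ℕ} {C₀ C₁ : Finset (Fin n)} (c : Config T p L C₀ C₁)
variable (hv : ∀ i, T.IsMinusTwo i)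

include c hv in
theorem left_D21 (h : C₀ = ∅) : T.w (p 1) = 2 * T.w (p 0) := by
  have e := (c.left hv).1
  rw [h, Finset.sum_empty, c.a_body hv 0 (by have := c.hL; omega)] at e
  linarith

include c hv in
theorem left_D12 (e : Fin n) (h : C₀ = {e}) (hd : 2 * T.w (p 0) ≤ T.a (p 0) e) :
    T.w (p 0) = T.w (p 1) ∧ T.a (p 0) e = 2 * T.w (p 1) ∧ T.w e = 2 * T.w (p 1) := by
  have e1 := (c.left hv).1
  have hL := c.hL
  rw [h, Finset.sum_singleton, c.a_body hv 0 (by omega)] at e1
  have h1 : T.w (p 0) ≤ T.w (p 1) := by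
    have := (c.path.adj 0 (by omega)).le
    rw [c.a_body hv 0 (by omega)] at this
    simpa using this
  have he : e ∈ C₀ := by rw [h]; exact Finset.mem_singleton_self e
  have e2 := (c.att₀ hv e he).1
  rw [symm' T] at e2
  refine ⟨by linarith, by linarith, by linarith⟩

include c hv in
theorem left_F (f f' : Fin n) (hff : f ≠ f') (h : C₀ = {f, f'}) :
    T.w (p 0) = T.w (p 1) ∧ T.w f = T.w (p 1) ∧ T.w f' = T.w (p 1) := by
  have e1 := (c.left hv).1
  have hL := c.hL
  rw [h, Finset.sum_pair hff, c.a_body hv 0 (by omega)] at e1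
  have h1 : T.w (p 0) ≤ T.w (p 1) := by
    have := (c.path.adj 0 (by omega)).le
    rw [c.a_body hv 0 (by omega)] at this
    simpa using this
  have hf : f ∈ C₀ := by rw [h]; simp
  have hf' : f' ∈ C₀ := by rw [h]; simp
  have h2 := (c.hC₀ f hf).1.le
  have h3 := (c.hC₀ f' hf').1.le
  have e2 := (c.att₀ hv f hf).1
  have e3 := (c.att₀ hv f' hf').1
  rw [symm' T] at e2 e3
  refine ⟨by linarith, by linarith, by linarith⟩

include c hv in
theorem right_D21 (h : C₁ = ∅) : T.w (p 1) = 2 * T.w (p L) := by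
  have e := (c.right hv).1
  have hL := c.hL
  have := c.a_body' hv (L - 1) (by omega)
  rw [show L - 1 + 1 = L by omega] at this
  rw [h, Finset.sum_empty, this] at e
  linarith

include c hv in
theorem w_last : T.w (p (L - 1)) = T.w (p 1) := c.w_body hv (L - 1) (by have := c.hL; omega)
  (by have := c.hL; omega)

include c hv in
theorem right_D12 (e : Fin n) (h : C₁ = {e}) (hd : 2 * T.w (p L) ≤ T.a (p L) e) :
    T.w (p L) = T.w (p 1) ∧ T.a (p L) e = 2 * T.w (p 1) ∧ T.w e = 2 * T.w (p 1) := by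
  have e1 := (c.right hv).1
  have hL := c.hL
  have hb := c.a_body' hv (L - 1) (by omega)
  rw [show L - 1 + 1 = L by omega] at hb
  rw [h, Finset.sum_singleton, hb] at e1
  have h1 : T.w (p L) ≤ T.w (p 1) := by
    have := (c.path.adj (L - 1) (by omega)).symm.le
    rw [show L - 1 + 1 = L by omega, hb] at this
    exact this
  have he : e ∈ C₁ := by rw [h]; exact Finset.mem_singleton_self e
  have e2 := (c.att₁ hv e he).1
  rw [symm' T] at e2
  refine ⟨by linarith, by linarith, by linarith⟩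

include c hv in
theorem right_F (f f' : Fin n) (hff : f ≠ f') (h : C₁ = {f, f'}) :
    T.w (p L) = T.w (p 1) ∧ T.w f = T.w (p 1) ∧ T.w f' = T.w (p 1) := by
  have e1 := (c.right hv).1
  have hL := c.hL
  have hb := c.a_body' hv (L - 1) (by omega)
  rw [show L - 1 + 1 = L by omega] at hb
  rw [h, Finset.sum_pair hff, hb] at e1
  have h1 : T.w (p L) ≤ T.w (p 1) := by
    have := (c.path.adj (L - 1) (by omega)).symm.le
    rw [show L - 1 + 1 = L by omega, hb] at this
    exact this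
  have hf : f ∈ C₁ := by rw [h]; simp
  have hf' : f' ∈ C₁ := by rw [h]; simp
  have h2 := (c.hC₁ f hf).1.le
  have h3 := (c.hC₁ f' hf').1.le
  have e2 := (c.att₁ hv f hf).1
  have e3 := (c.att₁ hv f' hf').1
  rw [symm' T] at e2 e3
  refine ⟨by linarith, by linarith, by linarith⟩

end Config

/-- the layout function: left attachments, body, right attachments -/
def lay (p : ℕ → Fin n) (L k₀ : ℕ) (c₀ c₁ : ℕ → Fin n) : ℕ → Fin n :=
  fun i => if i < k₀ then c₀ i else if i ≤ k₀ + L then p (i - k₀) else c₁ (i - (k₀ + L + 1))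

theorem lay_left (p : ℕ → Fin n) (L k₀ : ℕ) (c₀ c₁ : ℕ → Fin n) {i : ℕ} (h : i < k₀) :
    lay p L k₀ c₀ c₁ i = c₀ i := if_pos h

theorem lay_body (p : ℕ → Fin n) (L k₀ : ℕ) (c₀ c₁ : ℕ → Fin n) {i : ℕ} (h1 : k₀ ≤ i)
    (h2 : i ≤ k₀ + L) : lay p L k₀ c₀ c₁ i = p (i - k₀) := by
  unfold lay
  rw [if_neg (by omega), if_pos h2]

theorem lay_right (p : ℕ → Fin n) (L k₀ : ℕ) (c₀ c₁ : ℕ → Fin n) {i : ℕ} (h : k₀ + L < i) :
    lay p L k₀ c₀ c₁ i = c₁ (i - (k₀ + L + 1)) := by
  unfold lay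
  rw [if_neg (by omega), if_neg (by omega)]

namespace Config

variable {p : ℕ → Fin n} {L : ℕ} {C₀ C₁ : Finset (Fin n)} (c : Config T p L C₀ C₁)
variable (hv : ∀ i, T.IsMinusTwo i)
variable (k₀ k₁ : ℕ) (c₀ c₁ : ℕ → Fin n)
  (hc₀ : C₀ = (Finset.range k₀).image c₀)
  (hc₀inj : ∀ i j, i < k₀ → j < k₀ → c₀ i = c₀ j → i = j)
  (hc₁ : C₁ = (Finset.range k₁).image c₁)
  (hc₁inj : ∀ i j, i < k₁ → j < k₁ → c₁ i = c₁ j → i = j)

include hc₀ in
theorem mem₀ {i : ℕ} (h : i < k₀) : c₀ i ∈ C₀ := by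
  rw [hc₀]
  exact Finset.mem_image.2 ⟨i, Finset.mem_range.2 h, rfl⟩

include hc₁ in
theorem mem₁ {i : ℕ} (h : i < k₁) : c₁ i ∈ C₁ := by
  rw [hc₁]
  exact Finset.mem_image.2 ⟨i, Finset.mem_range.2 h, rfl⟩

include c hv hc₀ hc₀inj hc₁ hc₁inj in
theorem lay_inj (i j : ℕ) (hi : i < k₀ + L + 1 + k₁) (hj : j < k₀ + L + 1 + k₁)
    (h : lay p L k₀ c₀ c₁ i = lay p L k₀ c₀ c₁ j) : i = j := by
  have key : ∀ i j, i < k₀ + L + 1 + k₁ → j < k₀ + L + 1 + k₁ → i ≤ j →
      lay p L k₀ c₀ c₁ i = lay p L k₀ c₀ c₁ j → i = j := by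
    intro i j hi hj hij h
    by_cases h1 : i < k₀
    · rw [lay_left p L k₀ c₀ c₁ h1] at h
      have hm := mem₀ k₀ c₀ hc₀ h1
      by_cases h2 : j < k₀
      · rw [lay_left p L k₀ c₀ c₁ h2] at h
        exact hc₀inj i j h1 h2 h
      · by_cases h3 : j ≤ k₀ + L
        · rw [lay_body p L k₀ c₀ c₁ (by omega) h3] at h
          exact absurd ⟨j - k₀, by omega, h.symm⟩ (c.hC₀ _ hm).2
        · rw [lay_right p L k₀ c₀ c₁ (by omega)] at h
          have hm1 := mem₁ k₁ c₁ hc₁ (show j - (k₀ + L + 1) < k₁ by omega)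
          rw [← h] at hm1
          exact absurd hm1 (c.disj hv _ hm)
    · by_cases h3 : i ≤ k₀ + L
      · rw [lay_body p L k₀ c₀ c₁ (by omega) h3] at h
        by_cases h4 : j ≤ k₀ + L
        · rw [lay_body p L k₀ c₀ c₁ (by omega) h4] at h
          have := c.path.inj _ _ (by omega) (by omega) h
          omega
        · rw [lay_right p L k₀ c₀ c₁ (by omega)] at h
          have hm1 := mem₁ k₁ c₁ hc₁ (show j - (k₀ + L + 1) < k₁ by omega)
          exact absurd ⟨i - k₀, by omega, h⟩ (c.hC₁ _ hm1).2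
      · rw [lay_right p L k₀ c₀ c₁ (by omega), lay_right p L k₀ c₀ c₁ (by omega)] at h
        have := hc₁inj _ _ (by omega) (by omega) h
        omega
  rcases le_total i j with hij | hij
  · exact key i j hi hj hij h
  · exact (key j i hj hi hij h.symm).symm

include c hv hc₀ hc₀inj hc₁ hc₁inj in
theorem card_eq : n = k₀ + L + 1 + k₁ := by
  classical
  have hsurj : ∀ y : Fin n, ∃ i, i < k₀ + L + 1 + k₁ ∧ lay p L k₀ c₀ c₁ i = y := by
    intro y
    rcases c.all y with ⟨t, ht, rfl⟩ | hy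
    · exact ⟨k₀ + t, by omega, by rw [lay_body p L k₀ c₀ c₁ (by omega) (by omega)]; congr 1; omega⟩
    · rcases Finset.mem_union.1 hy with h | h
      · rw [hc₀] at h
        obtain ⟨i, hi, rfl⟩ := Finset.mem_image.1 h
        rw [Finset.mem_range] at hi
        exact ⟨i, by omega, lay_left p L k₀ c₀ c₁ hi⟩
      · rw [hc₁] at h
        obtain ⟨i, hi, rfl⟩ := Finset.mem_image.1 h
        rw [Finset.mem_range] at hi
        refine ⟨k₀ + L + 1 + i, by omega, ?_⟩
        rw [lay_right p L k₀ c₀ c₁ (by omega)]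
        congr 1
        omega
  have himg : (Finset.range (k₀ + L + 1 + k₁)).image (lay p L k₀ c₀ c₁) = univ := by
    rw [Finset.eq_univ_iff_forall]
    intro y
    obtain ⟨i, hi, rfl⟩ := hsurj y
    exact Finset.mem_image.2 ⟨i, Finset.mem_range.2 hi, rfl⟩
  have hcard : ((Finset.range (k₀ + L + 1 + k₁)).image (lay p L k₀ c₀ c₁)).card =
      k₀ + L + 1 + k₁ := by
    rw [Finset.card_image_of_injOn, Finset.card_range]
    intro i hi j hj h
    rw [Finset.coe_range, Set.mem_Iio] at hi hj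
    exact c.lay_inj hv k₀ k₁ c₀ c₁ hc₀ hc₀inj hc₁ hc₁inj i j hi hj h
  rw [himg, Finset.card_univ, Fintype.card_fin] at hcard
  exact hcard

include c hv hc₀ hc₁ in
/-- multiplicities along the layout -/
theorem lay_m (i : ℕ) (hi : i < k₀ + L + 1 + k₁) :
    (k₀ ≤ i ∧ i ≤ k₀ + L → T.m (lay p L k₀ c₀ c₁ i) = T.m (p 0)) ∧
    (i < k₀ ∨ k₀ + L < i → 2 * T.m (lay p L k₀ c₀ c₁ i) = T.m (p 0)) := by
  constructor
  · rintro ⟨h1, h2⟩
    rw [lay_body p L k₀ c₀ c₁ h1 h2]
    exact c.m_body _ (by omega)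
  · rintro (h | h)
    · rw [lay_left p L k₀ c₀ c₁ h]
      exact c.m_att₀ _ (mem₀ k₀ c₀ hc₀ h)
    · rw [lay_right p L k₀ c₀ c₁ h]
      exact c.m_att₁ _ (mem₁ k₁ c₁ hc₁ (by omega))

include c hv hc₀ hc₀inj hc₁ hc₁inj in
/-- intersection numbers along the layout -/
theorem lay_a (i j : ℕ) (hij : i < j) (hj : j < k₀ + L + 1 + k₁) :
    T.a (lay p L k₀ c₀ c₁ i) (lay p L k₀ c₀ c₁ j) =
      if i < k₀ then (if j = k₀ then T.w (lay p L k₀ c₀ c₁ i) else 0)
      else if j ≤ k₀ + L then (if j = i + 1 then T.w (p 1) else 0)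
      else (if i = k₀ + L then T.w (lay p L k₀ c₀ c₁ j) else 0) := by
  have hinj := c.lay_inj hv k₀ k₁ c₀ c₁ hc₀ hc₀inj hc₁ hc₁inj
  have hL := c.hL
  by_cases h1 : i < k₀
  · rw [if_pos h1]
    have hm := mem₀ k₀ c₀ hc₀ h1
    have hi : lay p L k₀ c₀ c₁ i = c₀ i := lay_left p L k₀ c₀ c₁ h1
    have hp0 : lay p L k₀ c₀ c₁ k₀ = p 0 := by
      rw [lay_body p L k₀ c₀ c₁ le_rfl (by omega), Nat.sub_self]
    by_cases h2 : j = k₀
    · rw [if_pos h2, h2, hp0, hi]
      exact (c.att₀ hv _ hm).1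
    · rw [if_neg h2, hi]
      apply (c.att₀ hv _ hm).2
      · rw [← hp0]
        intro h
        exact h2 (hinj _ _ hj (by omega) h)
      · rw [← hi]
        intro h
        exact absurd (hinj _ _ hj (by omega) h) (by omega)
  · rw [if_neg h1]
    by_cases h3 : j ≤ k₀ + L
    · rw [if_pos h3, lay_body p L k₀ c₀ c₁ (by omega) (by omega),
        lay_body p L k₀ c₀ c₁ (by omega) h3]
      by_cases h4 : j = i + 1
      · rw [if_pos h4, h4, show i + 1 - k₀ = (i - k₀) + 1 by omega]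
        exact c.a_body hv _ (by omega)
      · rw [if_neg h4]
        by_cases h5 : i = k₀
        · rw [h5, Nat.sub_self]
          apply (c.left hv).2
          · exact c.ne _ _ (by omega) (by omega) (by omega)
          · intro h
            exact (c.hC₀ _ h).2 ⟨j - k₀, by omega, rfl⟩
          · exact c.ne _ _ (by omega) (by omega) (by omega)
        · apply (c.interior hv (i - k₀) (by omega) (by omega)).2.2
          · exact c.ne _ _ (by omega) (by omega) (by omega)
          · exact c.ne _ _ (by omega) (by omega) (by omega)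
          · exact c.ne _ _ (by omega) (by omega) (by omega)
    · rw [if_neg h3]
      have hm1 := mem₁ k₁ c₁ hc₁ (show j - (k₀ + L + 1) < k₁ by omega)
      have hjr : lay p L k₀ c₀ c₁ j = c₁ (j - (k₀ + L + 1)) := lay_right p L k₀ c₀ c₁ (by omega)
      have hpL : lay p L k₀ c₀ c₁ (k₀ + L) = p L := by
        rw [lay_body p L k₀ c₀ c₁ (by omega) le_rfl]
        congr 1
        omega
      rw [symm' T]
      by_cases h6 : i = k₀ + L
      · rw [if_pos h6, h6, hpL, hjr]
        exact (c.att₁ hv _ hm1).1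
      · rw [if_neg h6, hjr]
        apply (c.att₁ hv _ hm1).2
        · rw [← hpL]
          intro h
          exact h6 (hinj _ _ (by omega) (by omega) h)
        · rw [← hjr]
          intro h
          exact absurd (hinj _ _ (by omega) hj h) (by omega)

include c hv in
/-- interior weights along the layout -/
theorem lay_w (i : ℕ) (h1 : k₀ < i) (h2 : i < k₀ + L) : T.w (lay p L k₀ c₀ c₁ i) = T.w (p 1) := by
  rw [lay_body p L k₀ c₀ c₁ (by omega) (by omega)]
  exact c.w_body hv _ (by omega) (by omega)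

end Config

/-- a permutation from an injective enumeration -/
theorem exists_perm (s : ℕ → Fin n) (hinj : ∀ i j, i < n → j < n → s i = s j → i = j) :
    ∃ σ : Equiv.Perm (Fin n), ∀ i : Fin n, σ i = s i.val := by
  have hinj' : Function.Injective (fun i : Fin n => s i.val) := by
    intro i j h
    exact Fin.ext (hinj _ _ i.2 j.2 h)
  exact ⟨Equiv.ofBijective _ ⟨hinj', Finite.surjective_of_injective hinj'⟩, fun i => rfl⟩

end Groth.Agent.Lib.Helper31.Aff
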