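import Mathlib
import Groth.Agent.Lib.Helper31.AffE
import Groth.Agent.Lib.Helper31.AffGoal

/-! Affine classification for `n ≥ 10` (helper31): the double fork family. -/

set_option linter.unusedSectionVars false
set_option linter.unusedVariables false

namespace Groth.Agent.Lib.Helper31.Aff

open Finset Models
open Groth.Agent.Lib.Helper39.NT

variable {n : ℕ} {T : NumericalType n}

/-- enumeration of a pair -/
def pr (f f' : Fin n) : ℕ → Fin n := fun i => if i = 0 then f else f'

theorem pr_image (f f' : Fin n) : ({f, f'} : Finset (Fin n)) = (Finset.range 2).image (pr f f') := by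
  ext x
  simp only [Finset.mem_insert, Finset.mem_singleton, Finset.mem_image, Finset.mem_range]
  constructor
  · rintro (rfl | rfl)
    · exact ⟨0, by norm_num, rfl⟩
    · exact ⟨1, by norm_num, rfl⟩
  · rintro ⟨i, hi, rfl⟩
    interval_cases i
    · left; rfl
    · right; rfl

theorem pr_inj (f f' : Fin n) (hff : f ≠ f') : ∀ i j, i < 2 → j < 2 → pr f f' i = pr f f' j → i = j := by
  intro i j hi hj h
  interval_cases i <;> interval_cases j <;> simp [pr] at h ⊢
  · exact hff h
  · exact hff h.symm

theorem sg_image (e : Fin n) : ({e} : Finset (Fin n)) = (Finset.range 1).image (fun _ => e) := by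
  ext x
  simp

theorem emp_image (e : Fin n) : (∅ : Finset (Fin n)) = (Finset.range 0).image (fun _ => e) := by
  simp

theorem fam_FF {p : ℕ → Fin n} {L : ℕ} {C₀ C₁ : Finset (Fin n)} (c : Config T p L C₀ C₁)
    (hv : ∀ i, T.IsMinusTwo i) (f f' g g' : Fin n) (hff : f ≠ f') (hgg : g ≠ g')
    (h₀ : C₀ = {f, f'}) (h₁ : C₁ = {g, g'}) : Goal T := by
  have hc₀ : C₀ = (Finset.range 2).image (pr f f') := by rw [h₀]; exact pr_image f f'
  have hc₁ : C₁ = (Finset.range 2).image (pr g g') := by rw [h₁]; exact pr_image g g'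
  have hi₀ := pr_inj f f' hff
  have hi₁ := pr_inj g g' hgg
  have hn := c.card_eq hv 2 2 (pr f f') (pr g g') hc₀ hi₀ hc₁ hi₁
  have hinj := c.lay_inj hv 2 2 (pr f f') (pr g g') hc₀ hi₀ hc₁ hi₁
  have hm := c.lay_m hv 2 2 (pr f f') (pr g g') hc₀ hc₁
  have ha := c.lay_a hv 2 2 (pr f f') (pr g g') hc₀ hi₀ hc₁ hi₁
  have hwb := c.lay_w hv 2 (pr f f') (pr g g')
  set s := lay p L 2 (pr f f') (pr g g') with hs
  obtain ⟨σ, hσ⟩ := exists_perm s (fun i j hi hj h => hinj i j (by omega) (by omega) h)
  obtain ⟨wl0, wlf, wlf'⟩ := c.left_F hv f f' hff h₀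
  obtain ⟨wr0, wrg, wrg'⟩ := c.right_F hv g g' hgg h₁
  have hL := c.hL
  -- all weights are equal
  have hw : ∀ i, i < n → T.w (s i) = T.w (p 1) := by
    intro i hi
    by_cases h1 : i < 2
    · rw [hs, lay_left p L 2 _ _ h1]
      interval_cases i
      · exact wlf
      · exact wlf'
    · by_cases h2 : i = 2
      · rw [h2, hs, lay_body p L 2 _ _ le_rfl (by omega)]
        exact wl0
      · by_cases h3 : i < 2 + L
        · exact hwb i (by omega) h3
        · by_cases h4 : i = 2 + L
          · rw [h4, hs, lay_body p L 2 _ _ (by omega) le_rfl, show 2 + L - 2 = L by omega]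
            exact wr0
          · rw [hs, lay_right p L 2 _ _ (by omega)]
            have : i - (2 + L + 1) = 0 ∨ i - (2 + L + 1) = 1 := by omega
            rcases this with h | h <;> rw [h]
            · exact wrg
            · exact wrg'
  have hmf : 2 * T.m f = T.m (p 0) := c.m_att₀ f (by rw [h₀]; simp)
  refine ⟨σ, T.m f, T.w (p 1), Or.inr (Or.inr (Or.inr (Or.inr (Or.inr (Or.inr
    ⟨?_, ?_, ?_, ?_, ?_, ?_, ?_, ?_, ?_⟩)))))⟩
  · intro i hi
    rw [hσ]
    have := (hm i.val (by omega)).2 (Or.inl (by omega))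
    linarith
  · intro i hi
    rw [hσ]
    have := (hm i.val (by omega)).1 ⟨by omega, by omega⟩
    linarith
  · intro i hi
    rw [hσ]
    have := (hm i.val (by omega)).2 (Or.inr (by omega))
    linarith
  · intro i
    rw [hσ]
    exact hw _ i.2
  · intro i j hij h
    rw [hσ, hσ, ha _ _ hij (by omega), if_pos (by omega), if_pos (by omega)]
    exact hw _ i.2
  · intro i j hij h
    rw [hσ, hσ, ha _ _ hij (by omega), if_pos (by omega), if_pos (by omega)]
    exact hw _ i.2
  · intro i j hij h
    rw [hσ, hσ, ha _ _ hij (by omega), if_neg (by omega)]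
    by_cases h1 : j.val ≤ 2 + L
    · rw [if_pos h1, if_pos (by omega)]
    · rw [if_neg h1, if_pos (by omega)]
      exact hw _ j.2
  · intro i j hij h
    rw [hσ, hσ, ha _ _ hij (by omega), if_neg (by omega), if_neg (by omega), if_pos (by omega)]
    exact hw _ j.2
  · intro i j hij h1 h2 h3 h4
    rw [hσ, hσ, ha _ _ hij (by omega)]
    have hj := j.2
    split_ifs <;> first | rfl | omega

end Groth.Agent.Lib.Helper31.Aff
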