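import Mathlib
import Groth.Agent.Lib.Helper31.AffF1

/-! Affine classification for `n ≥ 10` (helper31): the remaining tree families. -/

set_option linter.unusedSectionVars false
set_option linter.unusedVariables false

namespace Groth.Agent.Lib.Helper31.Aff

open Finset Models
open Groth.Agent.Lib.Helper39.NT

variable {n : ℕ} {T : NumericalType n}

theorem c1_inj (e : Fin n) : ∀ i j, i < 1 → j < 1 → (fun _ : ℕ => e) i = (fun _ : ℕ => e) j → i = j := by
  intro i j hi hj _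
  omega

theorem c0_inj (e : Fin n) : ∀ i j, i < 0 → j < 0 → (fun _ : ℕ => e) i = (fun _ : ℕ => e) j → i = j := by
  intro i j hi hj _
  omega

/-- family 5: double bond (attachment of double weight) on the left, fork on the right -/
theorem fam_D12_F {p : ℕ → Fin n} {L : ℕ} {C₀ C₁ : Finset (Fin n)} (c : Config T p L C₀ C₁)
    (hv : ∀ i, T.IsMinusTwo i) (e g g' : Fin n) (hgg : g ≠ g')
    (h₀ : C₀ = {e}) (hd : 2 * T.w (p 0) ≤ T.a (p 0) e) (h₁ : C₁ = {g, g'}) : Goal T := by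
  have hc₀ : C₀ = (Finset.range 1).image (fun _ => e) := by rw [h₀]; exact sg_image e
  have hc₁ : C₁ = (Finset.range 2).image (pr g g') := by rw [h₁]; exact pr_image g g'
  have hi₀ := c1_inj e
  have hi₁ := pr_inj g g' hgg
  have hn := c.card_eq hv 1 2 (fun _ => e) (pr g g') hc₀ hi₀ hc₁ hi₁
  have hinj := c.lay_inj hv 1 2 (fun _ => e) (pr g g') hc₀ hi₀ hc₁ hi₁
  have hm := c.lay_m hv 1 2 (fun _ => e) (pr g g') hc₀ hc₁
  have ha := c.lay_a hv 1 2 (fun _ => e) (pr g g') hc₀ hi₀ hc₁ hi₁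
  have hwb := c.lay_w hv 1 (fun _ => e) (pr g g')
  set s := lay p L 1 (fun _ => e) (pr g g') with hs
  obtain ⟨σ, hσ⟩ := exists_perm s (fun i j hi hj h => hinj i j (by omega) (by omega) h)
  obtain ⟨wl0, -, wle⟩ := c.left_D12 hv e h₀ hd
  obtain ⟨wr0, wrg, wrg'⟩ := c.right_F hv g g' hgg h₁
  have hL := c.hL
  have hw0 : T.w (s 0) = 2 * T.w (p 1) := by
    rw [hs, lay_left p L 1 _ _ (by omega)]
    exact wle
  have hw : ∀ i, 0 < i → i < n → T.w (s i) = T.w (p 1) := by
    intro i hi0 hi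
    by_cases h2 : i = 1
    · rw [h2, hs, lay_body p L 1 _ _ le_rfl (by omega)]
      exact wl0
    · by_cases h3 : i < 1 + L
      · exact hwb i (by omega) h3
      · by_cases h4 : i = 1 + L
        · rw [h4, hs, lay_body p L 1 _ _ (by omega) le_rfl, show 1 + L - 1 = L by omega]
          exact wr0
        · rw [hs, lay_right p L 1 _ _ (by omega)]
          have : i - (1 + L + 1) = 0 ∨ i - (1 + L + 1) = 1 := by omega
          rcases this with h | h <;> rw [h]
          · exact wrg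
          · exact wrg'
  have hme : 2 * T.m e = T.m (p 0) := c.m_att₀ e (by rw [h₀]; simp)
  refine ⟨σ, T.m e, T.w (p 1), Or.inr (Or.inr (Or.inr (Or.inr (Or.inl
    ⟨?_, ?_, ?_, ?_, ?_, ?_, ?_, ?_, ?_⟩))))⟩
  · intro i hi
    rw [hσ]
    have := (hm i.val (by omega)).2 (Or.inl (by omega))
    linarith
  · intro i hi
    rw [hσ]
    have := (hm i.val (by omega)).1 ⟨by omega, by omega⟩
    linarith
  · intro i hi
    rw [hσ]
    have := (hm i.val (by omega)).2 (Or.inr (by omega))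
    linarith
  · intro i hi
    rw [hσ, hi]
    exact hw0
  · intro i hi
    rw [hσ]
    exact hw _ hi i.2
  · intro i j hij h
    rw [hσ, hσ, ha _ _ hij (by omega), if_pos (by omega), if_pos (by omega), h.1]
    exact hw0
  · intro i j hij h
    rw [hσ, hσ, ha _ _ hij (by omega), if_neg (by omega)]
    by_cases h1 : j.val ≤ 1 + L
    · rw [if_pos h1, if_pos (by omega)]
    · rw [if_neg h1, if_pos (by omega)]
      exact hw _ (by omega) j.2
  · intro i j hij h
    rw [hσ, hσ, ha _ _ hij (by omega), if_neg (by omega), if_neg (by omega), if_pos (by omega)]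
    exact hw _ (by omega) j.2
  · intro i j hij h1 h2 h3
    rw [hσ, hσ, ha _ _ hij (by omega)]
    have hj := j.2
    split_ifs <;> first | rfl | omega

/-- family 6: double bond (end of double Cartan integer) on the left, fork on the right -/
theorem fam_D21_F {p : ℕ → Fin n} {L : ℕ} {C₀ C₁ : Finset (Fin n)} (c : Config T p L C₀ C₁)
    (hv : ∀ i, T.IsMinusTwo i) (g g' : Fin n) (hgg : g ≠ g')
    (h₀ : C₀ = ∅) (h₁ : C₁ = {g, g'}) : Goal T := by
  have hc₀ : C₀ = (Finset.range 0).image (fun _ => g) := by rw [h₀]; exact emp_image g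
  have hc₁ : C₁ = (Finset.range 2).image (pr g g') := by rw [h₁]; exact pr_image g g'
  have hi₀ := c0_inj g
  have hi₁ := pr_inj g g' hgg
  have hn := c.card_eq hv 0 2 (fun _ => g) (pr g g') hc₀ hi₀ hc₁ hi₁
  have hinj := c.lay_inj hv 0 2 (fun _ => g) (pr g g') hc₀ hi₀ hc₁ hi₁
  have hm := c.lay_m hv 0 2 (fun _ => g) (pr g g') hc₀ hc₁
  have ha := c.lay_a hv 0 2 (fun _ => g) (pr g g') hc₀ hi₀ hc₁ hi₁
  have hwb := c.lay_w hv 0 (fun _ => g) (pr g g')
  set s := lay p L 0 (fun _ => g) (pr g g') with hs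
  obtain ⟨σ, hσ⟩ := exists_perm s (fun i j hi hj h => hinj i j (by omega) (by omega) h)
  have wl0 := c.left_D21 hv h₀
  obtain ⟨wr0, wrg, wrg'⟩ := c.right_F hv g g' hgg h₁
  have hL := c.hL
  have hw0 : T.w (s 0) = T.w (p 0) := by
    rw [hs, lay_body p L 0 _ _ le_rfl (by omega)]
  have hw : ∀ i, 0 < i → i < n → T.w (s i) = 2 * T.w (p 0) := by
    intro i hi0 hi
    rw [← wl0]
    by_cases h3 : i < 0 + L
    · exact hwb i (by omega) h3
    · by_cases h4 : i = 0 + L
      · rw [h4, hs, lay_body p L 0 _ _ (by omega) le_rfl, show 0 + L - 0 = L by omega]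
        exact wr0
      · rw [hs, lay_right p L 0 _ _ (by omega)]
        have : i - (0 + L + 1) = 0 ∨ i - (0 + L + 1) = 1 := by omega
        rcases this with h | h <;> rw [h]
        · exact wrg
        · exact wrg'
  have hmg : 2 * T.m g = T.m (p 0) := c.m_att₁ g (by rw [h₁]; simp)
  refine ⟨σ, T.m g, T.w (p 0), Or.inr (Or.inr (Or.inr (Or.inr (Or.inr (Or.inl
    ⟨?_, ?_, ?_, ?_, ?_, ?_, ?_⟩)))))⟩
  · intro i hi
    rw [hσ]
    have := (hm i.val (by omega)).1 ⟨by omega, by omega⟩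
    linarith
  · intro i hi
    rw [hσ]
    have := (hm i.val (by omega)).2 (Or.inr (by omega))
    linarith
  · intro i hi
    rw [hσ, hi]
    exact hw0
  · intro i hi
    rw [hσ]
    exact hw _ hi i.2
  · intro i j hij h
    rw [hσ, hσ, ha _ _ hij (by omega), if_neg (by omega)]
    by_cases h1 : j.val ≤ 0 + L
    · rw [if_pos h1, if_pos (by omega)]
      exact wl0
    · rw [if_neg h1, if_pos (by omega)]
      exact hw _ (by omega) j.2
  · intro i j hij h
    rw [hσ, hσ, ha _ _ hij (by omega), if_neg (by omega), if_neg (by omega), if_pos (by omega)]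
    exact hw _ (by omega) j.2
  · intro i j hij h1 h2
    rw [hσ, hσ, ha _ _ hij (by omega)]
    have hj := j.2
    split_ifs <;> first | rfl | omega

/-- family 2 -/
theorem fam_D21_D12 {p : ℕ → Fin n} {L : ℕ} {C₀ C₁ : Finset (Fin n)} (c : Config T p L C₀ C₁)
    (hv : ∀ i, T.IsMinusTwo i) (e : Fin n)
    (h₀ : C₀ = ∅) (h₁ : C₁ = {e}) (hd : 2 * T.w (p L) ≤ T.a (p L) e) : Goal T := by
  have hc₀ : C₀ = (Finset.range 0).image (fun _ => e) := by rw [h₀]; exact emp_image e
  have hc₁ : C₁ = (Finset.range 1).image (fun _ => e) := by rw [h₁]; exact sg_image e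
  have hi₀ := c0_inj e
  have hi₁ := c1_inj e
  have hn := c.card_eq hv 0 1 (fun _ => e) (fun _ => e) hc₀ hi₀ hc₁ hi₁
  have hinj := c.lay_inj hv 0 1 (fun _ => e) (fun _ => e) hc₀ hi₀ hc₁ hi₁
  have hm := c.lay_m hv 0 1 (fun _ => e) (fun _ => e) hc₀ hc₁
  have ha := c.lay_a hv 0 1 (fun _ => e) (fun _ => e) hc₀ hi₀ hc₁ hi₁
  have hwb := c.lay_w hv 0 (fun _ => e) (fun _ => e)
  set s := lay p L 0 (fun _ => e) (fun _ => e) with hs
  obtain ⟨σ, hσ⟩ := exists_perm s (fun i j hi hj h => hinj i j (by omega) (by omega) h)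
  have wl0 := c.left_D21 hv h₀
  obtain ⟨wr0, -, wre⟩ := c.right_D12 hv e h₁ hd
  have hL := c.hL
  have hw0 : T.w (s 0) = T.w (p 0) := by
    rw [hs, lay_body p L 0 _ _ le_rfl (by omega)]
  have hw : ∀ i, 0 < i → i + 1 < n → T.w (s i) = 2 * T.w (p 0) := by
    intro i hi0 hi
    rw [← wl0]
    by_cases h3 : i < 0 + L
    · exact hwb i (by omega) h3
    · have h4 : i = 0 + L := by omega
      rw [h4, hs, lay_body p L 0 _ _ (by omega) le_rfl, show 0 + L - 0 = L by omega]
      exact wr0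
  have hwe : ∀ i, i + 1 = n → T.w (s i) = 4 * T.w (p 0) := by
    intro i hi
    rw [hs, lay_right p L 0 _ _ (by omega)]
    show T.w e = _
    rw [wre, wl0]
    ring
  have hme : 2 * T.m e = T.m (p 0) := c.m_att₁ e (by rw [h₁]; simp)
  refine ⟨σ, T.m e, T.w (p 0), Or.inr (Or.inl ⟨?_, ?_, ?_, ?_, ?_, ?_, ?_, ?_⟩)⟩
  · intro i hi
    rw [hσ]
    have := (hm i.val (by omega)).1 ⟨by omega, by omega⟩
    linarith
  · intro i hi
    rw [hσ]
    have := (hm i.val (by omega)).2 (Or.inr (by omega))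
    linarith
  · intro i hi
    rw [hσ, hi]
    exact hw0
  · intro i hi
    rw [hσ]
    exact hw _ hi.1 hi.2
  · intro i hi
    rw [hσ]
    exact hwe _ hi
  · intro i j hij h
    rw [hσ, hσ, ha _ _ hij (by omega), if_neg (by omega), if_pos (by omega), if_pos (by omega)]
    exact wl0
  · intro i j hij h
    rw [hσ, hσ, ha _ _ hij (by omega), if_neg (by omega), if_neg (by omega), if_pos (by omega)]
    exact hwe _ h.2
  · intro i j hij h1 h2
    rw [hσ, hσ, ha _ _ hij (by omega)]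
    have hj := j.2
    split_ifs <;> first | rfl | omega

/-- family 3 -/
theorem fam_D21_D21 {p : ℕ → Fin n} {L : ℕ} {C₀ C₁ : Finset (Fin n)} (c : Config T p L C₀ C₁)
    (hv : ∀ i, T.IsMinusTwo i) (h₀ : C₀ = ∅) (h₁ : C₁ = ∅) : Goal T := by
  have hc₀ : C₀ = (Finset.range 0).image (fun _ => p 0) := by rw [h₀]; exact emp_image (p 0)
  have hc₁ : C₁ = (Finset.range 0).image (fun _ => p 0) := by rw [h₁]; exact emp_image (p 0)
  have hi₀ := c0_inj (p 0)
  have hn := c.card_eq hv 0 0 (fun _ => p 0) (fun _ => p 0) hc₀ hi₀ hc₁ hi₀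
  have hinj := c.lay_inj hv 0 0 (fun _ => p 0) (fun _ => p 0) hc₀ hi₀ hc₁ hi₀
  have hm := c.lay_m hv 0 0 (fun _ => p 0) (fun _ => p 0) hc₀ hc₁
  have ha := c.lay_a hv 0 0 (fun _ => p 0) (fun _ => p 0) hc₀ hi₀ hc₁ hi₀
  have hwb := c.lay_w hv 0 (fun _ => p 0) (fun _ => p 0)
  set s := lay p L 0 (fun _ => p 0) (fun _ => p 0) with hs
  obtain ⟨σ, hσ⟩ := exists_perm s (fun i j hi hj h => hinj i j (by omega) (by omega) h)
  have wl0 := c.left_D21 hv h₀
  have wr0 := c.right_D21 hv h₁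
  have hL := c.hL
  have hw0 : T.w (s 0) = T.w (p 0) := by
    rw [hs, lay_body p L 0 _ _ le_rfl (by omega)]
  have hw : ∀ i, 0 < i → i + 1 < n → T.w (s i) = 2 * T.w (p 0) := by
    intro i hi0 hi
    rw [← wl0]
    exact hwb i (by omega) (by omega)
  have hwL : ∀ i, i + 1 = n → T.w (s i) = T.w (p 0) := by
    intro i hi
    have : i = 0 + L := by omega
    rw [this, hs, lay_body p L 0 _ _ (by omega) le_rfl, show 0 + L - 0 = L by omega]
    linarith
  refine ⟨σ, T.m (p 0), T.w (p 0), Or.inr (Or.inr (Or.inl ⟨?_, ?_, ?_, ?_, ?_, ?_⟩))⟩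
  · intro i
    rw [hσ]
    exact (hm i.val (by omega)).1 ⟨by omega, by omega⟩
  · intro i hi
    rw [hσ, hi]
    exact hw0
  · intro i hi
    rw [hσ]
    exact hw _ hi.1 hi.2
  · intro i hi
    rw [hσ]
    exact hwL _ hi
  · intro i j hij h
    rw [hσ, hσ, ha _ _ hij (by omega), if_neg (by omega), if_pos (by omega), if_pos (by omega)]
    exact wl0
  · intro i j hij h1
    rw [hσ, hσ, ha _ _ hij (by omega)]
    have hj := j.2
    split_ifs <;> first | rfl | omega

/-- family 4 -/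
theorem fam_D12_D12 {p : ℕ → Fin n} {L : ℕ} {C₀ C₁ : Finset (Fin n)} (c : Config T p L C₀ C₁)
    (hv : ∀ i, T.IsMinusTwo i) (e e' : Fin n)
    (h₀ : C₀ = {e}) (hd : 2 * T.w (p 0) ≤ T.a (p 0) e)
    (h₁ : C₁ = {e'}) (hd' : 2 * T.w (p L) ≤ T.a (p L) e') : Goal T := by
  have hc₀ : C₀ = (Finset.range 1).image (fun _ => e) := by rw [h₀]; exact sg_image e
  have hc₁ : C₁ = (Finset.range 1).image (fun _ => e') := by rw [h₁]; exact sg_image e'
  have hi₀ := c1_inj e
  have hi₁ := c1_inj e'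
  have hn := c.card_eq hv 1 1 (fun _ => e) (fun _ => e') hc₀ hi₀ hc₁ hi₁
  have hinj := c.lay_inj hv 1 1 (fun _ => e) (fun _ => e') hc₀ hi₀ hc₁ hi₁
  have hm := c.lay_m hv 1 1 (fun _ => e) (fun _ => e') hc₀ hc₁
  have ha := c.lay_a hv 1 1 (fun _ => e) (fun _ => e') hc₀ hi₀ hc₁ hi₁
  have hwb := c.lay_w hv 1 (fun _ => e) (fun _ => e')
  set s := lay p L 1 (fun _ => e) (fun _ => e') with hs
  obtain ⟨σ, hσ⟩ := exists_perm s (fun i j hi hj h => hinj i j (by omega) (by omega) h)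
  obtain ⟨wl0, -, wle⟩ := c.left_D12 hv e h₀ hd
  obtain ⟨wr0, -, wre⟩ := c.right_D12 hv e' h₁ hd'
  have hL := c.hL
  have hw0 : T.w (s 0) = 2 * T.w (p 1) := by
    rw [hs, lay_left p L 1 _ _ (by omega)]
    exact wle
  have hw : ∀ i, 0 < i → i + 1 < n → T.w (s i) = T.w (p 1) := by
    intro i hi0 hi
    by_cases h2 : i = 1
    · rw [h2, hs, lay_body p L 1 _ _ le_rfl (by omega)]
      exact wl0
    · by_cases h3 : i < 1 + L
      · exact hwb i (by omega) h3
      · have h4 : i = 1 + L := by omega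
        rw [h4, hs, lay_body p L 1 _ _ (by omega) le_rfl, show 1 + L - 1 = L by omega]
        exact wr0
  have hwe : ∀ i, i + 1 = n → T.w (s i) = 2 * T.w (p 1) := by
    intro i hi
    rw [hs, lay_right p L 1 _ _ (by omega)]
    exact wre
  have hme : 2 * T.m e = T.m (p 0) := c.m_att₀ e (by rw [h₀]; simp)
  refine ⟨σ, T.m e, T.w (p 1), Or.inr (Or.inr (Or.inr (Or.inl
    ⟨?_, ?_, ?_, ?_, ?_, ?_, ?_, ?_, ?_, ?_⟩)))⟩
  · intro i hi
    rw [hσ]
    have := (hm i.val (by omega)).2 (Or.inl (by omega))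
    linarith
  · intro i hi
    rw [hσ]
    have := (hm i.val (by omega)).1 ⟨by omega, by omega⟩
    linarith
  · intro i hi
    rw [hσ]
    have := (hm i.val (by omega)).2 (Or.inr (by omega))
    linarith
  · intro i hi
    rw [hσ, hi]
    exact hw0
  · intro i hi
    rw [hσ]
    exact hw _ hi.1 hi.2
  · intro i hi
    rw [hσ]
    exact hwe _ hi
  · intro i j hij h
    rw [hσ, hσ, ha _ _ hij (by omega), if_pos (by omega), if_pos (by omega), h.1]
    exact hw0
  · intro i j hij h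
    rw [hσ, hσ, ha _ _ hij (by omega), if_neg (by omega), if_pos (by omega), if_pos (by omega)]
  · intro i j hij h
    rw [hσ, hσ, ha _ _ hij (by omega), if_neg (by omega), if_neg (by omega), if_pos (by omega)]
    exact hwe _ h.2
  · intro i j hij h1 h2 h3
    rw [hσ, hσ, ha _ _ hij (by omega)]
    have hj := j.2
    split_ifs <;> first | rfl | omega

end Groth.Agent.Lib.Helper31.Aff
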