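import Mathlib
import Groth.Agent.Lib.Helper31.AffC

/-! Affine classification for `n ≥ 10` (helper31): path utilities, cycles, connectivity. -/

set_option linter.unusedSectionVars false
set_option linter.unusedVariables false

namespace Groth.Agent.Lib.Helper31.Aff

open Finset Models
open Groth.Agent.Lib.Helper39.NT

variable {n : ℕ} (T : NumericalType n)

/-- a nonempty set of vertices closed under adjacency is everything -/
theorem closed_univ (S : Finset (Fin n)) (hne : S.Nonempty)
    (hcl : ∀ x ∈ S, ∀ y, Adj T x y → y ∈ S) : S = univ := by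
  by_contra h
  obtain ⟨i, hi, j, hj, hij⟩ := T.connected S hne h
  have hne' : i ≠ j := fun e => hj (e ▸ hi)
  exact hj (hcl i hi j ⟨hne', hij⟩)

variable {T}

theorem IsPath.mono {p : ℕ → Fin n} {L t : ℕ} (hp : IsPath T p L) (ht : t ≤ L) : IsPath T p t :=
  ⟨fun i j hi hj h => hp.inj i j (by omega) (by omega) h, fun i hi => hp.adj i (by omega)⟩

theorem IsPath.rev {p : ℕ → Fin n} {L : ℕ} (hp : IsPath T p L) :
    IsPath T (fun t => p (L - t)) L := by
  refine ⟨fun i j hi hj h => ?_, fun i hi => ?_⟩
  · have := hp.inj (L - i) (L - j) (by omega) (by omega) h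
    omega
  · have := (hp.adj (L - (i + 1)) (by omega)).symm
    rwa [show L - (i + 1) + 1 = L - i by omega] at this

theorem IsPath.shift {p : ℕ → Fin n} {L : ℕ} (hp : IsPath T p L) (i : ℕ) (hi : i ≤ L) :
    IsPath T (fun t => p (i + t)) (L - i) := by
  refine ⟨fun a b ha hb h => ?_, fun a ha => ?_⟩
  · have := hp.inj (i + a) (i + b) (by omega) (by omega) h
    omega
  · have := hp.adj (i + a) (by omega)
    rwa [show i + a + 1 = i + (a + 1) by omega] at this

theorem onPath_rev {p : ℕ → Fin n} {L : ℕ} {x : Fin n} :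
    OnPath (fun t => p (L - t)) L x ↔ OnPath p L x := by
  constructor
  · rintro ⟨t, ht, h⟩
    exact ⟨L - t, by omega, h⟩
  · rintro ⟨t, ht, h⟩
    exact ⟨L - t, by omega, by simp only; rw [show L - (L - t) = t by omega]; exact h⟩

theorem IsPath.len_lt {p : ℕ → Fin n} {L : ℕ} (hp : IsPath T p L) : L < n := by
  classical
  have h1 : ((Finset.range (L + 1)).image p).card = L + 1 := by
    rw [Finset.card_image_of_injOn, Finset.card_range]
    intro i hi j hj h
    have hi' : i < L + 1 := by simpa using hi
    have hj' : j < L + 1 := by simpa using hj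
    exact hp.inj i j (by omega) (by omega) h
  have h2 := Finset.card_le_univ ((Finset.range (L + 1)).image p)
  rw [Fintype.card_fin] at h2
  omega

/-- append a vertex to a path -/
def snoc (p : ℕ → Fin n) (L : ℕ) (x : Fin n) : ℕ → Fin n := fun k => if k ≤ L then p k else x

theorem snoc_le (p : ℕ → Fin n) (L : ℕ) (x : Fin n) {k : ℕ} (hk : k ≤ L) : snoc p L x k = p k :=
  if_pos hk

theorem snoc_last (p : ℕ → Fin n) (L : ℕ) (x : Fin n) : snoc p L x (L + 1) = x :=
  if_neg (by omega)

theorem IsPath.snoc {p : ℕ → Fin n} {L : ℕ} (hp : IsPath T p L) {x : Fin n}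
    (hx : Adj T (p L) x) (hoff : ¬ OnPath p L x) : IsPath T (snoc p L x) (L + 1) := by
  refine ⟨fun i j hi hj h => ?_, fun i hi => ?_⟩
  · by_cases hiL : i ≤ L
    · by_cases hjL : j ≤ L
      · rw [snoc_le p L x hiL, snoc_le p L x hjL] at h
        exact hp.inj i j hiL hjL h
      · have hj' : j = L + 1 := by omega
        subst hj'
        rw [snoc_le p L x hiL, snoc_last] at h
        exact (hoff ⟨i, hiL, h⟩).elim
    · have hi' : i = L + 1 := by omega
      subst hi'
      by_cases hjL : j ≤ L
      · rw [snoc_le p L x hjL, snoc_last] at h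
        exact (hoff ⟨j, hjL, h.symm⟩).elim
      · omega
  · by_cases hiL : i < L
    · rw [snoc_le p L x (by omega), snoc_le p L x (by omega)]
      exact hp.adj i hiL
    · have hi' : i = L := by omega
      subst hi'
      rw [snoc_le p i x le_rfl, snoc_last]
      exact hx

variable (T)

/-- a cycle in the dual graph -/
def HasCycle : Prop := ∃ (q : ℕ → Fin n) (L : ℕ), 2 ≤ L ∧ IsPath T q L ∧ Adj T (q L) (q 0)

variable {T}

/-- without cycles, neighbours of the start of a path other than the next vertex are off the path -/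
theorem chord (hac : ¬ HasCycle T) {p : ℕ → Fin n} {L : ℕ} (hp : IsPath T p L) {x : Fin n}
    (hx : Adj T (p 0) x) (hx1 : x ≠ p 1) : ¬ OnPath p L x := by
  rintro ⟨t, ht, rfl⟩
  have h0 : t ≠ 0 := fun e => hx.1 (by rw [e])
  have h1 : t ≠ 1 := fun e => hx1 (by rw [e])
  exact hac ⟨p, t, by omega, hp.mono ht, hx.symm⟩

theorem chord_end (hac : ¬ HasCycle T) {p : ℕ → Fin n} {L : ℕ} (hp : IsPath T p L) {x : Fin n}
    (hx : Adj T (p L) x) (hx1 : x ≠ p (L - 1)) : ¬ OnPath p L x := by
  intro hon
  have h := chord hac hp.rev (x := x) (by simpa using hx) (by simpa using hx1)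
  exact h (onPath_rev.2 hon)

/-- without cycles, neighbours of an interior vertex other than its path neighbours are off the path -/
theorem chord_mid (hac : ¬ HasCycle T) {p : ℕ → Fin n} {L : ℕ} (hp : IsPath T p L) {t : ℕ}
    (ht : t ≤ L) {x : Fin n} (hx : Adj T (p t) x) (hx1 : x ≠ p (t - 1)) (hx2 : x ≠ p (t + 1)) :
    ¬ OnPath p L x := by
  rintro ⟨u, hu, rfl⟩
  rcases lt_trichotomy u t with h | h | h
  · -- u < t : use the path from u to t reversed
    have h1 := chord_end hac (hp.mono ht) (x := p u) hx hx1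
    exact h1 ⟨u, by omega, rfl⟩
  · subst h
    exact hx.1 rfl
  · have hs := hp.shift t ht
    have h1 := chord hac hs (x := p u) (by simpa using hx) (by simpa using hx2)
    exact h1 ⟨u - t, by omega, by simp only; rw [show t + (u - t) = u by omega]⟩

variable (T)

/-- any two vertices are joined by a path -/
theorem exists_path (x y : Fin n) : ∃ (p : ℕ → Fin n) (L : ℕ), IsPath T p L ∧ p 0 = x ∧ p L = y := by
  classical
  let S : Finset (Fin n) := univ.filter fun y => ∃ (p : ℕ → Fin n) (L : ℕ), IsPath T p L ∧ p 0 = x ∧ p L = y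
  have hS : S = univ := by
    apply closed_univ T S
    · refine ⟨x, ?_⟩
      simp only [S, Finset.mem_filter, Finset.mem_univ, true_and]
      refine ⟨fun _ => x, 0, ⟨fun i j hi hj _ => by omega, fun i hi => by omega⟩, rfl, rfl⟩
    · intro y hy y' hadj
      simp only [S, Finset.mem_filter, Finset.mem_univ, true_and] at hy ⊢
      obtain ⟨p, L, hp, h0, hL⟩ := hy
      by_cases hon : OnPath p L y'
      · obtain ⟨t, ht, rfl⟩ := hon
        exact ⟨p, t, hp.mono ht, h0, rfl⟩
      · refine ⟨snoc p L y', L + 1, hp.snoc (by rw [hL]; exact hadj) hon, ?_, snoc_last p L y'⟩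
        rw [snoc_le p L y' (Nat.zero_le _)]
        exact h0
  have hy : y ∈ S := by rw [hS]; exact Finset.mem_univ _
  simpa [S] using hy

/-- extend a path to one whose end has all its neighbours on the path -/
theorem exists_maximal_ext (k : ℕ) : ∀ (q : ℕ → Fin n) (d : ℕ), IsPath T q d → n - d ≤ k →
    ∃ (q' : ℕ → Fin n) (d' : ℕ), d ≤ d' ∧ IsPath T q' d' ∧ (∀ t, t ≤ d → q' t = q t) ∧
      ∀ x, Adj T (q' d') x → OnPath q' d' x := by
  induction k with
  | zero =>
    intro q d hq hk
    have := hq.len_lt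
    omega
  | succ k ih =>
    intro q d hq hk
    by_cases hall : ∀ x, Adj T (q d) x → OnPath q d x
    · exact ⟨q, d, le_rfl, hq, fun _ _ => rfl, hall⟩
    · push Not at hall
      obtain ⟨x, hx, hoff⟩ := hall
      have hlt := hq.len_lt
      obtain ⟨q', d', hd', hq', hagree, hmax⟩ := ih (snoc q d x) (d + 1) (hq.snoc hx hoff) (by omega)
      refine ⟨q', d', by omega, hq', fun t ht => ?_, hmax⟩
      rw [hagree t (by omega), snoc_le q d x ht]

end Groth.Agent.Lib.Helper31.Aff
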