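import Mathlib
import Groth.Agent.Lib.Helper31.AffG
import Groth.Agent.Lib.Helper31.AffE
import Groth.Agent.Lib.Helper31.AffGoal

/-! Affine classification for `n ≥ 10` (helper31): the cycle case. -/

set_option linter.unusedSectionVars false
set_option linter.unusedVariables false

namespace Groth.Agent.Lib.Helper31.Aff

open Finset Models
open Groth.Agent.Lib.Helper39.NT

variable {n : ℕ} (T : NumericalType n)

/-- cyclic successor on `[0, L]` -/
def nx (L t : ℕ) : ℕ := if t = L then 0 else t + 1
/-- cyclic predecessor on `[0, L]` -/
def pv (L t : ℕ) : ℕ := if t = 0 then L else t - 1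

theorem cycle_goal (hv : ∀ i, T.IsMinusTwo i) (hc : HasCycle T) : Goal T := by
  classical
  obtain ⟨q, L, hL, hq, hclose⟩ := hc
  let z : Fin n → ℤ := fun x => if OnPath q L x then 1 else 0
  have hz : ∀ i, 0 ≤ z i := fun i => by
    simp only [z]
    split_ifs <;> norm_num
  have hzq : ∀ t, t ≤ L → z (q t) = 1 := fun t ht => if_pos ⟨t, ht, rfl⟩
  have hnxle : ∀ t, t ≤ L → nx L t ≤ L := fun t ht => by
    unfold nx
    split_ifs <;> omega
  have hpvle : ∀ t, t ≤ L → pv L t ≤ L := fun t ht => by
    unfold pv
    split_ifs <;> omega
  have hnx : ∀ t, t ≤ L → Adj T (q t) (q (nx L t)) := by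
    intro t ht
    unfold nx
    split_ifs with h
    · rw [h]; exact hclose
    · exact hq.adj t (by omega)
  have hpv : ∀ t, t ≤ L → Adj T (q t) (q (pv L t)) := by
    intro t ht
    unfold pv
    split_ifs with h
    · rw [h]; exact hclose.symm
    · have := (hq.adj (t - 1) (by omega)).symm
      rwa [show t - 1 + 1 = t by omega] at this
  have hne : ∀ t, t ≤ L → q (pv L t) ≠ q (nx L t) := by
    intro t ht h
    have := hq.inj _ _ (hpvle t ht) (hnxle t ht) h
    unfold pv nx at this
    split_ifs at this <;> omega
  have hN : ∀ t, t ≤ L → q t ∉ ({q (pv L t), q (nx L t)} : Finset (Fin n)) := by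
    intro t ht
    rw [Finset.mem_insert, Finset.mem_singleton, not_or]
    exact ⟨(hpv t ht).1, (hnx t ht).1⟩
  have key := cp T z hz (q 0) (by rw [hzq 0 (Nat.zero_le _)]; norm_num) ?_
  · obtain ⟨hpos, hrows, hprop⟩ := key
    have hall : ∀ y, OnPath q L y := fun y => by
      have := hpos y
      by_contra h
      simp [z, h] at this
    have hz1 : ∀ y, z y = 1 := fun y => if_pos (hall y)
    have hrow : ∀ t, t ≤ L → T.a (q t) (q (pv L t)) = T.w (q t) ∧
        T.a (q t) (q (nx L t)) = T.w (q t) ∧
        ∀ y, y ≠ q (pv L t) → y ≠ q (nx L t) → y ≠ q t → T.a (q t) y = 0 := by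
      intro t ht
      obtain ⟨e1, e2, -⟩ := row_extract T z hpos (q t) {q (pv L t), q (nx L t)} (hN t ht)
        (fun _ => T.w (q t)) (by
          intro x hx
          rw [Finset.mem_insert, Finset.mem_singleton] at hx
          rcases hx with rfl | rfl
          · exact (hpv t ht).le
          · exact (hnx t ht).le) (hrows (q t)) (by
          rw [Finset.sum_pair (hne t ht), hz1, hz1, hz1, diag T hv]
          linarith)
      refine ⟨e1 _ (by simp), e1 _ (by simp), ?_⟩
      intro y hy1 hy2 hy3
      exact e2 y (by simp [hy1, hy2]) hy3
    -- cardinality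
    have hn : n = L + 1 := by
      have h1 := hq.len_lt
      have h2 : (univ : Finset (Fin n)) ⊆ (Finset.range (L + 1)).image q := by
        intro y _
        obtain ⟨t, ht, rfl⟩ := hall y
        exact Finset.mem_image.2 ⟨t, Finset.mem_range.2 (by omega), rfl⟩
      have h3 := Finset.card_le_card h2
      rw [Finset.card_univ, Fintype.card_fin] at h3
      have h4 : ((Finset.range (L + 1)).image q).card ≤ L + 1 := by
        calc ((Finset.range (L + 1)).image q).card ≤ (Finset.range (L + 1)).card :=
              Finset.card_image_le
          _ = L + 1 := Finset.card_range _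
      omega
    have hm : ∀ y, T.m y = T.m (q 0) := fun y => by
      have := hprop y (q 0)
      rw [hz1, hz1] at this
      linarith
    have hw : ∀ t, t ≤ L → T.w (q t) = T.w (q 0) := by
      intro t
      induction t with
      | zero => intro _; rfl
      | succ t ih =>
        intro ht
        have h1 := (hrow (t + 1) ht).1
        have h2 := (hrow t (by omega)).2.1
        have hp : pv L (t + 1) = t := by unfold pv; simp
        have hx : nx L t = t + 1 := by unfold nx; rw [if_neg (by omega)]
        rw [hp] at h1
        rw [hx] at h2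
        rw [← h1, symm' T, h2]
        exact ih (by omega)
    obtain ⟨σ, hσ⟩ := exists_perm q (fun i j hi hj h => hq.inj i j (by omega) (by omega) h)
    refine ⟨σ, T.m (q 0), T.w (q 0), Or.inl ⟨?_, ?_, ?_, ?_, ?_⟩⟩
    · intro i
      exact hm _
    · intro i
      rw [hσ]
      exact hw _ (by have := i.2; omega)
    · intro i j hij h
      rw [hσ, hσ]
      have hj := j.2
      have h2 := (hrow i.val (by omega)).2.1
      have hx : nx L i.val = i.val + 1 := by unfold nx; rw [if_neg (by omega)]
      rw [hx, ← h] at h2
      rw [h2]
      exact hw _ (by omega)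
    · intro i j hij h
      rw [hσ, hσ]
      have h1 := (hrow 0 (Nat.zero_le _)).1
      have hp : pv L 0 = L := by unfold pv; simp
      rw [hp] at h1
      rw [h.1, show j.val = L by omega, h1]
    · intro i j hij h1 h2
      rw [hσ, hσ]
      have hj := j.2
      have hi := i.2
      apply (hrow i.val (by omega)).2.2
      · intro h
        have := hq.inj _ _ (by omega) (hpvle _ (by omega)) h
        unfold pv at this
        split_ifs at this <;> omega
      · intro h
        have := hq.inj _ _ (by omega) (hnxle _ (by omega)) h
        unfold nx at this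
        split_ifs at this <;> omega
      · intro h
        have := hq.inj _ _ (by omega) (by omega) h
        omega
  · intro j hj
    have hon : OnPath q L j := by
      by_contra h
      simp [z, h] at hj
    obtain ⟨t, ht, rfl⟩ := hon
    refine le_trans ?_ (row_lower T z hz (q t) {q (pv L t), q (nx L t)} (hN t ht))
    rw [Finset.sum_pair (hne t ht), hzq t ht, hzq _ (hpvle t ht), hzq _ (hnxle t ht), diag T hv]
    have := (hpv t ht).le
    have := (hnx t ht).le
    linarith

end Groth.Agent.Lib.Helper31.Aff
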