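import Mathlib
import Groth.Agent.Lib.Helper31.AffG
import Groth.Agent.Lib.Helper31.AffF2

/-! Affine classification for `n ≥ 10` (helper31): two special vertices give a configuration. -/

set_option linter.unusedSectionVars false
set_option linter.unusedVariables false

namespace Groth.Agent.Lib.Helper31.Aff

open Finset Models
open Groth.Agent.Lib.Helper39.NT

variable {n : ℕ} (T : NumericalType n)

/-- special vertices: branch vertices and sources of double bonds -/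
def Special (x : Fin n) : Prop :=
  (∃ y₁ y₂ y₃, y₁ ≠ y₂ ∧ y₁ ≠ y₃ ∧ y₂ ≠ y₃ ∧ Adj T x y₁ ∧ Adj T x y₂ ∧ Adj T x y₃) ∨
    ∃ y, Adj T x y ∧ 2 * T.w x ≤ T.a x y

/-- admissible shapes of a cap at `x` -/
def Shape (x : Fin n) (C : Finset (Fin n)) : Prop :=
  C = ∅ ∨ (∃ e, C = {e} ∧ 2 * T.w x ≤ T.a x e) ∨ ∃ f f', f ≠ f' ∧ C = {f, f'}

theorem Shape.card_le {T : NumericalType n} {x : Fin n} {C : Finset (Fin n)} (h : Shape T x C) :
    C.card ≤ 2 := by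
  classical
  rcases h with h | ⟨e, h, -⟩ | ⟨f, f', hff, h⟩
  · rw [h]; simp
  · rw [h]; simp
  · rw [h, Finset.card_pair hff]

theorem cap_exists (hac : ¬ HasCycle T) {p : ℕ → Fin n} {L : ℕ} (hp : IsPath T p L) (hL : 1 ≤ L)
    (hs : Special T (p 0)) :
    ∃ C₀ : Finset (Fin n), (∀ x ∈ C₀, Adj T (p 0) x ∧ ¬ OnPath p L x) ∧
      4 * T.w (p 0) ≤ 2 * T.a (p 0) (p 1) + ∑ x ∈ C₀, T.a (p 0) x ∧ Shape T (p 0) C₀ := by
  classical
  have h01 : Adj T (p 0) (p 1) := hp.adj 0 (by omega)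
  by_cases hd : ∃ y, Adj T (p 0) y ∧ 2 * T.w (p 0) ≤ T.a (p 0) y
  · obtain ⟨y, hy, hyd⟩ := hd
    by_cases hy1 : y = p 1
    · subst hy1
      refine ⟨∅, by simp, ?_, Or.inl rfl⟩
      rw [Finset.sum_empty]
      linarith
    · refine ⟨{y}, ?_, ?_, Or.inr (Or.inl ⟨y, rfl, hyd⟩)⟩
      · intro x hx
        rw [Finset.mem_singleton] at hx
        subst hx
        exact ⟨hy, chord hac hp hy hy1⟩
      · rw [Finset.sum_singleton]
        have := h01.le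
        linarith
  · rcases hs with ⟨y₁, y₂, y₃, h12, h13, h23, a1, a2, a3⟩ | hs
    · have : ∃ f f', f ≠ f' ∧ Adj T (p 0) f ∧ Adj T (p 0) f' ∧ f ≠ p 1 ∧ f' ≠ p 1 := by
        by_cases e1 : y₁ = p 1
        · exact ⟨y₂, y₃, h23, a2, a3, fun h => h12 (e1.trans h.symm),
            fun h => h13 (e1.trans h.symm)⟩
        · by_cases e2 : y₂ = p 1
          · exact ⟨y₁, y₃, h13, a1, a3, e1, fun h => h23 (e2.trans h.symm)⟩
          · exact ⟨y₁, y₂, h12, a1, a2, e1, e2⟩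
      obtain ⟨f, f', hff, af, af', hf1, hf'1⟩ := this
      refine ⟨{f, f'}, ?_, ?_, Or.inr (Or.inr ⟨f, f', hff, rfl⟩)⟩
      · intro x hx
        rw [Finset.mem_insert, Finset.mem_singleton] at hx
        rcases hx with rfl | rfl
        · exact ⟨af, chord hac hp af hf1⟩
        · exact ⟨af', chord hac hp af' hf'1⟩
      · rw [Finset.sum_pair hff]
        have := h01.le
        have := af.le
        have := af'.le
        linarith
    · exact (hd hs).elim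

variable (hv : ∀ i, T.IsMinusTwo i)

include hv in
theorem mk_config (hn : 10 ≤ n) {p : ℕ → Fin n} {L : ℕ} (hp : IsPath T p L) (hL : 1 ≤ L)
    (C₀ C₁ : Finset (Fin n))
    (hC₀ : ∀ x ∈ C₀, Adj T (p 0) x ∧ ¬ OnPath p L x)
    (hC₁ : ∀ x ∈ C₁, Adj T (p L) x ∧ ¬ OnPath p L x)
    (cap₀ : 4 * T.w (p 0) ≤ 2 * T.a (p 0) (p 1) + ∑ x ∈ C₀, T.a (p 0) x)
    (cap₁ : 4 * T.w (p L) ≤ 2 * T.a (p L) (p (L - 1)) + ∑ x ∈ C₁, T.a (p L) x)
    (hc₀ : C₀.card ≤ 2) (hc₁ : C₁.card ≤ 2) : Config T p L C₀ C₁ := by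
  classical
  obtain ⟨hall, hrows, hprop⟩ := config_cert T hv p L hL hp C₀ C₁ hC₀ hC₁ cap₀ cap₁
  refine ⟨?_, hp, hC₀, hC₁, cap₀, cap₁, hall, hrows, hprop⟩
  by_contra hlt
  have hL1 : L = 1 := by omega
  have hsub : (univ : Finset (Fin n)) ⊆ (Finset.range (L + 1)).image p ∪ (C₀ ∪ C₁) := by
    intro y _
    rcases hall y with ⟨t, ht, rfl⟩ | h
    · exact Finset.mem_union_left _ (Finset.mem_image.2 ⟨t, Finset.mem_range.2 (by omega), rfl⟩)
    · exact Finset.mem_union_right _ h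
  have h1 := Finset.card_le_card hsub
  rw [Finset.card_univ, Fintype.card_fin] at h1
  have h2 := Finset.card_union_le ((Finset.range (L + 1)).image p) (C₀ ∪ C₁)
  have h3 := Finset.card_union_le C₀ C₁
  have h4 : ((Finset.range (L + 1)).image p).card ≤ L + 1 := by
    calc ((Finset.range (L + 1)).image p).card ≤ (Finset.range (L + 1)).card :=
          Finset.card_image_le
      _ = L + 1 := Finset.card_range _
  omega

include hv in
theorem mk_config_rev (hn : 10 ≤ n) {p : ℕ → Fin n} {L : ℕ} (hp : IsPath T p L) (hL : 1 ≤ L)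
    (C₀ C₁ : Finset (Fin n))
    (hC₀ : ∀ x ∈ C₀, Adj T (p 0) x ∧ ¬ OnPath p L x)
    (hC₁ : ∀ x ∈ C₁, Adj T (p L) x ∧ ¬ OnPath p L x)
    (cap₀ : 4 * T.w (p 0) ≤ 2 * T.a (p 0) (p 1) + ∑ x ∈ C₀, T.a (p 0) x)
    (cap₁ : 4 * T.w (p L) ≤ 2 * T.a (p L) (p (L - 1)) + ∑ x ∈ C₁, T.a (p L) x)
    (hc₀ : C₀.card ≤ 2) (hc₁ : C₁.card ≤ 2) : Config T (fun t => p (L - t)) L C₁ C₀ := by
  apply mk_config T hv hn hp.rev hL C₁ C₀
  · intro x hx
    refine ⟨by simpa using (hC₁ x hx).1, fun h => (hC₁ x hx).2 (onPath_rev.1 h)⟩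
  · intro x hx
    refine ⟨by simpa using (hC₀ x hx).1, fun h => (hC₀ x hx).2 (onPath_rev.1 h)⟩
  · simpa using cap₁
  · simp only [Nat.sub_self]
    rw [show L - (L - 1) = 1 by omega]
    exact cap₀
  · exact hc₁
  · exact hc₀

include hv in
theorem goal_of_caps (hn : 10 ≤ n) {p : ℕ → Fin n} {L : ℕ} (hp : IsPath T p L) (hL : 1 ≤ L)
    (C₀ C₁ : Finset (Fin n))
    (hC₀ : ∀ x ∈ C₀, Adj T (p 0) x ∧ ¬ OnPath p L x)
    (hC₁ : ∀ x ∈ C₁, Adj T (p L) x ∧ ¬ OnPath p L x)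
    (cap₀ : 4 * T.w (p 0) ≤ 2 * T.a (p 0) (p 1) + ∑ x ∈ C₀, T.a (p 0) x)
    (cap₁ : 4 * T.w (p L) ≤ 2 * T.a (p L) (p (L - 1)) + ∑ x ∈ C₁, T.a (p L) x)
    (sh₀ : Shape T (p 0) C₀) (sh₁ : Shape T (p L) C₁) : Goal T := by
  have c := mk_config T hv hn hp hL C₀ C₁ hC₀ hC₁ cap₀ cap₁ sh₀.card_le sh₁.card_le
  have c' := mk_config_rev T hv hn hp hL C₀ C₁ hC₀ hC₁ cap₀ cap₁ sh₀.card_le sh₁.card_le
  rcases sh₀ with h₀ | ⟨e, h₀, hd⟩ | ⟨f, f', hff, h₀⟩ <;>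
    rcases sh₁ with h₁ | ⟨e', h₁, hd'⟩ | ⟨g, g', hgg, h₁⟩
  · exact fam_D21_D21 c hv h₀ h₁
  · exact fam_D21_D12 c hv e' h₀ h₁ hd'
  · exact fam_D21_F c hv g g' hgg h₀ h₁
  · exact fam_D21_D12 c' hv e h₁ h₀ (by simpa using hd)
  · exact fam_D12_D12 c hv e e' h₀ hd h₁ hd'
  · exact fam_D12_F c hv e g g' hgg h₀ hd h₁
  · exact fam_D21_F c' hv f f' hff h₁ h₀
  · exact fam_D12_F c' hv e' f f' hff h₁ (by simpa using hd') h₀
  · exact fam_FF c hv f f' g g' hff hgg h₀ h₁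

include hv in
theorem goal_of_two_specials (hn : 10 ≤ n) (hac : ¬ HasCycle T) {s s' : Fin n} (hne : s ≠ s')
    (hs : Special T s) (hs' : Special T s') : Goal T := by
  obtain ⟨p, L, hp, h0, hL⟩ := exists_path T s s'
  have hL1 : 1 ≤ L := by
    by_contra h
    have h' : L = 0 := by omega
    subst h'
    exact hne (h0.symm.trans hL)
  subst h0
  subst hL
  obtain ⟨C₀, hC₀, cap₀, sh₀⟩ := cap_exists T hac hp hL1 hs
  obtain ⟨C₁, hC₁, cap₁, sh₁⟩ := cap_exists T hac hp.rev hL1 (by simpa using hs')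
  exact goal_of_caps T hv hn hp hL1 C₀ C₁ hC₀
    (fun x hx => ⟨by simpa using (hC₁ x hx).1, fun h => (hC₁ x hx).2 (onPath_rev.2 h)⟩)
    cap₀ (by simpa using cap₁) sh₀ (by simpa using sh₁)

end Groth.Agent.Lib.Helper31.Aff
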