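import Mathlib
import Groth.Agent.Lib.Helper31.AffI

/-! Affine classification for `n ≥ 10` (helper31): at most one special vertex is impossible. -/

set_option linter.unusedSectionVars false
set_option linter.unusedVariables false

namespace Groth.Agent.Lib.Helper31.Aff

open Finset Models
open Groth.Agent.Lib.Helper39.NT

/-! ### arithmetic -/

theorem arith2 (d d' m m' M : ℤ) (hd : 1 ≤ d) (hd' : 1 ≤ d') (hM : 0 < M)
    (h1 : (d + 1) * m = d * M) (h2 : (d' + 1) * m' = d' * M) (h : m + 2 * m' = 2 * M)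
    (hn : 9 ≤ d + d') : False := by
  have key : (d * d' - d - 2) * M = 0 := by
    linear_combination (-(d' + 1)) * h1 + (-2 * (d + 1)) * h2 + (d + 1) * (d' + 1) * h
  have key2 : d * d' - d - 2 = 0 := by
    rcases mul_eq_zero.1 key with h0 | h0
    · exact h0
    · omega
  have hd'2 : 2 ≤ d' := by
    by_contra hlt
    have : d' = 1 := by omega
    subst this
    linarith
  have hd2 : d ≤ 2 := by nlinarith
  have hd'3 : d' ≤ 3 := by nlinarith
  omega

theorem arith3_aux (A B C : ℤ) (hA : A = 2 ∨ A = 3) (hB : 2 ≤ B) (hC : 2 ≤ C)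
    (h : A * B * C = A * B + B * C + C * A) (hs : 12 ≤ A + B + C) : False := by
  rcases hA with rfl | rfl
  · have h4 : (B - 2) * (C - 2) = 4 := by linear_combination h
    have hB3 : 3 ≤ B := by
      by_contra hlt
      have : B = 2 := by omega
      subst this
      linarith
    have hC3 : 3 ≤ C := by
      by_contra hlt
      have : C = 2 := by omega
      subst this
      linarith
    have hB6 : B ≤ 6 := by nlinarith
    interval_cases B <;> omega
  · have h9 : (2 * B - 3) * (2 * C - 3) = 9 := by linear_combination 2 * h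
    have hB6 : B ≤ 6 := by nlinarith
    interval_cases B <;> omega

theorem arith3' (A B C : ℤ) (hA : 2 ≤ A) (hB : 2 ≤ B) (hC : 2 ≤ C)
    (h : A * B * C = A * B + B * C + C * A) (hs : 12 ≤ A + B + C) : False := by
  by_cases hA3 : A ≤ 3
  · exact arith3_aux A B C (by omega) hB hC h hs
  by_cases hB3 : B ≤ 3
  · exact arith3_aux B C A (by omega) hC hA (by linear_combination h) (by omega)
  by_cases hC3 : C ≤ 3
  · exact arith3_aux C A B (by omega) hA hB (by linear_combination h) (by omega)
  push Not at hA3 hB3 hC3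
  have h1 : 0 < B * C := by positivity
  have h2 : 0 < A * C := by positivity
  have h3 : 0 < A * B := by positivity
  nlinarith [mul_le_mul_of_nonneg_right (show (4:ℤ) ≤ A by omega) h1.le,
    mul_le_mul_of_nonneg_right (show (4:ℤ) ≤ B by omega) h2.le,
    mul_le_mul_of_nonneg_right (show (4:ℤ) ≤ C by omega) h3.le]

theorem arith3 (d1 d2 d3 m1 m2 m3 M : ℤ) (h1 : 1 ≤ d1) (h2 : 1 ≤ d2) (h3 : 1 ≤ d3) (hM : 0 < M)
    (e1 : (d1 + 1) * m1 = d1 * M) (e2 : (d2 + 1) * m2 = d2 * M) (e3 : (d3 + 1) * m3 = d3 * M)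
    (h : m1 + m2 + m3 = 2 * M) (hn : 9 ≤ d1 + d2 + d3) : False := by
  have key : ((d1 + 1) * (d2 + 1) * (d3 + 1) - (d1 + 1) * (d2 + 1) - (d2 + 1) * (d3 + 1) -
      (d3 + 1) * (d1 + 1)) * M = 0 := by
    linear_combination (d1 + 1) * (d2 + 1) * (d3 + 1) * h - (d2 + 1) * (d3 + 1) * e1 -
      (d1 + 1) * (d3 + 1) * e2 - (d1 + 1) * (d2 + 1) * e3
  have key2 : (d1 + 1) * (d2 + 1) * (d3 + 1) - (d1 + 1) * (d2 + 1) - (d2 + 1) * (d3 + 1) -
      (d3 + 1) * (d1 + 1) = 0 := by
    rcases mul_eq_zero.1 key with h0 | h0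
    · exact h0
    · omega
  exact arith3' (d1 + 1) (d2 + 1) (d3 + 1) (by omega) (by omega) (by omega) (by linarith) (by omega)

variable {n : ℕ} (T : NumericalType n)

/-- the harmonic equation restricted to the neighbours -/
theorem row_nbrs (x : Fin n) (N : Finset (Fin n)) (hxN : x ∉ N) (hall : ∀ z, Adj T x z → z ∈ N) :
    T.a x x * T.m x + ∑ y ∈ N, T.a x y * T.m y = 0 := by
  classical
  have h := row_m T x
  rw [← Finset.sum_subset (Finset.subset_univ (insert x N)) ?_, Finset.sum_insert hxN] at h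
  · exact h
  · intro z _ hz
    rw [Finset.mem_insert, not_or] at hz
    have : T.a x z = 0 := by
      by_contra h0
      exact hz.2 (hall z ⟨Ne.symm hz.1, h0⟩)
    rw [this, zero_mul]

theorem ns_third {x y y' z : Fin n} (hx : ¬ Special T x) (hy : Adj T x y) (hy' : Adj T x y')
    (hne : y ≠ y') (hz : Adj T x z) : z = y ∨ z = y' := by
  by_contra h
  push Not at h
  exact hx (Or.inl ⟨y, y', z, hne, h.1.symm, h.2.symm, hy, hy', hz⟩)

variable (hv : ∀ i, T.IsMinusTwo i)

include hv in
theorem ns_bond (hn : 5 < n) {x y : Fin n} (hx : ¬ Special T x) (h : Adj T x y) :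
    T.a x y = T.w x := by
  rcases bond2 T hv hn h with h1 | h1
  · exact h1
  · exact (hx (Or.inr ⟨y, h, by linarith⟩)).elim

include hv in
theorem ns_two (hn : 5 < n) {x y y' : Fin n} (hx : ¬ Special T x) (hy : Adj T x y)
    (hy' : Adj T x y') (hne : y ≠ y') : T.m y + T.m y' = 2 * T.m x := by
  classical
  have h := row_nbrs T x {y, y'} (by simp [hy.1, hy'.1]) (fun z hz => by
    rcases ns_third T hx hy hy' hne hz with rfl | rfl <;> simp)
  rw [Finset.sum_pair hne, diag T hv, ns_bond T hv hn hx hy, ns_bond T hv hn hx hy'] at h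
  have hw := T.w_pos x
  have h2 : T.w x * (T.m y + T.m y' - 2 * T.m x) = 0 := by linear_combination h
  rcases mul_eq_zero.1 h2 with h0 | h0
  · omega
  · linarith

include hv in
theorem ns_one (hn : 5 < n) {x y : Fin n} (hx : ¬ Special T x) (hy : Adj T x y)
    (hleaf : ∀ z, Adj T x z → z = y) : T.m y = 2 * T.m x := by
  classical
  have h := row_nbrs T x {y} (by simp [hy.1]) (fun z hz => by rw [hleaf z hz]; simp)
  rw [Finset.sum_singleton, diag T hv, ns_bond T hv hn hx hy] at h
  have hw := T.w_pos x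
  have h2 : T.w x * (T.m y - 2 * T.m x) = 0 := by linear_combination h
  rcases mul_eq_zero.1 h2 with h0 | h0
  · omega
  · linarith

include hv in
/-- linear growth of the multiplicities from a leaf along non-special vertices -/
theorem growth (hn : 5 < n) {q : ℕ → Fin n} {d : ℕ} (hq : IsPath T q d) (hd : 1 ≤ d)
    (hns : ∀ t, 1 ≤ t → t ≤ d → ¬ Special T (q t))
    (hleaf : ∀ z, Adj T (q d) z → z = q (d - 1)) :
    ∀ k : ℕ, k + 1 ≤ d → T.m (q (d - k)) = ((k : ℤ) + 1) * T.m (q d) ∧
      T.m (q (d - k - 1)) = ((k : ℤ) + 2) * T.m (q d) := by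
  intro k
  induction k with
  | zero =>
    intro _
    have hadj : Adj T (q d) (q (d - 1)) := by
      have := (hq.adj (d - 1) (by omega)).symm
      rwa [show d - 1 + 1 = d by omega] at this
    have h := ns_one T hv hn (hns d hd le_rfl) hadj hleaf
    refine ⟨by simp, ?_⟩
    simp only [Nat.sub_zero, Nat.cast_zero, zero_add]
    exact h
  | succ k ih =>
    intro hk
    obtain ⟨h1, h2⟩ := ih (by omega)
    have ht1 : 1 ≤ d - k - 1 := by omega
    have hadj1 : Adj T (q (d - k - 1)) (q (d - k)) := by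
      have := hq.adj (d - k - 1) (by omega)
      rwa [show d - k - 1 + 1 = d - k by omega] at this
    have hadj2 : Adj T (q (d - k - 1)) (q (d - k - 2)) := by
      have := (hq.adj (d - k - 2) (by omega)).symm
      rwa [show d - k - 2 + 1 = d - k - 1 by omega] at this
    have hne : q (d - k) ≠ q (d - k - 2) := fun h => by
      have := hq.inj _ _ (by omega) (by omega) h
      omega
    have h3 := ns_two T hv hn (hns _ ht1 (by omega)) hadj1 hadj2 hne
    refine ⟨?_, ?_⟩
    · rw [show d - (k + 1) = d - k - 1 by omega, h2]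
      push_cast
      ring
    · rw [show d - (k + 1) - 1 = d - k - 2 by omega]
      push_cast
      linarith

include hv in
theorem growth_ratio (hn : 5 < n) {q : ℕ → Fin n} {d : ℕ} (hq : IsPath T q d) (hd : 1 ≤ d)
    (hns : ∀ t, 1 ≤ t → t ≤ d → ¬ Special T (q t))
    (hleaf : ∀ z, Adj T (q d) z → z = q (d - 1)) :
    ((d : ℤ) + 1) * T.m (q 1) = d * T.m (q 0) := by
  obtain ⟨h1, h2⟩ := growth T hv hn hq hd hns hleaf (d - 1) (by omega)
  rw [show d - (d - 1) = 1 by omega] at h1
  rw [show d - (d - 1) - 1 = 0 by omega] at h2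
  rw [h1, h2]
  push_cast [Nat.cast_sub hd]
  ring

/-- a ray from `s` through a neighbour `y`, ending in a leaf -/
theorem exists_ray (hac : ¬ HasCycle T) (s : Fin n) {y : Fin n} (hy : Adj T s y) :
    ∃ (q : ℕ → Fin n) (d : ℕ), 1 ≤ d ∧ IsPath T q d ∧ q 0 = s ∧ q 1 = y ∧
      ∀ z, Adj T (q d) z → z = q (d - 1) := by
  let q0 : ℕ → Fin n := fun k => if k = 0 then s else y
  have hq0 : IsPath T q0 1 := by
    refine ⟨fun i j hi hj h => ?_, fun i hi => ?_⟩
    · by_cases h0 : i = 0 <;> by_cases h1 : j = 0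
      · omega
      · simp only [q0, h0, h1, if_true, if_false] at h
        exact (hy.1 h).elim
      · simp only [q0, h0, h1, if_true, if_false] at h
        exact (hy.1 h.symm).elim
      · omega
    · have : i = 0 := by omega
      subst this
      simpa [q0] using hy
  obtain ⟨q, d, hd, hq, hagree, hmax⟩ := exists_maximal_ext T n q0 1 hq0 (by omega)
  refine ⟨q, d, hd, hq, ?_, ?_, ?_⟩
  · rw [hagree 0 (by omega)]; simp [q0]
  · rw [hagree 1 le_rfl]; simp [q0]
  · intro z hz
    by_contra hne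
    exact chord_end hac hq hz hne (hmax z hz)

end Groth.Agent.Lib.Helper31.Aff
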