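import Mathlib
import Groth.Agent.Lib.Helper31.AffJ
import Groth.Agent.Lib.Helper31.AffH

/-! Affine classification for `n ≥ 10` (helper31): at most one special vertex is impossible; assembly. -/

set_option linter.unusedSectionVars false
set_option linter.unusedVariables false

namespace Groth.Agent.Lib.Helper31.Aff

open Finset Models
open Groth.Agent.Lib.Helper39.NT

variable {n : ℕ} (T : NumericalType n) (hv : ∀ i, T.IsMinusTwo i)

include hv in
theorem one_special_false (hn : 10 ≤ n) (hac : ¬ HasCycle T) (s : Fin n)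
    (hs : ∀ x, x ≠ s → ¬ Special T x) : False := by
  classical
  have : Nonempty (Fin n) := ⟨s⟩
  have hn5 : 5 < n := by omega
  have hray := fun y (hy : Adj T s y) => exists_ray T hac s hy
  choose! q d hd hq hq0 hq1 hleaf using hray
  obtain ⟨N, hN⟩ : ∃ N : Finset (Fin n), ∀ y, y ∈ N ↔ Adj T s y :=
    ⟨univ.filter fun y => Adj T s y, by simp⟩
  have hns : ∀ y, Adj T s y → ∀ t, 1 ≤ t → t ≤ d y → ¬ Special T (q y t) := by
    intro y hy t ht1 ht2
    apply hs
    intro h
    have := (hq y hy).inj t 0 ht2 (Nat.zero_le _) (by rw [h, hq0 y hy])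
    omega
  have hgr : ∀ y, Adj T s y → ((d y : ℤ) + 1) * T.m y = d y * T.m s := by
    intro y hy
    have := growth_ratio T hv hn5 (hq y hy) (hd y hy) (hns y hy) (hleaf y hy)
    rwa [hq0 y hy, hq1 y hy] at this
  have hcard : (n : ℤ) ≤ 1 + ∑ y ∈ N, (d y : ℤ) := by
    let S : Finset (Fin n) := insert s (N.biUnion fun y => (Finset.Icc 1 (d y)).image (q y))
    have hmemS : ∀ y, Adj T s y → ∀ t, t ≤ d y → q y t ∈ S := by
      intro y hy t ht
      by_cases h0 : t = 0
      · rw [h0, hq0 y hy]; exact Finset.mem_insert_self _ _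
      · apply Finset.mem_insert_of_mem
        rw [Finset.mem_biUnion]
        exact ⟨y, (hN y).2 hy, Finset.mem_image.2 ⟨t, Finset.mem_Icc.2 ⟨by omega, ht⟩, rfl⟩⟩
    have hSuniv : S = univ := by
      apply closed_univ T S ⟨s, Finset.mem_insert_self _ _⟩
      intro x hx z hz
      rw [Finset.mem_insert] at hx
      rcases hx with rfl | hx
      · have := hmemS z hz 1 (hd z hz)
        rwa [hq1 z hz] at this
      · rw [Finset.mem_biUnion] at hx
        obtain ⟨y, hyN, hx⟩ := hx
        have hy := (hN y).1 hyN
        obtain ⟨t, ht, rfl⟩ := Finset.mem_image.1 hx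
        rw [Finset.mem_Icc] at ht
        by_cases htd : t = d y
        · rw [htd] at hz
          rw [hleaf y hy z hz]
          exact hmemS y hy _ (by omega)
        · have hadj1 : Adj T (q y t) (q y (t + 1)) := (hq y hy).adj t (by omega)
          have hadj2 : Adj T (q y t) (q y (t - 1)) := by
            have := ((hq y hy).adj (t - 1) (by omega)).symm
            rwa [show t - 1 + 1 = t by omega] at this
          have hne : q y (t + 1) ≠ q y (t - 1) := fun h => by
            have := (hq y hy).inj _ _ (by omega) (by omega) h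
            omega
          rcases ns_third T (hns y hy t ht.1 ht.2) hadj1 hadj2 hne hz with rfl | rfl
          · exact hmemS y hy _ (by omega)
          · exact hmemS y hy _ (by omega)
    have h1 : S.card = n := by rw [hSuniv, Finset.card_univ, Fintype.card_fin]
    have h2 : S.card ≤ 1 + ∑ y ∈ N, d y := by
      calc S.card ≤ (N.biUnion fun y => (Finset.Icc 1 (d y)).image (q y)).card + 1 :=
            Finset.card_insert_le _ _
        _ ≤ (∑ y ∈ N, ((Finset.Icc 1 (d y)).image (q y)).card) + 1 :=
            Nat.add_le_add_right Finset.card_biUnion_le 1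
        _ ≤ (∑ y ∈ N, d y) + 1 := by
            apply Nat.add_le_add_right
            apply Finset.sum_le_sum
            intro y hy
            calc ((Finset.Icc 1 (d y)).image (q y)).card ≤ (Finset.Icc 1 (d y)).card :=
                  Finset.card_image_le
              _ = d y := by simp
        _ = 1 + ∑ y ∈ N, d y := by ring
    rw [h1] at h2
    have h3 : (n : ℤ) ≤ ((1 + ∑ y ∈ N, d y : ℕ) : ℤ) := by exact_mod_cast h2
    push_cast at h3
    exact h3
  have hsN : s ∉ N := fun h => ((hN s).1 h).1 rfl
  have heq := row_nbrs T s N hsN (fun z hz => (hN z).2 hz)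
  rw [diag T hv] at heq
  have hM := T.m_pos s
  have hw := T.w_pos s
  have hmlt : ∀ y, Adj T s y → T.m y < T.m s := by
    intro y hy
    have h1 := hgr y hy
    have h2 : (0 : ℤ) ≤ d y := Nat.cast_nonneg _
    by_contra hcon
    push Not at hcon
    nlinarith
  have hbond : ∀ y, Adj T s y → T.a s y = T.w s ∨ T.a s y = 2 * T.w s :=
    fun y hy => bond2 T hv hn5 hy
  have hd1 : ∀ y, Adj T s y → (1 : ℤ) ≤ d y := fun y hy => by exact_mod_cast hd y hy
  have hstar : ∀ N' : Finset (Fin n), N' ⊆ N → N'.card ≤ 4 →
      ∑ y ∈ N', T.a s y < 4 * T.w s := by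
    intro N' hN' hc
    by_contra hcon
    push Not at hcon
    exact star_cert T hv s N' (fun y hy => (hN y).1 (hN' hy)) (by omega) hcon
  have hc4 : N.card ≤ 3 := by
    by_contra h
    push Not at h
    obtain ⟨N', hN', hc⟩ := Finset.exists_subset_card_eq (show 4 ≤ N.card by omega)
    have h1 := hstar N' hN' (by omega)
    have h2 : ∑ y ∈ N', T.w s ≤ ∑ y ∈ N', T.a s y :=
      Finset.sum_le_sum fun y hy => ((hN y).1 (hN' hy)).le
    rw [Finset.sum_const, hc] at h2
    simp at h2
    linarith
  have hcases : N.card = 0 ∨ N.card = 1 ∨ N.card = 2 ∨ N.card = 3 := by omega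
  rcases hcases with h0 | h1 | h2 | h3
  · rw [Finset.card_eq_zero] at h0
    subst h0
    simp at heq
    have := mul_pos hw hM
    rcases heq with h | h <;> omega
  · obtain ⟨y, rfl⟩ := Finset.card_eq_one.1 h1
    have hy : Adj T s y := (hN y).1 (by simp)
    rw [Finset.sum_singleton] at heq
    have hlt := hmlt y hy
    have hp1 := mul_pos hw (sub_pos.2 hlt)
    have hp2 := mul_pos hw hM
    rcases hbond y hy with hb | hb <;> rw [hb] at heq <;> nlinarith
  · obtain ⟨y, y', hne, rfl⟩ := Finset.card_eq_two.1 h2
    have hy : Adj T s y := (hN y).1 (by simp)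
    have hy' : Adj T s y' := (hN y').1 (by simp)
    rw [Finset.sum_pair hne] at heq hcard
    have hlt := hmlt y hy
    have hlt' := hmlt y' hy'
    have hp1 := mul_pos hw (sub_pos.2 hlt)
    have hp1' := mul_pos hw (sub_pos.2 hlt')
    have hst := hstar {y, y'} (Finset.Subset.refl _) (by rw [Finset.card_pair hne]; omega)
    rw [Finset.sum_pair hne] at hst
    have hnz : (n : ℤ) ≥ 10 := by exact_mod_cast hn
    rcases hbond y hy with hb | hb <;> rcases hbond y' hy' with hb' | hb' <;>
      rw [hb, hb'] at heq <;> rw [hb, hb'] at hst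
    · nlinarith
    · have e : T.m y + 2 * T.m y' = 2 * T.m s := by
        have h2 : T.w s * (T.m y + 2 * T.m y' - 2 * T.m s) = 0 := by linear_combination heq
        rcases mul_eq_zero.1 h2 with h0 | h0
        · omega
        · linarith
      exact arith2 (d y) (d y') (T.m y) (T.m y') (T.m s) (hd1 y hy) (hd1 y' hy') hM (hgr y hy)
        (hgr y' hy') e (by linarith)
    · have e : T.m y' + 2 * T.m y = 2 * T.m s := by
        have h2 : T.w s * (T.m y' + 2 * T.m y - 2 * T.m s) = 0 := by linear_combination heq
        rcases mul_eq_zero.1 h2 with h0 | h0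
        · omega
        · linarith
      exact arith2 (d y') (d y) (T.m y') (T.m y) (T.m s) (hd1 y' hy') (hd1 y hy) hM (hgr y' hy')
        (hgr y hy) e (by linarith)
    · linarith
  · obtain ⟨y1, y2, y3, h12, h13, h23, rfl⟩ := Finset.card_eq_three.1 h3
    have hy1 : Adj T s y1 := (hN y1).1 (by simp)
    have hy2 : Adj T s y2 := (hN y2).1 (by simp)
    have hy3 : Adj T s y3 := (hN y3).1 (by simp)
    have hsum : ∀ f : Fin n → ℤ, ∑ y ∈ ({y1, y2, y3} : Finset (Fin n)), f y = f y1 + f y2 + f y3 := by
      intro f
      rw [Finset.sum_insert (by simp [h12, h13]), Finset.sum_pair h23]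
      ring
    rw [hsum] at heq hcard
    have hst := hstar {y1, y2, y3} (Finset.Subset.refl _) (by rw [h3]; omega)
    rw [hsum] at hst
    have hnz : (n : ℤ) ≥ 10 := by exact_mod_cast hn
    have l1 := hy1.le
    have l2 := hy2.le
    have l3 := hy3.le
    have b1 : T.a s y1 = T.w s := by
      rcases hbond y1 hy1 with hb | hb
      · exact hb
      · linarith
    have b2 : T.a s y2 = T.w s := by
      rcases hbond y2 hy2 with hb | hb
      · exact hb
      · linarith
    have b3 : T.a s y3 = T.w s := by
      rcases hbond y3 hy3 with hb | hb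
      · exact hb
      · linarith
    rw [b1, b2, b3] at heq
    have e : T.m y1 + T.m y2 + T.m y3 = 2 * T.m s := by
      have h2 : T.w s * (T.m y1 + T.m y2 + T.m y3 - 2 * T.m s) = 0 := by linear_combination heq
      rcases mul_eq_zero.1 h2 with h0 | h0
      · omega
      · linarith
    exact arith3 (d y1) (d y2) (d y3) (T.m y1) (T.m y2) (T.m y3) (T.m s) (hd1 y1 hy1) (hd1 y2 hy2)
      (hd1 y3 hy3) hM (hgr y1 hy1) (hgr y2 hy2) (hgr y3 hy3) e (by linarith)

include hv in
/-- the classification for `n ≥ 10` -/
theorem main (hn : 10 ≤ n) : Goal T := by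
  by_cases hc : HasCycle T
  · exact cycle_goal T hv hc
  · by_cases h2 : ∃ s s', s ≠ s' ∧ Special T s ∧ Special T s'
    · obtain ⟨s, s', hne, hs, hs'⟩ := h2
      exact goal_of_two_specials T hv hn hc hne hs hs'
    · exfalso
      by_cases h1 : ∃ s, Special T s
      · obtain ⟨s, hs⟩ := h1
        exact one_special_false T hv hn hc s (fun x hx hsx => h2 ⟨s, x, hx.symm, hs, hsx⟩)
      · exact one_special_false T hv hn hc ⟨0, by omega⟩ (fun x _ hsx => h1 ⟨x, hsx⟩)

end Groth.Agent.Lib.Helper31.Aff
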