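import Mathlib
import Groth.Prelude.Def_DCoh2
import Groth.Prelude.Def_FlatMod2

set_option autoImplicit false
universe u
open CategoryTheory CategoryTheory.Limits AlgebraicGeometry
attribute [local instance] HasDerivedCategory.standard

namespace Groth.Agent.Lib.Helper31.AffKTB12

/-- The unit isomorphism for the pushforward along an isomorphism of schemes. -/
noncomputable def unitIso {X Y : Scheme.{u}} (e : X ≅ Y) :
    𝟭 X.Modules ≅ Scheme.Modules.pushforward e.hom ⋙ Scheme.Modules.pushforward e.inv :=
  (Scheme.Modules.pushforwardId X).symm ≪≫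
    Scheme.Modules.pushforwardCongr (e.hom_inv_id).symm ≪≫
    (Scheme.Modules.pushforwardComp e.hom e.inv).symm

theorem nonempty_unitIso {X Y : Scheme.{u}} (e : X ≅ Y) :
    Nonempty (𝟭 X.Modules ≅ Scheme.Modules.pushforward e.hom ⋙ Scheme.Modules.pushforward e.inv) :=
  ⟨unitIso e⟩

/-- The pushforward along an isomorphism of schemes is an equivalence. -/
noncomputable def pushforwardEquivalence {X Y : Scheme.{u}} (e : X ≅ Y) :
    X.Modules ≌ Y.Modules :=
  CategoryTheory.Equivalence.mk (Scheme.Modules.pushforward e.hom) (Scheme.Modules.pushforward e.inv)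
    (unitIso e) (unitIso e.symm).symm

instance isEquivalence_pushforward {X Y : Scheme.{u}} (f : X ⟶ Y) [IsIso f] :
    (Scheme.Modules.pushforward f).IsEquivalence :=
  (pushforwardEquivalence (asIso f)).isEquivalence_functor

theorem preservesFiniteColimits_pushforward_of_isIso {X Y : Scheme.{u}} (f : X ⟶ Y) [IsIso f] :
    PreservesFiniteColimits (Scheme.Modules.pushforward f) :=
  inferInstance

theorem preservesFiniteLimits_pushforward_of_isIso {X Y : Scheme.{u}} (f : X ⟶ Y) [IsIso f] :
    PreservesFiniteLimits (Scheme.Modules.pushforward f) :=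
  inferInstance

end Groth.Agent.Lib.Helper31.AffKTB12
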