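import Mathlib
import Groth.Prelude.Def_DCoh2
import Groth.Prelude.Def_FlatMod2

set_option autoImplicit false
universe u
open CategoryTheory CategoryTheory.Limits AlgebraicGeometry
attribute [local instance] HasDerivedCategory.standard

namespace Groth.Agent.Lib.Helper31.AffKTC

/-- Additivity of the global sections functor (right adjoint of `~`). -/
theorem additive_moduleSpecΓFunctor (R : CommRingCat.{u}) :
    (moduleSpecΓFunctor (R := R)).Additive :=
  (tilde.adjunction (R := R)).right_adjoint_additive

attribute [local instance] additive_moduleSpecΓFunctor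

theorem nonempty_tilde_Γ_iso (R : CommRingCat.{u}) (F : CochainComplex (Spec R).Modules ℤ)
    (hF : ∀ i : ℤ, Coh.IsQCoh (F.X i)) :
    Nonempty (((tilde.functor R).mapHomologicalComplex (ComplexShape.up ℤ)).obj
      (((moduleSpecΓFunctor (R := R)).mapHomologicalComplex (ComplexShape.up ℤ)).obj F) ≅ F) := by
  have hiso : ∀ i : ℤ, IsIso ((tilde.adjunction (R := R)).counit.app (F.X i)) := by
    intro i
    haveI : (F.X i).IsQuasicoherent := hF i
    exact Scheme.Modules.isIso_fromTildeΓ_of_isQuasicoherent (F.X i)
  refine ⟨HomologicalComplex.Hom.isoOfComponents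
    (fun i => @asIso _ _ _ _ ((tilde.adjunction (R := R)).counit.app (F.X i)) (hiso i)) ?_⟩
  intro i j _
  exact ((tilde.adjunction (R := R)).counit.naturality (F.d i j)).symm

end Groth.Agent.Lib.Helper31.AffKTC
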