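import Mathlib

/-!
# Artin's staircase monomials span (abstract form)

Let `B` be a commutative `R`-algebra and `t : Fin n → B` elements all of whose elementary symmetric
functions lie in the image of `R`.  Then the subalgebra generated by the `t i` is spanned over `R`
by the staircase monomials `∏ t i ^ e i`, `e i < n - i`.
-/

set_option autoImplicit false
set_option linter.unusedSectionVars false
set_option linter.unnecessarySeqFocus false
universe u v

namespace Groth.Agent.Lib.Helper31.Artin

open Polynomial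

variable {R : Type u} [CommRing R] {B : Type v} [CommRing B] [Algebra R B] {n : ℕ} (t : Fin n → B)

/-- monomial in the `t i` with exponent function `e` -/
def mo (e : Fin n → ℕ) : B := ∏ i, t i ^ e i

/-- staircase exponents in the first `k` variables -/
def St (n k : ℕ) (e : Fin n → ℕ) : Prop :=
  ∀ i : Fin n, ((i : ℕ) < k → e i < n - i) ∧ (k ≤ (i : ℕ) → e i = 0)

/-- the multiset `t k, …, t (n-1)` -/
def tail (k : ℕ) : Multiset B := (((List.finRange n).drop k).map t : List B)

/-- elementary symmetric functions of `t k, …, t (n-1)` -/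
def Ek (k j : ℕ) : B := (tail t k).esymm j

lemma tail_zero : tail t 0 = Finset.univ.val.map t := by
  unfold tail
  rw [List.drop_zero, Fin.univ_val_map, List.ofFn_eq_map]

lemma tail_succ (k : ℕ) (hk : k < n) : tail t k = t ⟨k, hk⟩ ::ₘ tail t (k + 1) := by
  unfold tail
  have h : (List.finRange n).drop k = ⟨k, hk⟩ :: (List.finRange n).drop (k + 1) := by
    rw [List.drop_eq_getElem_cons (by simpa using hk)]
    simp
  rw [h, List.map_cons]
  rfl

lemma card_tail (k : ℕ) : Multiset.card (tail t k) = n - k := by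
  unfold tail
  simp

lemma esymm_cons (x : B) (s : Multiset B) (j : ℕ) :
    (x ::ₘ s).esymm (j + 1) = s.esymm (j + 1) + x * s.esymm j := by
  unfold Multiset.esymm
  rw [Multiset.powersetCard_cons, Multiset.map_add, Multiset.sum_add, Multiset.map_map]
  congr 1
  have : (Multiset.map (Multiset.prod ∘ Multiset.cons x) (Multiset.powersetCard j s)) =
      Multiset.map (fun u => x * u) (Multiset.map Multiset.prod (Multiset.powersetCard j s)) := by
    rw [Multiset.map_map]
    refine Multiset.map_congr rfl fun u _ => ?_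
    simp
  rw [this, Multiset.sum_map_mul_left]
  simp

lemma esymm_zero' (s : Multiset B) : s.esymm 0 = 1 := by
  unfold Multiset.esymm
  rw [Multiset.powersetCard_zero_left]
  simp

lemma Ek_succ (k j : ℕ) (hk : k < n) :
    Ek t (k + 1) (j + 1) = Ek t k (j + 1) - t ⟨k, hk⟩ * Ek t (k + 1) j := by
  unfold Ek
  rw [tail_succ t k hk, esymm_cons]
  ring

/-- the root relation for `t k` -/
lemma root_rel (k : ℕ) (hk : k < n) :
    ∑ j ∈ Finset.range (n - k + 1), (-1) ^ j * (Ek t k j * t ⟨k, hk⟩ ^ (n - k - j)) = 0 := by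
  have h := Multiset.prod_X_sub_X_eq_sum_esymm (tail t k)
  have h2 := congrArg (Polynomial.eval (t ⟨k, hk⟩)) h
  rw [card_tail] at h2
  rw [Polynomial.eval_multiset_prod, Multiset.map_map, Polynomial.eval_finsetSum] at h2
  have hz : (Multiset.map ((fun p => Polynomial.eval (t ⟨k, hk⟩) p) ∘ fun x => X - C x)
      (tail t k)).prod = 0 := by
    apply Multiset.prod_eq_zero
    rw [Multiset.mem_map]
    refine ⟨t ⟨k, hk⟩, ?_, by simp⟩
    rw [tail_succ t k hk]
    exact Multiset.mem_cons_self _ _
  rw [hz] at h2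
  rw [h2]
  refine Finset.sum_congr rfl fun j _ => ?_
  simp [Ek]

variable (R)

/-- subalgebra generated by the first `k` of the `t i` -/
def Ak (k : ℕ) : Subalgebra R B := Algebra.adjoin R (t '' {i : Fin n | (i : ℕ) < k})

/-- span of the staircase monomials in the first `k` variables -/
def Sk (k : ℕ) : Submodule R B := Submodule.span R {x | ∃ e, St n k e ∧ x = mo t e}

variable {R}

lemma t_mem_Ak {k : ℕ} (i : Fin n) (hi : (i : ℕ) < k) : t i ∈ Ak R t k :=
  Algebra.subset_adjoin ⟨i, hi, rfl⟩

lemma Ak_mono {k l : ℕ} (h : k ≤ l) : Ak R t k ≤ Ak R t l :=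
  Algebra.adjoin_mono (Set.image_mono fun _ hi => lt_of_lt_of_le hi h)

lemma Ek_mem (hE : ∀ j, 1 ≤ j → j ≤ n → (Finset.univ.val.map t).esymm j ∈ (algebraMap R B).range) :
    ∀ k, k ≤ n → ∀ j, Ek t k j ∈ Ak R t k := by
  intro k
  induction k with
  | zero =>
    intro _ j
    unfold Ek
    rw [tail_zero]
    rcases Nat.eq_zero_or_pos j with rfl | hj
    · rw [esymm_zero']; exact Subalgebra.one_mem _
    · by_cases hjn : j ≤ n
      · obtain ⟨r, hr⟩ := hE j hj hjn
        rw [← hr]
        exact Subalgebra.algebraMap_mem _ r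
      · unfold Multiset.esymm
        rw [Multiset.powersetCard_eq_empty]
        · simp
        · simp; omega
  | succ k ih =>
    intro hk j
    have hk' : k < n := hk
    induction j with
    | zero =>
      unfold Ek
      rw [esymm_zero']; exact Subalgebra.one_mem _
    | succ j ihj =>
      rw [Ek_succ t k j hk']
      refine Subalgebra.sub_mem _ (Ak_mono t (Nat.le_succ k) (ih (by omega) (j + 1))) ?_
      exact Subalgebra.mul_mem _ (t_mem_Ak t ⟨k, hk'⟩ (Nat.lt_succ_self k)) ihj

lemma mo_mem_Ak {k : ℕ} {e : Fin n → ℕ} (he : St n k e) : mo t e ∈ Ak R t k := by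
  unfold mo
  refine Subalgebra.prod_mem _ fun i _ => ?_
  by_cases hi : (i : ℕ) < k
  · exact Subalgebra.pow_mem _ (t_mem_Ak t i hi) _
  · rw [(he i).2 (not_lt.mp hi), pow_zero]; exact Subalgebra.one_mem _

lemma mo_update (e : Fin n → ℕ) (k : Fin n) (hk : e k = 0) (j : ℕ) :
    mo t (Function.update e k j) = mo t e * t k ^ j := by
  unfold mo
  rw [← Finset.mul_prod_erase Finset.univ _ (Finset.mem_univ k),
    ← Finset.mul_prod_erase Finset.univ (fun i => t i ^ e i) (Finset.mem_univ k)]
  simp only [Function.update_self, hk, pow_zero, one_mul]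
  rw [mul_comm]
  congr 1
  refine Finset.prod_congr rfl fun i hi => ?_
  rw [Function.update_of_ne (Finset.ne_of_mem_erase hi)]

lemma St_update {k : ℕ} (hk : k < n) {e : Fin n → ℕ} (he : St n k e) {j : ℕ} (hj : j < n - k) :
    St n (k + 1) (Function.update e ⟨k, hk⟩ j) := by
  intro i
  by_cases hik : i = ⟨k, hk⟩
  · subst hik
    simp only [Function.update_self]
    exact ⟨fun _ => hj, fun h => by simp at h⟩
  · rw [Function.update_of_ne hik]
    have hne : (i : ℕ) ≠ k := fun h => hik (Fin.ext h)
    refine ⟨fun h => (he i).1 (by omega), fun h => (he i).2 (by omega)⟩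

lemma St_update_zero {k : ℕ} (hk : k < n) {e : Fin n → ℕ} (he : St n (k + 1) e) :
    St n k (Function.update e ⟨k, hk⟩ 0) := by
  intro i
  by_cases hik : i = ⟨k, hk⟩
  · subst hik
    rw [Function.update_self]
    exact ⟨fun h => absurd h (lt_irrefl k), fun _ => rfl⟩
  · rw [Function.update_of_ne hik]
    have hne : (i : ℕ) ≠ k := fun h => hik (Fin.ext h)
    refine ⟨fun h => (he i).1 (by omega), fun h => (he i).2 (by omega)⟩

/-- `s ∈ Sk k`, `j < n - k` ⇒ `s * t_k ^ j ∈ Sk (k+1)` -/
lemma mulpow {k : ℕ} (hk : k < n) {s : B} (hs : s ∈ Sk R t k) {j : ℕ} (hj : j < n - k) :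
    s * t ⟨k, hk⟩ ^ j ∈ Sk R t (k + 1) := by
  unfold Sk at hs
  induction hs using Submodule.span_induction with
  | mem x hx =>
    obtain ⟨e, he, rfl⟩ := hx
    apply Submodule.subset_span
    refine ⟨Function.update e ⟨k, hk⟩ j, St_update hk he hj, ?_⟩
    rw [mo_update t e ⟨k, hk⟩ ((he ⟨k, hk⟩).2 le_rfl)]
  | zero => rw [zero_mul]; exact Submodule.zero_mem _
  | add x y _ _ hx hy => rw [add_mul]; exact Submodule.add_mem _ hx hy
  | smul r x _ hx => rw [smul_mul_assoc]; exact Submodule.smul_mem _ r hx

/-- decomposition of a staircase monomial in `k+1` variables -/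
lemma mo_decomp {k : ℕ} (hk : k < n) {e : Fin n → ℕ} (he : St n (k + 1) e) :
    mo t e = mo t (Function.update e ⟨k, hk⟩ 0) * t ⟨k, hk⟩ ^ e ⟨k, hk⟩ ∧
      St n k (Function.update e ⟨k, hk⟩ 0) ∧ e ⟨k, hk⟩ < n - k := by
  refine ⟨?_, St_update_zero hk he, (he ⟨k, hk⟩).1 (Nat.lt_succ_self k)⟩
  have h := mo_update t (Function.update e ⟨k, hk⟩ 0) ⟨k, hk⟩ (by simp) (e ⟨k, hk⟩)
  rw [← h]
  congr 1
  simp

theorem Ak_le_Sk
    (hE : ∀ j, 1 ≤ j → j ≤ n → (Finset.univ.val.map t).esymm j ∈ (algebraMap R B).range) :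
    ∀ k, k ≤ n → Subalgebra.toSubmodule (Ak R t k) ≤ Sk R t k := by
  intro k
  induction k with
  | zero =>
    intro _ x hx
    have h0 : Ak R t 0 = ⊥ := by
      unfold Ak
      have : {i : Fin n | (i : ℕ) < 0} = ∅ := by ext; simp
      rw [this, Set.image_empty, Algebra.adjoin_empty]
    rw [Subalgebra.mem_toSubmodule, h0] at hx
    obtain ⟨r, rfl⟩ := Algebra.mem_bot.mp hx
    rw [Algebra.algebraMap_eq_smul_one]
    refine Submodule.smul_mem _ r (Submodule.subset_span ⟨fun _ => 0, ?_, ?_⟩)
    · intro i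
      exact ⟨fun h => absurd h (Nat.not_lt_zero _), fun _ => rfl⟩
    · simp [mo]
  | succ k ih =>
    intro hk
    have hk' : k < n := hk
    have ihk := ih (by omega)
    -- `Ak k * T ⊆ T`
    have hAT : ∀ b ∈ Ak R t k, ∀ y ∈ Sk R t (k + 1), b * y ∈ Sk R t (k + 1) := by
      intro b hb y hy
      unfold Sk at hy
      induction hy using Submodule.span_induction with
      | mem x hx =>
        obtain ⟨e, he, rfl⟩ := hx
        obtain ⟨h1, h2, h3⟩ := mo_decomp t hk' he
        rw [h1, ← mul_assoc]
        refine mulpow t hk' (ihk ?_) h3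
        exact Subalgebra.mul_mem _ hb (mo_mem_Ak t h2)
      | zero => rw [mul_zero]; exact Submodule.zero_mem _
      | add x y _ _ hx hy => rw [mul_add]; exact Submodule.add_mem _ hx hy
      | smul r x _ hx => rw [mul_smul_comm]; exact Submodule.smul_mem _ r hx
    -- `t_k * T ⊆ T`
    have htT : ∀ y ∈ Sk R t (k + 1), t ⟨k, hk'⟩ * y ∈ Sk R t (k + 1) := by
      intro y hy
      unfold Sk at hy
      induction hy using Submodule.span_induction with
      | mem x hx =>
        obtain ⟨e, he, rfl⟩ := hx
        obtain ⟨h1, h2, h3⟩ := mo_decomp t hk' he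
        set m' := mo t (Function.update e ⟨k, hk'⟩ 0) with hm'
        have hm'S : m' ∈ Sk R t k := Submodule.subset_span ⟨_, h2, rfl⟩
        rw [h1]
        have hrw : t ⟨k, hk'⟩ * (m' * t ⟨k, hk'⟩ ^ e ⟨k, hk'⟩) =
            m' * t ⟨k, hk'⟩ ^ (e ⟨k, hk'⟩ + 1) := by ring
        rw [hrw]
        by_cases hlt : e ⟨k, hk'⟩ + 1 < n - k
        · exact mulpow t hk' hm'S hlt
        · have heq : e ⟨k, hk'⟩ + 1 = n - k := by omega
          rw [heq]
          -- use the root relation
          have hroot := root_rel t k hk'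
          rw [Finset.sum_range_succ'] at hroot
          simp only [pow_zero, one_mul, Nat.sub_zero] at hroot
          have hE0 : Ek t k 0 = 1 := esymm_zero' _
          rw [hE0, one_mul] at hroot
          have hpow : t ⟨k, hk'⟩ ^ (n - k) =
              - ∑ j ∈ Finset.range (n - k),
                (-1) ^ (j + 1) * (Ek t k (j + 1) * t ⟨k, hk'⟩ ^ (n - k - (j + 1))) := by
            linear_combination hroot
          rw [hpow, mul_neg, Finset.mul_sum]
          refine Submodule.neg_mem _ (Submodule.sum_mem _ fun j hj => ?_)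
          have hjlt : j < n - k := Finset.mem_range.mp hj
          have hrw2 : m' * ((-1) ^ (j + 1) * (Ek t k (j + 1) * t ⟨k, hk'⟩ ^ (n - k - (j + 1)))) =
              ((-1 : ℤ) ^ (j + 1)) • ((m' * Ek t k (j + 1)) * t ⟨k, hk'⟩ ^ (n - k - (j + 1))) := by
            rw [zsmul_eq_mul]; push_cast; ring
          rw [hrw2]
          refine Submodule.smul_of_tower_mem _ _ ?_
          refine mulpow t hk' (ihk ?_) (by omega)
          exact Subalgebra.mul_mem _ (mo_mem_Ak t h2) (Ek_mem t hE k (by omega) (j + 1))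
      | zero => rw [mul_zero]; exact Submodule.zero_mem _
      | add x y _ _ hx hy => rw [mul_add]; exact Submodule.add_mem _ hx hy
      | smul r x _ hx => rw [mul_smul_comm]; exact Submodule.smul_mem _ r hx
    -- conclude
    have hmul : ∀ x ∈ Ak R t (k + 1), ∀ y ∈ Sk R t (k + 1), x * y ∈ Sk R t (k + 1) := by
      intro x hx
      unfold Ak at hx
      induction hx using Algebra.adjoin_induction with
      | mem x hx =>
        obtain ⟨i, hi, rfl⟩ := hx
        have hi' : (i : ℕ) < k + 1 := hi
        by_cases hik : (i : ℕ) < k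
        · exact hAT _ (t_mem_Ak t i hik)
        · have : i = ⟨k, hk'⟩ := Fin.ext (by show (i : ℕ) = k; omega)
          rw [this]
          exact htT
      | algebraMap r =>
        intro y hy
        rw [← Algebra.smul_def]
        exact Submodule.smul_mem _ r hy
      | add x y _ _ hx hy =>
        intro z hz
        rw [add_mul]
        exact Submodule.add_mem _ (hx z hz) (hy z hz)
      | mul x y _ _ hx hy =>
        intro z hz
        rw [mul_assoc]
        exact hx _ (hy z hz)
    intro x hx
    have h1 : (1 : B) ∈ Sk R t (k + 1) := by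
      refine Submodule.subset_span ⟨fun _ => 0, ?_, by simp [mo]⟩
      intro i
      refine ⟨fun _ => ?_, fun _ => rfl⟩
      show 0 < n - (i : ℕ)
      have := i.2
      omega
    have := hmul x hx 1 h1
    rwa [mul_one] at this

end Groth.Agent.Lib.Helper31.Artin
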