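import Mathlib
import Groth.Agent.Lib.Helper31.Artin1

/-!
# Staircase monomials span `R[t]/(e_i(t) - a_i)`
-/

set_option autoImplicit false
set_option linter.unusedSectionVars false
set_option linter.unnecessarySeqFocus false
universe u

namespace Groth.Agent.Lib.Helper31.Artin

open MvPolynomial

variable {R : Type u} [CommRing R] {n : ℕ}

/-- staircase exponent vectors -/
abbrev D (n : ℕ) := (i : Fin n) → Fin (n - (i : ℕ))

/-- the staircase monomial -/
noncomputable def mon (R : Type u) [CommRing R] {n : ℕ} (d : D n) : MvPolynomial (Fin n) R :=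
  ∏ i : Fin n, X i ^ ((d i : ℕ))

/-- the ideal `(e_i(t) - a_i)` -/
noncomputable def II (a : Fin n → R) : Ideal (MvPolynomial (Fin n) R) :=
  Ideal.span (Set.range fun i : Fin n => esymm (Fin n) R ((i : ℕ) + 1) - C (a i))

theorem span_mod (a : Fin n → R) (x : MvPolynomial (Fin n) R) :
    ∃ r : D n → R, x - ∑ d : D n, C (r d) * mon R d ∈ II a := by
  set I := II a with hI
  set B := MvPolynomial (Fin n) R ⧸ I with hB
  set t : Fin n → B := fun i => Ideal.Quotient.mk I (X i) with ht
  have haeval : ∀ p : MvPolynomial (Fin n) R, aeval t p = Ideal.Quotient.mk I p := by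
    intro p
    have : (aeval t : MvPolynomial (Fin n) R →ₐ[R] B) = Ideal.Quotient.mkₐ R I := by
      apply MvPolynomial.algHom_ext
      intro i
      rw [aeval_X]; rfl
    rw [this]; rfl
  have hE : ∀ j, 1 ≤ j → j ≤ n → (Finset.univ.val.map t).esymm j ∈ (algebraMap R B).range := by
    intro j hj1 hjn
    rw [← aeval_esymm_eq_multiset_esymm (Fin n) R, haeval]
    refine ⟨a ⟨j - 1, by omega⟩, ?_⟩
    symm
    have hmem : esymm (Fin n) R j - C (a ⟨j - 1, by omega⟩) ∈ I := by
      apply Ideal.subset_span
      refine ⟨⟨j - 1, by omega⟩, ?_⟩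
      simp only
      congr 2
      omega
    have := (Ideal.Quotient.eq (I := I)).mpr hmem
    rw [this]
    rfl
  have hle := Ak_le_Sk t hE n le_rfl
  have htop : Ak R t n = ⊤ := by
    unfold Ak
    have hset : {i : Fin n | (i : ℕ) < n} = Set.univ := by ext i; simp
    rw [hset, Set.image_univ]
    have : Set.range t = (Ideal.Quotient.mkₐ R I) '' (Set.range (X : Fin n → MvPolynomial (Fin n) R)) := by
      rw [← Set.range_comp]; rfl
    rw [this, ← AlgHom.map_adjoin, MvPolynomial.adjoin_range_X, Algebra.map_top]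
    rw [AlgHom.range_eq_top]
    exact Ideal.Quotient.mkₐ_surjective R I
  have hmem : Ideal.Quotient.mk I x ∈ Sk R t n := by
    apply hle
    rw [Subalgebra.mem_toSubmodule, htop]
    exact Algebra.mem_top
  have hSk : Sk R t n ≤ Submodule.span R (Set.range fun d : D n => Ideal.Quotient.mk I (mon R d)) := by
    unfold Sk
    apply Submodule.span_le.mpr
    rintro y ⟨e, he, rfl⟩
    apply Submodule.subset_span
    refine ⟨fun i => ⟨e i, (he i).1 i.2⟩, ?_⟩
    simp only [mon, mo, map_prod, map_pow, ht]
  have := hSk hmem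
  rw [Submodule.mem_span_range_iff_exists_fun] at this
  obtain ⟨r, hr⟩ := this
  refine ⟨r, ?_⟩
  rw [← Ideal.Quotient.eq, ← hr, map_sum]
  refine Finset.sum_congr rfl fun d _ => ?_
  rw [← MvPolynomial.smul_eq_C_mul]
  exact (map_smul (Ideal.Quotient.mkₐ R I) (r d) (mon R d)).symm

end Groth.Agent.Lib.Helper31.Artin
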