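import Mathlib
import Groth.Agent.Lib.Helper31.Artin2

/-!
# A splitting algebra in which the staircase monomials are linearly independent
-/

set_option autoImplicit false
set_option linter.unusedSectionVars false
set_option linter.unnecessarySeqFocus false
universe u

namespace Groth.Agent.Lib.Helper31.Artin

open Polynomial

/-- recursive staircase index type -/
def D' : ℕ → Type
  | 0 => Unit
  | (n + 1) => Fin (n + 1) × D' n

/-- recursive staircase monomials -/
def mo' {A : Type u} [CommRing A] : (n : ℕ) → (Fin n → A) → D' n → A
  | 0, _, _ => 1
  | (n + 1), τ, e => τ 0 ^ ((e.1 : Fin (n + 1)) : ℕ) * mo' n (Fin.tail τ) e.2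

theorem exists_model : ∀ (n : ℕ) (R : Type u) [CommRing R] (f : R[X]), f.Monic → f.natDegree = n →
    ∃ (A : Type u) (_ : CommRing A) (_ : Algebra R A) (τ : Fin n → A),
      f.map (algebraMap R A) = ∏ i : Fin n, (X - C (τ i)) ∧
      LinearIndependent R (mo' n τ) := by
  intro n
  induction n with
  | zero =>
    intro R _ f hf hdeg
    refine ⟨R, inferInstance, inferInstance, Fin.elim0, ?_, ?_⟩
    · have : f = 1 := by
        have h := Polynomial.eq_C_of_natDegree_eq_zero hdeg
        have h1 : f.coeff 0 = 1 := by
          have := hf.coeff_natDegree
          rwa [hdeg] at this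
        rw [h, h1, C_1]
      rw [this]; simp
    · have : Fintype (D' 0) := (inferInstance : Fintype Unit)
      rw [Fintype.linearIndependent_iff]
      intro g hg i
      have hi : ∀ j : D' 0, j = i := fun j => Subsingleton.elim (α := Unit) j i
      have : ∑ j : D' 0, g j • mo' 0 (Fin.elim0 : Fin 0 → R) j = g i := by
        rw [Finset.sum_eq_single i]
        · simp [mo']
        · intro j _ hj; exact absurd (hi j) hj
        · intro h; exact absurd (Finset.mem_univ i) h
      rw [this] at hg
      exact hg
  | succ n ih =>
    intro R _ f hf hdeg
    -- first step of the tower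
    let A1 := AdjoinRoot f
    let τ0 : A1 := AdjoinRoot.root f
    set F1 : A1[X] := f.map (AdjoinRoot.of f) with hF1
    have hroot : F1.IsRoot τ0 := by
      rw [Polynomial.IsRoot, hF1, Polynomial.eval_map]
      exact AdjoinRoot.eval₂_root f
    set f1 : A1[X] := F1 /ₘ (X - C τ0) with hf1
    have hfac : (X - C τ0) * f1 = F1 := Polynomial.mul_divByMonic_eq_iff_isRoot.mpr hroot
    have hF1m : F1.Monic := hf.map _
    have hf1m : f1.Monic := by
      apply Polynomial.Monic.of_mul_monic_left (Polynomial.monic_X_sub_C τ0)
      rw [hfac]; exact hF1m
    have hA1nt : Nontrivial A1 ∨ Subsingleton A1 := by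
      rcases subsingleton_or_nontrivial A1 with h | h
      · exact Or.inr h
      · exact Or.inl h
    have hf1deg : f1.natDegree = n := by
      rcases hA1nt with h | h
      · rw [hf1, Polynomial.natDegree_divByMonic _ (Polynomial.monic_X_sub_C τ0),
          Polynomial.natDegree_X_sub_C, hF1, hf.natDegree_map, hdeg]
        omega
      · -- trivial ring: impossible since `f` has positive degree, but handle uniformly
        exfalso
        have : Nontrivial R := by
          by_contra hR
          rw [not_nontrivial_iff_subsingleton] at hR
          have : f.natDegree = 0 := by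
            rw [Subsingleton.elim f 0]; simp
          omega
        have hpb := AdjoinRoot.powerBasis' hf
        have hfree : Module.Free R A1 := hf.free_adjoinRoot
        have hrank : Module.finrank R A1 = n + 1 := by
          rw [← hdeg]
          have := (AdjoinRoot.powerBasis' hf).finrank
          simpa using this
        have hzero : Module.finrank R A1 = 0 := by
          haveI := h
          exact Module.finrank_zero_of_subsingleton
        omega
    obtain ⟨A, hA1, hA2, τ', hprod, hli⟩ := ih A1 f1 hf1m hf1deg
    letI : CommRing A := hA1
    letI : Algebra A1 A := hA2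
    letI : Algebra R A := ((algebraMap A1 A).comp (algebraMap R A1)).toAlgebra
    haveI : IsScalarTower R A1 A := IsScalarTower.of_algebraMap_eq (fun _ => rfl)
    refine ⟨A, inferInstance, inferInstance, Fin.cons (algebraMap A1 A τ0) τ', ?_, ?_⟩
    · have h1 : f.map (algebraMap R A) = F1.map (algebraMap A1 A) := by
        rw [hF1, Polynomial.map_map]; rfl
      rw [h1, ← hfac, Polynomial.map_mul, hprod, Fin.prod_univ_succ]
      simp [Polynomial.map_sub]
    · -- linear independence in the tower
      have hb : LinearIndependent R (fun j : Fin (n + 1) => τ0 ^ (j : ℕ)) := by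
        have hbasis := (AdjoinRoot.powerBasis' hf).basis.linearIndependent
        have hcomp := hbasis.comp (Fin.cast (show n + 1 = (AdjoinRoot.powerBasis' hf).dim by
          simp [hdeg])) (Fin.cast_injective _)
        convert hcomp using 1
        funext j
        simp [PowerBasis.coe_basis, τ0]
      have hprodli := linearIndependent_smul hb hli
      have hfun : (fun p : Fin (n + 1) × D' n => τ0 ^ (p.1 : ℕ) • mo' n τ' p.2) =
          mo' (n + 1) (Fin.cons (algebraMap A1 A τ0) τ' : Fin (n + 1) → A) := by
        funext p
        rw [Algebra.smul_def]
        simp only [mo', Fin.cons_zero, Fin.tail_cons, map_pow]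
      rw [← hfun]
      exact hprodli

end Groth.Agent.Lib.Helper31.Artin
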