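import Mathlib
import Groth.Agent.Lib.Helper31.Artin3

/-!
# Staircase monomials are independent modulo `(e_i(t) - a_i)`
-/

set_option autoImplicit false
set_option linter.unusedSectionVars false
set_option linter.unnecessarySeqFocus false
universe u

namespace Groth.Agent.Lib.Helper31.Artin

open Polynomial

/-- comparison of the two staircase index types -/
def gmap : (n : ℕ) → D n → D' n
  | 0, _ => ()
  | (n + 1), d => (Fin.cast (by simp) (d 0),
      gmap n (fun i => Fin.cast (by simp) (d i.succ)))

theorem gmap_injective : ∀ n, Function.Injective (gmap n) := by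
  intro n
  induction n with
  | zero =>
    intro d d' _
    funext i
    exact Fin.elim0 i
  | succ n ih =>
    intro d d' h
    obtain ⟨h0, h1⟩ := Prod.ext_iff.mp h
    have h0' : d 0 = d' 0 := by
      apply Fin.ext
      have := congrArg Fin.val h0
      exact this
    have h1' := ih h1
    funext i
    refine Fin.cases h0' (fun j => ?_) i
    have := congrArg Fin.val (congrFun h1' j)
    exact Fin.ext this

theorem mo'_gmap {A : Type u} [CommRing A] : ∀ (n : ℕ) (τ : Fin n → A) (d : D n),
    mo' n τ (gmap n d) = ∏ i, τ i ^ ((d i : ℕ)) := by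
  intro n
  induction n with
  | zero =>
    intro τ d
    simp [mo']
  | succ n ih =>
    intro τ d
    simp only [gmap, mo']
    rw [ih, Fin.prod_univ_succ]
    rfl

variable {R : Type u} [CommRing R] {n : ℕ}

/-- the polynomial `X^n - a_1 X^(n-1) + a_2 X^(n-2) - ⋯` -/
noncomputable def poly (a : Fin n → R) : R[X] :=
  X ^ n + ∑ i : Fin n, C ((-1) ^ ((i : ℕ) + 1) * a i) * X ^ (n - 1 - (i : ℕ))

lemma poly_lower_degree (a : Fin n → R) :
    (∑ i : Fin n, C ((-1) ^ ((i : ℕ) + 1) * a i) * X ^ (n - 1 - (i : ℕ))).degree <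
      ((n : ℕ) : WithBot ℕ) := by
  refine lt_of_le_of_lt (Polynomial.degree_sum_le _ _) ?_
  rw [Finset.sup_lt_iff (by exact WithBot.bot_lt_coe n)]
  intro i _
  refine lt_of_le_of_lt (Polynomial.degree_C_mul_X_pow_le _ _) ?_
  have := i.2
  exact_mod_cast (by omega : n - 1 - (i : ℕ) < n)

lemma poly_monic (a : Fin n → R) : (poly a).Monic :=
  Polynomial.monic_X_pow_add (poly_lower_degree a)

lemma poly_natDegree [Nontrivial R] (a : Fin n → R) : (poly a).natDegree = n := by
  unfold poly
  rw [Polynomial.natDegree_add_eq_left_of_degree_lt, Polynomial.natDegree_X_pow]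
  rw [Polynomial.degree_X_pow]
  exact poly_lower_degree a

lemma poly_coeff (a : Fin n → R) (i : Fin n) :
    (poly a).coeff (n - 1 - (i : ℕ)) = (-1) ^ ((i : ℕ) + 1) * a i := by
  unfold poly
  have hi := i.2
  rw [Polynomial.coeff_add, Polynomial.coeff_X_pow, if_neg (by omega), zero_add,
    Polynomial.finset_sum_coeff, Finset.sum_eq_single i]
  · rw [Polynomial.coeff_C_mul, Polynomial.coeff_X_pow, if_pos rfl, mul_one]
  · intro j _ hj
    have hj' := j.2
    rw [Polynomial.coeff_C_mul, Polynomial.coeff_X_pow, if_neg, mul_zero]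
    intro h
    apply hj
    apply Fin.ext
    omega
  · intro h; exact absurd (Finset.mem_univ i) h

theorem indep_mod (a : Fin n → R) (r : D n → R)
    (h : ∑ d : D n, MvPolynomial.C (r d) * mon R d ∈ II a) : ∀ d, r d = 0 := by
  rcases subsingleton_or_nontrivial R with hR | hR
  · intro d; exact Subsingleton.elim _ _
  obtain ⟨A, hA1, hA2, τ, hprod, hli⟩ := exists_model n R (poly a) (poly_monic a) (poly_natDegree a)
  letI : CommRing A := hA1
  letI : Algebra R A := hA2
  -- Vieta
  have hes : ∀ i : Fin n, (Finset.univ.val.map τ).esymm ((i : ℕ) + 1) = algebraMap R A (a i) := by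
    intro i
    have hi := i.2
    have h1 : ((poly a).map (algebraMap R A)).coeff (n - 1 - (i : ℕ)) =
        algebraMap R A ((-1) ^ ((i : ℕ) + 1) * a i) := by
      rw [Polynomial.coeff_map, poly_coeff]
    have h2 : (∏ j : Fin n, (X - C (τ j))) =
        ((Finset.univ.val.map τ).map (fun t => X - C t)).prod := by
      rw [Multiset.map_map]; rfl
    have hcard : Multiset.card (Finset.univ.val.map τ) = n := by simp
    have h3 := Multiset.prod_X_sub_C_coeff (Finset.univ.val.map τ) (k := n - 1 - (i : ℕ))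
      (by rw [hcard]; omega)
    rw [hcard] at h3
    have h4 : n - (n - 1 - (i : ℕ)) = (i : ℕ) + 1 := by omega
    rw [h4, ← h2, ← hprod, h1, map_mul, map_pow, map_neg, map_one] at h3
    have h5 : ((-1 : A) ^ ((i : ℕ) + 1)) * ((-1 : A) ^ ((i : ℕ) + 1)) = 1 := by
      rw [← mul_pow]; simp
    calc (Finset.univ.val.map τ).esymm ((i : ℕ) + 1)
        = ((-1 : A) ^ ((i : ℕ) + 1) * (-1 : A) ^ ((i : ℕ) + 1)) *
            (Finset.univ.val.map τ).esymm ((i : ℕ) + 1) := by rw [h5, one_mul]
      _ = (-1 : A) ^ ((i : ℕ) + 1) * ((-1 : A) ^ ((i : ℕ) + 1) *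
            (Finset.univ.val.map τ).esymm ((i : ℕ) + 1)) := by ring
      _ = (-1 : A) ^ ((i : ℕ) + 1) * ((-1 : A) ^ ((i : ℕ) + 1) * algebraMap R A (a i)) := by
          rw [← h3]
      _ = algebraMap R A (a i) := by rw [← mul_assoc, h5, one_mul]
  -- evaluation kills the ideal
  have hker : II a ≤ RingHom.ker (MvPolynomial.aeval τ : MvPolynomial (Fin n) R →ₐ[R] A) := by
    unfold II
    rw [Ideal.span_le]
    rintro _ ⟨i, rfl⟩
    rw [SetLike.mem_coe, RingHom.mem_ker]
    simp only [map_sub, MvPolynomial.aeval_C]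
    rw [MvPolynomial.aeval_esymm_eq_multiset_esymm, hes, sub_self]
  have h0 := hker h
  rw [RingHom.mem_ker, map_sum] at h0
  have hli' : LinearIndependent R (fun d : D n => mo' n τ (gmap n d)) :=
    hli.comp (gmap n) (gmap_injective n)
  rw [Fintype.linearIndependent_iff] at hli'
  apply hli' r
  rw [← h0]
  refine Finset.sum_congr rfl fun d _ => ?_
  rw [map_mul, MvPolynomial.aeval_C, mo'_gmap, Algebra.smul_def]
  congr 1
  unfold mon
  simp [map_prod]

end Groth.Agent.Lib.Helper31.Artin
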