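import Mathlib
import Groth.Agent.Lib.Helper31.Artin4

/-!
# The three statements on the staircase basis
-/

set_option autoImplicit false
set_option linter.unusedSectionVars false
set_option linter.unnecessarySeqFocus false
universe u

namespace Groth.Agent.Lib.Helper31.Artin

open MvPolynomial

variable {R : Type u} [CommRing R] {n : ℕ}

/-- elements congruent modulo `II a` to a staircase combination with coefficients in `J` -/
def GoodJ (a : Fin n → R) (J : Ideal R) (z : MvPolynomial (Fin n) R) : Prop :=
  ∃ j : D n → R, (∀ d, j d ∈ J) ∧ z - ∑ d : D n, C (j d) * mon R d ∈ II a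

lemma goodJ_zero (a : Fin n → R) (J : Ideal R) : GoodJ a J 0 :=
  ⟨fun _ => 0, fun _ => J.zero_mem, by simp⟩

lemma goodJ_add (a : Fin n → R) (J : Ideal R) {z z' : MvPolynomial (Fin n) R}
    (h : GoodJ a J z) (h' : GoodJ a J z') : GoodJ a J (z + z') := by
  obtain ⟨j, hj, hz⟩ := h
  obtain ⟨j', hj', hz'⟩ := h'
  refine ⟨fun d => j d + j' d, fun d => J.add_mem (hj d) (hj' d), ?_⟩
  have : z + z' - ∑ d : D n, C (j d + j' d) * mon R d =
      (z - ∑ d : D n, C (j d) * mon R d) + (z' - ∑ d : D n, C (j' d) * mon R d) := by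
    simp only [map_add, add_mul, Finset.sum_add_distrib]; ring
  rw [this]
  exact (II a).add_mem hz hz'

lemma goodJ_mul (a : Fin n → R) (J : Ideal R) (p : MvPolynomial (Fin n) R)
    {z : MvPolynomial (Fin n) R} (h : GoodJ a J z) : GoodJ a J (p * z) := by
  obtain ⟨j, hj, hz⟩ := h
  choose r hr using fun d : D n => span_mod a (p * mon R d)
  refine ⟨fun d' => ∑ d : D n, j d * r d d', fun d' => J.sum_mem fun d _ => J.mul_mem_right _ (hj d),
    ?_⟩
  have : p * z - ∑ d' : D n, C (∑ d : D n, j d * r d d') * mon R d' =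
      p * (z - ∑ d : D n, C (j d) * mon R d) +
        ∑ d : D n, C (j d) * (p * mon R d - ∑ d' : D n, C (r d d') * mon R d') := by
    have h1 : ∑ d' : D n, C (∑ d : D n, j d * r d d') * mon R d' =
        ∑ d : D n, C (j d) * ∑ d' : D n, C (r d d') * mon R d' := by
      simp only [map_sum, map_mul, Finset.sum_mul, Finset.mul_sum]
      rw [Finset.sum_comm]
      refine Finset.sum_congr rfl fun d _ => Finset.sum_congr rfl fun d' _ => by ring
    rw [h1]
    simp only [mul_sub, Finset.sum_sub_distrib, Finset.mul_sum]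
    ring_nf
  rw [this]
  refine (II a).add_mem ((II a).mul_mem_left _ hz) ((II a).sum_mem fun d _ => ?_)
  exact (II a).mul_mem_left _ (hr d)

lemma goodJ_C (a : Fin n → R) (J : Ideal R) {c : R} (hc : c ∈ J) : GoodJ a J (C c) := by
  obtain ⟨r, hr⟩ := span_mod a (1 : MvPolynomial (Fin n) R)
  refine ⟨fun d => c * r d, fun d => J.mul_mem_right _ hc, ?_⟩
  have : C c - ∑ d : D n, C (c * r d) * mon R d = C c * (1 - ∑ d : D n, C (r d) * mon R d) := by
    simp only [map_mul, mul_sub, Finset.mul_sum, mul_one]
    congr 1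
    refine Finset.sum_congr rfl fun d _ => by ring
  rw [this]
  exact (II a).mul_mem_left _ hr

theorem S16404_main (a : Fin n → R) (J : Ideal R) (x : MvPolynomial (Fin n) R) :
    x ∈ II a ⊔ Ideal.map (C : R →+* MvPolynomial (Fin n) R) J ↔
      ∃ j : D n → R, (∀ d, j d ∈ J) ∧ x - ∑ d : D n, C (j d) * mon R d ∈ II a := by
  constructor
  · intro hx
    obtain ⟨y, hy, z, hz, rfl⟩ := Submodule.mem_sup.mp hx
    clear hx
    have hzgood : GoodJ a J z := by
      unfold Ideal.map at hz
      induction hz using Submodule.span_induction with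
      | mem w hw =>
        obtain ⟨c, hc, rfl⟩ := hw
        exact goodJ_C a J hc
      | zero => exact goodJ_zero a J
      | add w w' _ _ hw hw' => exact goodJ_add a J hw hw'
      | smul p w _ hw => exact goodJ_mul a J p hw
    obtain ⟨j, hj, hzj⟩ := hzgood
    refine ⟨j, hj, ?_⟩
    have : y + z - ∑ d : D n, C (j d) * mon R d = y + (z - ∑ d : D n, C (j d) * mon R d) := by ring
    rw [this]
    exact (II a).add_mem hy hzj
  · rintro ⟨j, hj, hx⟩
    have : x = (x - ∑ d : D n, C (j d) * mon R d) + ∑ d : D n, C (j d) * mon R d := by ring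
    rw [this]
    refine Submodule.add_mem_sup hx (Ideal.sum_mem _ fun d _ => ?_)
    exact Ideal.mul_mem_right _ _ (Ideal.mem_map_of_mem _ (hj d))

theorem S16403_main (a : Fin n → R) (J : Ideal R) (α β : D n → R) :
    (∑ d : D n, C (α d) * mon R d) - (∑ d : D n, C (β d) * mon R d)
      ∈ II a ⊔ Ideal.map (C : R →+* MvPolynomial (Fin n) R) J ↔ ∀ d, α d - β d ∈ J := by
  have hdiff : (∑ d : D n, C (α d) * mon R d) - (∑ d : D n, C (β d) * mon R d) =
      ∑ d : D n, C (α d - β d) * mon R d := by
    rw [← Finset.sum_sub_distrib]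
    refine Finset.sum_congr rfl fun d _ => by rw [map_sub]; ring
  rw [hdiff]
  constructor
  · intro h
    set π : MvPolynomial (Fin n) R →+* MvPolynomial (Fin n) (R ⧸ J) :=
      MvPolynomial.map (Ideal.Quotient.mk J) with hπ
    have hle : II a ⊔ Ideal.map (C : R →+* MvPolynomial (Fin n) R) J ≤
        Ideal.comap π (II (fun i => Ideal.Quotient.mk J (a i))) := by
      apply sup_le
      · unfold II
        rw [Ideal.span_le]
        rintro _ ⟨i, rfl⟩
        rw [SetLike.mem_coe, Ideal.mem_comap]
        apply Ideal.subset_span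
        refine ⟨i, ?_⟩
        simp only [hπ, map_sub, MvPolynomial.map_esymm, MvPolynomial.map_C]
      · rw [Ideal.map_le_iff_le_comap]
        intro c hc
        rw [Ideal.mem_comap, Ideal.mem_comap, hπ, MvPolynomial.map_C,
          Ideal.Quotient.eq_zero_iff_mem.mpr hc, map_zero]
        exact Ideal.zero_mem _
    have h2 := hle h
    rw [Ideal.mem_comap, map_sum] at h2
    have h3 : ∑ d : D n, π (C (α d - β d) * mon R d) =
        ∑ d : D n, C (Ideal.Quotient.mk J (α d - β d)) * mon (R ⧸ J) d := by
      refine Finset.sum_congr rfl fun d _ => ?_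
      rw [map_mul, hπ, MvPolynomial.map_C]
      congr 1
      unfold mon
      simp [map_prod]
    rw [h3] at h2
    intro d
    exact Ideal.Quotient.eq_zero_iff_mem.mp
      (indep_mod _ (fun d => Ideal.Quotient.mk J (α d - β d)) h2 d)
  · intro h
    refine Ideal.mem_sup_right (Ideal.sum_mem _ fun d _ => ?_)
    exact Ideal.mul_mem_right _ _ (Ideal.mem_map_of_mem _ (h d))

end Groth.Agent.Lib.Helper31.Artin
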