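import Mathlib
import Groth.Agent.Lib.Helper31.Artin5

/-!
# `ℤ[t]` is free over `ℤ[e]` with the staircase basis
-/

set_option autoImplicit false
set_option linter.unusedSectionVars false
set_option linter.unnecessarySeqFocus false

namespace Groth.Agent.Lib.Helper31.Artin

open MvPolynomial

variable {n : ℕ}

/-- `c_i ↦ e_i(t)` -/
noncomputable def fE (n : ℕ) : MvPolynomial (Fin n) ℤ →ₐ[ℤ] MvPolynomial (Fin n) ℤ :=
  aeval (fun i : Fin n => esymm (Fin n) ℤ ((i : ℕ) + 1))

/-- `ℤ[c][t] → ℤ[t]`, `c_i ↦ e_i(t)`, `t_i ↦ t_i` -/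
noncomputable def phi (n : ℕ) :
    MvPolynomial (Fin n) (MvPolynomial (Fin n) ℤ) →+* MvPolynomial (Fin n) ℤ :=
  eval₂Hom (fE n : MvPolynomial (Fin n) ℤ →+* MvPolynomial (Fin n) ℤ) X

/-- `ℤ[t] → ℤ[c][t]` (constant in `c`) -/
noncomputable def psi (n : ℕ) :
    MvPolynomial (Fin n) ℤ →+* MvPolynomial (Fin n) (MvPolynomial (Fin n) ℤ) :=
  MvPolynomial.map (C : ℤ →+* MvPolynomial (Fin n) ℤ)

lemma phi_C (r : MvPolynomial (Fin n) ℤ) : phi n (C r) = fE n r := by
  simp [phi]

lemma phi_X (i : Fin n) : phi n (X i) = X i := by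
  simp [phi]

lemma phi_mon (d : D n) : phi n (mon (MvPolynomial (Fin n) ℤ) d) = mon ℤ d := by
  unfold mon
  simp [map_prod, phi_X]

lemma phi_esymm (j : ℕ) : phi n (esymm (Fin n) (MvPolynomial (Fin n) ℤ) j) = esymm (Fin n) ℤ j := by
  unfold esymm
  simp [map_sum, map_prod, phi_X]

lemma phi_psi (x : MvPolynomial (Fin n) ℤ) : phi n (psi n x) = x := by
  unfold phi psi
  rw [coe_eval₂Hom, eval₂_map]
  have : (↑(fE n) : MvPolynomial (Fin n) ℤ →+* MvPolynomial (Fin n) ℤ).comp C = C := by
    ext z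
    simp
  rw [this, eval₂_eta]

lemma phi_II_eq_zero {y : MvPolynomial (Fin n) (MvPolynomial (Fin n) ℤ)}
    (hy : y ∈ II (fun i : Fin n => (X i : MvPolynomial (Fin n) ℤ))) : phi n y = 0 := by
  have hle : II (fun i : Fin n => (X i : MvPolynomial (Fin n) ℤ)) ≤ RingHom.ker (phi n) := by
    unfold II
    rw [Ideal.span_le]
    rintro _ ⟨i, rfl⟩
    rw [SetLike.mem_coe, RingHom.mem_ker, map_sub, phi_esymm, phi_C]
    simp [fE]
  exact hle hy

lemma sub_psi_phi_mem (y : MvPolynomial (Fin n) (MvPolynomial (Fin n) ℤ)) :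
    y - psi n (phi n y) ∈ II (fun i : Fin n => (X i : MvPolynomial (Fin n) ℤ)) := by
  set I := II (fun i : Fin n => (X i : MvPolynomial (Fin n) ℤ)) with hI
  have hC : ∀ r : MvPolynomial (Fin n) ℤ, C r - psi n (fE n r) ∈ I := by
    intro r
    induction r using MvPolynomial.induction_on with
    | C z =>
      have : psi n (fE n (C z)) = C (C z) := by
        simp [psi, fE]
      rw [this, sub_self]
      exact I.zero_mem
    | add p q hp hq =>
      have : C (p + q) - psi n (fE n (p + q)) =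
          (C p - psi n (fE n p)) + (C q - psi n (fE n q)) := by
        simp only [map_add]; ring
      rw [this]
      exact I.add_mem hp hq
    | mul_X p i hp =>
      have h1 : fE n (p * X i) = fE n p * esymm (Fin n) ℤ ((i : ℕ) + 1) := by
        simp [fE]
      have h2 : psi n (esymm (Fin n) ℤ ((i : ℕ) + 1)) =
          esymm (Fin n) (MvPolynomial (Fin n) ℤ) ((i : ℕ) + 1) := by
        unfold psi
        exact MvPolynomial.map_esymm _ _ _ _
      have h3 : C (p * X i) - psi n (fE n (p * X i)) =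
          (C p - psi n (fE n p)) * esymm (Fin n) (MvPolynomial (Fin n) ℤ) ((i : ℕ) + 1)
          - C p * (esymm (Fin n) (MvPolynomial (Fin n) ℤ) ((i : ℕ) + 1) - C (X i)) := by
        rw [h1, map_mul (psi n), h2, C_mul]; ring
      rw [h3]
      refine I.sub_mem (I.mul_mem_right _ hp) (I.mul_mem_left _ ?_)
      exact Ideal.subset_span ⟨i, rfl⟩
  induction y using MvPolynomial.induction_on with
  | C r => rw [phi_C]; exact hC r
  | add p q hp hq =>
    have : p + q - psi n (phi n (p + q)) = (p - psi n (phi n p)) + (q - psi n (phi n q)) := by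
      simp only [map_add]; ring
    rw [this]
    exact I.add_mem hp hq
  | mul_X p i hp =>
    have : p * X i - psi n (phi n (p * X i)) = (p - psi n (phi n p)) * X i := by
      rw [map_mul, phi_X, map_mul]
      have : psi n (X i) = X i := by simp [psi]
      rw [this]; ring
    rw [this]
    exact I.mul_mem_right _ hp

theorem S16402_main (n : ℕ) :
    Function.Bijective (fun p : D n → MvPolynomial (Fin n) ℤ =>
      ∑ d : D n, (aeval (fun i : Fin n => esymm (Fin n) ℤ ((i : ℕ) + 1))) (p d) *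
        ∏ i : Fin n, X i ^ ((d i : ℕ))) := by
  have hF : ∀ p : D n → MvPolynomial (Fin n) ℤ,
      (∑ d : D n, (aeval (fun i : Fin n => esymm (Fin n) ℤ ((i : ℕ) + 1))) (p d) *
        ∏ i : Fin n, X i ^ ((d i : ℕ))) =
      phi n (∑ d : D n, C (p d) * mon (MvPolynomial (Fin n) ℤ) d) := by
    intro p
    rw [map_sum]
    refine Finset.sum_congr rfl fun d _ => ?_
    rw [map_mul, phi_C, phi_mon]
    rfl
  constructor
  · intro p p' h
    simp only at h
    rw [hF, hF, ← sub_eq_zero, ← map_sub] at h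
    set y := (∑ d : D n, C (p d) * mon (MvPolynomial (Fin n) ℤ) d) -
      ∑ d : D n, C (p' d) * mon (MvPolynomial (Fin n) ℤ) d with hy
    have hy' : y = ∑ d : D n, C (p d - p' d) * mon (MvPolynomial (Fin n) ℤ) d := by
      rw [hy, ← Finset.sum_sub_distrib]
      refine Finset.sum_congr rfl fun d _ => by rw [map_sub]; ring
    have hmem := sub_psi_phi_mem y
    rw [h, map_zero, sub_zero, hy'] at hmem
    have := indep_mod _ _ hmem
    funext d
    exact sub_eq_zero.mp (this d)
  · intro x
    obtain ⟨r, hr⟩ := span_mod (fun i : Fin n => (X i : MvPolynomial (Fin n) ℤ)) (psi n x)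
    refine ⟨r, ?_⟩
    simp only
    rw [hF]
    have := phi_II_eq_zero hr
    rw [map_sub, phi_psi, sub_eq_zero] at this
    exact this.symm

end Groth.Agent.Lib.Helper31.Artin
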