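import Mathlib
import Groth.Agent.S0595
import Groth.Agent.S0536
import Groth.Agent.S0543
import Groth.Agent.Lib.Helper83.ZarLaur2
import Groth.Agent.Lib.Helper76.SchlCompl

set_option autoImplicit false
universe u

namespace Groth.Agent.Lib.Helper31.ArtinEq

/-- Artin approximation (equation form) for a Noetherian henselian pair `(A, I)` with regular
completion map: Popescu's factorization plus lifting through smooth algebras over the henselian
pair `(A, I^(N+1))`. -/
theorem approx (A : Type u) [CommRing A] [IsNoetherianRing A]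
    (I : Ideal A) [HenselianRing A I] (hreg : CAlg.IsRegularHom A (AdicCompletion I A)) (n m : ℕ)
    (F : Fin m → MvPolynomial (Fin n) A) (a : Fin n → (AdicCompletion I A))
    (ha : ∀ j, MvPolynomial.eval a (MvPolynomial.map (algebraMap A (AdicCompletion I A)) (F j)) = 0)
    (N : ℕ) :
    ∃ b : Fin n → A, (∀ j, MvPolynomial.eval b (F j) = 0) ∧
      ∀ i, a i - algebraMap A (AdicCompletion I A) (b i) ∈
        (I ^ N).map (algebraMap A (AdicCompletion I A)) := by
  classical
  have hfg : I.FG := IsNoetherian.noetherian I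
  haveI : IsNoetherianRing (AdicCompletion I A) := Groth.Agent.S0543.result A I
  -- the finitely presented algebra of the system
  let K : Ideal (MvPolynomial (Fin n) A) := Ideal.span (Set.range F)
  let B0 := MvPolynomial (Fin n) A ⧸ K
  have hK : K.FG := by
    refine ⟨(Finset.univ : Finset (Fin m)).image F, ?_⟩
    simp [K]
  haveI : Algebra.FinitePresentation A B0 :=
    Algebra.FinitePresentation.quotient hK
  have hle : ∀ p ∈ K, (MvPolynomial.aeval a : MvPolynomial (Fin n) A →ₐ[A] AdicCompletion I A) p = 0 := by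
    intro p hp
    have : K ≤ RingHom.ker (MvPolynomial.aeval a : MvPolynomial (Fin n) A →ₐ[A] AdicCompletion I A) := by
      rw [Ideal.span_le]
      rintro _ ⟨j, rfl⟩
      rw [SetLike.mem_coe, RingHom.mem_ker]
      have := ha j
      rwa [MvPolynomial.eval_map, ← MvPolynomial.aeval_def] at this
    exact this hp
  let f : B0 →ₐ[A] AdicCompletion I A := Ideal.Quotient.liftₐ K (MvPolynomial.aeval a) hle
  obtain ⟨C, _, _, hsm, g, h, hgh⟩ :=
    Groth.Agent.S0595.result A (AdicCompletion I A) hreg B0 f
  haveI := hsm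
  -- henselian along I^(N+1)
  haveI : HenselianRing A (I ^ (N + 1)) :=
    Groth.Agent.Lib.Helper83.ZarLaur.henselian_of_pow_le I (I ^ (N + 1)) 1
      (by rw [pow_one]; exact Ideal.pow_le_self (Nat.succ_ne_zero N))
  let σ : C →ₐ[A] A ⧸ I ^ (N + 1) := (AdicCompletion.evalₐ I (N + 1)).comp h
  obtain ⟨τ, hτ⟩ := Groth.Agent.S0536.result A C A (I ^ (N + 1)) σ
  let ψ : MvPolynomial (Fin n) A →ₐ[A] A := (τ.comp g).comp (Ideal.Quotient.mkₐ A K)
  refine ⟨fun i => ψ (MvPolynomial.X i), ?_, ?_⟩
  · intro j
    have h1 : ψ = MvPolynomial.aeval (fun i => ψ (MvPolynomial.X i)) := by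
      apply MvPolynomial.algHom_ext
      intro i
      simp
    have h2 : ψ (F j) = 0 := by
      have : Ideal.Quotient.mkₐ A K (F j) = 0 := by
        rw [Ideal.Quotient.mkₐ_eq_mk, Ideal.Quotient.eq_zero_iff_mem]
        exact Ideal.subset_span ⟨j, rfl⟩
      simp only [ψ, AlgHom.comp_apply, this, map_zero]
    rw [h1] at h2
    rw [← h2, MvPolynomial.aeval_def, MvPolynomial.eval₂_eq_eval_map]
    simp [MvPolynomial.map_id]
  · intro i
    have hai : a i = h (g (Ideal.Quotient.mkₐ A K (MvPolynomial.X i))) := by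
      have := AlgHom.congr_fun hgh (Ideal.Quotient.mkₐ A K (MvPolynomial.X i))
      rw [AlgHom.comp_apply] at this
      rw [this]
      show a i = Ideal.Quotient.liftₐ K (MvPolynomial.aeval a) hle
        (Ideal.Quotient.mk K (MvPolynomial.X i))
      rw [Ideal.Quotient.liftₐ_apply, Ideal.Quotient.lift_mk]
      simp
    have hker : a i - algebraMap A (AdicCompletion I A) (ψ (MvPolynomial.X i)) ∈
        RingHom.ker (AdicCompletion.evalₐ I (N + 1)) := by
      rw [RingHom.mem_ker, map_sub, sub_eq_zero, hai]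
      have h3 := AlgHom.congr_fun hτ (g (Ideal.Quotient.mkₐ A K (MvPolynomial.X i)))
      simp only [AlgHom.comp_apply, σ] at h3
      rw [← h3]
      rfl
    rw [Groth.Agent.Lib.Helper76.ker_evalₐ_eq I hfg (N + 1)] at hker
    rw [Ideal.map_pow]
    exact Ideal.pow_le_pow_right (Nat.le_succ N) hker

end Groth.Agent.Lib.Helper31.ArtinEq
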