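import Mathlib
import Groth.Agent.Lib.Helper20.FPApprox

set_option autoImplicit false
universe u
open CategoryTheory Limits

namespace Groth.Agent.Lib.Helper31.ArtinFun

open Groth.Agent.Lib.Helper20.FPApprox

variable {A B : Type u} [CommRing A] [CommRing B] [Algebra A B]

/-- The "equation form" of approximation for `A → B` modulo an ideal `K` of `B`. -/
def EqApprox (A B : Type u) [CommRing A] [CommRing B] [Algebra A B] (K : Ideal B) : Prop :=
  ∀ (n m : ℕ) (G : Fin m → MvPolynomial (Fin n) A) (a : Fin n → B),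
    (∀ j, MvPolynomial.eval a (MvPolynomial.map (algebraMap A B) (G j)) = 0) →
    ∃ b : Fin n → A, (∀ j, MvPolynomial.eval b (G j) = 0) ∧ ∀ i, a i - algebraMap A B (b i) ∈ K

/-- Key lemma: under `EqApprox`, every finitely presented `A`-algebra mapping to `B` retracts to `A`
compatibly modulo `K`. -/
theorem exists_retraction (K : Ideal B) (h : EqApprox A B K) (j : Pres A B) :
    ∃ φ : j.Alg →ₐ[A] A, ∀ y : j.Alg, j.leg y - algebraMap A B (φ y) ∈ K := by
  classical
  obtain ⟨s, hs⟩ := j.fg
  let n := Fintype.card j.S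
  let e : j.S ≃ Fin n := Fintype.equivFin j.S
  let m := s.card
  let es : s ≃ Fin m := s.equivFin
  let G : Fin m → MvPolynomial (Fin n) A := fun k => MvPolynomial.rename e (es.symm k).1
  let a : Fin n → B := fun i => ((e.symm i : j.S) : B)
  have ha : ∀ k, MvPolynomial.eval a (MvPolynomial.map (algebraMap A B) (G k)) = 0 := by
    intro k
    have hk : ((es.symm k).1 : MvPolynomial j.S A) ∈ j.I := by
      rw [← hs]; exact Ideal.subset_span (es.symm k).2
    have h0 := j.le_ker _ hk
    have h1 : MvPolynomial.eval a (MvPolynomial.map (algebraMap A B) (G k)) =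
        MvPolynomial.aeval a (G k) := by
      rw [MvPolynomial.eval_map, MvPolynomial.aeval_def]
    rw [h1]
    simp only [G, MvPolynomial.aeval_rename]
    have h2 : (a ∘ e) = fun s : j.S => (s : B) := by
      funext s
      simp [a]
    rw [h2]
    exact h0
  obtain ⟨b, hb, hab⟩ := h n m G a ha
  have hker : ∀ p ∈ j.I, (MvPolynomial.aeval (b ∘ e) : MvPolynomial j.S A →ₐ[A] A) p = 0 := by
    intro p hp
    rw [← hs] at hp
    refine Submodule.span_induction ?_ ?_ ?_ ?_ hp
    · intro q hq
      have := hb (es ⟨q, hq⟩)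
      simp only [G, Equiv.symm_apply_apply] at this
      rw [MvPolynomial.eval_rename] at this
      rw [MvPolynomial.aeval_def, MvPolynomial.eval₂_eq_eval_map]
      simpa [MvPolynomial.eval_map, MvPolynomial.eval₂_id] using this
    · simp
    · intro x y _ _ hx hy
      rw [map_add, hx, hy, add_zero]
    · intro c x _ hx
      rw [smul_eq_mul, map_mul, hx, mul_zero]
  let φ : j.Alg →ₐ[A] A := Ideal.Quotient.liftₐ j.I (MvPolynomial.aeval (b ∘ e)) hker
  refine ⟨φ, ?_⟩
  -- compare the two algebra maps modulo K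
  let q : B →ₐ[A] B ⧸ K := Ideal.Quotient.mkₐ A K
  have heq : q.comp j.leg = q.comp ((Algebra.ofId A B).comp φ) := by
    apply Ideal.Quotient.algHom_ext
    apply MvPolynomial.algHom_ext
    intro s
    show q (j.leg (Ideal.Quotient.mk j.I (MvPolynomial.X s))) =
      q (algebraMap A B (φ (Ideal.Quotient.mk j.I (MvPolynomial.X s))))
    have h1 : j.leg (Ideal.Quotient.mk j.I (MvPolynomial.X s)) = (s : B) := by
      rw [Pres.leg_mk, ev_X]
    have h2 : φ (Ideal.Quotient.mk j.I (MvPolynomial.X s)) = b (e s) := by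
      show (MvPolynomial.aeval (b ∘ e)) (MvPolynomial.X s) = b (e s)
      rw [MvPolynomial.aeval_X]
      rfl
    rw [h1, h2]
    have h3 := hab (e s)
    simp only [a, Equiv.symm_apply_apply] at h3
    show Ideal.Quotient.mk K (s : B) = Ideal.Quotient.mk K (algebraMap A B (b (e s)))
    rw [Ideal.Quotient.eq]
    exact h3
  intro y
  have := congrArg (fun f => f y) heq
  simp only [AlgHom.comp_apply] at this
  rw [← Ideal.Quotient.eq]
  exact this

end Groth.Agent.Lib.Helper31.ArtinFun
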