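import Mathlib
import Groth.Agent.Lib.Helper20.FPApprox
import Groth.Agent.Lib.Helper31.ArtinFun1

set_option autoImplicit false
universe u
open CategoryTheory Limits

namespace Groth.Agent.Lib.Helper31.ArtinFun

open Groth.Agent.Lib.Helper20.FPApprox

variable (A B : Type u) [CommRing A] [CommRing B] [Algebra A B]

/-- all presentations are good -/
abbrev allGood : Pres A B → Prop := fun _ => True

/-- the index category of all finite presentations mapping to `B` -/
abbrev J : Type u := GoodPres (allGood A B)

theorem hcof (S₀ : Finset B) : ∃ j : Pres A B, allGood A B j ∧ S₀ ⊆ j.S :=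
  ⟨⟨S₀, ⊥, Submodule.fg_bot, fun x hx => by
    rw [Ideal.mem_bot] at hx; rw [hx, map_zero]⟩, trivial, Finset.Subset.refl _⟩

theorem hup (j : Pres A B) (I' : Ideal (MvPolynomial j.S A)) (fg' : I'.FG)
    (le_ker' : ∀ x ∈ I', ev A B j.S x = 0) (_ : j.I ≤ I') (_ : allGood A B j) :
    allGood A B ⟨j.S, I', fg', le_ker'⟩ := trivial

instance : IsDirected (J A B) (· ≤ ·) := isDirected_goodPres (allGood A B) (hcof A B) (hup A B)
instance : Nonempty (J A B) := nonempty_goodPres (allGood A B) (hcof A B)

/-- the diagram in `CommAlgCat A` -/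
noncomputable def diag : J A B ⥤ CommAlgCat.{u} A where
  obj j := CommAlgCat.of A j.1.Alg
  map {j j'} g := CommAlgCat.ofHom (Pres.trans (j := j.1) (j' := j'.1) (leOfHom g))
  map_id j := by
    ext x
    exact Pres.trans_refl (j := j.1) le_rfl x
  map_comp {j j' j''} g g' := by
    ext x
    exact (Pres.trans_trans (j := j.1) (j' := j'.1) (j'' := j''.1) (leOfHom g) (leOfHom g')
      (leOfHom (g ≫ g')) x).symm

/-- the cocone with point `B` -/
noncomputable def coc : Cocone (diag A B) where
  pt := CommAlgCat.of A B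
  ι :=
    { app := fun j => CommAlgCat.ofHom j.1.leg
      naturality := fun j j' g => by
        ext x
        exact Pres.leg_trans (j := j.1) (j' := j'.1) (leOfHom g) x }

/-- `B` is the filtered colimit in `CommAlgCat A` of its finite presentations. -/
theorem nonempty_isColimitCoc : Nonempty (IsColimit (coc A B)) := by
  obtain ⟨_, _, ⟨hc⟩⟩ := exists_isColimit (allGood A B) (hcof A B) (hup A B)
  refine ⟨isColimitOfReflects (commAlgCatEquivUnder (CommRingCat.of A)).functor ?_⟩
  exact hc


section Functor

variable {A B}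
variable (F : CommAlgCat.{u} A ⥤ Type u) [PreservesFilteredColimitsOfSize.{u, u} F]

theorem nonempty_isColimit_map : Nonempty (IsColimit (F.mapCocone (coc A B))) := by
  obtain ⟨hc⟩ := nonempty_isColimitCoc A B
  haveI : PreservesColimitsOfShape (J A B) F :=
    PreservesFilteredColimitsOfSize.preserves_filtered_colimits (J A B)
  exact ⟨isColimitOfPreserves F hc⟩

/-- every element of `F(B)` comes from a finite presentation -/
theorem exists_rep (y : F.obj (CommAlgCat.of A B)) :
    ∃ (j : Pres A B) (yj : F.obj (CommAlgCat.of A j.Alg)),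
      F.map (CommAlgCat.ofHom j.leg) yj = y := by
  obtain ⟨hc⟩ := nonempty_isColimit_map (A := A) (B := B) F
  obtain ⟨j, yj, h⟩ := Types.jointly_surjective _ hc y
  exact ⟨j.1, yj, h⟩

/-- two elements over a finite presentation that agree in `F(B)` agree over a later one -/
theorem exists_eq (j : Pres A B) (y y' : F.obj (CommAlgCat.of A j.Alg))
    (h : F.map (CommAlgCat.ofHom j.leg) y = F.map (CommAlgCat.ofHom j.leg) y') :
    ∃ (k : Pres A B) (hjk : j ≤ k), F.map (CommAlgCat.ofHom (Pres.trans hjk)) y =
      F.map (CommAlgCat.ofHom (Pres.trans hjk)) y' := by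
  obtain ⟨hc⟩ := nonempty_isColimit_map (A := A) (B := B) F
  have h' : (F.mapCocone (coc A B)).ι.app ⟨j, trivial⟩ y =
      (F.mapCocone (coc A B)).ι.app ⟨j, trivial⟩ y' := h
  rw [Types.FilteredColimit.isColimit_eq_iff' hc] at h'
  obtain ⟨k, f, hk⟩ := h'
  exact ⟨k.1, leOfHom f, hk⟩

end Functor

end Groth.Agent.Lib.Helper31.ArtinFun
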