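import Mathlib
import Groth.Agent.Lib.Helper31.ArtinFun2

set_option autoImplicit false
universe u
open CategoryTheory Limits

namespace Groth.Agent.Lib.Helper31.ArtinFun

open Groth.Agent.Lib.Helper20.FPApprox

theorem algHom_self_ext {A C : Type u} [CommRing A] [CommRing C] [Algebra A C]
    (f g : A →ₐ[A] C) : f = g := by
  ext

theorem main (A : Type u) [CommRing A] (I : Ideal A)
    (hAA : ∀ N : ℕ, EqApprox A (AdicCompletion I A)
      ((I ^ N).map (algebraMap A (AdicCompletion I A))))
    (F : CommAlgCat.{u} A ⥤ Type u) [PreservesFilteredColimitsOfSize.{u, u} F] :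
    Function.Injective (F.map (CommAlgCat.ofHom (Algebra.ofId A (AdicCompletion I A)))) ∧
    ∀ xbar : F.obj (CommAlgCat.of A (A ⧸ I)),
      (∃ x : F.obj (CommAlgCat.of A A),
        F.map (CommAlgCat.ofHom (Ideal.Quotient.mkₐ A I)) x = xbar) ↔
      (∃ y : F.obj (CommAlgCat.of A (AdicCompletion I A)),
        F.map (CommAlgCat.ofHom (AdicCompletion.evalOneₐ I)) y = xbar) := by
  refine ⟨?_, fun xbar => ⟨?_, ?_⟩⟩
  · -- injectivity
    intro x₁ x₂ h
    obtain ⟨j₀, -, -⟩ := hcof A (AdicCompletion I A) ∅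
    have e0 : Algebra.ofId A (AdicCompletion I A) = j₀.leg.comp (Algebra.ofId A j₀.Alg) :=
      algHom_self_ext _ _
    rw [e0, CommAlgCat.ofHom_comp, F.map_comp] at h
    simp only [types_comp_apply] at h
    obtain ⟨k, hjk, hk⟩ := exists_eq F j₀ _ _ h
    obtain ⟨φ, -⟩ := exists_retraction _ (hAA 0) k
    have h2 := congrArg (F.map (CommAlgCat.ofHom φ)) hk
    simp only [← types_comp_apply (F.map _) (F.map _), ← F.map_comp, ← CommAlgCat.ofHom_comp] at h2
    have e1 : (φ.comp ((Pres.trans hjk).comp (Algebra.ofId A j₀.Alg))) = AlgHom.id A A :=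
      algHom_self_ext _ _
    have e1' : (φ.comp (Pres.trans hjk)).comp (Algebra.ofId A j₀.Alg) = AlgHom.id A A := by
      rw [← e1]; rfl
    simp only [e1] at h2
    simpa using h2
  · rintro ⟨x, rfl⟩
    refine ⟨F.map (CommAlgCat.ofHom (Algebra.ofId A (AdicCompletion I A))) x, ?_⟩
    rw [← types_comp_apply (F.map _) (F.map _), ← F.map_comp, ← CommAlgCat.ofHom_comp]
    congr 2
  · rintro ⟨y, rfl⟩
    obtain ⟨j, yj, rfl⟩ := exists_rep F y
    obtain ⟨φ, hφ⟩ := exists_retraction _ (hAA 1) j
    refine ⟨F.map (CommAlgCat.ofHom φ) yj, ?_⟩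
    rw [← types_comp_apply (F.map _) (F.map _), ← F.map_comp, ← CommAlgCat.ofHom_comp,
      ← types_comp_apply (F.map _) (F.map _), ← F.map_comp, ← CommAlgCat.ofHom_comp]
    have e : (Ideal.Quotient.mkₐ A I).comp φ = (AdicCompletion.evalOneₐ I).comp j.leg := by
      ext y
      simp only [AlgHom.comp_apply]
      have h1 := hφ y
      have hle : (I ^ 1).map (algebraMap A (AdicCompletion I A)) ≤
          RingHom.ker (AdicCompletion.evalOneₐ I : AdicCompletion I A →ₐ[A] A ⧸ I).toRingHom := by
        rw [Ideal.map_le_iff_le_comap]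
        intro a ha
        rw [pow_one] at ha
        rw [Ideal.mem_comap, RingHom.mem_ker]
        show (AdicCompletion.evalOneₐ I) (algebraMap A (AdicCompletion I A) a) = 0
        rw [AlgHom.commutes]
        exact Ideal.Quotient.eq_zero_iff_mem.mpr ha
      have h2 := hle h1
      rw [RingHom.mem_ker] at h2
      have h3 : (AdicCompletion.evalOneₐ I) (j.leg y - algebraMap A (AdicCompletion I A) (φ y)) = 0 := h2
      rw [map_sub, AlgHom.commutes, sub_eq_zero] at h3
      rw [h3]
      rfl
    rw [e]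

end Groth.Agent.Lib.Helper31.ArtinFun
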