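import Mathlib

/-!
# Shortest-path dynamic programming on `0 < 1 < ⋯ < N` and chains

Generic lemmas used for S12549 (Mumford's chain-sum lemma):
* `exists_dp`: existence of optimal values `m`, predecessor pointers `pr` and a second
  additive functional `m'` evaluated along the predecessor pointers;
* `exists_chain`: unrolling predecessor pointers into a strictly increasing chain.
-/

namespace Groth.Agent.Lib.Helper31.CH

open Finset

theorem exists_dp (w w' : ℕ → ℕ → ℝ) (N : ℕ) :
    ∃ (m m' : ℕ → ℝ) (pr : ℕ → ℕ), m 0 = 0 ∧ m' 0 = 0 ∧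
      (∀ a b, a < b → b ≤ N → m b ≤ m a + w a b) ∧
      (∀ b, 0 < b → b ≤ N → pr b < b ∧ m b = m (pr b) + w (pr b) b ∧
        m' b = m' (pr b) + w' (pr b) b) := by
  induction N with
  | zero =>
    exact ⟨fun _ => 0, fun _ => 0, fun _ => 0, rfl, rfl, by intro a b hab hb; omega,
      by intro b hb hb'; omega⟩
  | succ N ih =>
    obtain ⟨m, m', pr, h0, h0', hB, hP⟩ := ih
    obtain ⟨a0, ha0, hmin⟩ := Finset.exists_min_image (Finset.range (N + 1))
      (fun a => m a + w a (N + 1)) ⟨0, by simp⟩
    have ha0' : a0 < N + 1 := Finset.mem_range.mp ha0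
    refine ⟨Function.update m (N + 1) (m a0 + w a0 (N + 1)),
      Function.update m' (N + 1) (m' a0 + w' a0 (N + 1)),
      Function.update pr (N + 1) a0, ?_, ?_, ?_, ?_⟩
    · rw [Function.update_of_ne (by omega)]; exact h0
    · rw [Function.update_of_ne (by omega)]; exact h0'
    · intro a b hab hb
      rcases Nat.lt_or_ge b (N + 1) with hb' | hb'
      · rw [Function.update_of_ne (by omega), Function.update_of_ne (by omega)]
        exact hB a b hab (by omega)
      · have hbN : b = N + 1 := by omega
        subst hbN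
        rw [Function.update_self, Function.update_of_ne (by omega)]
        exact hmin a (Finset.mem_range.mpr hab)
    · intro b hb0 hb
      rcases Nat.lt_or_ge b (N + 1) with hb' | hb'
      · obtain ⟨h1, h2, h3⟩ := hP b hb0 (by omega)
        rw [Function.update_of_ne (by omega : b ≠ N + 1) a0 pr]
        refine ⟨h1, ?_, ?_⟩
        · rw [Function.update_of_ne (by omega), Function.update_of_ne (by omega)]
          exact h2
        · rw [Function.update_of_ne (by omega), Function.update_of_ne (by omega)]
          exact h3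
      · have hbN : b = N + 1 := by omega
        subst hbN
        rw [Function.update_self]
        refine ⟨ha0', ?_, ?_⟩
        · rw [Function.update_self, Function.update_of_ne (by omega)]
        · rw [Function.update_self, Function.update_of_ne (by omega)]

theorem exists_chain (w' : ℕ → ℕ → ℝ) (m' : ℕ → ℝ) (pr : ℕ → ℕ) (N : ℕ) (h0 : m' 0 = 0)
    (hP : ∀ b, 0 < b → b ≤ N → pr b < b ∧ m' b = m' (pr b) + w' (pr b) b) :
    ∀ b, b ≤ N → ∃ (μ : ℕ) (c : Fin (μ + 1) → ℕ), StrictMono c ∧ c 0 = 0 ∧
      c (Fin.last μ) = b ∧ ∑ j : Fin μ, w' (c j.castSucc) (c j.succ) = m' b := by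
  intro b
  induction b using Nat.strong_induction_on with
  | _ b ih =>
    intro hb
    rcases Nat.eq_zero_or_pos b with rfl | hb0
    · refine ⟨0, fun _ => 0, ?_, rfl, rfl, ?_⟩
      · intro i j hij
        exact absurd hij (by omega)
      simp [h0]
    · obtain ⟨h1, h2⟩ := hP b hb0 hb
      obtain ⟨μ, c, hc, hc0, hcl, hsum⟩ := ih (pr b) h1 (by omega)
      refine ⟨μ + 1, Fin.snoc (α := fun _ => ℕ) c b, ?_, ?_, ?_, ?_⟩
      · rw [Fin.strictMono_iff_lt_succ]
        intro i
        obtain ⟨i, rfl⟩ | rfl := i.eq_castSucc_or_eq_last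
        · rw [Fin.snoc_castSucc, ← Fin.castSucc_succ, Fin.snoc_castSucc]
          exact hc (Fin.castSucc_lt_succ)
        · rw [Fin.snoc_castSucc, Fin.succ_last, Fin.snoc_last, hcl]
          exact h1
      · have : (0 : Fin (μ + 1 + 1)) = Fin.castSucc (0 : Fin (μ + 1)) := rfl
        rw [this, Fin.snoc_castSucc]
        exact hc0
      · exact Fin.snoc_last _ _
      · rw [Fin.sum_univ_castSucc]
        have : ∀ j : Fin μ, w' (Fin.snoc (α := fun _ => ℕ) c b (Fin.castSucc (Fin.castSucc j)))
            (Fin.snoc (α := fun _ => ℕ) c b (Fin.castSucc j).succ) = w' (c j.castSucc) (c j.succ) := by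
          intro j
          rw [Fin.snoc_castSucc, ← Fin.castSucc_succ, Fin.snoc_castSucc]
        rw [Finset.sum_congr rfl (fun j _ => this j), hsum, Fin.snoc_castSucc, Fin.succ_last,
          Fin.snoc_last, hcl, h2]

end Groth.Agent.Lib.Helper31.CH
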