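import Mathlib

/-!
# Lower-hull optimality inequality for shortest chains

For a grid `0 = x 0 < x 1 < ⋯ < x N`, an antitone sequence `r`, and the shortest-path values `m`
for the weights `(x b - x a) * (r a + r b)`, we prove the key inequality used for S12549.
-/

namespace Groth.Agent.Lib.Helper31.CH

open Finset

section
variable (N : ℕ) (x r m : ℕ → ℝ) (pr : ℕ → ℕ) (κ : ℝ)

/-- `H b = x_b² - κ (b x_b - ∑_{i<b} x_i)`. -/
noncomputable def Hf (b : ℕ) : ℝ := x b ^ 2 - κ * (b * x b - ∑ i ∈ range b, x i)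

/-- `Φ b = m b - κ ∑_{i<b} r_i - (2 x_b - κ b) r_b`. -/
noncomputable def Phi (b : ℕ) : ℝ := m b - κ * (∑ i ∈ range b, r i) - (2 * x b - κ * b) * r b

/-- slope of the last segment of the optimal chain to `b`. -/
noncomputable def sl (b : ℕ) : ℝ := (r (pr b) - r b) / (x b - x (pr b))

variable {N x r m pr κ}

theorem main_ineq (hκ : 0 ≤ κ)
    (hx0 : x 0 = 0) (hx : ∀ a b, a < b → b ≤ N → x a < x b)
    (hr : ∀ a b, a ≤ b → b ≤ N → r b ≤ r a)
    (hm0 : m 0 = 0)
    (hB : ∀ a b, a < b → b ≤ N → m b ≤ m a + (x b - x a) * (r a + r b))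
    (hP : ∀ b, 0 < b → b ≤ N → pr b < b ∧ m b = m (pr b) + (x b - x (pr b)) * (r (pr b) + r b))
    (hH : ∀ b, 0 < b → b ≤ N → Hf x κ b < 0) :
    ∀ b, b ≤ N → (0 < b → Phi x r m κ b ≤ sl x r pr b * Hf x κ b) ∧
      (r b < r 0 → Phi x r m κ b < 0) := by
  intro b
  induction b using Nat.strong_induction_on with
  | _ b ih =>
    intro hbN
    rcases Nat.eq_zero_or_pos b with rfl | hb0
    · exact ⟨fun h => absurd h (lt_irrefl _), fun h => absurd h (lt_irrefl _)⟩
    obtain ⟨hab, hmb⟩ := hP b hb0 hbN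
    set a := pr b with ha
    have hD : 0 < x b - x a := sub_pos.mpr (hx a b hab hbN)
    set σ := sl x r pr b with hσ
    have hσD : σ * (x b - x a) = r a - r b := by
      rw [hσ, sl, ← ha]; field_simp
    have hσ0 : 0 ≤ σ := by
      rw [hσ, sl, ← ha]
      exact div_nonneg (sub_nonneg.mpr (hr a b hab.le hbN)) hD.le
    -- (I) points strictly between `a` and `b` lie above the segment
    have hI : ∀ i, a < i → i < b → r a - σ * (x i - x a) ≤ r i := by
      intro i hai hib
      have h1 := hB a i hai (by omega)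
      have h2 := hB i b hib hbN
      have h3 : (x b - x a) * (r a - σ * (x i - x a)) ≤ (x b - x a) * r i := by
        have : (x b - x a) * (r a - σ * (x i - x a))
            = (x b - x a) * r a - (σ * (x b - x a)) * (x i - x a) := by ring
        rw [this, hσD]
        nlinarith
      exact le_of_mul_le_mul_left h3 hD
    -- sum bound
    have hT : ((b : ℝ) - a) * r a - σ * (∑ i ∈ Ico a b, x i - ((b : ℝ) - a) * x a)
        ≤ ∑ i ∈ Ico a b, r i := by
      have h1 : ∑ i ∈ Ico a b, (r a - σ * (x i - x a)) ≤ ∑ i ∈ Ico a b, r i := by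
        apply Finset.sum_le_sum
        intro i hi
        rw [Finset.mem_Ico] at hi
        rcases Nat.eq_or_lt_of_le hi.1 with h | h
        · subst h; simp
        · exact hI i h hi.2
      have h2 : ∑ i ∈ Ico a b, (r a - σ * (x i - x a))
          = ((b : ℝ) - a) * r a - σ * (∑ i ∈ Ico a b, x i - ((b : ℝ) - a) * x a) := by
        simp only [Finset.sum_sub_distrib, ← Finset.mul_sum, Finset.sum_const, Nat.card_Ico,
          nsmul_eq_mul, Nat.cast_sub hab.le]
      rw [← h2]; exact h1
    have hSr : ∑ i ∈ range b, r i = ∑ i ∈ range a, r i + ∑ i ∈ Ico a b, r i :=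
      (Finset.sum_range_add_sum_Ico _ hab.le).symm
    have hSx : ∑ i ∈ range b, x i = ∑ i ∈ range a, x i + ∑ i ∈ Ico a b, x i :=
      (Finset.sum_range_add_sum_Ico _ hab.le).symm
    have hrb : r b = r a - σ * (x b - x a) := by linarith
    -- key step
    have hstep : Phi x r m κ b ≤ Phi x r m κ a + σ * (Hf x κ b - Hf x κ a) := by
      have hT' := mul_le_mul_of_nonneg_left hT hκ
      simp only [Phi, Hf, hSr, hSx, hmb]
      rw [hrb]
      nlinarith [hT']
    have hΦ0 : Phi x r m κ 0 = 0 := by simp [Phi, hm0, hx0]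
    have hH0 : Hf x κ 0 = 0 := by simp [Hf, hx0]
    have hHb : Hf x κ b < 0 := hH b hb0 hbN
    have hmain : Phi x r m κ b ≤ σ * Hf x κ b := by
      rcases Nat.eq_zero_or_pos a with ha0 | ha0
      · rw [ha0, hΦ0, hH0] at hstep
        linarith
      · have hIH := (ih a hab (by omega)).1 ha0
        obtain ⟨ha'a, hma⟩ := hP a ha0 (by omega)
        set a' := pr a with ha'
        have hDa : 0 < x a - x a' := sub_pos.mpr (hx a' a ha'a (by omega))
        have hHa : Hf x κ a < 0 := hH a ha0 (by omega)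
        -- (R) slopes are nonincreasing
        have hR : σ ≤ sl x r pr a := by
          have h1 := hB a' b (by omega) hbN
          rw [hσ, sl, sl, ← ha, ← ha', div_le_div_iff₀ hD hDa]
          nlinarith
        nlinarith [mul_nonneg (sub_nonneg.mpr hR) (neg_nonneg.mpr hHa.le)]
    refine ⟨fun _ => hmain, fun hr0 => ?_⟩
    rcases hσ0.eq_or_lt with h | h
    · have hrab : r a = r b := by
        have := hσD; rw [← h] at this; linarith
      have ha0 : 0 < a := by
        rcases Nat.eq_zero_or_pos a with h' | h'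
        · rw [h'] at hrab; linarith
        · exact h'
      have hIH := (ih a hab (by omega)).2 (by rw [hrab]; exact hr0)
      rw [← h] at hstep
      linarith
    · have := mul_neg_of_pos_of_neg h hHb
      linarith

/-- comparison of the values of a second weight `e ≤ x` along the optimal chain. -/
theorem compare {e m' : ℕ → ℝ} (he : ∀ b, b ≤ N → e b ≤ x b) (he0 : e 0 = x 0)
    (hr : ∀ a b, a ≤ b → b ≤ N → r b ≤ r a) (hm0 : m 0 = 0) (hm0' : m' 0 = 0)
    (hP : ∀ b, 0 < b → b ≤ N → pr b < b ∧ m b = m (pr b) + (x b - x (pr b)) * (r (pr b) + r b) ∧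
      m' b = m' (pr b) + (e b - e (pr b)) * (r (pr b) + r b)) :
    ∀ b, 0 < b → b ≤ N → m' b + (x b - e b) * (r (pr b) + r b) ≤ m b := by
  intro b
  induction b using Nat.strong_induction_on with
  | _ b ih =>
    intro hb0 hbN
    obtain ⟨hab, hmb, hmb'⟩ := hP b hb0 hbN
    set a := pr b with ha
    rcases Nat.eq_zero_or_pos a with ha0 | ha0
    · rw [hmb, hmb', ha0, hm0, hm0', he0]
      linarith
    · have hIH := ih a hab ha0 (by omega)
      have h1 : r b ≤ r (pr a) := hr (pr a) b (by have := (hP a ha0 (by omega)).1; omega) hbN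
      have h2 : 0 ≤ x a - e a := sub_nonneg.mpr (he a (by omega))
      rw [hmb, hmb']
      nlinarith [mul_nonneg h2 (sub_nonneg.mpr h1)]

end

end Groth.Agent.Lib.Helper31.CH
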