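import Mathlib
import Groth.Agent.Lib.Helper31.CH1
import Groth.Agent.Lib.Helper31.CH2

/-!
# Mumford's chain-sum lemma (S12549)
-/

namespace Groth.Agent.Lib.Helper31.CH

open Finset

/-- the extremal degree sequence `ē_i = i` for `i ≤ n - g`, `i + g` afterwards. -/
noncomputable def xb (n g : ℕ) (i : ℕ) : ℝ := if i ≤ n - g then (i : ℝ) else (i : ℝ) + g

lemma sum_xb (n g b : ℕ) : ∑ i ∈ range b, xb n g i
    = (b : ℝ) * (b - 1) / 2 + g * ((b - (n - g + 1) : ℕ) : ℝ) := by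
  induction b with
  | zero => simp
  | succ b ih =>
    rw [Finset.sum_range_succ, ih]
    by_cases h : b ≤ n - g
    · have h1 : b + 1 - (n - g + 1) = 0 := by omega
      have h2 : b - (n - g + 1) = 0 := by omega
      rw [h1, h2, xb, if_pos h]; push_cast; ring
    · have h1 : b + 1 - (n - g + 1) = (b - (n - g + 1)) + 1 := by omega
      rw [h1, xb, if_neg h]; push_cast; ring

lemma xb_lt (n g : ℕ) (hg : 1 ≤ g) (a b : ℕ) (hab : a < b) : xb n g a < xb n g b := by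
  have h1 : (a : ℝ) < b := Nat.cast_lt.mpr hab
  have h2 : (0 : ℝ) < g := Nat.cast_pos.mpr hg
  unfold xb
  split_ifs with ha hb hb
  · exact h1
  · linarith
  · exfalso; omega
  · linarith

lemma Hf_neg (n g : ℕ) (hg : 1 ≤ g) (hn : 2 * g ≤ n) (b : ℕ) (hb0 : 0 < b) (hbn : b ≤ n) :
    Hf (xb n g) (2 * ((n : ℝ) + g) / (n + 1)) b < 0 := by
  have hpos : (0 : ℝ) < (n : ℝ) + 1 := by positivity
  set κ : ℝ := 2 * ((n : ℝ) + g) / (n + 1) with hκ
  have hκ' : κ * ((n : ℝ) + 1) = 2 * ((n : ℝ) + g) := by rw [hκ]; field_simp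
  have hg' : (1 : ℝ) ≤ g := by exact_mod_cast hg
  have hn' : 2 * (g : ℝ) ≤ n := by exact_mod_cast hn
  have hb0' : (1 : ℝ) ≤ b := by exact_mod_cast hb0
  have hbn' : (b : ℝ) ≤ n := by exact_mod_cast hbn
  unfold Hf
  rw [sum_xb]
  by_cases h : b ≤ n - g
  · have h2 : b - (n - g + 1) = 0 := by omega
    rw [h2, xb, if_pos h]
    have key : ((b : ℝ) ^ 2 - κ * (b * b - ((b : ℝ) * (b - 1) / 2 + g * ((0 : ℕ) : ℝ)))) * ((n : ℝ) + 1)
        = (b : ℝ) ^ 2 * (n + 1) - (2 * ((n : ℝ) + g)) * (b * b - (b : ℝ) * (b - 1) / 2) := by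
      rw [← hκ']; push_cast; ring
    have hneg : ((b : ℝ) ^ 2 - κ * (b * b - ((b : ℝ) * (b - 1) / 2 + g * ((0 : ℕ) : ℝ)))) * ((n : ℝ) + 1) < 0 := by
      rw [key]
      nlinarith [mul_pos (lt_of_lt_of_le zero_lt_one hb0') hpos, mul_nonneg (sub_nonneg.mpr hg') (mul_nonneg (by linarith : (0:ℝ) ≤ b) (by linarith : (0:ℝ) ≤ (b:ℝ) + 1))]
    by_contra hE
    push Not at hE
    nlinarith [mul_nonneg hE hpos.le]
  · have hgn : g ≤ n := by omega
    have h2 : ((b - (n - g + 1) : ℕ) : ℝ) = (b : ℝ) - ((n : ℝ) - g + 1) := by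
      rw [Nat.cast_sub (by omega)]; push_cast [Nat.cast_sub hgn]; ring
    have hbg : (n : ℝ) - g < b := by
      have : n - g < b := by omega
      have h3 : ((n - g : ℕ) : ℝ) < b := by exact_mod_cast this
      rwa [Nat.cast_sub hgn] at h3
    rw [h2, xb, if_neg h]
    have key : (((b : ℝ) + g) ^ 2 - κ * (b * ((b : ℝ) + g) - ((b : ℝ) * (b - 1) / 2 + g * ((b : ℝ) - ((n : ℝ) - g + 1))))) * ((n : ℝ) + 1)
        = ((b : ℝ) + g) ^ 2 * (n + 1) - ((n : ℝ) + g) * (b * (b + 1) + 2 * g * (n + 1 - g)) := by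
      have : (((b : ℝ) + g) ^ 2 - κ * (b * ((b : ℝ) + g) - ((b : ℝ) * (b - 1) / 2 + g * ((b : ℝ) - ((n : ℝ) - g + 1))))) * ((n : ℝ) + 1)
          = ((b : ℝ) + g) ^ 2 * (n + 1) - (κ * ((n : ℝ) + 1)) * (b * ((b : ℝ) + g) - ((b : ℝ) * (b - 1) / 2 + g * ((b : ℝ) - ((n : ℝ) - g + 1)))) := by ring
      rw [this, hκ']; ring
    have hneg : (((b : ℝ) + g) ^ 2 - κ * (b * ((b : ℝ) + g) - ((b : ℝ) * (b - 1) / 2 + g * ((b : ℝ) - ((n : ℝ) - g + 1))))) * ((n : ℝ) + 1) < 0 := by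
      rw [key]
      have h3 : 0 ≤ ((n : ℝ) - b) * ((2 * g * n + g - n) - ((g : ℝ) - 1) * (b + n)) := by
        apply mul_nonneg (by linarith)
        nlinarith [mul_nonneg (sub_nonneg.mpr hg') (sub_nonneg.mpr hbn')]
      have h4 : 0 ≤ (g : ℝ) * (((n : ℝ) - 2 * g) * (n + g + 1)) := by
        apply mul_nonneg (by linarith) (mul_nonneg (by linarith) (by linarith))
      have h5 : (0 : ℝ) < 3 * g ^ 2 := by positivity
      nlinarith [h3, h4, h5]
    by_contra hE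
    push Not at hE
    nlinarith [mul_nonneg hE hpos.le]

theorem chain_sum_neg (n g : ℕ) (hg : 1 ≤ g) (hn : 2 * g ≤ n)
    (e : Fin (n + 1) → ℕ) (he0 : e 0 = 0) (hen : e (Fin.last n) = n + g)
    (hle : ∀ i : Fin (n + 1), (i : ℕ) ≤ n - g → e i ≤ (i : ℕ))
    (hle' : ∀ i : Fin (n + 1), e i ≤ (i : ℕ) + g)
    (r : Fin (n + 1) → ℝ) (hanti : Antitone r) (hsum : ∑ i, r i = 0) (hr : r ≠ 0) :
    ∃ (μ : ℕ) (c : Fin (μ + 1) → Fin (n + 1)), StrictMono c ∧ c 0 = 0 ∧
      c (Fin.last μ) = Fin.last n ∧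
      ∑ j : Fin μ, ((e (c j.succ) : ℝ) - (e (c j.castSucc) : ℝ)) *
        (r (c j.succ) + r (c j.castSucc)) < 0 := by
  classical
  set r' : ℕ → ℝ := fun i => if h : i < n + 1 then r ⟨i, h⟩ else 0 with hr'def
  set e' : ℕ → ℝ := fun i => if h : i < n + 1 then (e ⟨i, h⟩ : ℝ) else 0 with he'def
  set x : ℕ → ℝ := xb n g with hxdef
  set κ : ℝ := 2 * ((n : ℝ) + g) / (n + 1) with hκ
  have hpos : (0 : ℝ) < (n : ℝ) + 1 := by positivity
  have hκ' : κ * ((n : ℝ) + 1) = 2 * ((n : ℝ) + g) := by rw [hκ]; field_simp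
  have hκ0 : 0 ≤ κ := by rw [hκ]; positivity
  have hr'eq : ∀ i (h : i < n + 1), r' i = r ⟨i, h⟩ := fun i h => by simp only [hr'def, dif_pos h]
  have he'eq : ∀ i (h : i < n + 1), e' i = (e ⟨i, h⟩ : ℝ) := fun i h => by
    simp only [he'def, dif_pos h]
  obtain ⟨m, m', pr, hm0, hm0', hB, hP⟩ := exists_dp
    (fun a b => (x b - x a) * (r' a + r' b)) (fun a b => (e' b - e' a) * (r' a + r' b)) n
  have hr'anti : ∀ a b, a ≤ b → b ≤ n → r' b ≤ r' a := by
    intro a b hab hb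
    rw [hr'eq a (by omega), hr'eq b (by omega)]
    exact hanti (Fin.mk_le_mk.mpr hab)
  have hx0 : x 0 = 0 := by simp [hxdef, xb]
  have hx : ∀ a b, a < b → b ≤ n → x a < x b := fun a b hab _ => xb_lt n g hg a b hab
  have hxn : x n = (n : ℝ) + g := by
    rw [hxdef, xb, if_neg (by omega)]
  have hmain := main_ineq (N := n) (x := x) (r := r') (m := m) (pr := pr) (κ := κ) hκ0 hx0 hx hr'anti
    hm0 hB (fun b hb0 hbn => ⟨(hP b hb0 hbn).1, (hP b hb0 hbn).2.1⟩)
    (fun b hb0 hbn => Hf_neg n g hg hn b hb0 hbn) n le_rfl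
  -- the sum of r'
  have hsum' : ∑ i ∈ range (n + 1), r' i = 0 := by
    rw [Finset.sum_range, ← hsum]
    exact Finset.sum_congr rfl (fun i _ => hr'eq i i.2)
  -- r' n < r' 0
  have hrn0 : r' n < r' 0 := by
    rcases (hr'anti 0 n (Nat.zero_le _) le_rfl).eq_or_lt with h | h
    · exfalso
      apply hr
      have hall : ∀ i : Fin (n + 1), r i = r' 0 := by
        intro i
        have h1 : r' n ≤ r' i := hr'anti i n (by have := i.2; omega) le_rfl
        have h2 : r' i ≤ r' 0 := hr'anti 0 i (Nat.zero_le _) (by have := i.2; omega)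
        have h3 : r' i = r i := hr'eq i i.2
        linarith
      have h0 : r' 0 = 0 := by
        have : ∑ i : Fin (n + 1), r i = ((n : ℝ) + 1) * r' 0 := by
          rw [Finset.sum_congr rfl (fun i _ => hall i)]
          simp
        rw [hsum] at this
        rcases mul_eq_zero.mp this.symm with h' | h'
        · linarith
        · exact h'
      funext i
      rw [hall i, h0]; rfl
    · exact h
  have hΦ := (hmain).2 hrn0
  have hmn : m n < 0 := by
    have h1 : ∑ i ∈ range n, r' i = - r' n := by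
      rw [Finset.sum_range_succ] at hsum'; linarith
    unfold Phi at hΦ
    rw [h1, hxn] at hΦ
    have h2 : (2 * ((n : ℝ) + g) - κ * n) = κ := by linarith
    rw [h2] at hΦ
    linarith
  -- compare
  have hn0 : 0 < n := by omega
  have he'x : ∀ b, b ≤ n → e' b ≤ x b := by
    intro b hb
    rw [he'eq b (by omega), hxdef, xb]
    split_ifs with h
    · exact_mod_cast hle ⟨b, by omega⟩ h
    · exact_mod_cast hle' ⟨b, by omega⟩
  have he'0 : e' 0 = x 0 := by
    rw [hx0, he'eq 0 (by omega)]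
    have : e ⟨0, by omega⟩ = 0 := he0
    rw [this]; simp
  have he'n : e' n = x n := by
    rw [hxn, he'eq n (by omega)]
    have : e ⟨n, by omega⟩ = n + g := hen
    rw [this]; push_cast; ring
  have hcmp := compare (N := n) (x := x) (r := r') (m := m) (pr := pr) (e := e') (m' := m')
    he'x he'0 hr'anti hm0 hm0' hP n hn0 le_rfl
  have hm'n : m' n < 0 := by
    rw [he'n, sub_self, zero_mul, add_zero] at hcmp
    linarith
  obtain ⟨μ, c, hc, hc0, hcl, hcsum⟩ := exists_chain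
    (fun a b => (e' b - e' a) * (r' a + r' b)) m' pr n hm0'
    (fun b hb0 hbn => ⟨(hP b hb0 hbn).1, (hP b hb0 hbn).2.2⟩) n le_rfl
  have hcn : ∀ j, c j < n + 1 := by
    intro j
    have := hc.monotone (Fin.le_last j)
    rw [hcl] at this
    omega
  refine ⟨μ, fun j => ⟨c j, hcn j⟩, ?_, ?_, ?_, ?_⟩
  · intro i j hij
    exact Fin.mk_lt_mk.mpr (hc hij)
  · exact Fin.ext hc0
  · exact Fin.ext hcl
  · have : ∀ j : Fin μ, ((e ⟨c j.succ, hcn _⟩ : ℝ) - (e ⟨c j.castSucc, hcn _⟩ : ℝ)) *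
        (r ⟨c j.succ, hcn _⟩ + r ⟨c j.castSucc, hcn _⟩)
        = (e' (c j.succ) - e' (c j.castSucc)) * (r' (c j.castSucc) + r' (c j.succ)) := by
      intro j
      rw [he'eq _ (hcn _), he'eq _ (hcn _), hr'eq _ (hcn _), hr'eq _ (hcn _)]
      ring
    rw [Finset.sum_congr rfl (fun j _ => this j), hcsum]
    exact hm'n

end Groth.Agent.Lib.Helper31.CH
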