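import Mathlib
import Groth.Prelude.Def_QuadGrp

/-!
# Base change map of Clifford algebras `C(Q) → C(Q_A)` (sub-lemma BC1 for S16992)
-/

set_option autoImplicit false

namespace Groth.Agent.Lib.Helper31.CliffBC1

open TensorProduct CliffordAlgebra

universe u v w

variable {R : Type u} [CommRing R] {M : Type v} [AddCommGroup M] [Module R M] [Module.Free R M]
  (A : Type w) [CommRing A] [Algebra R A] (Q : QuadraticForm R M)

theorem baseChangeForm_tmul (a : A) (m : M) :
    QuadGrp.baseChangeForm A Q (a ⊗ₜ[R] m) = algebraMap R A (Q m) * (a * a) := by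
  unfold QuadGrp.baseChangeForm
  rw [LinearMap.compQuadraticMap_apply, QuadGrp.baseChange_tmul]
  simp [Algebra.smul_def]

/-- The `R`-linear map `m ↦ ι (1 ⊗ m)`. -/
noncomputable def lamLin : M →ₗ[R] CliffordAlgebra (QuadGrp.baseChangeForm A Q) :=
  ((ι (QuadGrp.baseChangeForm A Q)).restrictScalars R).comp (TensorProduct.mk R A M 1)

theorem lamLin_apply (m : M) :
    lamLin A Q m = ι (QuadGrp.baseChangeForm A Q) ((1 : A) ⊗ₜ[R] m) := rfl

/-- The base change map of Clifford algebras. -/
noncomputable def lam : CliffordAlgebra Q →ₐ[R] CliffordAlgebra (QuadGrp.baseChangeForm A Q) :=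
  CliffordAlgebra.lift Q ⟨lamLin A Q, fun m => by
    rw [lamLin_apply, ι_sq_scalar, baseChangeForm_tmul, mul_one, mul_one,
      ← IsScalarTower.algebraMap_apply]⟩

theorem lam_ι (m : M) :
    lam A Q (ι Q m) = ι (QuadGrp.baseChangeForm A Q) ((1 : A) ⊗ₜ[R] m) := by
  unfold lam
  rw [lift_ι_apply]
  rfl

theorem lam_mem_evenOdd (k : ZMod 2) (x : CliffordAlgebra Q) (hx : x ∈ evenOdd Q k) :
    lam A Q x ∈ evenOdd (QuadGrp.baseChangeForm A Q) k := by
  have h11 : (1 : ZMod 2) + 1 = 0 := by decide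
  have step : ∀ (k : ZMod 2) (m₁ m₂ : M) (y : CliffordAlgebra Q),
      lam A Q y ∈ evenOdd (QuadGrp.baseChangeForm A Q) k →
      lam A Q (ι Q m₁ * ι Q m₂ * y) ∈ evenOdd (QuadGrp.baseChangeForm A Q) k := by
    intro k m₁ m₂ y ih
    rw [map_mul, map_mul, lam_ι, lam_ι]
    have h1 := SetLike.mul_mem_graded
      (ι_mem_evenOdd_one (QuadGrp.baseChangeForm A Q) ((1 : A) ⊗ₜ[R] m₁))
      (ι_mem_evenOdd_one (QuadGrp.baseChangeForm A Q) ((1 : A) ⊗ₜ[R] m₂))
    rw [h11] at h1
    have h2 := SetLike.mul_mem_graded h1 ih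
    rwa [zero_add] at h2
  obtain rfl | rfl : k = 0 ∨ k = 1 := by
    have : ∀ k : ZMod 2, k = 0 ∨ k = 1 := by decide
    exact this k
  · refine even_induction Q
      (motive := fun x _ => lam A Q x ∈ evenOdd (QuadGrp.baseChangeForm A Q) 0) ?_ ?_ ?_ x hx
    · intro r
      rw [AlgHom.commutes, IsScalarTower.algebraMap_apply R A]
      exact SetLike.algebraMap_mem_graded _ _
    · intro x y _ _ hx hy; rw [map_add]; exact Submodule.add_mem _ hx hy
    · intro m₁ m₂ y _ ih; exact step 0 m₁ m₂ y ih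
  · refine odd_induction Q
      (P := fun x _ => lam A Q x ∈ evenOdd (QuadGrp.baseChangeForm A Q) 1) ?_ ?_ ?_ x hx
    · intro v; rw [lam_ι]; exact ι_mem_evenOdd_one _ _
    · intro x y _ _ hx hy; rw [map_add]; exact Submodule.add_mem _ hx hy
    · intro m₁ m₂ y _ ih; exact step 1 m₁ m₂ y ih

theorem lam_involute (x : CliffordAlgebra Q) :
    lam A Q (involute x) = involute (lam A Q x) := by
  have : (lam A Q).comp involute
      = ((involute (Q := QuadGrp.baseChangeForm A Q)).restrictScalars R).comp (lam A Q) := by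
    apply CliffordAlgebra.hom_ext
    ext m
    simp [lam_ι]
  exact congrArg
    (fun g : CliffordAlgebra Q →ₐ[R] CliffordAlgebra (QuadGrp.baseChangeForm A Q) => g x) this

theorem lam_reverse (x : CliffordAlgebra Q) :
    lam A Q (reverse x) = reverse (lam A Q x) := by
  induction x using CliffordAlgebra.left_induction with
  | algebraMap r =>
    rw [reverse.commutes, AlgHom.commutes, IsScalarTower.algebraMap_apply R A, reverse.commutes]
  | add x y hx hy => rw [map_add, map_add, map_add, map_add, hx, hy]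
  | ι_mul x m hx =>
    rw [reverse.map_mul, reverse_ι, map_mul, map_mul, reverse.map_mul, lam_ι, reverse_ι, hx]

theorem lam_star (x : CliffordAlgebra Q) :
    lam A Q (star x) = star (lam A Q x) := by
  rw [star_def, star_def, lam_reverse, lam_involute]

theorem lam_comm_of_comm (z : CliffordAlgebra Q) (hz : ∀ v, ι Q v * z = z * ι Q v)
    (x : A ⊗[R] M) :
    ι (QuadGrp.baseChangeForm A Q) x * lam A Q z
      = lam A Q z * ι (QuadGrp.baseChangeForm A Q) x := by
  induction x using TensorProduct.induction_on with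
  | zero => simp
  | tmul a m =>
    have h1 : a ⊗ₜ[R] m = a • ((1 : A) ⊗ₜ[R] m) := by
      rw [TensorProduct.smul_tmul', smul_eq_mul, mul_one]
    rw [h1, map_smul, ← lam_ι, smul_mul_assoc, mul_smul_comm, ← map_mul, ← map_mul, hz]
  | add x y hx hy => rw [map_add, add_mul, mul_add, hx, hy]

end Groth.Agent.Lib.Helper31.CliffBC1
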