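import Mathlib
import Groth.Prelude.Def_W4c3ghconstell
import Groth.Agent.Lib.Helper96.CoeffSimple

/-!
# Isotypic components are subcomodules; R-spans of subcomodules (helper31)

Uses helper96's comodule library (`slice`, `IsSub`, `cf`, `isSimpleSubcoalg_cf`).
-/

set_option autoImplicit false
set_option linter.unusedSectionVars false

universe u v w x

open TensorProduct Groth.Agent.Lib.Helper96 W4c3ghconstell

namespace Groth.Agent.Lib.Helper31.Const

section Coalg

variable {k : Type u} [Field k] {A : Type v} [AddCommGroup A] [Module k A] [Coalgebra k A]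
variable {M : Type x} [AddCommGroup M] [Module k M] [c : HopfRep.Comod k A M]

theorem mem_isoComp_iff (D : Submodule k A) (m : M) :
    m ∈ isoComp M D ↔ c.coact m ∈ LinearMap.range (LinearMap.lTensor M D.subtype) := Iff.rfl

/-- the isotypic component for a subcoalgebra is a subcomodule -/
theorem isSub_isoComp (D : Submodule k A) (hD : W4c3ghconstell.IsSubcoalg k A D) :
    HopfRep.IsSubcomod (k := k) (A := A) (isoComp M D) := by
  show IsSub c (isoComp M D)
  rw [isSub_iff_slice]
  intro m hm g
  rw [mem_isoComp_iff] at hm ⊢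
  rw [mem_range_lTensor_subtype_iff] at hm ⊢
  intro φ
  have h1 : cfMap c φ m ∈ D := hm φ
  have h2 := isHom_apply (isHom_cfMap c φ) m
  have h3 : lslM φ (c.coact (slice M g (c.coact m))) = cfMap c φ (slice M g (c.coact m)) := rfl
  rw [h3, ← slice_rTensor, ← h2]
  have h4 : (HopfRep.Comod.regular k A).coact (cfMap c φ m) ∈
      LinearMap.range (D.subtype.rTensor A) :=
    range_map_le_range_rTensor D D (hD _ h1)
  exact (mem_range_rTensor_subtype_iff D _).mp h4 g

/-- a nonzero subcomodule meets the isotypic component of some simple subcoalgebra -/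
theorem exists_simpSub_meet (N : Submodule k M) (hN : HopfRep.IsSubcomod (k := k) (A := A) N)
    (hne : N ≠ ⊥) : ∃ D : SimpSub k A, N ⊓ isoComp M D.1 ≠ ⊥ := by
  obtain ⟨W, hWN, -, hmin⟩ := exists_isMinSub_le c (W := N) hN hne
  have hs := isSimple_restr_of_isMinSub c hmin
  have hD := isSimpleSubcoalg_cf _ hs
  refine ⟨⟨cf (ComodSub.Comod.restr c W hmin.1), hD⟩, ?_⟩
  intro h0
  apply hmin.2.1
  rw [eq_bot_iff, ← h0]
  intro w hw
  refine ⟨hWN hw, ?_⟩
  show c.coact w ∈ LinearMap.range (LinearMap.lTensor M
    (cf (ComodSub.Comod.restr c W hmin.1)).subtype)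
  have h1 := coact_mem_cf (ComodSub.Comod.restr c W hmin.1) ⟨w, hw⟩
  obtain ⟨z, hz⟩ := h1
  have h2 := ComodSub.restr_coact_coe c W hmin.1 ⟨w, hw⟩
  refine ⟨W.subtype.rTensor _ z, ?_⟩
  rw [← h2, ← hz]
  simp only [← LinearMap.comp_apply]
  congr 1
  ext a b
  simp

end Coalg

section Hopf

variable {k : Type u} [Field k] {A : Type v} [CommRing A] [Bialgebra k A]
variable {R : Type w} [CommRing R] [Algebra k R] [HopfRep.Comod k A R]
variable {M : Type x} [AddCommGroup M] [Module k M] [Module R M] [IsScalarTower k R M]
  [c : HopfRep.Comod k A M] [TameAct.IsHopfMod k A R M]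

theorem slice_hmSMul_mem (N : Submodule R M) (g : Module.Dual k A) (x : R ⊗[k] A)
    (z : (N.restrictScalars k) ⊗[k] A) :
    slice M g (TameAct.hmSMul k A R M x ((N.restrictScalars k).subtype.rTensor A z)) ∈ N := by
  induction x using TensorProduct.induction_on with
  | zero => simp
  | add x y hx hy =>
    rw [map_add, LinearMap.add_apply, map_add]
    exact N.add_mem hx hy
  | tmul r a =>
    induction z using TensorProduct.induction_on with
    | zero => simp
    | add z z' hz hz' =>
      rw [map_add, map_add, map_add]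
      exact N.add_mem hz hz'
    | tmul n b =>
      simp only [LinearMap.rTensor_tmul, Submodule.subtype_apply, TameAct.hmSMul_tmul, slice_tmul]
      have : (g (a * b)) • (r • (n : M)) = (algebraMap k R (g (a * b)) * r) • (n : M) := by
        rw [mul_smul, algebraMap_smul]
      rw [this]
      exact N.smul_mem _ n.2

/-- the `R`-span of a subcomodule is a subcomodule -/
theorem isSub_span (W : Submodule k M) (hW : HopfRep.IsSubcomod (k := k) (A := A) W) :
    HopfRep.IsSubcomod (k := k) (A := A) ((Submodule.span R (W : Set M)).restrictScalars k) := by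
  show IsSub c _
  rw [isSub_iff_slice]
  intro m hm
  rw [Submodule.restrictScalars_mem] at hm
  induction hm using Submodule.span_induction with
  | mem m hm =>
    intro g
    rw [Submodule.restrictScalars_mem]
    exact Submodule.subset_span ((isSub_iff_slice c W).mp hW m hm g)
  | zero => intro g; simp
  | add m m' _ _ hm hm' =>
    intro g
    rw [map_add, map_add]
    exact Submodule.add_mem _ (hm g) (hm' g)
  | smul r m _ hm =>
    intro g
    rw [Submodule.restrictScalars_mem]
    rw [TameAct.IsHopfMod.coact_smul (k := k) (A := A) r m]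
    have hm' : c.coact m ∈ LinearMap.range
        (((Submodule.span R (W : Set M)).restrictScalars k).subtype.rTensor A) := by
      rw [mem_range_rTensor_subtype_iff]
      exact hm
    obtain ⟨z, hz⟩ := hm'
    rw [← hz]
    exact slice_hmSMul_mem _ g _ z

variable (k A R M) in
/-- `genIn` as the `R`-span of a `k`-subspace -/
theorem genIn_eq_span (S : Set (SimpSub k A)) (N : Submodule R M) :
    genIn k A R M S N = Submodule.span R
      ((⨆ D ∈ S, (N.restrictScalars k ⊓ isoComp M D.1) : Submodule k M) : Set M) := by
  unfold genIn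
  apply le_antisymm
  · apply Submodule.span_mono
    intro m hm
    simp only [Set.mem_iUnion] at hm
    obtain ⟨D, hD, hm⟩ := hm
    exact (le_iSup₂ (f := fun D (_ : D ∈ S) => (N.restrictScalars k ⊓ isoComp M D.1)) D hD) hm
  · rw [Submodule.span_le]
    intro m hm
    have : (⨆ D ∈ S, (N.restrictScalars k ⊓ isoComp M D.1) : Submodule k M) ≤
        (Submodule.span R (⋃ D ∈ S, ((N.restrictScalars k ⊓ isoComp M D.1 : Submodule k M) :
          Set M))).restrictScalars k := by
      apply iSup₂_le
      intro D hD m hm
      rw [Submodule.restrictScalars_mem]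
      apply Submodule.subset_span
      simp only [Set.mem_iUnion]
      exact ⟨D, hD, hm⟩
    exact this hm

/-- `genIn S N` of a sub-comodule `N` is a subcomodule -/
theorem isSub_genIn (S : Set (SimpSub k A)) (N : Submodule R M)
    (hN : HopfRep.IsSubcomod (k := k) (A := A) (N.restrictScalars k)) :
    HopfRep.IsSubcomod (k := k) (A := A) ((genIn k A R M S N).restrictScalars k) := by
  rw [genIn_eq_span]
  apply isSub_span
  show IsSub c _
  apply isSub_iSup
  intro D
  apply isSub_iSup
  intro _
  exact isSub_inf c hN (isSub_isoComp D.1 D.2.2.1)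

theorem genIn_le (S : Set (SimpSub k A)) (N : Submodule R M) : genIn k A R M S N ≤ N := by
  unfold genIn
  rw [Submodule.span_le]
  intro m hm
  simp only [Set.mem_iUnion] at hm
  obtain ⟨D, -, hm⟩ := hm
  exact hm.1

theorem inf_isoComp_le_genIn (S : Set (SimpSub k A)) (N : Submodule R M) (D : SimpSub k A)
    (hD : D ∈ S) :
    N.restrictScalars k ⊓ isoComp M D.1 ≤ (genIn k A R M S N).restrictScalars k := by
  intro m hm
  rw [Submodule.restrictScalars_mem]
  apply Submodule.subset_span
  simp only [Set.mem_iUnion]
  exact ⟨D, hD, hm⟩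

theorem genIn_genIn (S : Set (SimpSub k A)) (N : Submodule R M) :
    genIn k A R M S (genIn k A R M S N) = genIn k A R M S N := by
  apply le_antisymm (genIn_le _ _)
  conv_lhs => unfold genIn
  rw [Submodule.span_le]
  intro m hm
  simp only [Set.mem_iUnion] at hm
  obtain ⟨D, hD, hm⟩ := hm
  apply Submodule.subset_span
  simp only [Set.mem_iUnion]
  exact ⟨D, hD, inf_isoComp_le_genIn S N D hD hm, hm.2⟩

end Hopf

end Groth.Agent.Lib.Helper31.Const
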