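import Mathlib
import Groth.Prelude.Def_W4c3ghconstell

/-!
# Bookkeeping for the weight `theta` of a subspace (helper31)
-/

set_option autoImplicit false
set_option linter.unusedSectionVars false

universe u v w x

open TensorProduct W4c3ghconstell

namespace Groth.Agent.Lib.Helper31.Const

section Theta

variable {k : Type u} [Field k] {A : Type v} [AddCommGroup A] [Module k A] [Coalgebra k A]
variable {M : Type x} [AddCommGroup M] [Module k M] [HopfRep.Comod k A M]
variable {h : SimpSub k A → ℕ} {θ : SimpSub k A → ℚ}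

/-- the dimension hypothesis of a constellation -/
def DimHyp (M : Type x) [AddCommGroup M] [Module k M] [HopfRep.Comod k A M]
    (h : SimpSub k A → ℕ) : Prop :=
  ∀ D : SimpSub k A, Module.Finite k ↥(isoComp M D.1) ∧ Module.finrank k ↥(isoComp M D.1) = h D

theorem finite_inf (hM : DimHyp M h) (N : Submodule k M) (D : SimpSub k A) :
    Module.Finite k ↥(N ⊓ isoComp M D.1) := by
  have := (hM D).1
  exact Submodule.finiteDimensional_of_le inf_le_right

theorem hilbAt_le (hM : DimHyp M h) (N : Submodule k M) (D : SimpSub k A) :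
    hilbAt M N D ≤ h D := by
  have := (hM D).1
  rw [← (hM D).2]
  exact Submodule.finrank_mono inf_le_right

theorem hilbAt_mono (hM : DimHyp M h) {N N' : Submodule k M} (hle : N ≤ N') (D : SimpSub k A) :
    hilbAt M N D ≤ hilbAt M N' D := by
  have := finite_inf hM N' D
  exact Submodule.finrank_mono (inf_le_inf_right _ hle)

theorem hilbAt_eq_of_le (hM : DimHyp M h) (N : Submodule k M) (D : SimpSub k A)
    (hle : isoComp M D.1 ≤ N) : hilbAt M N D = h D := by
  unfold hilbAt
  rw [inf_eq_right.mpr hle]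
  exact (hM D).2

theorem le_of_hilbAt_eq (hM : DimHyp M h) (N : Submodule k M) (D : SimpSub k A)
    (heq : hilbAt M N D = h D) : isoComp M D.1 ≤ N := by
  have := (hM D).1
  have h1 : N ⊓ isoComp M D.1 = isoComp M D.1 := by
    apply Submodule.eq_of_le_of_finrank_eq inf_le_right
    rw [(hM D).2]
    exact heq
  rw [← h1]
  exact inf_le_left

theorem hilbAt_eq_zero_iff (hM : DimHyp M h) (N : Submodule k M) (D : SimpSub k A) :
    hilbAt M N D = 0 ↔ N ⊓ isoComp M D.1 = ⊥ := by
  have := finite_inf hM N D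
  unfold hilbAt
  exact Submodule.finrank_eq_zero

theorem hilbAt_top (hM : DimHyp M h) (D : SimpSub k A) : hilbAt M (⊤ : Submodule k M) D = h D :=
  hilbAt_eq_of_le hM ⊤ D le_top

theorem summable_theta (hM : DimHyp M h) {s : ℝ}
    (hsum : HasSum (fun D => (θ D : ℝ) * (h D : ℝ)) s) (N : Submodule k M) :
    Summable (fun D => (θ D : ℝ) * (hilbAt M N D : ℝ)) := by
  have h1 : Summable (fun D => |(θ D : ℝ) * (h D : ℝ)|) := hsum.summable.abs
  refine Summable.of_norm_bounded h1 ?_
  intro D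
  rw [Real.norm_eq_abs, abs_mul, abs_mul]
  apply mul_le_mul_of_nonneg_left _ (abs_nonneg _)
  rw [abs_of_nonneg (Nat.cast_nonneg _), abs_of_nonneg (Nat.cast_nonneg _)]
  exact_mod_cast hilbAt_le hM N D

theorem theta_le_theta (hM : DimHyp M h) {s : ℝ}
    (hsum : HasSum (fun D => (θ D : ℝ) * (h D : ℝ)) s) (N N' : Submodule k M)
    (hterm : ∀ D, (θ D : ℝ) * (hilbAt M N D : ℝ) ≤ (θ D : ℝ) * (hilbAt M N' D : ℝ)) :
    theta M θ N ≤ theta M θ N' := by
  unfold theta
  exact Summable.tsum_le_tsum hterm (summable_theta hM hsum N) (summable_theta hM hsum N')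

theorem theta_le_sum (hM : DimHyp M h) {s : ℝ}
    (hsum : HasSum (fun D => (θ D : ℝ) * (h D : ℝ)) s) (N : Submodule k M)
    (hterm : ∀ D, (θ D : ℝ) * (hilbAt M N D : ℝ) ≤ (θ D : ℝ) * (h D : ℝ)) :
    theta M θ N ≤ s := by
  unfold theta
  rw [← hsum.tsum_eq]
  exact Summable.tsum_le_tsum hterm (summable_theta hM hsum N) hsum.summable

theorem theta_top (hM : DimHyp M h) {s : ℝ}
    (hsum : HasSum (fun D => (θ D : ℝ) * (h D : ℝ)) s) : theta M θ (⊤ : Submodule k M) = s := by
  unfold theta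
  rw [← hsum.tsum_eq]
  congr 1
  funext D
  rw [hilbAt_top hM D]

/-- if the weight equals the full sum and is termwise below, then termwise equal -/
theorem term_eq_of_theta_eq (hM : DimHyp M h) {s : ℝ}
    (hsum : HasSum (fun D => (θ D : ℝ) * (h D : ℝ)) s) (N : Submodule k M)
    (hterm : ∀ D, (θ D : ℝ) * (hilbAt M N D : ℝ) ≤ (θ D : ℝ) * (h D : ℝ))
    (heq : theta M θ N = s) (D : SimpSub k A) :
    (θ D : ℝ) * (hilbAt M N D : ℝ) = (θ D : ℝ) * (h D : ℝ) := by
  have h1 : HasSum (fun D => (θ D : ℝ) * (hilbAt M N D : ℝ)) s := by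
    rw [← heq]
    exact (summable_theta hM hsum N).hasSum
  have h2 : HasSum (fun D => (θ D : ℝ) * (h D : ℝ) - (θ D : ℝ) * (hilbAt M N D : ℝ)) 0 := by
    have := hsum.sub h1
    rwa [sub_self] at this
  have h3 := (hasSum_zero_iff_of_nonneg (fun D => sub_nonneg.mpr (hterm D))).mp h2
  have := congrFun h3 D
  simp only [Pi.zero_apply] at this
  linarith

theorem theta_nonneg_of_neg_zero (N : Submodule k M)
    (hz : ∀ D, θ D < 0 → hilbAt M N D = 0) : 0 ≤ theta M θ N := by
  unfold theta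
  apply tsum_nonneg
  intro D
  by_cases hD : θ D < 0
  · rw [hz D hD]; simp
  · push Not at hD
    exact mul_nonneg (by exact_mod_cast hD) (Nat.cast_nonneg _)

theorem theta_pos_of_neg_zero (hM : DimHyp M h) {s : ℝ}
    (hsum : HasSum (fun D => (θ D : ℝ) * (h D : ℝ)) s) (N : Submodule k M)
    (hz : ∀ D, θ D < 0 → hilbAt M N D = 0)
    (hθ : ∀ D, h D ≠ 0 → θ D ≠ 0)
    (D : SimpSub k A) (hD : N ⊓ isoComp M D.1 ≠ ⊥) : 0 < theta M θ N := by
  unfold theta
  have hnn : ∀ D, 0 ≤ (θ D : ℝ) * (hilbAt M N D : ℝ) := by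
    intro D
    by_cases hD : θ D < 0
    · rw [hz D hD]; simp
    · push Not at hD
      exact mul_nonneg (by exact_mod_cast hD) (Nat.cast_nonneg _)
  have h1 : hilbAt M N D ≠ 0 := fun h0 => hD ((hilbAt_eq_zero_iff hM N D).mp h0)
  have h2 : h D ≠ 0 := by
    intro h0
    have := hilbAt_le hM N D
    omega
  have h3 : ¬ θ D < 0 := fun hlt => h1 (hz D hlt)
  have h4 : 0 < θ D := lt_of_le_of_ne (not_lt.mp h3) (Ne.symm (hθ D h2))
  apply (summable_theta hM hsum N).tsum_pos hnn D
  apply mul_pos (by exact_mod_cast h4)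
  exact_mod_cast Nat.pos_of_ne_zero h1

end Theta

end Groth.Agent.Lib.Helper31.Const
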