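import Mathlib
import Groth.Prelude.Def_W4c3ghconstell
import Groth.Agent.Lib.Helper31.Const1
import Groth.Agent.Lib.Helper31.Const2

/-!
# θ-stability of constellations: main arguments (helper31)
-/

set_option autoImplicit false
set_option linter.unusedSectionVars false

universe u v w x

open TensorProduct W4c3ghconstell

namespace Groth.Agent.Lib.Helper31.Const

variable {k : Type u} [Field k] {A : Type v} [CommRing A] [Bialgebra k A]
variable {R : Type w} [CommRing R] [Algebra k R] [HopfRep.Comod k A R]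
variable {M : Type x} [AddCommGroup M] [Module k M] [Module R M] [IsScalarTower k R M]
  [HopfRep.Comod k A M] [TameAct.IsHopfMod k A R M]
variable {h : SimpSub k A → ℕ} {θ : SimpSub k A → ℚ}

theorem isSub_top' : HopfRep.IsSubcomod (k := k) (A := A)
    ((⊤ : Submodule R M).restrictScalars k) := by
  rw [Submodule.restrictScalars_top]
  exact Groth.Agent.Lib.Helper96.isSub_top _

/-- termwise bound for `genIn neg ⊤` -/
theorem term_le_genIn_top (hM : DimHyp M h) (D : SimpSub k A) :
    (θ D : ℝ) * (hilbAt M ((genIn k A R M {D | θ D < 0} ⊤).restrictScalars k) D : ℝ) ≤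
      (θ D : ℝ) * (h D : ℝ) := by
  by_cases hD : θ D < 0
  · rw [hilbAt_eq_of_le hM _ D]
    have := inf_isoComp_le_genIn (k := k) (A := A) (R := R) (M := M) {D | θ D < 0} ⊤ D hD
    rwa [Submodule.restrictScalars_top, top_inf_eq] at this
  · push Not at hD
    apply mul_le_mul_of_nonneg_left _ (by exact_mod_cast hD)
    exact_mod_cast hilbAt_le hM _ D

theorem S16010_main (hsum : HasSum (fun D => (θ D : ℝ) * (h D : ℝ)) 0)
    (hne : ∃ D, θ D ≠ 0 ∧ h D ≠ 0)
    (hM : DimHyp M h)
    (hst : IsThetaStable k A R M θ) :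
    genIn k A R M {D | θ D < 0} ⊤ = ⊤ := by
  set N := genIn k A R M {D | θ D < 0} ⊤ with hN
  have hle : theta M θ (N.restrictScalars k) ≤ 0 :=
    theta_le_sum hM hsum _ (fun D => term_le_genIn_top hM D)
  by_contra htop
  have hsub : HopfRep.IsSubcomod (k := k) (A := A) (N.restrictScalars k) :=
    isSub_genIn _ _ isSub_top'
  by_cases hbot : N = ⊥
  · -- all negative components vanish
    have hz : ∀ D, θ D < 0 → h D = 0 := by
      intro D hD
      have h1 := inf_isoComp_le_genIn (k := k) (A := A) (R := R) (M := M) {D | θ D < 0} ⊤ D hD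
      rw [Submodule.restrictScalars_top, top_inf_eq, ← hN, hbot, Submodule.restrictScalars_bot,
        le_bot_iff] at h1
      rw [← (hM D).2, h1]
      exact finrank_bot k M
    have hnn : ∀ D, 0 ≤ (θ D : ℝ) * (h D : ℝ) := by
      intro D
      by_cases hD : θ D < 0
      · rw [hz D hD]; simp
      · push Not at hD
        exact mul_nonneg (by exact_mod_cast hD) (Nat.cast_nonneg _)
    have h3 := (hasSum_zero_iff_of_nonneg hnn).mp hsum
    obtain ⟨D, h1, h2⟩ := hne
    have := congrFun h3 D
    simp only [Pi.zero_apply, mul_eq_zero, Rat.cast_eq_zero, Nat.cast_eq_zero] at this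
    rcases this with h | h
    · exact h1 h
    · exact h2 h
  · have := hst.2 N hsub hbot htop
    linarith

theorem S16018_main (hsum : HasSum (fun D => (θ D : ℝ) * (h D : ℝ)) 0)
    (hM : DimHyp M h) (htop : (⨆ D : SimpSub k A, isoComp M D.1) = ⊤)
    (hθ : ∀ D, θ D ≠ 0)
    (hss : IsThetaSemistable k A R M θ) :
    genIn k A R M {D | θ D < 0} ⊤ = ⊤ := by
  set N := genIn k A R M {D | θ D < 0} ⊤ with hN
  have hle : theta M θ (N.restrictScalars k) ≤ 0 :=
    theta_le_sum hM hsum _ (fun D => term_le_genIn_top hM D)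
  have hsub : HopfRep.IsSubcomod (k := k) (A := A) (N.restrictScalars k) :=
    isSub_genIn _ _ isSub_top'
  have hge := hss.2 N hsub
  have heq : theta M θ (N.restrictScalars k) = 0 := le_antisymm hle hge
  have hterm := term_eq_of_theta_eq hM hsum _ (fun D => term_le_genIn_top hM D) heq
  have hall : ∀ D : SimpSub k A, isoComp M D.1 ≤ N.restrictScalars k := by
    intro D
    apply le_of_hilbAt_eq hM
    have h1 := hterm D
    have h2 : (θ D : ℝ) ≠ 0 := by exact_mod_cast hθ D
    exact_mod_cast mul_left_cancel₀ h2 h1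
  have h4 : (⊤ : Submodule k M) ≤ N.restrictScalars k := by
    rw [← htop]
    exact iSup_le hall
  rw [eq_top_iff]
  intro m _
  exact h4 (Submodule.mem_top : m ∈ (⊤ : Submodule k M))

/-- comparison of `N` with `N' = genIn neg N` -/
theorem theta_genIn_le (hsum : HasSum (fun D => (θ D : ℝ) * (h D : ℝ)) 0)
    (hM : DimHyp M h) (N : Submodule R M) :
    theta M θ ((genIn k A R M {D | θ D < 0} N).restrictScalars k) ≤
      theta M θ (N.restrictScalars k) := by
  have hNle : (genIn k A R M {D | θ D < 0} N).restrictScalars k ≤ N.restrictScalars k :=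
    fun m hm => genIn_le (k := k) (A := A) (R := R) (M := M) {D | θ D < 0} N hm
  apply theta_le_theta hM hsum
  intro D
  by_cases hD : θ D < 0
  · apply le_of_eq
    congr 2
    apply le_antisymm
    · exact hilbAt_mono hM hNle D
    · unfold hilbAt
      have := finite_inf hM ((genIn k A R M {D | θ D < 0} N).restrictScalars k) D
      apply Submodule.finrank_mono
      exact le_inf (inf_isoComp_le_genIn (k := k) (A := A) (R := R) (M := M)
        {D | θ D < 0} N D hD) inf_le_right
  · push Not at hD
    apply mul_le_mul_of_nonneg_left _ (by exact_mod_cast hD)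
    have := hilbAt_mono hM hNle D
    exact_mod_cast this

theorem hilbAt_zero_of_genIn_bot (hM : DimHyp M h) (N : Submodule R M)
    (hbot : genIn k A R M {D | θ D < 0} N = ⊥) (D : SimpSub k A) (hD : θ D < 0) :
    hilbAt M (N.restrictScalars k) D = 0 := by
  rw [hilbAt_eq_zero_iff hM]
  have := inf_isoComp_le_genIn (k := k) (A := A) (R := R) (M := M) {D | θ D < 0} N D hD
  rwa [hbot, Submodule.restrictScalars_bot, le_bot_iff] at this

theorem S16011_main (hsum : HasSum (fun D => (θ D : ℝ) * (h D : ℝ)) 0)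
    (hM : DimHyp M h)
    (h0 : theta M θ (⊤ : Submodule k M) = 0)
    (hss : ∀ N : Submodule R M, HopfRep.IsSubcomod (k := k) (A := A) (N.restrictScalars k) →
      N ≠ ⊥ → N ≠ ⊤ →
      genIn k A R M {D | θ D < 0} N = N → 0 ≤ theta M θ (N.restrictScalars k)) :
    IsThetaSemistable k A R M θ := by
  refine ⟨h0, ?_⟩
  intro N hN
  set N' := genIn k A R M {D | θ D < 0} N with hN'
  have hle := theta_genIn_le (R := R) hsum hM N
  by_cases hbot : N' = ⊥
  · exact theta_nonneg_of_neg_zero _ (fun D hD => hilbAt_zero_of_genIn_bot hM N hbot D hD)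
  by_cases htop : N' = ⊤
  · have : N = ⊤ := top_le_iff.mp (htop ▸ genIn_le _ N)
    rw [this, Submodule.restrictScalars_top, h0]
  have := hss N' (isSub_genIn _ _ hN) hbot htop (genIn_genIn _ _)
  linarith

theorem S16012_main (hsum : HasSum (fun D => (θ D : ℝ) * (h D : ℝ)) 0)
    (hM : DimHyp M h)
    (hθ : ∀ D, h D ≠ 0 → θ D ≠ 0)
    (h0 : theta M θ (⊤ : Submodule k M) = 0)
    (hs : ∀ N : Submodule R M, HopfRep.IsSubcomod (k := k) (A := A) (N.restrictScalars k) →
      N ≠ ⊥ → N ≠ ⊤ →
      genIn k A R M {D | θ D < 0} N = N → 0 < theta M θ (N.restrictScalars k)) :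
    IsThetaStable k A R M θ := by
  refine ⟨h0, ?_⟩
  intro N hN hNbot hNtop
  set N' := genIn k A R M {D | θ D < 0} N with hN'
  have hle := theta_genIn_le (R := R) hsum hM N
  by_cases hbot : N' = ⊥
  · have hne : N.restrictScalars k ≠ ⊥ := by
      intro h
      apply hNbot
      rw [eq_bot_iff]
      intro m hm
      have : m ∈ N.restrictScalars k := hm
      rw [h] at this
      exact this
    obtain ⟨D, hD⟩ := exists_simpSub_meet _ hN hne
    exact theta_pos_of_neg_zero hM hsum _
      (fun D hD => hilbAt_zero_of_genIn_bot hM N hbot D hD) hθ D hD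
  by_cases htop : N' = ⊤
  · exact absurd (top_le_iff.mp (htop ▸ genIn_le _ N)) hNtop
  have := hs N' (isSub_genIn _ _ hN) hbot htop (genIn_genIn _ _)
  linarith

theorem S16013_main (hsum : HasSum (fun D => (θ D : ℝ) * (h D : ℝ)) 0)
    (hM : DimHyp M h)
    (D₀ : SimpSub k A)
    (h1 : h D₀ = 1) (hneg : ∀ D, θ D < 0 ↔ D = D₀)
    (hθ : ∀ D, h D ≠ 0 → θ D ≠ 0)
    (hgen : genIn k A R M {D₀} ⊤ = ⊤) :
    IsThetaStable k A R M θ := by
  refine ⟨theta_top hM hsum, ?_⟩
  intro N hN hNbot hNtop
  have hne : N.restrictScalars k ≠ ⊥ := by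
    intro h
    apply hNbot
    rw [eq_bot_iff]
    intro m hm
    have : m ∈ N.restrictScalars k := hm
    rw [h] at this
    exact this
  obtain ⟨D, hD⟩ := exists_simpSub_meet _ hN hne
  have hz : ∀ D, θ D < 0 → hilbAt M (N.restrictScalars k) D = 0 := by
    intro D hD
    rw [(hneg D).mp hD]
    by_contra hnz
    have h2 := hilbAt_le hM (N.restrictScalars k) D₀
    have h3 : hilbAt M (N.restrictScalars k) D₀ = h D₀ := by omega
    have h4 := le_of_hilbAt_eq hM _ _ h3
    apply hNtop
    rw [eq_top_iff, ← hgen]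
    unfold genIn
    rw [Submodule.span_le]
    intro m hm
    simp only [Set.mem_iUnion] at hm
    obtain ⟨D', hD', hm⟩ := hm
    rw [Set.mem_singleton_iff] at hD'
    subst hD'
    exact h4 hm.2
  exact theta_pos_of_neg_zero hM hsum _ hz hθ D hD

end Groth.Agent.Lib.Helper31.Const
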