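import Mathlib

/-!
# Exchange condition ⇒ Coxeter presentation (Bourbaki, Lie IV §1.5, right-handed version)
-/

set_option autoImplicit false
set_option linter.unusedSectionVars false
set_option linter.unusedVariables false

namespace Groth.Agent.Lib.Helper31.CoxEx

open CoxeterSystem (alternatingWord alternatingWord_succ alternatingWord_succ')

variable {B W G : Type*} [Group W] [Group G]

/-- word product -/
def wp {H : Type*} [Group H] (s : B → H) (ω : List B) : H := (ω.map s).prod

section basic
variable {H : Type*} [Group H] (s : B → H)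

@[simp] lemma wp_nil : wp s [] = 1 := rfl
lemma wp_cons (a : B) (ω : List B) : wp s (a :: ω) = s a * wp s ω := by simp [wp]
lemma wp_append (ω ω' : List B) : wp s (ω ++ ω') = wp s ω * wp s ω' := by simp [wp]
lemma wp_singleton (a : B) : wp s [a] = s a := by simp [wp]

lemma mul_pow_comm_aux (a b : H) (k : ℕ) : a * (b * a) ^ k = (a * b) ^ k * a := by
  induction k with
  | zero => simp
  | succ k ih =>
    rw [pow_succ, ← mul_assoc, ih, pow_succ]
    simp only [mul_assoc]

lemma alt_inv_mul (hs : ∀ i, s i * s i = 1) (x y : B) (k : ℕ) :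
    (wp s (alternatingWord x y k))⁻¹ * wp s (alternatingWord y x k) = (s y * s x) ^ k := by
  induction k generalizing x y with
  | zero => simp [alternatingWord]
  | succ k ih =>
    have hinv : (s y)⁻¹ = s y := by
      rw [inv_eq_iff_mul_eq_one]
      exact hs y
    rw [alternatingWord_succ, alternatingWord_succ, List.concat_eq_append, List.concat_eq_append,
      wp_append, wp_append, wp_singleton, wp_singleton, mul_inv_rev, hinv]
    have h := ih y x
    calc s y * (wp s (alternatingWord y x k))⁻¹ * (wp s (alternatingWord x y k) * s x)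
        = s y * ((wp s (alternatingWord y x k))⁻¹ * wp s (alternatingWord x y k)) * s x := by
          simp only [mul_assoc]
      _ = s y * (s x * s y) ^ k * s x := by rw [h]
      _ = (s y * s x) ^ k * s y * s x := by rw [mul_pow_comm_aux]
      _ = (s y * s x) ^ (k + 1) := by rw [pow_succ, mul_assoc]

end basic

/-- reduced words -/
def IsRed (s : B → W) (ω : List B) : Prop :=
  ∀ ω' : List B, wp s ω' = wp s ω → ω.length ≤ ω'.length

lemma IsRed.infix {s : B → W} {x y z : List B} (h : IsRed s (x ++ y ++ z)) : IsRed s y := by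
  intro y' hy'
  have := h (x ++ y' ++ z) (by simp only [wp_append, hy'])
  simp only [List.length_append] at this
  omega

lemma IsRed.prefix {s : B → W} {y z : List B} (h : IsRed s (y ++ z)) : IsRed s y := by
  have : IsRed s ([] ++ y ++ z) := by simpa using h
  exact this.infix

lemma IsRed.suffix {s : B → W} {x y : List B} (h : IsRed s (x ++ y)) : IsRed s y := by
  have : IsRed s (x ++ y ++ []) := by simpa using h
  exact this.infix

lemma IsRed.of_eq {s : B → W} {ω ω' : List B} (h : IsRed s ω) (hp : wp s ω' = wp s ω)
    (hl : ω'.length = ω.length) : IsRed s ω' := by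
  intro ω'' h''
  rw [hl]
  exact h ω'' (h''.trans hp)

lemma IsRed.length_eq {s : B → W} {ω ω' : List B} (h : IsRed s ω) (h' : IsRed s ω')
    (hp : wp s ω = wp s ω') : ω.length = ω'.length :=
  le_antisymm (h ω' hp.symm) (h' ω hp)

lemma isRed_nil (s : B → W) : IsRed s ([] : List B) := fun _ _ => Nat.zero_le _

lemma exists_red (s : B → W) (ω : List B) : ∃ v, IsRed s v ∧ wp s v = wp s ω := by
  classical
  have hex : ∃ n : ℕ, ∃ v : List B, wp s v = wp s ω ∧ v.length = n := ⟨ω.length, ω, rfl, rfl⟩
  obtain ⟨v, hv, hl⟩ := Nat.find_spec hex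
  refine ⟨v, ?_, hv⟩
  intro v' hv'
  rw [hl]
  exact Nat.find_min' hex ⟨v', hv'.trans hv, rfl⟩

/-- the (right) exchange condition -/
def Exch (s : B → W) : Prop :=
  ∀ (ω : List B) (a : B), IsRed s ω → ¬ IsRed s (ω ++ [a]) →
    ∃ (ω₁ : List B) (c : B) (ω₂ : List B), ω = ω₁ ++ c :: ω₂ ∧ s c * wp s ω₂ = wp s ω₂ * s a

section main

variable (s : B → W) (f : B → G) (hs : ∀ i, s i * s i = 1) (hf : ∀ i, f i * f i = 1)
  (hrel : ∀ (i j : B) (n : ℕ), (s i * s j) ^ n = 1 → (f i * f j) ^ n = 1)
  (hE : Exch s)

include hs hf hrel in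
lemma alt_F_eq (x y : B) (k : ℕ)
    (h : wp s (alternatingWord x y k) = wp s (alternatingWord y x k)) :
    wp f (alternatingWord x y k) = wp f (alternatingWord y x k) := by
  have h1 := alt_inv_mul s hs x y k
  rw [h, inv_mul_cancel] at h1
  have h2 := hrel y x k h1.symm
  have h3 := alt_inv_mul f hf x y k
  rw [h2] at h3
  exact inv_mul_eq_one.mp h3

include hs hE in
lemma step (q : ℕ)
    (IH : ∀ v v' : List B, v.length < q → IsRed s v → IsRed s v' → wp s v = wp s v' →
      wp f v = wp f v')
    (c : B) (t t' : List B) (a' : B)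
    (hu : IsRed s (c :: t)) (hu' : IsRed s (t' ++ [a'])) (hlen : (c :: t).length = q)
    (hprod : wp s (c :: t) = wp s (t' ++ [a'])) (hF : wp f (c :: t) ≠ wp f (t' ++ [a'])) :
    IsRed s (t ++ [a']) ∧ wp s (t ++ [a']) = wp s (c :: t) ∧
      wp f (t ++ [a']) = wp f (t' ++ [a']) := by
  have hlen' : (t' ++ [a']).length = q := by
    rw [← hlen]
    exact (hu.length_eq hu' hprod).symm
  have hsa : ∀ w : W, w * s a' * s a' = w := fun w => by rw [mul_assoc, hs, mul_one]
  have hnr : ¬ IsRed s ((c :: t) ++ [a']) := by
    intro h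
    have h1 := h t' (by rw [wp_append, hprod, wp_append, wp_singleton, hsa])
    simp only [List.length_append, List.length_cons, List.length_nil] at h1 hlen hlen'
    omega
  obtain ⟨ω₁, d, ω₂, hdec, hcomm⟩ := hE (c :: t) a' hu hnr
  have hprod2 : wp s (ω₁ ++ ω₂ ++ [a']) = wp s (c :: t) := by
    rw [hdec, wp_append, wp_append, wp_append, wp_singleton, wp_cons, mul_assoc, ← hcomm]
  have hlen2 : (ω₁ ++ ω₂ ++ [a']).length = (c :: t).length := by
    rw [hdec]
    simp only [List.length_append, List.length_cons, List.length_nil]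
    omega
  have hred2 : IsRed s (ω₁ ++ ω₂ ++ [a']) := hu.of_eq hprod2 hlen2
  have hred3 : IsRed s (ω₁ ++ ω₂) := hred2.prefix
  have hred4 : IsRed s t' := hu'.prefix
  have hprod3 : wp s (ω₁ ++ ω₂) = wp s t' := by
    have := hprod2.trans hprod
    rw [wp_append, wp_append (s := s) t', wp_singleton] at this
    exact mul_right_cancel this
  have hl3 : (ω₁ ++ ω₂).length < q := by
    rw [← hlen, ← hlen2]
    simp only [List.length_append, List.length_cons, List.length_nil]
    omega
  have hF3 := IH _ _ hl3 hred3 hred4 hprod3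
  have hF4 : wp f (ω₁ ++ ω₂ ++ [a']) = wp f (t' ++ [a']) := by
    rw [wp_append, hF3, ← wp_append]
  cases ω₁ with
  | nil =>
    simp only [List.nil_append, List.cons.injEq] at hdec
    obtain ⟨rfl, rfl⟩ := hdec
    exact ⟨by simpa using hred2, by simpa using hprod2, by simpa using hF4⟩
  | cons e ω₁' =>
    exfalso
    apply hF
    have hred5 : IsRed s (d :: ω₂) := by
      have : IsRed s ((e :: ω₁') ++ (d :: ω₂)) := by
        rw [← hdec]
        exact hu
      exact this.suffix
    have hp6 : wp s (ω₂ ++ [a']) = wp s (d :: ω₂) := by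
      rw [wp_append, wp_singleton, wp_cons, hcomm]
    have hred6 : IsRed s (ω₂ ++ [a']) := hred5.of_eq hp6 (by simp)
    have hl5 : (d :: ω₂).length < q := by
      rw [← hlen, hdec]
      simp
    have hF5 := IH _ _ hl5 hred5 hred6 hp6.symm
    rw [← hF4, hdec, wp_append, hF5]
    simp only [wp_append, mul_assoc]

include hs hE in
lemma step' (q : ℕ)
    (IH : ∀ v v' : List B, v.length < q → IsRed s v → IsRed s v' → wp s v = wp s v' →
      wp f v = wp f v')
    (u u' : List B) (c : B) (t t' : List B) (a' : B) (hu_eq : u = c :: t)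
    (hu'_eq : u' = t' ++ [a'])
    (hu : IsRed s u) (hu' : IsRed s u') (hlen : u.length = q)
    (hprod : wp s u = wp s u') (hF : wp f u ≠ wp f u') :
    IsRed s (t ++ [a']) ∧ wp s (t ++ [a']) = wp s u ∧ wp f (t ++ [a']) = wp f u' := by
  subst hu_eq
  subst hu'_eq
  exact step s f hs hE q IH c t t' a' hu hu' hlen hprod hF

include hs hf hrel hE in
lemma descent (q : ℕ)
    (IH : ∀ v v' : List B, v.length < q → IsRed s v → IsRed s v' → wp s v = wp s v' →
      wp f v = wp f v') :
    ∀ (ρ : List B) (k : ℕ) (x y c : B),
      IsRed s (ρ ++ alternatingWord x y (k + 2)) →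
      IsRed s (c :: (ρ ++ alternatingWord y x (k + 1))) →
      (ρ ++ alternatingWord x y (k + 2)).length = q →
      wp s (ρ ++ alternatingWord x y (k + 2)) = wp s (c :: (ρ ++ alternatingWord y x (k + 1))) →
      wp f (ρ ++ alternatingWord x y (k + 2)) =
        wp f (c :: (ρ ++ alternatingWord y x (k + 1))) := by
  intro ρ
  induction ρ with
  | nil =>
    intro k x y c h1 h2 hl hp
    by_contra hne
    have e1 : [] ++ alternatingWord x y (k + 2) =
        (if Even (k + 1) then y else x) :: alternatingWord x y (k + 1) := by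
      rw [List.nil_append]
      exact alternatingWord_succ' x y (k + 1)
    have e2 : c :: ([] ++ alternatingWord y x (k + 1)) = (c :: alternatingWord x y k) ++ [x] := by
      rw [List.nil_append, alternatingWord_succ, List.concat_eq_append, List.cons_append]
    obtain ⟨g1, g2, g3⟩ := step' s f hs hE q IH _ _ _ _ _ _ e1 e2 h1 h2 hl hp hne
    have e3 : alternatingWord x y (k + 1) ++ [x] = alternatingWord y x (k + 2) := by
      rw [alternatingWord_succ y x (k + 1), List.concat_eq_append]
    rw [e3] at g1 g2 g3
    rw [List.nil_append] at g2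
    have g4 := alt_F_eq s f hs hf hrel y x (k + 2) g2
    apply hne
    rw [← g3, List.nil_append]
    exact g4.symm
  | cons c' ρ' ih =>
    intro k x y c h1 h2 hl hp
    by_contra hne
    have e1 : (c' :: ρ') ++ alternatingWord x y (k + 2) =
        c' :: (ρ' ++ alternatingWord x y (k + 2)) := List.cons_append
    have e2 : c :: ((c' :: ρ') ++ alternatingWord y x (k + 1)) =
        (c :: ((c' :: ρ') ++ alternatingWord x y k)) ++ [x] := by
      rw [alternatingWord_succ, List.concat_eq_append]
      simp only [List.cons_append, List.append_assoc]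
    obtain ⟨g1, g2, g3⟩ := step' s f hs hE q IH _ _ _ _ _ _ e1 e2 h1 h2 hl hp hne
    have e3 : ρ' ++ alternatingWord x y (k + 2) ++ [x] = ρ' ++ alternatingWord y x (k + 1 + 2) := by
      rw [alternatingWord_succ y x (k + 2), List.concat_eq_append, List.append_assoc]
    rw [e3] at g1 g2 g3
    rw [e1] at h1 hl hne g2
    have hl2 : (ρ' ++ alternatingWord y x (k + 1 + 2)).length = q := by
      rw [← hl]
      simp only [List.length_append, List.length_cons, CoxeterSystem.length_alternatingWord]
      omega
    have g4 := ih (k + 1) y x c' g1 h1 hl2 g2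
    apply hne
    rw [← g3]
    exact g4.symm

include hs hf hrel hE in
theorem F_const : ∀ (q : ℕ) (v v' : List B), v.length = q → IsRed s v → IsRed s v' →
    wp s v = wp s v' → wp f v = wp f v' := by
  intro q
  induction q using Nat.strong_induction_on with
  | _ q ih =>
  intro v v' hl hv hv' hp
  have IH : ∀ v v' : List B, v.length < q → IsRed s v → IsRed s v' → wp s v = wp s v' →
      wp f v = wp f v' := fun v v' h => ih v.length h v v' rfl
  by_contra hne
  have hl' : v'.length = q := by
    rw [← hl]
    exact (hv.length_eq hv' hp).symm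
  cases v with
  | nil =>
    have : v' = [] := by
      rw [← List.length_eq_zero_iff, hl', ← hl]
      rfl
    subst this
    exact hne rfl
  | cons c t =>
    rcases List.eq_nil_or_concat' v' with h | ⟨t', a', h⟩
    · subst h
      simp only [List.length_cons, List.length_nil] at hl hl'
      omega
    obtain ⟨h1, h2, h3⟩ := step' s f hs hE q IH _ _ c t t' a' rfl h hv hv' hl hp hne
    rcases List.eq_nil_or_concat' t with ht | ⟨ρ, a, ht⟩
    · subst ht
      have e1 : alternatingWord c a' 1 = [a'] := by simp [alternatingWord]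
      have e2 : alternatingWord a' c 1 = [c] := by simp [alternatingWord]
      have h4 := alt_F_eq s f hs hf hrel c a' 1 (by
        rw [e1, e2]
        simpa using h2)
      rw [e1, e2] at h4
      apply hne
      rw [← h3]
      simpa using h4.symm
    · subst ht
      have e1 : ρ ++ [a] ++ [a'] = ρ ++ alternatingWord a a' (0 + 2) := by
        rw [List.append_assoc]
        congr 1
      have e2 : c :: (ρ ++ [a]) = c :: (ρ ++ alternatingWord a' a (0 + 1)) := by
        congr 1
      rw [e1] at h1 h2 h3
      rw [e2] at hv hl hne h2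
      have hl2 : (ρ ++ alternatingWord a a' (0 + 2)).length = q := by
        rw [← hl]
        simp only [List.length_append, List.length_cons, CoxeterSystem.length_alternatingWord]
      have h4 := descent s f hs hf hrel hE q IH ρ 0 a a' c h1 hv hl2 h2
      apply hne
      rw [← h3]
      exact h4.symm

include hs hf hrel hE in
theorem F_of_red : ∀ (ω v : List B), IsRed s v → wp s v = wp s ω → wp f v = wp f ω := by
  intro ω
  induction ω using List.reverseRecOn with
  | nil =>
    intro v hv hp
    have h0 : v.length ≤ 0 := hv [] hp.symm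
    have : v = [] := List.length_eq_zero_iff.mp (Nat.le_zero.mp h0)
    rw [this]
  | append_singleton ω₀ a ih =>
    intro v hv hp
    obtain ⟨v₀, hv₀, hp₀⟩ := exists_red s ω₀
    have ih₀ := ih v₀ hv₀ hp₀
    rw [wp_append, wp_singleton, ← ih₀]
    rw [wp_append, wp_singleton, ← hp₀] at hp
    by_cases hr : IsRed s (v₀ ++ [a])
    · have := F_const s f hs hf hrel hE _ v (v₀ ++ [a]) rfl hv hr (by
        rw [hp, wp_append, wp_singleton])
      rw [this, wp_append, wp_singleton]
    · obtain ⟨ω₁, c, ω₂, hdec, hcomm⟩ := hE v₀ a hv₀ hr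
      have hp1 : wp s (ω₁ ++ ω₂) = wp s v := by
        rw [hp, hdec, wp_append, wp_append, wp_cons, mul_assoc, mul_assoc, ← mul_assoc (s c), hcomm,
          mul_assoc, hs, mul_one]
      have hl1 : v.length ≤ (ω₁ ++ ω₂).length := hv _ hp1
      have hp2 : wp s (v ++ [a]) = wp s v₀ := by
        rw [wp_append, wp_singleton, hp, mul_assoc, hs, mul_one]
      have hl2 : v₀.length ≤ (v ++ [a]).length := hv₀ _ hp2
      have hr2 : IsRed s (v ++ [a]) := hv₀.of_eq hp2 (by
        rw [hdec] at hl2 ⊢
        simp only [List.length_append, List.length_cons, List.length_nil] at hl1 hl2 ⊢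
        omega)
      have := F_const s f hs hf hrel hE _ (v ++ [a]) v₀ rfl hr2 hv₀ hp2
      rw [← this, wp_append, wp_singleton, mul_assoc, hf, mul_one]

include hs hf hrel hE in
/-- **Main abstract theorem**: under the exchange condition, every relation among the `s i` is a
consequence of the relations `(s i s j)^n = 1`. -/
theorem wp_eq_one (ω : List B) (h : wp s ω = 1) : wp f ω = 1 := by
  have := F_of_red s f hs hf hrel hE ω [] (isRed_nil s) (by rw [wp_nil, h])
  simpa using this.symm

end main

end Groth.Agent.Lib.Helper31.CoxEx
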