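import Mathlib
import Groth.Agent.S2952

/-!
# Weyl group of a root pairing with a base: deletion lemma, trivial stabiliser of the positive
system (S2953), simple transitivity on bases (S2954).
-/

set_option autoImplicit false
set_option linter.unusedSectionVars false

open RootPairing
open scoped Classical

namespace Groth.Agent.Lib.Helper31.WB

variable {ι R M N : Type*} [CommRing R] [AddCommGroup M] [Module R M]
  [AddCommGroup N] [Module R N] {P : RootPairing ι R M N}

/-- The product of the reflections of a word. -/
noncomputable def wordProd (P : RootPairing ι R M N) (l : List ι) : P.Aut :=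
  (l.map fun a => Equiv.reflection P a).prod

theorem wordProd_nil : wordProd P [] = 1 := rfl

theorem wordProd_cons (a : ι) (l : List ι) :
    wordProd P (a :: l) = Equiv.reflection P a * wordProd P l := by
  unfold wordProd
  rw [List.map_cons, List.prod_cons]

theorem wordProd_append (l₁ l₂ : List ι) :
    wordProd P (l₁ ++ l₂) = wordProd P l₁ * wordProd P l₂ := by
  unfold wordProd
  rw [List.map_append, List.prod_append]

theorem wordProd_singleton (a : ι) : wordProd P [a] = Equiv.reflection P a := by
  rw [wordProd_cons, wordProd_nil, mul_one]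

theorem wordProd_mem_weylGroup (l : List ι) : wordProd P l ∈ P.weylGroup := by
  induction l with
  | nil => exact one_mem _
  | cons a l ih =>
    rw [wordProd_cons]
    exact mul_mem (P.reflection_mem_weylGroup a) ih

theorem reflection_mul_self (a : ι) :
    Equiv.reflection P a * Equiv.reflection P a = 1 := by
  rw [mul_eq_one_iff_inv_eq, Equiv.reflection_inv]

theorem reflection_smul_idx (i k : ι) : Equiv.reflection P i • k = P.reflectionPerm i k := rfl

theorem smul_negIdx (g : P.Aut) (k : ι) :
    g • (P.reflectionPerm k k) = P.reflectionPerm (g • k) (g • k) :=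
  Groth.Agent.S2952.smul_reflectionPerm_self P g k

/-- conjugation of a reflection by a word -/
theorem reflection_wordProd_smul (l : List ι) (i : ι) :
    Equiv.reflection P (wordProd P l • i) =
      wordProd P l * Equiv.reflection P i * (wordProd P l)⁻¹ := by
  induction l with
  | nil => simp [wordProd_nil]
  | cons a t ih =>
    rw [wordProd_cons, mul_smul, reflection_smul_idx, Groth.Agent.S2952.reflection_conj, ih,
      mul_inv_rev, Equiv.reflection_inv]
    group

theorem exists_word_of_mem_closure {S : Set ι} {g : P.Aut}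
    (hg : g ∈ Subgroup.closure ((fun i : ι => Equiv.reflection P i) '' S)) :
    ∃ l : List ι, (∀ a ∈ l, a ∈ S) ∧ wordProd P l = g := by
  induction hg using Subgroup.closure_induction'' with
  | one => exact ⟨[], by simp, wordProd_nil⟩
  | mem w hw =>
    obtain ⟨i, hi, rfl⟩ := hw
    exact ⟨[i], by simpa using hi, wordProd_singleton i⟩
  | inv_mem w hw =>
    obtain ⟨i, hi, rfl⟩ := hw
    refine ⟨[i], by simpa using hi, ?_⟩
    rw [wordProd_singleton, Equiv.reflection_inv]
  | mul w₁ w₂ _ _ h₁ h₂ =>
    obtain ⟨l₁, hl₁, rfl⟩ := h₁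
    obtain ⟨l₂, hl₂, rfl⟩ := h₂
    refine ⟨l₁ ++ l₂, ?_, wordProd_append l₁ l₂⟩
    intro a ha
    rcases List.mem_append.mp ha with h | h
    · exact hl₁ a h
    · exact hl₂ a h

section Base

variable [CharZero R] [IsDomain R] [Finite ι] [P.IsCrystallographic] [P.IsReduced] (b : P.Base)

theorem isPos_neg_iff (k : ι) : b.IsPos (P.reflectionPerm k k) ↔ ¬ b.IsPos k :=
  RootPairing.Base.IsPos.neg_iff_not b k

/-- a simple reflection permutes the positive roots other than the simple root itself -/
theorem pos_dichotomy {c : ι} (hc : c ∈ b.support) {k : ι} (hk : b.IsPos k) :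
    b.IsPos (P.reflectionPerm c k) ∨ k = c := by
  by_cases h : k = c
  · exact Or.inr h
  · exact Or.inl (hk.reflectionPerm hc h)

/-- Exchange: if a word sends a simple root to a negative root, one letter can be located where
the sign changes. -/
theorem exists_split_of_neg (l₀ : List ι) (hl₀ : ∀ a ∈ l₀, a ∈ b.support) (a : ι)
    (ha : b.IsPos a) (hneg : ¬ b.IsPos (wordProd P l₀ • a)) :
    ∃ (l₁ : List ι) (c : ι) (l₂ : List ι), l₀ = l₁ ++ c :: l₂ ∧ wordProd P l₂ • a = c := by
  induction l₀ with
  | nil =>
    exfalso
    apply hneg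
    rw [wordProd_nil, one_smul]
    exact ha
  | cons c t ih =>
    have ht : ∀ a ∈ t, a ∈ b.support := fun a ha => hl₀ a (List.mem_cons_of_mem _ ha)
    by_cases hk : b.IsPos (wordProd P t • a)
    · refine ⟨[], c, t, rfl, ?_⟩
      have hc : c ∈ b.support := hl₀ c List.mem_cons_self
      rw [wordProd_cons, mul_smul, reflection_smul_idx] at hneg
      rcases pos_dichotomy b hc hk with h | h
      · exact absurd h hneg
      · exact h
    · obtain ⟨l₁, c', l₂, hdec, hc'⟩ := ih ht hk
      exact ⟨c :: l₁, c', l₂, by rw [hdec]; rfl, hc'⟩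

theorem neg_of_minimal_word (l : List ι) (hl : ∀ a ∈ l, a ∈ b.support) (hne : l ≠ [])
    (hmin : ∀ l' : List ι, (∀ a ∈ l', a ∈ b.support) → wordProd P l' = wordProd P l →
      l.length ≤ l'.length) :
    ¬ b.IsPos (wordProd P l • l.getLast hne) := by
  set a := l.getLast hne with ha
  set l₀ := l.dropLast with hl₀def
  have hl_eq : l = l₀ ++ [a] := (List.dropLast_append_getLast hne).symm
  have haΔ : a ∈ b.support := hl a (List.getLast_mem hne)
  have hl₀ : ∀ x ∈ l₀, x ∈ b.support := fun x hx => hl x (List.mem_of_mem_dropLast hx)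
  have hw : wordProd P l = wordProd P l₀ * Equiv.reflection P a := by
    conv_lhs => rw [hl_eq]
    rw [wordProd_append, wordProd_singleton]
  intro hpos
  have h1 : wordProd P l • a = P.reflectionPerm (wordProd P l₀ • a) (wordProd P l₀ • a) := by
    rw [hw, mul_smul, reflection_smul_idx, smul_negIdx]
  rw [h1] at hpos
  have hneg : ¬ b.IsPos (wordProd P l₀ • a) := (isPos_neg_iff b _).mp hpos
  obtain ⟨l₁, c, l₂, hdec, hc⟩ := exists_split_of_neg b l₀ hl₀ a
    (b.isPos_of_mem_support haΔ) hneg
  have hconj := reflection_wordProd_smul (P := P) l₂ a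
  rw [hc] at hconj
  have hnew : wordProd P (l₁ ++ l₂) = wordProd P l := by
    rw [hw, hdec, wordProd_append, wordProd_append, wordProd_cons, hconj]
    have := reflection_mul_self (P := P) a
    group
    rw [mul_assoc, this, mul_one]
  have hlen := hmin (l₁ ++ l₂) (by
    intro x hx
    apply hl₀
    rw [hdec]
    rcases List.mem_append.mp hx with h | h
    · exact List.mem_append_left _ h
    · exact List.mem_append_right _ (List.mem_cons_of_mem _ h)) hnew
  have hlen2 : l.length = l₁.length + l₂.length + 2 := by
    conv_lhs => rw [hl_eq, hdec]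
    simp
    omega
  rw [List.length_append] at hlen
  omega

/-- **S2953**: an element of the Weyl group preserving the positive roots is trivial. -/
theorem eq_one_of_preserves_pos {g : P.Aut} (hg : g ∈ P.weylGroup)
    (hpos : ∀ k, b.IsPos k → b.IsPos (g • k)) : g = 1 := by
  rw [← (Groth.Agent.S2952.result P b).1] at hg
  have hex : ∃ n : ℕ, ∃ l : List ι, (∀ a ∈ l, a ∈ b.support) ∧ wordProd P l = g ∧
      l.length = n := by
    obtain ⟨l, hl, hlg⟩ := exists_word_of_mem_closure hg
    exact ⟨l.length, l, fun a ha => hl a ha, hlg, rfl⟩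
  obtain ⟨l, hl, hlg, hlen⟩ := Nat.find_spec hex
  by_cases hne : l = []
  · rw [← hlg, hne, wordProd_nil]
  · exfalso
    have hmin : ∀ l' : List ι, (∀ a ∈ l', a ∈ b.support) → wordProd P l' = wordProd P l →
        l.length ≤ l'.length := by
      intro l' hl' hl'g
      rw [hlen]
      exact Nat.find_min' hex ⟨l', hl', hl'g.trans hlg, rfl⟩
    have h := neg_of_minimal_word b l hl hne hmin
    apply h
    rw [hlg]
    exact hpos _ (b.isPos_of_mem_support (hl _ (List.getLast_mem hne)))

end Base

end Groth.Agent.Lib.Helper31.WB
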