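import Mathlib
import Groth.Agent.Lib.Helper31.CoxEx1
import Groth.Agent.Lib.Helper31.WeylBase

/-!
# The Weyl group of a root pairing with a base is a Coxeter group (S2956)
-/

set_option autoImplicit false
set_option linter.unusedSectionVars false
set_option linter.unusedVariables false

open RootPairing

namespace Groth.Agent.Lib.Helper31.CoxEx

open Groth.Agent.Lib.Helper31.WB

variable {ι R M N : Type*} [CommRing R] [CharZero R] [IsDomain R] [AddCommGroup M] [Module R M]
  [AddCommGroup N] [Module R N] (P : RootPairing ι R M N) [Finite ι] [P.IsCrystallographic]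
  [P.IsReduced] (b : P.Base)

/-- the simple reflections as elements of the Weyl group -/
noncomputable def sB (j : ↥b.support) : P.weylGroup :=
  ⟨Equiv.reflection P (j : ι), P.reflection_mem_weylGroup (j : ι)⟩

lemma sB_coe (j : ↥b.support) : ((sB P b j : P.weylGroup) : P.Aut) = Equiv.reflection P (j : ι) :=
  rfl

lemma sB_mul_self (j : ↥b.support) : sB P b j * sB P b j = 1 := by
  apply Subtype.ext
  rw [Subgroup.coe_mul, sB_coe, Subgroup.coe_one]
  exact WB.reflection_mul_self (P := P) (j : ι)

lemma wp_coe (ω : List ↥b.support) :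
    ((wp (sB P b) ω : P.weylGroup) : P.Aut) = WB.wordProd P (ω.map Subtype.val) := by
  induction ω with
  | nil => rfl
  | cons a t ih =>
    rw [wp_cons, Subgroup.coe_mul, ih, List.map_cons, WB.wordProd_cons, sB_coe]

lemma map_val_mem (ω : List ↥b.support) : ∀ a ∈ ω.map Subtype.val, a ∈ b.support := by
  intro a ha
  rw [List.mem_map] at ha
  obtain ⟨x, _, rfl⟩ := ha
  exact x.2

/-- deletion from a split: the key computation -/
lemma delete_eq (l₁ l₂ : List ι) (c a : ι) (hc : WB.wordProd P l₂ • a = c) :
    WB.wordProd P (l₁ ++ c :: l₂) * Equiv.reflection P a = WB.wordProd P (l₁ ++ l₂) := by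
  have hconj := WB.reflection_wordProd_smul (P := P) l₂ a
  rw [hc] at hconj
  rw [WB.wordProd_append, WB.wordProd_cons, hconj, WB.wordProd_append]
  have := WB.reflection_mul_self (P := P) a
  group
  rw [mul_assoc, this, mul_one]

theorem exch : Exch (sB P b) := by
  intro ω a hω hnr
  unfold IsRed at hnr
  push Not at hnr
  obtain ⟨ω', hω'p, hω'l⟩ := hnr
  have key : ¬ b.IsPos (WB.wordProd P (ω.map Subtype.val) • (a : ι)) := by
    intro hpos
    have h1 : WB.wordProd P (ω'.map Subtype.val) =
        WB.wordProd P (ω.map Subtype.val) * Equiv.reflection P (a : ι) := by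
      have := congrArg (fun x : P.weylGroup => (x : P.Aut)) hω'p
      beta_reduce at this
      rw [wp_coe, wp_coe, List.map_append, WB.wordProd_append, List.map_cons, List.map_nil,
        WB.wordProd_singleton] at this
      exact this
    have hneg : ¬ b.IsPos (WB.wordProd P (ω'.map Subtype.val) • (a : ι)) := by
      rw [h1, mul_smul, WB.reflection_smul_idx, WB.smul_negIdx]
      intro h
      exact (WB.isPos_neg_iff b _).mp h hpos
    obtain ⟨l₁, c, l₂, hdec, hc⟩ := WB.exists_split_of_neg b (ω'.map Subtype.val)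
      (map_val_mem P b ω') (a : ι) (b.isPos_of_mem_support a.2) hneg
    obtain ⟨ω'₁, ω'r, hω', h1', h2'⟩ := List.map_eq_append_iff.mp hdec
    obtain ⟨c', ω'₂, hr, hc', h3'⟩ := List.map_eq_cons_iff.mp h2'
    have hdel := delete_eq P l₁ l₂ c (a : ι) hc
    have hnew : wp (sB P b) (ω'₁ ++ ω'₂) = wp (sB P b) ω := by
      apply Subtype.ext
      rw [wp_coe, wp_coe, List.map_append, h1', h3', ← hdel, ← hdec, h1, mul_assoc,
        WB.reflection_mul_self, mul_one]
    have hle := hω (ω'₁ ++ ω'₂) hnew
    rw [hω', hr] at hω'l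
    simp only [List.length_append, List.length_cons, List.length_nil] at hω'l hle
    omega
  obtain ⟨l₁, c, l₂, hdec, hc⟩ := WB.exists_split_of_neg b (ω.map Subtype.val)
    (map_val_mem P b ω) (a : ι) (b.isPos_of_mem_support a.2) key
  obtain ⟨ω₁, ωr, hω1, h1', h2'⟩ := List.map_eq_append_iff.mp hdec
  obtain ⟨c', ω₂, hr, hc', h3'⟩ := List.map_eq_cons_iff.mp h2'
  refine ⟨ω₁, c', ω₂, by rw [hω1, hr], ?_⟩
  apply Subtype.ext
  rw [Subgroup.coe_mul, Subgroup.coe_mul, wp_coe, sB_coe, sB_coe, h3', hc']
  have hconj := WB.reflection_wordProd_smul (P := P) l₂ (a : ι)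
  rw [hc] at hconj
  rw [hconj]
  group

/-- distinct simple roots have distinct reflections -/
lemma reflection_injOn {j k : ι} (hj : j ∈ b.support) (hk : k ∈ b.support)
    (h : Equiv.reflection P j = Equiv.reflection P k) : j = k := by
  by_contra hne
  have h1 : P.reflectionPerm j j = P.reflectionPerm k j := by
    have := congrArg (fun g : P.Aut => g • j) h
    simpa only [WB.reflection_smul_idx] using this
  have hjpos : b.IsPos j := b.isPos_of_mem_support hj
  rcases WB.pos_dichotomy b hk hjpos with h2 | h2
  · rw [← h1] at h2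
    exact (WB.isPos_neg_iff b j).mp h2 hjpos
  · exact hne h2

/-- the Coxeter matrix of orders -/
noncomputable def coxM : CoxeterMatrix ↥b.support where
  M := fun j k => orderOf (Equiv.reflection P (j : ι) * Equiv.reflection P (k : ι))
  isSymm := by
    apply Matrix.IsSymm.ext
    intro j k
    exact SemiconjBy.orderOf_eq (Equiv.reflection P (j : ι))
      (show SemiconjBy (Equiv.reflection P (j : ι))
        (Equiv.reflection P (k : ι) * Equiv.reflection P (j : ι))
        (Equiv.reflection P (j : ι) * Equiv.reflection P (k : ι)) from (mul_assoc _ _ _).symm)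
  diagonal := by
    intro j
    show orderOf (Equiv.reflection P (j : ι) * Equiv.reflection P (j : ι)) = 1
    rw [WB.reflection_mul_self, orderOf_one]
  off_diagonal := by
    intro j k hjk h
    apply hjk
    have h1 : Equiv.reflection P (j : ι) * Equiv.reflection P (k : ι) = 1 := orderOf_eq_one_iff.mp h
    have h2 : Equiv.reflection P (j : ι) = Equiv.reflection P (k : ι) := by
      have := WB.reflection_mul_self (P := P) (k : ι)
      calc Equiv.reflection P (j : ι)
          = Equiv.reflection P (j : ι) * (Equiv.reflection P (k : ι) * Equiv.reflection P (k : ι)) := by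
            rw [this, mul_one]
        _ = Equiv.reflection P (k : ι) := by rw [← mul_assoc, h1, one_mul]
    exact Subtype.ext (reflection_injOn P b j.2 k.2 h2)

lemma coxM_apply (j k : ↥b.support) :
    (coxM P b).M j k = orderOf (Equiv.reflection P (j : ι) * Equiv.reflection P (k : ι)) := rfl

lemma coxM_eq (j k : ↥b.support) : (coxM P b) j k = orderOf (sB P b j * sB P b k) := by
  rw [← Subgroup.orderOf_coe]
  rfl

lemma liftable : (coxM P b).IsLiftable (sB P b) := by
  intro j k
  rw [coxM_eq]
  exact pow_orderOf_eq_one _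

/-- the canonical homomorphism from the Coxeter group -/
noncomputable def φ : (coxM P b).Group →* P.weylGroup :=
  (coxM P b).toCoxeterSystem.lift ⟨sB P b, liftable P b⟩

lemma φ_simple (j : ↥b.support) : φ P b ((coxM P b).simple j) = sB P b j :=
  (coxM P b).toCoxeterSystem.lift_apply_simple (liftable P b) j

lemma φ_wordProd (ω : List ↥b.support) :
    φ P b ((coxM P b).toCoxeterSystem.wordProd ω) = wp (sB P b) ω := by
  induction ω with
  | nil => simp
  | cons a t ih =>
    rw [CoxeterSystem.wordProd_cons, map_mul, ih, wp_cons]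
    congr 1

lemma wordProd_eq_wp (ω : List ↥b.support) :
    (coxM P b).toCoxeterSystem.wordProd ω = wp ((coxM P b).toCoxeterSystem.simple) ω := rfl

theorem φ_injective : Function.Injective (φ P b) := by
  rw [injective_iff_map_eq_one]
  intro g hg
  obtain ⟨ω, rfl⟩ := (coxM P b).toCoxeterSystem.wordProd_surjective g
  rw [φ_wordProd] at hg
  rw [wordProd_eq_wp]
  refine wp_eq_one (sB P b) ((coxM P b).toCoxeterSystem.simple) (sB_mul_self P b)
    (fun i => (coxM P b).toCoxeterSystem.simple_mul_simple_self i) ?_ (exch P b) ω hg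
  intro i j n hn
  have hdvd : (coxM P b) i j ∣ n := by
    rw [coxM_eq]
    exact orderOf_dvd_of_pow_eq_one hn
  obtain ⟨m, rfl⟩ := hdvd
  rw [pow_mul, (coxM P b).toCoxeterSystem.simple_mul_simple_pow, one_pow]

theorem φ_surjective : Function.Surjective (φ P b) := by
  intro g
  have hg : (g : P.Aut) ∈ Subgroup.closure
      ((fun i : ι => Equiv.reflection P i) '' (b.support : Set ι)) := by
    rw [(Groth.Agent.S2952.result P b).1]
    exact g.2
  have hle : Subgroup.closure ((fun i : ι => Equiv.reflection P i) '' (b.support : Set ι)) ≤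
      (φ P b).range.map P.weylGroup.subtype := by
    rw [Subgroup.closure_le]
    rintro _ ⟨j, hj, rfl⟩
    refine ⟨sB P b ⟨j, hj⟩, ⟨(coxM P b).simple ⟨j, hj⟩, φ_simple P b ⟨j, hj⟩⟩, rfl⟩
  obtain ⟨y, ⟨x, hx⟩, hy⟩ := hle hg
  refine ⟨x, ?_⟩
  rw [hx]
  exact Subtype.ext hy

/-- the Coxeter system on the Weyl group -/
noncomputable def coxSys : CoxeterSystem (coxM P b) P.weylGroup :=
  ⟨(MulEquiv.ofBijective (φ P b) ⟨φ_injective P b, φ_surjective P b⟩).symm⟩

lemma coxSys_simple (j : ↥b.support) : (coxSys P b).simple j = sB P b j := by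
  show (MulEquiv.ofBijective (φ P b) ⟨φ_injective P b, φ_surjective P b⟩).symm.symm
    (PresentedGroup.of j) = _
  rw [MulEquiv.symm_symm]
  exact φ_simple P b j

end Groth.Agent.Lib.Helper31.CoxEx
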