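import Mathlib

/-!
# Weighted monomial orders (helper31)

`pullbackOrder m φ hφ`: the pullback of a monomial order along an injective additive map of
exponent vectors; `wlex w`: compare by the weight `∑ ν s * w s` first, then lexicographically.
-/

set_option autoImplicit false

namespace Groth.Agent.Lib.Helper31.Cv

open Finsupp

variable {σ τ : Type*}

/-- a type synonym carrying no order -/
def PSyn (σ : Type*) : Type _ := σ →₀ ℕ

noncomputable instance : AddCommMonoid (PSyn σ) := inferInstanceAs (AddCommMonoid (σ →₀ ℕ))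

/-- the identification -/
noncomputable def toPSyn : (σ →₀ ℕ) ≃+ PSyn σ := AddEquiv.refl _

/-- pullback of a monomial order along an injective additive map -/
noncomputable def pullbackOrder (m : MonomialOrder τ) (φ : (σ →₀ ℕ) →+ (τ →₀ ℕ))
    (hφ : Function.Injective φ) : MonomialOrder σ :=
  letI lo : LinearOrder (PSyn σ) := LinearOrder.lift' (fun a : PSyn σ => m.toSyn (φ (toPSyn.symm a)))
    (fun a b h => toPSyn.symm.injective (hφ (m.toSyn.injective h)))
  { syn := PSyn σ
    addCommMonoidSyn := inferInstance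
    linearOrderSyn := lo
    isOrderedAddMonoid_syn :=
      { add_le_add_left := by
          intro a b h c
          change m.toSyn (φ (toPSyn.symm (a + c))) ≤ m.toSyn (φ (toPSyn.symm (b + c)))
          rw [map_add, map_add, map_add, map_add, map_add, map_add]
          exact add_le_add_left (α := m.syn) h _ }
    toSyn := toPSyn
    toSyn_monotone := by
      intro a b h
      change m.toSyn (φ a) ≤ m.toSyn (φ b)
      obtain ⟨c, rfl⟩ := exists_add_of_le h
      rw [map_add, map_add]
      exact le_add_of_nonneg_right (MonomialOrder.zero_le _ _)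
    wellFoundedLT_syn :=
      ⟨InvImage.wf (fun a : PSyn σ => m.toSyn (φ (toPSyn.symm a))) m.wellFoundedLT_syn.wf⟩ }

theorem pullbackOrder_lt_iff (m : MonomialOrder τ) (φ : (σ →₀ ℕ) →+ (τ →₀ ℕ))
    (hφ : Function.Injective φ) (a b : σ →₀ ℕ) :
    (pullbackOrder m φ hφ).toSyn a < (pullbackOrder m φ hφ).toSyn b ↔
      m.toSyn (φ a) < m.toSyn (φ b) := Iff.rfl

/-- the weight of an exponent vector -/
noncomputable def wt (w : σ → ℕ) : (σ →₀ ℕ) →+ ℕ :=
  (Finsupp.linearCombination ℕ w).toAddMonoidHom

@[simp] theorem wt_single (w : σ → ℕ) (s : σ) (n : ℕ) : wt w (single s n) = n * w s := by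
  simp [wt]

/-- the embedding recording the weight in an extra coordinate -/
noncomputable def wemb (w : σ → ℕ) : (σ →₀ ℕ) →+ (WithBot σ →₀ ℕ) :=
  (Finsupp.singleAddHom (⊥ : WithBot σ)).comp (wt w) +
    (Finsupp.mapDomain.addMonoidHom (fun s : σ => (s : WithBot σ)))

theorem wemb_apply_bot (w : σ → ℕ) (ν : σ →₀ ℕ) : wemb w ν ⊥ = wt w ν := by
  classical
  simp only [wemb, AddMonoidHom.add_apply, AddMonoidHom.coe_comp, Function.comp_apply,
    singleAddHom_apply, mapDomain.addMonoidHom_apply, Finsupp.coe_add, Pi.add_apply,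
    single_eq_same]
  rw [Finsupp.mapDomain_of_notMem_range]
  · simp
  · rintro ⟨s, hs⟩
    exact WithBot.coe_ne_bot hs

theorem wemb_apply_coe (w : σ → ℕ) (ν : σ →₀ ℕ) (s : σ) : wemb w ν (s : WithBot σ) = ν s := by
  classical
  simp only [wemb, AddMonoidHom.add_apply, AddMonoidHom.coe_comp, Function.comp_apply,
    singleAddHom_apply, mapDomain.addMonoidHom_apply, Finsupp.coe_add, Pi.add_apply]
  rw [Finsupp.mapDomain_apply (WithBot.coe_injective), Finsupp.single_apply,
    if_neg (WithBot.bot_ne_coe), zero_add]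

theorem wemb_injective (w : σ → ℕ) : Function.Injective (wemb w) := by
  intro a b h
  ext s
  rw [← wemb_apply_coe w a s, ← wemb_apply_coe w b s, h]

/-- weighted lexicographic order -/
noncomputable def wlex [LinearOrder σ] [WellFoundedGT σ] (w : σ → ℕ) : MonomialOrder σ :=
  pullbackOrder (MonomialOrder.lex (σ := WithBot σ)) (wemb w) (wemb_injective w)

theorem wlex_lt_of_wt_lt [LinearOrder σ] [WellFoundedGT σ] (w : σ → ℕ) {a b : σ →₀ ℕ}
    (h : wt w a < wt w b) : (wlex w).toSyn a < (wlex w).toSyn b := by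
  rw [wlex, pullbackOrder_lt_iff, MonomialOrder.lex_lt_iff, Finsupp.Lex.lt_iff]
  refine ⟨⊥, fun j hj => absurd hj (not_lt_bot), ?_⟩
  simp only [ofLex_toLex]
  rw [wemb_apply_bot, wemb_apply_bot]
  exact h

end Groth.Agent.Lib.Helper31.Cv
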