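import Mathlib
import Groth.Agent.Lib.Helper91.GroebnerStd

/-!
# Gröbner data over a finite index type, with sparse S-pair certificates (helper31)

A wrapper around helper91's `GB` (indexed by `Fin n`) for families indexed by an arbitrary
`Fintype`, with certificates whose cofactors are given by a finite list.
-/

set_option autoImplicit false
set_option linter.unusedSectionVars false

namespace Groth.Agent.Lib.Helper31.Cv

open MvPolynomial Groth.Agent.Lib.Helper91.Groebner

variable {σ : Type*} {R : Type*} [CommRing R] {ι : Type*} [Fintype ι] [DecidableEq ι]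

/-- S-pair certificate over an arbitrary finite index type -/
def PC (m : MonomialOrder σ) (G : ι → MvPolynomial σ R) (μ : ι → σ →₀ ℕ) (i j : ι) : Prop :=
  ∃ (a b : σ →₀ ℕ) (H : ι → MvPolynomial σ R),
    a + μ i = b + μ j ∧ (∀ δ, μ i ≤ δ → μ j ≤ δ → a + μ i ≤ δ) ∧
    monomial a 1 * G i - monomial b 1 * G j = ∑ l, H l * G l ∧
    ∀ l, SBdd m (m.toSyn (a + μ i)) (μ l) (H l)

theorem PC.symm {m : MonomialOrder σ} {G : ι → MvPolynomial σ R} {μ : ι → σ →₀ ℕ} {i j : ι}
    (h : PC m G μ i j) : PC m G μ j i := by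
  obtain ⟨a, b, H, h1, h2, h3, h4⟩ := h
  refine ⟨b, a, fun l => - H l, h1.symm, fun δ hi hj => h1 ▸ h2 δ hj hi, ?_, fun l => ?_⟩
  · rw [← neg_sub, h3]; simp [Finset.sum_neg_distrib]
  · rw [← h1]; exact (h4 l).neg

/-- the cofactor function of a list of (index, cofactor) pairs -/
noncomputable def listH (L : List (ι × MvPolynomial σ R)) : ι → MvPolynomial σ R :=
  fun l => (L.map fun p => if p.1 = l then p.2 else 0).sum

theorem listH_nil : listH ([] : List (ι × MvPolynomial σ R)) = fun _ => 0 := by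
  funext l; simp [listH]

theorem listH_cons (p : ι × MvPolynomial σ R) (L : List (ι × MvPolynomial σ R)) (l : ι) :
    listH (p :: L) l = (if p.1 = l then p.2 else 0) + listH L l := by
  simp [listH]

theorem sum_listH (G : ι → MvPolynomial σ R) (L : List (ι × MvPolynomial σ R)) :
    ∑ l, listH L l * G l = (L.map fun p => p.2 * G p.1).sum := by
  induction L with
  | nil => simp [listH_nil]
  | cons p L ih =>
    simp only [listH_cons, add_mul, Finset.sum_add_distrib, ih, List.map_cons, List.sum_cons,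
      ite_mul, zero_mul, Finset.sum_ite_eq, Finset.mem_univ, if_true]

theorem sbdd_listH {m : MonomialOrder σ} {δ : m.syn} (μ : ι → σ →₀ ℕ)
    (L : List (ι × MvPolynomial σ R)) (h : ∀ p ∈ L, SBdd m δ (μ p.1) p.2) (l : ι) :
    SBdd m δ (μ l) (listH L l) := by
  induction L with
  | nil => rw [listH_nil]; exact SBdd.zero
  | cons p L ih =>
    rw [listH_cons]
    refine SBdd.add ?_ (ih fun q hq => h q (List.mem_cons_of_mem _ hq))
    split_ifs with hp
    · subst hp; exact h p List.mem_cons_self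
    · exact SBdd.zero

theorem PC.of_list (m : MonomialOrder σ) (G : ι → MvPolynomial σ R) (μ : ι → σ →₀ ℕ) (i j : ι)
    (a b : σ →₀ ℕ) (L : List (ι × MvPolynomial σ R))
    (h1 : a + μ i = b + μ j) (h2 : ∀ δ, μ i ≤ δ → μ j ≤ δ → a + μ i ≤ δ)
    (h3 : monomial a 1 * G i - monomial b 1 * G j = (L.map fun p => p.2 * G p.1).sum)
    (h4 : ∀ p ∈ L, SBdd m (m.toSyn (a + μ i)) (μ p.1) p.2) : PC m G μ i j :=
  ⟨a, b, listH L, h1, h2, by rw [sum_listH, h3], sbdd_listH μ L h4⟩

/-- coprime leading monomials: the trivial certificate -/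
theorem PC.of_coprime (m : MonomialOrder σ) (G r : ι → MvPolynomial σ R) (μ : ι → σ →₀ ℕ)
    (hG : ∀ k, G k = monomial (μ k) 1 + r k)
    (hr : ∀ k, ∀ ν ∈ (r k).support, m.toSyn ν < m.toSyn (μ k))
    (i j : ι) (hcop : ∀ s, μ i s = 0 ∨ μ j s = 0) : PC m G μ i j := by
  classical
  refine PC.of_list m G μ i j (μ j) (μ i) [(i, - r j), (j, r i)] (add_comm _ _) ?_ ?_ ?_
  · intro δ hi hj s
    rcases hcop s with h | h
    · simpa [h] using hj s
    · simpa [h] using hi s
  · have e1 : monomial (μ j) (1 : R) = G j - r j := by rw [hG j]; ring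
    have e2 : monomial (μ i) (1 : R) = G i - r i := by rw [hG i]; ring
    simp only [List.map_cons, List.map_nil, List.sum_cons, List.sum_nil]
    rw [e1, e2]; ring
  · intro p hp
    simp only [List.mem_cons, List.not_mem_nil, or_false] at hp
    rcases hp with rfl | rfl
    · intro ν hν
      rw [MvPolynomial.support_neg] at hν
      have := hr j ν hν
      show m.toSyn (ν + μ i) < m.toSyn (μ j + μ i)
      rw [map_add, map_add]
      exact add_lt_add_left this _
    · intro ν hν
      have := hr i ν hν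
      show m.toSyn (ν + μ j) < m.toSyn (μ j + μ i)
      rw [map_add, map_add, add_comm (m.toSyn (μ j))]
      exact add_lt_add_left this _

/-- the trivial certificate for two indices with the same polynomial -/
theorem PC.of_eq (m : MonomialOrder σ) (G : ι → MvPolynomial σ R) (μ : ι → σ →₀ ℕ) (i j : ι)
    (hG : G i = G j) (hμ : μ i = μ j) : PC m G μ i j := by
  refine PC.of_list m G μ i j 0 0 [] (by rw [hμ]) (fun δ hi _ => by simpa using hi) ?_ ?_
  · simp [hG]
  · intro p hp; simp at hp

/-- transport of a certificate along equalities of the data at the two indices -/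
theorem PC.congr (m : MonomialOrder σ) (G : ι → MvPolynomial σ R) (μ : ι → σ →₀ ℕ)
    {i j i' j' : ι} (h : PC m G μ i j) (hGi : G i' = G i) (hμi : μ i' = μ i)
    (hGj : G j' = G j) (hμj : μ j' = μ j) : PC m G μ i' j' := by
  obtain ⟨a, b, H, h1, h2, h3, h4⟩ := h
  refine ⟨a, b, H, ?_, ?_, ?_, ?_⟩
  · rw [hμi, hμj]; exact h1
  · rw [hμi, hμj]; exact h2
  · rw [hGi, hGj]; exact h3
  · rw [hμi]; exact h4

/-- Gröbner data from a family over a finite index type -/
noncomputable def mkGB (m : MonomialOrder σ) (G r : ι → MvPolynomial σ R) (μ : ι → σ →₀ ℕ)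
    (hG : ∀ k, G k = monomial (μ k) 1 + r k)
    (hr : ∀ k, ∀ ν ∈ (r k).support, m.toSyn ν < m.toSyn (μ k))
    (hS : ∀ i j, i ≠ j → PC m G μ i j ∨ PC m G μ j i) : GB m (Fintype.card ι) R where
  G := fun k => G ((Fintype.equivFin ι).symm k)
  μ := fun k => μ ((Fintype.equivFin ι).symm k)
  r := fun k => r ((Fintype.equivFin ι).symm k)
  hG := fun k => hG _
  hr := fun k => hr _
  hS := fun i j hij => by
    have hne : (Fintype.equivFin ι).symm i ≠ (Fintype.equivFin ι).symm j :=
      fun h => hij.ne ((Fintype.equivFin ι).symm.injective h)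
    have hpc : PC m G μ ((Fintype.equivFin ι).symm i) ((Fintype.equivFin ι).symm j) := by
      rcases hS _ _ hne with h | h
      · exact h
      · exact h.symm
    obtain ⟨a, b, H, h1, h2, h3, h4⟩ := hpc
    refine ⟨a, b, fun l => H ((Fintype.equivFin ι).symm l), h1, h2, ?_, fun l => h4 _⟩
    rw [h3]
    exact (Equiv.sum_comp (Fintype.equivFin ι).symm (fun k => H k * G k)).symm

theorem mkGB_ideal (m : MonomialOrder σ) (G r : ι → MvPolynomial σ R) (μ : ι → σ →₀ ℕ)
    (hG : ∀ k, G k = monomial (μ k) 1 + r k)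
    (hr : ∀ k, ∀ ν ∈ (r k).support, m.toSyn ν < m.toSyn (μ k))
    (hS : ∀ i j, i ≠ j → PC m G μ i j ∨ PC m G μ j i) :
    (mkGB m G r μ hG hr hS).ideal = Ideal.span (Set.range G) := by
  show Ideal.span (Set.range fun k => G ((Fintype.equivFin ι).symm k)) = _
  congr 1
  ext x
  constructor
  · rintro ⟨k, rfl⟩; exact ⟨_, rfl⟩
  · rintro ⟨k, rfl⟩; exact ⟨Fintype.equivFin ι k, by simp⟩

theorem mkGB_Std (m : MonomialOrder σ) (G r : ι → MvPolynomial σ R) (μ : ι → σ →₀ ℕ)
    (hG : ∀ k, G k = monomial (μ k) 1 + r k)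
    (hr : ∀ k, ∀ ν ∈ (r k).support, m.toSyn ν < m.toSyn (μ k))
    (hS : ∀ i j, i ≠ j → PC m G μ i j ∨ PC m G μ j i) :
    (mkGB m G r μ hG hr hS).Std = {ν | ∀ k, ¬ μ k ≤ ν} := by
  ext ν
  constructor
  · intro h k
    have := h (Fintype.equivFin ι k)
    simpa [mkGB] using this
  · intro h k
    exact h _

end Groth.Agent.Lib.Helper31.Cv
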