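import Mathlib
import Groth.Prelude.Def_W4c5m1nsnscurvesC
import Groth.Agent.Lib.Helper31.Cv1
import Groth.Agent.Lib.Helper31.Cv2

/-!
# The Gröbner family of the curve algebra (helper31): definitions, weights
-/

set_option autoImplicit false
set_option linter.unusedSectionVars false

open W4c5m1nsnscurves MvPolynomial

namespace Groth.Agent.Lib.Helper31.Cv

variable {m : ℕ}

/-- position of a curve variable -/
def cpos : CVar m → ℕ
  | .x2 => 0
  | .x3 => 1
  | .xi i => i.val + 2

theorem cpos_injective : Function.Injective (cpos (m := m)) := by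
  intro a b h
  cases a <;> cases b <;> simp [cpos] at h ⊢
  exact Fin.ext h

instance : DecidableEq (CVar m) := fun a b =>
  decidable_of_iff (cpos a = cpos b) cpos_injective.eq_iff

instance : LinearOrder (CVar m) := LinearOrder.lift' cpos cpos_injective

instance : Finite (CVar m) :=
  Finite.of_injective (fun s => (⟨cpos s, by cases s <;> simp [cpos]⟩ : Fin (m + 2)))
    (fun a b h => cpos_injective (by simpa using congrArg Fin.val h))

instance : WellFoundedGT (CVar m) := Finite.to_wellFoundedGT

/-- weights of the curve variables -/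
def cw : CVar m → ℕ
  | .x2 => 1
  | .x3 => 2
  | .xi _ => 3

/-- the monomial order used for the curve algebra -/
noncomputable def cord (m : ℕ) : MonomialOrder (CVar m) := wlex cw

/-- all monomials of `p` have weight at most `n` -/
def WB {R : Type*} [CommRing R] (n : ℕ) (p : MvPolynomial (CVar m) R) : Prop :=
  ∀ ν ∈ p.support, wt cw ν ≤ n

section WB

variable {R : Type*} [CommRing R]

theorem WB.mono {n n' : ℕ} {p : MvPolynomial (CVar m) R} (h : WB n p) (hn : n ≤ n') : WB n' p :=
  fun ν hν => (h ν hν).trans hn

theorem WB.zero : WB 0 (0 : MvPolynomial (CVar m) R) := by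
  intro ν hν; simp at hν

theorem WB.C (c : R) : WB 0 (C c : MvPolynomial (CVar m) R) := by
  classical
  intro ν hν
  rw [mem_support_iff, coeff_C] at hν
  split_ifs at hν with h
  · rw [← h]; simp
  · exact absurd rfl hν

theorem WB.X (s : CVar m) : WB (cw s) (X s : MvPolynomial (CVar m) R) := by
  classical
  intro ν hν
  rw [mem_support_iff, coeff_X] at hν
  split_ifs at hν with h
  · rw [← h]; simp
  · exact absurd rfl hν

theorem WB.add {a b : ℕ} {p q : MvPolynomial (CVar m) R} (hp : WB a p) (hq : WB b q) :
    WB (max a b) (p + q) := by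
  classical
  intro ν hν
  rcases Finset.mem_union.mp (MvPolynomial.support_add hν) with h | h
  · exact (hp ν h).trans (le_max_left _ _)
  · exact (hq ν h).trans (le_max_right _ _)

theorem WB.neg {a : ℕ} {p : MvPolynomial (CVar m) R} (hp : WB a p) : WB a (-p) := by
  intro ν hν
  rw [MvPolynomial.support_neg] at hν
  exact hp ν hν

theorem WB.sub {a b : ℕ} {p q : MvPolynomial (CVar m) R} (hp : WB a p) (hq : WB b q) :
    WB (max a b) (p - q) := by
  rw [sub_eq_add_neg]; exact hp.add hq.neg

theorem WB.mul {a b : ℕ} {p q : MvPolynomial (CVar m) R} (hp : WB a p) (hq : WB b q) :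
    WB (a + b) (p * q) := by
  classical
  intro ν hν
  obtain ⟨x, hx, y, hy, rfl⟩ := Finset.mem_add.mp (MvPolynomial.support_mul p q hν)
  rw [map_add]
  exact add_le_add (hp x hx) (hq y hy)

theorem WB.pow {a : ℕ} {p : MvPolynomial (CVar m) R} (hp : WB a p) (k : ℕ) :
    WB (k * a) (p ^ k) := by
  induction k with
  | zero => simpa using (WB.C (m := m) (1 : R))
  | succ k ih =>
    rw [pow_succ, Nat.succ_mul]
    exact ih.mul hp

open Groth.Agent.Lib.Helper91.Groebner in
theorem WB.sbdd {n : ℕ} {p : MvPolynomial (CVar m) R} (hp : WB n p) (μ δ : CVar m →₀ ℕ)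
    (h : n + wt cw μ < wt cw δ) : SBdd (cord m) ((cord m).toSyn δ) μ p := by
  intro ν hν
  apply wlex_lt_of_wt_lt
  rw [map_add]
  exact lt_of_le_of_lt (Nat.add_le_add_right (hp ν hν) _) h

theorem WB.lt {n : ℕ} {p : MvPolynomial (CVar m) R} (hp : WB n p) (μ : CVar m →₀ ℕ)
    (h : n < wt cw μ) : ∀ ν ∈ p.support, (cord m).toSyn ν < (cord m).toSyn μ := by
  intro ν hν
  apply wlex_lt_of_wt_lt
  exact lt_of_le_of_lt (hp ν hν) h

end WB

/-- tactic proving weight bounds of explicit polynomials -/
macro "wb_tac" : tactic =>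
  `(tactic| (repeat' (with_reducible first
      | exact WB.X _ | exact WB.C _ | exact WB.zero
      | apply WB.add | apply WB.sub | apply WB.neg | apply WB.mul | apply WB.pow)))

end Groth.Agent.Lib.Helper31.Cv
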