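import Mathlib

/-!
# S-pair identities for the curve algebra, as abstract ring identities (helper31; generated)
-/

set_option autoImplicit false
set_option linter.unusedVariables false

namespace Groth.Agent.Lib.Helper31.Cv

theorem c1 {P : Type*} [CommRing P] (x2 x3 y1 y2 a c cb d c1 cb1 c2 cb2 c12 c21 : P)
    (hL12 : c12 + c21 - (a + c1 + cb1 + c2 + cb2) = 0)
    (hQ12 : c21 * c2 + c12 * c1 - c1 * c2 - c = 0)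
    (hB12 : c21 * cb1 + c12 * cb2 - cb1 * cb2 - cb = 0)
    :
    y2 * (x2 * y1 - (x2 * x3 + c1 * y1 + cb1 * x2 - c)) - y1 * (x2 * y2 - (x2 * x3 + c2 * y2 + cb2 * x2 - c)) =
      (cb2 + x3) * (x2 * y1 - (x2 * x3 + c1 * y1 + cb1 * x2 - c))
      + (c1) * (x3 * y1 - (x2 * x3 + (a + c1 + cb1) * (y1 - cb1) + cb - c))
      + (-cb1 - x3) * (x2 * y2 - (x2 * x3 + c2 * y2 + cb2 * x2 - c))
      + (-c2) * (x3 * y2 - (x2 * x3 + (a + c2 + cb2) * (y2 - cb2) + cb - c))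
      + (-c1 + c2) * (y1 * y2 - (x2 * x3 + c12 * y2 + c21 * y1 - c)) := by
  linear_combination (-c1 * c12 + c1 * c2 + c1 * cb1 - c1 * y1 - c2 * c21 - c2 * cb2 + c2 * y2 + c) * hL12 + (-a - c1 + c12 - c2 + c21 - 2 * cb1 + y1 - y2) * hQ12 + (-c1 + c2) * hB12

theorem c2 {P : Type*} [CommRing P] (x2 x3 y1 a c cb d c1 cb1 : P)
    (hD1 : c1 * cb1 * (a + c1 + cb1) - (a + c1 + cb1) * c - c1 * cb + c1 * c - d = 0)
    :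
    x3 * (x2 * y1 - (x2 * x3 + c1 * y1 + cb1 * x2 - c)) - x2 * (x3 * y1 - (x2 * x3 + (a + c1 + cb1) * (y1 - cb1) + cb - c)) =
      (a + c1 + cb1) * (x2 * y1 - (x2 * x3 + c1 * y1 + cb1 * x2 - c))
      + (-c1) * (x3 * y1 - (x2 * x3 + (a + c1 + cb1) * (y1 - cb1) + cb - c))
      + (-1) * (x2 * x3 ^ 2 - (x2 ^ 2 * x3 + a * x2 * x3 + (cb - c) * x2 + c * x3 + d)) := by
  linear_combination (1) * hD1

theorem c3 {P : Type*} [CommRing P] (x2 x3 y1 y2 a c cb d c1 cb1 c2 cb2 c12 c21 : P)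
    (hL12 : c12 + c21 - (a + c1 + cb1 + c2 + cb2) = 0)
    (hQ12 : c21 * c2 + c12 * c1 - c1 * c2 - c = 0)
    (hB12 : c21 * cb1 + c12 * cb2 - cb1 * cb2 - cb = 0)
    (hD1 : c1 * cb1 * (a + c1 + cb1) - (a + c1 + cb1) * c - c1 * cb + c1 * c - d = 0)
    :
    y2 * (x2 * y1 - (x2 * x3 + c1 * y1 + cb1 * x2 - c)) - x2 * (y1 * y2 - (x2 * x3 + c12 * y2 + c21 * y1 - c)) =
      (c21) * (x2 * y1 - (x2 * x3 + c1 * y1 + cb1 * x2 - c))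
      + (c12 - cb1 - x3) * (x2 * y2 - (x2 * x3 + c2 * y2 + cb2 * x2 - c))
      + (-c2) * (x3 * y2 - (x2 * x3 + (a + c2 + cb2) * (y2 - cb2) + cb - c))
      + (-c1) * (y1 * y2 - (x2 * x3 + c12 * y2 + c21 * y1 - c))
      + (-1) * (x2 * x3 ^ 2 - (x2 ^ 2 * x3 + a * x2 * x3 + (cb - c) * x2 + c * x3 + d)) := by
  linear_combination (-c1 * c12 + c1 * c2 + c1 * cb1 - c2 * c21 - c2 * cb2 + c2 * y2 + x2 * x3) * hL12 + (-a - c1 + c12 - c2 + c21 - 2 * cb1 - y2) * hQ12 + (-c1 + c2 + x2) * hB12 + (1) * hD1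

theorem c4 {P : Type*} [CommRing P] (x2 x3 y1 y2 a c cb d c1 cb1 c2 cb2 c12 c21 : P)
    (hL12 : c12 + c21 - (a + c1 + cb1 + c2 + cb2) = 0)
    (hQ12 : c21 * c2 + c12 * c1 - c1 * c2 - c = 0)
    (hB12 : c21 * cb1 + c12 * cb2 - cb1 * cb2 - cb = 0)
    :
    y2 * (x3 * y1 - (x2 * x3 + (a + c1 + cb1) * (y1 - cb1) + cb - c)) - y1 * (x3 * y2 - (x2 * x3 + (a + c2 + cb2) * (y2 - cb2) + cb - c)) =
      (x3) * (x2 * y1 - (x2 * x3 + c1 * y1 + cb1 * x2 - c))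
      + (c1) * (x3 * y1 - (x2 * x3 + (a + c1 + cb1) * (y1 - cb1) + cb - c))
      + (-x3) * (x2 * y2 - (x2 * x3 + c2 * y2 + cb2 * x2 - c))
      + (-c2) * (x3 * y2 - (x2 * x3 + (a + c2 + cb2) * (y2 - cb2) + cb - c))
      + (-c1 + c2 - cb1 + cb2) * (y1 * y2 - (x2 * x3 + c12 * y2 + c21 * y1 - c)) := by
  linear_combination (-c1 * c12 + c1 * c2 + c1 * cb1 - c1 * y1 - c2 * c21 - c2 * cb2 + c2 * y2 - cb1 * y2 + cb2 * y1 + c) * hL12 + (-a - c1 + c12 - c2 + c21 - 2 * cb1 + y1 - y2) * hQ12 + (-c1 + c2 - y1 + y2) * hB12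

theorem c5 {P : Type*} [CommRing P] (x2 x3 y1 y2 a c cb d c1 cb1 c2 cb2 c12 c21 : P)
    (hL12 : c12 + c21 - (a + c1 + cb1 + c2 + cb2) = 0)
    (hQ12 : c21 * c2 + c12 * c1 - c1 * c2 - c = 0)
    (hB12 : c21 * cb1 + c12 * cb2 - cb1 * cb2 - cb = 0)
    :
    y2 * (x3 * y1 - (x2 * x3 + (a + c1 + cb1) * (y1 - cb1) + cb - c)) - x3 * (y1 * y2 - (x2 * x3 + c12 * y2 + c21 * y1 - c)) =
      (c21) * (x3 * y1 - (x2 * x3 + (a + c1 + cb1) * (y1 - cb1) + cb - c))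
      + (-x3) * (x2 * y2 - (x2 * x3 + c2 * y2 + cb2 * x2 - c))
      + (c12 - c2) * (x3 * y2 - (x2 * x3 + (a + c2 + cb2) * (y2 - cb2) + cb - c))
      + (-a - c1 - cb1) * (y1 * y2 - (x2 * x3 + c12 * y2 + c21 * y1 - c)) := by
  linear_combination (-c1 * c12 + c1 * c2 + c12 * cb2 - c2 * c21 - c2 * cb2 + c2 * y2 + c21 * cb1 - cb1 * y2 + x2 * x3) * hL12 + (-a - c1 + c12 - c2 + c21 - cb1 - y2) * hQ12 + (-c12 + c2 - c21 + y2) * hB12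

theorem c6 {P : Type*} [CommRing P] (x2 x3 y1 y2 y3 a c cb d c1 cb1 c2 cb2 c3 cb3 c12 c13 c21 c23 c31 c32 : P)
    (hL12 : c12 + c21 - (a + c1 + cb1 + c2 + cb2) = 0)
    (hQ12 : c21 * c2 + c12 * c1 - c1 * c2 - c = 0)
    (hB12 : c21 * cb1 + c12 * cb2 - cb1 * cb2 - cb = 0)
    (hL13 : c13 + c31 - (a + c1 + cb1 + c3 + cb3) = 0)
    (hQ13 : c31 * c3 + c13 * c1 - c1 * c3 - c = 0)
    (hB13 : c31 * cb1 + c13 * cb3 - cb1 * cb3 - cb = 0)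
    (hL23 : c23 + c32 - (a + c2 + cb2 + c3 + cb3) = 0)
    (hT123 : c12 * c23 + c21 * c13 - c13 * c23 + (a + c3 + cb3) * c3 - c = 0)
    :
    y3 * (y1 * y2 - (x2 * x3 + c12 * y2 + c21 * y1 - c)) - y2 * (y1 * y3 - (x2 * x3 + c13 * y3 + c31 * y1 - c)) =
      (x3) * (x2 * y2 - (x2 * x3 + c2 * y2 + cb2 * x2 - c))
      + (c2) * (x3 * y2 - (x2 * x3 + (a + c2 + cb2) * (y2 - cb2) + cb - c))
      + (-x3) * (x2 * y3 - (x2 * x3 + c3 * y3 + cb3 * x2 - c))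
      + (-c3) * (x3 * y3 - (x2 * x3 + (a + c3 + cb3) * (y3 - cb3) + cb - c))
      + (c31) * (y1 * y2 - (x2 * x3 + c12 * y2 + c21 * y1 - c))
      + (-c21) * (y1 * y3 - (x2 * x3 + c13 * y3 + c31 * y1 - c))
      + (-c12 + c13) * (y2 * y3 - (x2 * x3 + c23 * y3 + c32 * y2 - c)) := by
  linear_combination (c1 * c12 - c1 * c2 - c1 * cb1 - c13 * y2 + c2 * c21 + c2 * cb2 - c2 * y2 + cb1 * y2 - x2 * x3) * hL12 + (a + c1 - c12 + c2 - c21 + 2 * cb1 + y2) * hQ12 + (c1 - c2 - y2) * hB12 + (-c1 * c13 + c1 * c3 + c1 * cb1 + c12 * y2 - c3 * c31 - c3 * cb3 + c3 * y2 - cb1 * y2 + x2 * x3) * hL13 + (-a - c1 + c13 - c3 + c31 - 2 * cb1 - y2) * hQ13 + (-c1 + c3 + y2) * hB13 + (-c12 * y2 + c13 * y2) * hL23 + (y2 - y3) * hT123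

theorem c7 {P : Type*} [CommRing P] (x2 x3 y1 a c cb d c1 cb1 : P)
    (hD1 : c1 * cb1 * (a + c1 + cb1) - (a + c1 + cb1) * c - c1 * cb + c1 * c - d = 0)
    :
    y1 * (x2 * x3 ^ 2 - (x2 ^ 2 * x3 + a * x2 * x3 + (cb - c) * x2 + c * x3 + d)) - x3 ^ 2 * (x2 * y1 - (x2 * x3 + c1 * y1 + cb1 * x2 - c)) =
      (-a * x3 - c1 * x3 - x2 * x3 + c - cb) * (x2 * y1 - (x2 * x3 + c1 * y1 + cb1 * x2 - c))
      + (c1 * cb1 + c1 * x3 - c) * (x3 * y1 - (x2 * x3 + (a + c1 + cb1) * (y1 - cb1) + cb - c))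
      + (cb1 + x3) * (x2 * x3 ^ 2 - (x2 ^ 2 * x3 + a * x2 * x3 + (cb - c) * x2 + c * x3 + d)) := by
  linear_combination (-cb1 - x3 + y1) * hD1

theorem c8 {P : Type*} [CommRing P] (x2 x3 y1 a c cb d c1 cb1 : P)
    (hD1 : c1 * cb1 * (a + c1 + cb1) - (a + c1 + cb1) * c - c1 * cb + c1 * c - d = 0)
    :
    y1 * (x2 * x3 ^ 2 - (x2 ^ 2 * x3 + a * x2 * x3 + (cb - c) * x2 + c * x3 + d)) - (x2 * x3) * (x3 * y1 - (x2 * x3 + (a + c1 + cb1) * (y1 - cb1) + cb - c)) =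
      (cb1 * x3 - x2 * x3 + c - cb) * (x2 * y1 - (x2 * x3 + c1 * y1 + cb1 * x2 - c))
      + (c1 * cb1 - c) * (x3 * y1 - (x2 * x3 + (a + c1 + cb1) * (y1 - cb1) + cb - c))
      + (cb1) * (x2 * x3 ^ 2 - (x2 ^ 2 * x3 + a * x2 * x3 + (cb - c) * x2 + c * x3 + d)) := by
  linear_combination (-cb1 + y1) * hD1

theorem c9 {P : Type*} [CommRing P] (a c cb c1 cb1 c2 cb2 c12 c21 : P)
    (hL12 : c12 + c21 - (a + c1 + cb1 + c2 + cb2) = 0)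
    (hQ12 : c21 * c2 + c12 * c1 - c1 * c2 - c = 0)
    (hB12 : c21 * cb1 + c12 * cb2 - cb1 * cb2 - cb = 0)
    :
    c1 * cb1 * (a + c1 + cb1) - (a + c1 + cb1) * c - c1 * cb + c1 * c =
      c2 * cb2 * (a + c2 + cb2) - (a + c2 + cb2) * c - c2 * cb + c2 * c := by
  linear_combination (c1 * c12 - c1 * c2 - c1 * cb1 + c2 * c21 + c2 * cb2 - c) * hL12 + (a + c1 - c12 + c2 - c21 + 2 * cb1) * hQ12 + (c1 - c2) * hB12

theorem e3 {P : Type*} [CommRing P] (x2 x3 y1 y2 a c cb c1 cb1 c2 cb2 c12 c21 : P)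
    (hG2_1 : x2 * y1 - (x2 * x3 + c1 * y1 + cb1 * x2 - c) = 0)
    (hG3_1 : x3 * y1 - (x2 * x3 + (a + c1 + cb1) * (y1 - cb1) + cb - c) = 0)
    (hG2_2 : x2 * y2 - (x2 * x3 + c2 * y2 + cb2 * x2 - c) = 0)
    (hG3_2 : x3 * y2 - (x2 * x3 + (a + c2 + cb2) * (y2 - cb2) + cb - c) = 0)
    (hGP_12 : y1 * y2 - (x2 * x3 + c12 * y2 + c21 * y1 - c) = 0)
    :
    (-a - c1 + c12 - c2 + c21 - cb1 - cb2) * (x2 * x3)
      + (c12 * cb2 + c21 * cb1 - cb1 * cb2 - cb) * (x2)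
      + (-a * c2 - c1 * c12 + c12 * c2 - c2 * cb1 - c2 * cb2 - c2 ^ 2 + c) * (y2)
      + (-a * c1 * cb1 + a * c2 * cb2 - c1 * cb1 ^ 2 - c1 ^ 2 * cb1 + c2 * cb2 ^ 2 + c2 ^ 2 * cb2 + a * c + c * c1 - c * c12 + c * c2 - c * c21 + 2 * c * cb1 + c1 * cb - c2 * cb) = 0 := by
  linear_combination (y2) * hG2_1 - (x2) * hGP_12 - (-a - c1 + c21 - cb1 + x3) * hG2_1 - (c12 - cb1 - x3) * hG2_2 - (-c2) * hG3_2 - (-c1) * hGP_12 - (c1 - x2) * hG3_1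

theorem e6 {P : Type*} [CommRing P] (x2 x3 y1 y2 y3 a c cb c1 cb1 c2 cb2 c3 cb3 c12 c13 c21 c23 c31 c32 : P)
    (hG2_2 : x2 * y2 - (x2 * x3 + c2 * y2 + cb2 * x2 - c) = 0)
    (hG3_2 : x3 * y2 - (x2 * x3 + (a + c2 + cb2) * (y2 - cb2) + cb - c) = 0)
    (hG2_3 : x2 * y3 - (x2 * x3 + c3 * y3 + cb3 * x2 - c) = 0)
    (hG3_3 : x3 * y3 - (x2 * x3 + (a + c3 + cb3) * (y3 - cb3) + cb - c) = 0)
    (hGP_12 : y1 * y2 - (x2 * x3 + c12 * y2 + c21 * y1 - c) = 0)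
    (hGP_13 : y1 * y3 - (x2 * x3 + c13 * y3 + c31 * y1 - c) = 0)
    (hGP_23 : y2 * y3 - (x2 * x3 + c23 * y3 + c32 * y2 - c) = 0)
    :
    (-c12 + c13 + c2 - c21 - c3 + c31 + cb2 - cb3) * (x2 * x3)
      + (a * c2 + c12 * c31 - c12 * c32 + c13 * c32 + c2 * cb2 + c2 ^ 2 - c) * (y2)
      + (-a * c3 - c12 * c23 - c13 * c21 + c13 * c23 - c3 * cb3 - c3 ^ 2 + c) * (y3)
      + (-a * c2 * cb2 + a * c3 * cb3 - c2 * cb2 ^ 2 - c2 ^ 2 * cb2 + c3 * cb3 ^ 2 + c3 ^ 2 * cb3 + c * c12 - c * c13 - c * c2 + c * c21 + c * c3 - c * c31 + c2 * cb - c3 * cb) = 0 := by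
  linear_combination (y3) * hGP_12 - (y2) * hGP_13 - (x3) * hG2_2 - (c2) * hG3_2 - (-x3) * hG2_3 - (-c3) * hG3_3 - (c31) * hGP_12 - (-c21) * hGP_13 - (-c12 + c13) * hGP_23

end Groth.Agent.Lib.Helper31.Cv
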