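import Mathlib
import Groth.Prelude.Def_W4c5m1nsnscurvesC
import Groth.Agent.Lib.Helper31.Cv3
import Groth.Agent.Lib.Helper31.Cv4

/-!
# The Gröbner family of the curve algebra (helper31): the family and its leading data
-/

set_option autoImplicit false
set_option linter.unusedSectionVars false

open W4c5m1nsnscurves MvPolynomial Groth.Agent.Lib.Helper91.Groebner

namespace Groth.Agent.Lib.Helper31.Cv

variable {R : Type*} [CommRing R] {m : ℕ}

/-- index type of the Gröbner family -/
inductive Idx (m : ℕ) : Type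
  | two (i : Fin m) : Idx m
  | three (i : Fin m) : Idx m
  | pair (q : DPair m) : Idx m
  | cubic : Idx m
  deriving DecidableEq, Fintype

section Defs

variable (v : UGen m → R) (d : R)

/-- the constant term of the cubic attached to the index `i` -/
def dd (i : Fin m) : R :=
  v (.ci i) * v (.cbi i) * (v .a + v (.ci i) + v (.cbi i)) - (v .a + v (.ci i) + v (.cbi i)) * v .c
    - v (.ci i) * v .cb + v (.ci i) * v .c

/-- `x₂ xᵢ - …` -/
noncomputable def G2 (i : Fin m) : MvPolynomial (CVar m) R :=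
  X .x2 * X (.xi i) -
    (X .x2 * X .x3 + C (v (.ci i)) * X (.xi i) + C (v (.cbi i)) * X .x2 - C (v .c))

/-- `x₃ xᵢ - …` -/
noncomputable def G3 (i : Fin m) : MvPolynomial (CVar m) R :=
  X .x3 * X (.xi i) -
    (X .x2 * X .x3 + (C (v .a) + C (v (.ci i)) + C (v (.cbi i))) * (X (.xi i) - C (v (.cbi i))) +
      C (v .cb) - C (v .c))

/-- `xᵢ xⱼ - …` -/
noncomputable def GP (q : DPair m) : MvPolynomial (CVar m) R :=
  X (.xi q.1.1) * X (.xi q.1.2) -
    (X .x2 * X .x3 + C (v (.cij q.1.1 q.1.2 q.2)) * X (.xi q.1.2) +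
      C (v (.cij q.1.2 q.1.1 (Ne.symm q.2))) * X (.xi q.1.1) - C (v .c))

/-- the cubic `x₂ x₃² - …` -/
noncomputable def GC : MvPolynomial (CVar m) R :=
  X .x2 * X .x3 ^ 2 -
    (X .x2 ^ 2 * X .x3 + C (v .a) * X .x2 * X .x3 + (C (v .cb) - C (v .c)) * X .x2 +
      C (v .c) * X .x3 + C d)

/-- the family -/
noncomputable def GG : Idx m → MvPolynomial (CVar m) R
  | .two i => G2 v i
  | .three i => G3 v i
  | .pair q => GP v q
  | .cubic => GC v d

/-- leading exponents -/
noncomputable def mu : Idx m → (CVar m →₀ ℕ)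
  | .two i => Finsupp.single .x2 1 + Finsupp.single (.xi i) 1
  | .three i => Finsupp.single .x3 1 + Finsupp.single (.xi i) 1
  | .pair q => Finsupp.single (.xi q.1.1) 1 + Finsupp.single (.xi q.1.2) 1
  | .cubic => Finsupp.single .x2 1 + Finsupp.single .x3 2

/-- lower terms -/
noncomputable def rr : Idx m → MvPolynomial (CVar m) R
  | .two i => - (X .x2 * X .x3 + C (v (.ci i)) * X (.xi i) + C (v (.cbi i)) * X .x2 - C (v .c))
  | .three i => - (X .x2 * X .x3 +
      (C (v .a) + C (v (.ci i)) + C (v (.cbi i))) * (X (.xi i) - C (v (.cbi i))) +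
      C (v .cb) - C (v .c))
  | .pair q => - (X .x2 * X .x3 + C (v (.cij q.1.1 q.1.2 q.2)) * X (.xi q.1.2) +
      C (v (.cij q.1.2 q.1.1 (Ne.symm q.2))) * X (.xi q.1.1) - C (v .c))
  | .cubic => - (X .x2 ^ 2 * X .x3 + C (v .a) * X .x2 * X .x3 + (C (v .cb) - C (v .c)) * X .x2 +
      C (v .c) * X .x3 + C d)

theorem mono_two (a b : CVar m) :
    monomial (Finsupp.single a 1 + Finsupp.single b 1) (1 : R) = X a * X b := by
  rw [X, X, monomial_mul, one_mul]

theorem mono_one (a : CVar m) : monomial (Finsupp.single a 1) (1 : R) = X a := rfl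

theorem mono_cubic :
    monomial (Finsupp.single (CVar.x2 : CVar m) 1 + Finsupp.single .x3 2) (1 : R)
      = X .x2 * X .x3 ^ 2 := by
  rw [X_pow_eq_monomial, X, monomial_mul, one_mul]

theorem hGG (k : Idx m) : GG v d k = monomial (mu k) 1 + rr v d k := by
  cases k with
  | two i => simp only [GG, mu, rr, mono_two, G2]; ring
  | three i => simp only [GG, mu, rr, mono_two, G3]; ring
  | pair q => simp only [GG, mu, rr, mono_two, GP]; ring
  | cubic => simp only [GG, mu, rr, mono_cubic, GC]; ring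

theorem hrr (k : Idx m) : ∀ ν ∈ (rr v d k).support, (cord m).toSyn ν < (cord m).toSyn (mu k) := by
  cases k with
  | two i =>
    have h : ∃ n, WB n (rr v d (.two i)) ∧ n = 3 := ⟨_, by simp only [rr]; wb_tac, by simp [cw]⟩
    obtain ⟨n, h1, rfl⟩ := h
    exact h1.lt _ (by simp [mu, cw])
  | three i =>
    have h : ∃ n, WB n (rr v d (.three i)) ∧ n = 3 := ⟨_, by simp only [rr]; wb_tac, by simp [cw]⟩
    obtain ⟨n, h1, rfl⟩ := h
    exact h1.lt _ (by simp [mu, cw])
  | pair q =>
    have h : ∃ n, WB n (rr v d (.pair q)) ∧ n = 3 := ⟨_, by simp only [rr]; wb_tac, by simp [cw]⟩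
    obtain ⟨n, h1, rfl⟩ := h
    exact h1.lt _ (by simp [mu, cw])
  | cubic =>
    have h : ∃ n, WB n (rr v d (.cubic : Idx m)) ∧ n = 4 :=
      ⟨_, by simp only [rr]; wb_tac, by simp [cw]⟩
    obtain ⟨n, h1, rfl⟩ := h
    exact h1.lt _ (by simp [mu, cw])

end Defs

end Groth.Agent.Lib.Helper31.Cv
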