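import Mathlib
import Groth.Agent.Lib.Helper31.Cv5

set_option autoImplicit false
set_option linter.unusedSectionVars false

open W4c5m1nsnscurves MvPolynomial Groth.Agent.Lib.Helper91.Groebner

namespace Groth.Agent.Lib.Helper31.Cv

variable {R : Type*} [CommRing R] {m : ℕ}

theorem sbdd_of {p : MvPolynomial (CVar m) R} {μ δ : CVar m →₀ ℕ}
    (h : ∃ n, WB n p ∧ n + wt cw μ < wt cw δ) : SBdd (cord m) ((cord m).toSyn δ) μ p := by
  obtain ⟨n, h1, h2⟩ := h
  exact h1.sbdd μ δ h2

section Rel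

variable (v : UGen m → R) (hU : ∀ p ∈ URel R m, MvPolynomial.eval v p = 0)
include hU

theorem UL (i j : Fin m) (h : i ≠ j) :
    v (.cij i j h) + v (.cij j i h.symm) -
      (v .a + v (.ci i) + v (.cbi i) + v (.ci j) + v (.cbi j)) = 0 := by
  have := hU _ (Or.inl (Or.inl (Or.inl ⟨⟨(i, j), h⟩, rfl⟩)))
  simpa using this

theorem UQ (i j : Fin m) (h : i ≠ j) :
    v (.cij j i h.symm) * v (.ci j) + v (.cij i j h) * v (.ci i) - v (.ci i) * v (.ci j) - v .c = 0 := by
  have := hU _ (Or.inl (Or.inl (Or.inr ⟨⟨(i, j), h⟩, rfl⟩)))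
  simpa using this

theorem UB (i j : Fin m) (h : i ≠ j) :
    v (.cij j i h.symm) * v (.cbi i) + v (.cij i j h) * v (.cbi j) - v (.cbi i) * v (.cbi j) - v .cb = 0 := by
  have := hU _ (Or.inl (Or.inr ⟨⟨(i, j), h⟩, rfl⟩))
  simpa using this

theorem UT (i j k : Fin m) (hij : i ≠ j) (hjk : j ≠ k) (hik : i ≠ k) :
    v (.cij i j hij) * v (.cij j k hjk) + v (.cij j i hij.symm) * v (.cij i k hik) -
      v (.cij i k hik) * v (.cij j k hjk) + (v .a + v (.ci k) + v (.cbi k)) * v (.ci k) - v .c = 0 := by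
  have := hU _ (Or.inr ⟨⟨(i, j, k), hij, hjk, hik⟩, rfl⟩)
  simpa using this

end Rel

section Cert

variable (v : UGen m → R) (d : R) (hU : ∀ p ∈ URel R m, MvPolynomial.eval v p = 0)
  (hd : ∀ i, dd v i - d = 0)

/-- tactic for the lcm condition -/
macro "lcm_tac" : tactic =>
  `(tactic| (intro δ hi hj s; have h1 := hi s; have h2 := hj s;
             cases s <;> simp [mu, Finsupp.single_apply] at h1 h2 ⊢ <;>
             (try split_ifs at h1 h2 ⊢) <;> (try simp_all) <;> (try omega)))

include hU in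
theorem pc_two_two (i j : Fin m) (h : i ≠ j) :
    PC (cord m) (GG v d) mu (.two i) (.two j) := by
  have hL := congrArg (C : R →+* MvPolynomial (CVar m) R) (UL v hU i j h)
  have hQ := congrArg (C : R →+* MvPolynomial (CVar m) R) (UQ v hU i j h)
  have hB := congrArg (C : R →+* MvPolynomial (CVar m) R) (UB v hU i j h)
  simp only [map_add, map_sub, map_mul, map_zero] at hL hQ hB
  refine PC.of_list (cord m) (GG v d) mu _ _ (Finsupp.single (.xi j) 1) (Finsupp.single (.xi i) 1)
    [(.two i, C (v (.cbi j)) + X .x3), (.three i, C (v (.ci i))),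
     (.two j, - C (v (.cbi i)) - X .x3), (.three j, - C (v (.ci j))),
     (.pair ⟨(i, j), h⟩, - C (v (.ci i)) + C (v (.ci j)))] ?_ ?_ ?_ ?_
  · simp only [mu]; abel
  · lcm_tac
  · simp only [List.map_cons, List.map_nil, List.sum_cons, List.sum_nil, GG, mono_one, G2, G3, GP]
    linear_combination c1 (X .x2) (X .x3) (X (.xi i)) (X (.xi j)) (C (v .a)) (C (v .c)) (C (v .cb))
      (C d) (C (v (.ci i))) (C (v (.cbi i))) (C (v (.ci j))) (C (v (.cbi j)))
      (C (v (.cij i j h))) (C (v (.cij j i h.symm))) hL hQ hB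
  · intro p hp
    simp only [List.mem_cons, List.not_mem_nil, or_false] at hp
    rcases hp with rfl | rfl | rfl | rfl | rfl
    all_goals exact sbdd_of ⟨_, by wb_tac, by simp [mu, cw]⟩

theorem mono_sq (a : CVar m) : monomial (Finsupp.single a 2) (1 : R) = X a ^ 2 := by
  rw [X_pow_eq_monomial]

theorem hdC (i : Fin m) (hd : ∀ i, dd v i - d = 0) :
    C (v (.ci i)) * C (v (.cbi i)) * (C (v .a) + C (v (.ci i)) + C (v (.cbi i))) -
      (C (v .a) + C (v (.ci i)) + C (v (.cbi i))) * C (v .c) - C (v (.ci i)) * C (v .cb) +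
      C (v (.ci i)) * C (v .c) - C d = (0 : MvPolynomial (CVar m) R) := by
  have := congrArg (C : R →+* MvPolynomial (CVar m) R) (hd i)
  simpa only [dd, map_add, map_sub, map_mul, map_zero] using this

include hd in
theorem pc_two_three (i : Fin m) :
    PC (cord m) (GG v d) mu (.two i) (.three i) := by
  have hD := hdC v d i hd
  refine PC.of_list (cord m) (GG v d) mu _ _ (Finsupp.single .x3 1) (Finsupp.single .x2 1)
    [(.two i, C (v .a) + C (v (.ci i)) + C (v (.cbi i))), (.three i, - C (v (.ci i))),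
     (.cubic, -1)] ?_ ?_ ?_ ?_
  · simp only [mu]; abel
  · lcm_tac
  · simp only [List.map_cons, List.map_nil, List.sum_cons, List.sum_nil, GG, mono_one, G2, G3, GC]
    linear_combination c2 (X .x2) (X .x3) (X (.xi i)) (C (v .a)) (C (v .c)) (C (v .cb))
      (C d) (C (v (.ci i))) (C (v (.cbi i))) hD
  · intro p hp
    simp only [List.mem_cons, List.not_mem_nil, or_false] at hp
    rcases hp with rfl | rfl | rfl
    · exact sbdd_of ⟨_, by wb_tac, by simp [mu, cw]⟩
    · exact sbdd_of ⟨_, by wb_tac, by simp [mu, cw]⟩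
    · exact sbdd_of ⟨0, by simpa using (WB.C (m := m) (-1 : R)), by simp [mu, cw]⟩

include hU hd in
theorem pc_two_pair (i j : Fin m) (h : i ≠ j) :
    PC (cord m) (GG v d) mu (.two i) (.pair ⟨(i, j), h⟩) := by
  have hL := congrArg (C : R →+* MvPolynomial (CVar m) R) (UL v hU i j h)
  have hQ := congrArg (C : R →+* MvPolynomial (CVar m) R) (UQ v hU i j h)
  have hB := congrArg (C : R →+* MvPolynomial (CVar m) R) (UB v hU i j h)
  simp only [map_add, map_sub, map_mul, map_zero] at hL hQ hB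
  have hD := hdC v d i hd
  refine PC.of_list (cord m) (GG v d) mu _ _ (Finsupp.single (.xi j) 1) (Finsupp.single .x2 1)
    [(.two i, C (v (.cij j i h.symm))),
     (.two j, C (v (.cij i j h)) - C (v (.cbi i)) - X .x3), (.three j, - C (v (.ci j))),
     (.pair ⟨(i, j), h⟩, - C (v (.ci i))), (.cubic, -1)] ?_ ?_ ?_ ?_
  · simp only [mu]; abel
  · lcm_tac
  · simp only [List.map_cons, List.map_nil, List.sum_cons, List.sum_nil, GG, mono_one, G2, G3, GP,
      GC]
    linear_combination c3 (X .x2) (X .x3) (X (.xi i)) (X (.xi j)) (C (v .a)) (C (v .c)) (C (v .cb))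
      (C d) (C (v (.ci i))) (C (v (.cbi i))) (C (v (.ci j))) (C (v (.cbi j)))
      (C (v (.cij i j h))) (C (v (.cij j i h.symm))) hL hQ hB hD
  · intro p hp
    simp only [List.mem_cons, List.not_mem_nil, or_false] at hp
    rcases hp with rfl | rfl | rfl | rfl | rfl
    · exact sbdd_of ⟨_, by wb_tac, by simp [mu, cw]⟩
    · exact sbdd_of ⟨_, by wb_tac, by simp [mu, cw]⟩
    · exact sbdd_of ⟨_, by wb_tac, by simp [mu, cw]⟩
    · exact sbdd_of ⟨_, by wb_tac, by simp [mu, cw]⟩
    · exact sbdd_of ⟨0, by simpa using (WB.C (m := m) (-1 : R)), by simp [mu, cw]⟩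

include hU in
theorem pc_three_three (i j : Fin m) (h : i ≠ j) :
    PC (cord m) (GG v d) mu (.three i) (.three j) := by
  have hL := congrArg (C : R →+* MvPolynomial (CVar m) R) (UL v hU i j h)
  have hQ := congrArg (C : R →+* MvPolynomial (CVar m) R) (UQ v hU i j h)
  have hB := congrArg (C : R →+* MvPolynomial (CVar m) R) (UB v hU i j h)
  simp only [map_add, map_sub, map_mul, map_zero] at hL hQ hB
  refine PC.of_list (cord m) (GG v d) mu _ _ (Finsupp.single (.xi j) 1) (Finsupp.single (.xi i) 1)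
    [(.two i, X .x3), (.three i, C (v (.ci i))),
     (.two j, - X .x3), (.three j, - C (v (.ci j))),
     (.pair ⟨(i, j), h⟩, - C (v (.ci i)) + C (v (.ci j)) - C (v (.cbi i)) + C (v (.cbi j)))]
    ?_ ?_ ?_ ?_
  · simp only [mu]; abel
  · lcm_tac
  · simp only [List.map_cons, List.map_nil, List.sum_cons, List.sum_nil, GG, mono_one, G2, G3, GP]
    linear_combination c4 (X .x2) (X .x3) (X (.xi i)) (X (.xi j)) (C (v .a)) (C (v .c)) (C (v .cb))
      (C d) (C (v (.ci i))) (C (v (.cbi i))) (C (v (.ci j))) (C (v (.cbi j)))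
      (C (v (.cij i j h))) (C (v (.cij j i h.symm))) hL hQ hB
  · intro p hp
    simp only [List.mem_cons, List.not_mem_nil, or_false] at hp
    rcases hp with rfl | rfl | rfl | rfl | rfl
    all_goals exact sbdd_of ⟨_, by wb_tac, by simp [mu, cw]⟩

include hU in
theorem pc_three_pair (i j : Fin m) (h : i ≠ j) :
    PC (cord m) (GG v d) mu (.three i) (.pair ⟨(i, j), h⟩) := by
  have hL := congrArg (C : R →+* MvPolynomial (CVar m) R) (UL v hU i j h)
  have hQ := congrArg (C : R →+* MvPolynomial (CVar m) R) (UQ v hU i j h)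
  have hB := congrArg (C : R →+* MvPolynomial (CVar m) R) (UB v hU i j h)
  simp only [map_add, map_sub, map_mul, map_zero] at hL hQ hB
  refine PC.of_list (cord m) (GG v d) mu _ _ (Finsupp.single (.xi j) 1) (Finsupp.single .x3 1)
    [(.three i, C (v (.cij j i h.symm))), (.two j, - X .x3),
     (.three j, C (v (.cij i j h)) - C (v (.ci j))),
     (.pair ⟨(i, j), h⟩, - C (v .a) - C (v (.ci i)) - C (v (.cbi i)))] ?_ ?_ ?_ ?_
  · simp only [mu]; abel
  · lcm_tac
  · simp only [List.map_cons, List.map_nil, List.sum_cons, List.sum_nil, GG, mono_one, G2, G3, GP]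
    linear_combination c5 (X .x2) (X .x3) (X (.xi i)) (X (.xi j)) (C (v .a)) (C (v .c)) (C (v .cb))
      (C d) (C (v (.ci i))) (C (v (.cbi i))) (C (v (.ci j))) (C (v (.cbi j)))
      (C (v (.cij i j h))) (C (v (.cij j i h.symm))) hL hQ hB
  · intro p hp
    simp only [List.mem_cons, List.not_mem_nil, or_false] at hp
    rcases hp with rfl | rfl | rfl | rfl
    all_goals exact sbdd_of ⟨_, by wb_tac, by simp [mu, cw]⟩

include hU in
theorem pc_pair_pair (i j k : Fin m) (hij : i ≠ j) (hik : i ≠ k) (hjk : j ≠ k) :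
    PC (cord m) (GG v d) mu (.pair ⟨(i, j), hij⟩) (.pair ⟨(i, k), hik⟩) := by
  have hL12 := congrArg (C : R →+* MvPolynomial (CVar m) R) (UL v hU i j hij)
  have hQ12 := congrArg (C : R →+* MvPolynomial (CVar m) R) (UQ v hU i j hij)
  have hB12 := congrArg (C : R →+* MvPolynomial (CVar m) R) (UB v hU i j hij)
  have hL13 := congrArg (C : R →+* MvPolynomial (CVar m) R) (UL v hU i k hik)
  have hQ13 := congrArg (C : R →+* MvPolynomial (CVar m) R) (UQ v hU i k hik)
  have hB13 := congrArg (C : R →+* MvPolynomial (CVar m) R) (UB v hU i k hik)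
  have hL23 := congrArg (C : R →+* MvPolynomial (CVar m) R) (UL v hU j k hjk)
  have hT := congrArg (C : R →+* MvPolynomial (CVar m) R) (UT v hU i j k hij hjk hik)
  simp only [map_add, map_sub, map_mul, map_zero] at hL12 hQ12 hB12 hL13 hQ13 hB13 hL23 hT
  refine PC.of_list (cord m) (GG v d) mu _ _ (Finsupp.single (.xi k) 1) (Finsupp.single (.xi j) 1)
    [(.two j, X .x3), (.three j, C (v (.ci j))), (.two k, - X .x3), (.three k, - C (v (.ci k))),
     (.pair ⟨(i, j), hij⟩, C (v (.cij k i hik.symm))),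
     (.pair ⟨(i, k), hik⟩, - C (v (.cij j i hij.symm))),
     (.pair ⟨(j, k), hjk⟩, - C (v (.cij i j hij)) + C (v (.cij i k hik)))] ?_ ?_ ?_ ?_
  · simp only [mu]; abel
  · lcm_tac
  · simp only [List.map_cons, List.map_nil, List.sum_cons, List.sum_nil, GG, mono_one, G2, G3, GP]
    linear_combination c6 (X .x2) (X .x3) (X (.xi i)) (X (.xi j)) (X (.xi k)) (C (v .a)) (C (v .c))
      (C (v .cb)) (C d) (C (v (.ci i))) (C (v (.cbi i))) (C (v (.ci j))) (C (v (.cbi j)))
      (C (v (.ci k))) (C (v (.cbi k)))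
      (C (v (.cij i j hij))) (C (v (.cij i k hik))) (C (v (.cij j i hij.symm)))
      (C (v (.cij j k hjk))) (C (v (.cij k i hik.symm))) (C (v (.cij k j hjk.symm)))
      hL12 hQ12 hB12 hL13 hQ13 hB13 hL23 hT
  · intro p hp
    simp only [List.mem_cons, List.not_mem_nil, or_false] at hp
    rcases hp with rfl | rfl | rfl | rfl | rfl | rfl | rfl
    all_goals exact sbdd_of ⟨_, by wb_tac, by simp [mu, cw]⟩

include hd in
theorem pc_cubic_two (i : Fin m) :
    PC (cord m) (GG v d) mu (.cubic) (.two i) := by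
  have hD := hdC v d i hd
  refine PC.of_list (cord m) (GG v d) mu _ _ (Finsupp.single (.xi i) 1) (Finsupp.single .x3 2)
    [(.two i, - C (v .a) * X .x3 - C (v (.ci i)) * X .x3 - X .x2 * X .x3 + C (v .c) - C (v .cb)),
     (.three i, C (v (.ci i)) * C (v (.cbi i)) + C (v (.ci i)) * X .x3 - C (v .c)),
     (.cubic, C (v (.cbi i)) + X .x3)] ?_ ?_ ?_ ?_
  · simp only [mu]; abel
  · lcm_tac
  · simp only [List.map_cons, List.map_nil, List.sum_cons, List.sum_nil, GG, mono_one, mono_sq,
      G2, G3, GC]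
    linear_combination c7 (X .x2) (X .x3) (X (.xi i)) (C (v .a)) (C (v .c)) (C (v .cb))
      (C d) (C (v (.ci i))) (C (v (.cbi i))) hD
  · intro p hp
    simp only [List.mem_cons, List.not_mem_nil, or_false] at hp
    rcases hp with rfl | rfl | rfl
    all_goals exact sbdd_of ⟨_, by wb_tac, by simp [mu, cw]⟩

include hd in
theorem pc_cubic_three (i : Fin m) :
    PC (cord m) (GG v d) mu (.cubic) (.three i) := by
  have hD := hdC v d i hd
  refine PC.of_list (cord m) (GG v d) mu _ _ (Finsupp.single (.xi i) 1)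
    (Finsupp.single .x2 1 + Finsupp.single .x3 1)
    [(.two i, C (v (.cbi i)) * X .x3 - X .x2 * X .x3 + C (v .c) - C (v .cb)),
     (.three i, C (v (.ci i)) * C (v (.cbi i)) - C (v .c)),
     (.cubic, C (v (.cbi i)))] ?_ ?_ ?_ ?_
  · simp only [mu]
    ext s
    simp only [Finsupp.add_apply, Finsupp.single_apply]
    cases s <;> simp
  · lcm_tac
  · simp only [List.map_cons, List.map_nil, List.sum_cons, List.sum_nil, GG, mono_one, mono_two,
      G2, G3, GC]
    linear_combination c8 (X .x2) (X .x3) (X (.xi i)) (C (v .a)) (C (v .c)) (C (v .cb))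
      (C d) (C (v (.ci i))) (C (v (.cbi i))) hD
  · intro p hp
    simp only [List.mem_cons, List.not_mem_nil, or_false] at hp
    rcases hp with rfl | rfl | rfl
    all_goals exact sbdd_of ⟨_, by wb_tac, by simp [mu, cw]⟩

end Cert

end Groth.Agent.Lib.Helper31.Cv
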