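import Mathlib
import Groth.Agent.Lib.Helper31.Cv5b

set_option autoImplicit false
set_option linter.unusedSectionVars false

open W4c5m1nsnscurves MvPolynomial Groth.Agent.Lib.Helper91.Groebner

namespace Groth.Agent.Lib.Helper31.Cv

variable {R : Type*} [CommRing R] {m : ℕ}

section Assemble

variable (v : UGen m → R) (d : R) (hU : ∀ p ∈ URel R m, MvPolynomial.eval v p = 0)
  (hd : ∀ i, dd v i - d = 0)

theorem GG_pair_swap (i j : Fin m) (h : i ≠ j) :
    GG v d (.pair ⟨(j, i), h.symm⟩) = GG v d (.pair ⟨(i, j), h⟩) := by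
  simp only [GG, GP]; ring

theorem mu_pair_swap (i j : Fin m) (h : i ≠ j) :
    mu (.pair ⟨(j, i), h.symm⟩ : Idx m) = mu (.pair ⟨(i, j), h⟩) := by
  simp only [mu]; exact add_comm _ _

theorem pc_cop (k k' : Idx m) (h : ∀ s, mu k s = 0 ∨ mu k' s = 0) :
    PC (cord m) (GG v d) mu k k' :=
  PC.of_coprime (cord m) (GG v d) (rr v d) mu (hGG v d) (hrr v d) k k' h

/-- tactic for coprimality of leading monomials -/
macro "cop_tac" : tactic =>
  `(tactic| (intro s; cases s <;> simp [mu, Finsupp.single_apply] <;>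
      (try grind)))

include hU hd in
theorem hS_two (i : Fin m) (k' : Idx m) (hne : Idx.two i ≠ k') :
    PC (cord m) (GG v d) mu (.two i) k' ∨ PC (cord m) (GG v d) mu k' (.two i) := by
  rcases k' with j | j | ⟨⟨p, q⟩, hpq⟩ | _
  · have hij : i ≠ j := fun h => hne (by rw [h])
    exact Or.inl (pc_two_two v d hU i j hij)
  · by_cases h : i = j
    · subst h; exact Or.inl (pc_two_three v d hd i)
    · refine Or.inl (pc_cop v d _ _ ?_)
      cop_tac
  · by_cases h1 : i = p
    · subst h1; exact Or.inl (pc_two_pair v d hU hd i q hpq)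
    · by_cases h2 : i = q
      · subst h2
        refine Or.inl (PC.congr (cord m) (GG v d) mu (pc_two_pair v d hU hd i p (Ne.symm hpq)) rfl rfl
          (GG_pair_swap v d i p (Ne.symm hpq)) (mu_pair_swap i p (Ne.symm hpq)))
      · refine Or.inl (pc_cop v d _ _ ?_)
        cop_tac
  · exact Or.inr (pc_cubic_two v d hd i)

include hU hd in
theorem hS_three (i : Fin m) (k' : Idx m) (hne : Idx.three i ≠ k') :
    PC (cord m) (GG v d) mu (.three i) k' ∨ PC (cord m) (GG v d) mu k' (.three i) := by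
  rcases k' with j | j | ⟨⟨p, q⟩, hpq⟩ | _
  · exact (hS_two v d hU hd j (.three i) (by simp)).symm
  · have hij : i ≠ j := fun h => hne (by rw [h])
    exact Or.inl (pc_three_three v d hU i j hij)
  · by_cases h1 : i = p
    · subst h1; exact Or.inl (pc_three_pair v d hU i q hpq)
    · by_cases h2 : i = q
      · subst h2
        refine Or.inl (PC.congr (cord m) (GG v d) mu (pc_three_pair v d hU i p (Ne.symm hpq)) rfl rfl
          (GG_pair_swap v d i p (Ne.symm hpq)) (mu_pair_swap i p (Ne.symm hpq)))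
      · refine Or.inl (pc_cop v d _ _ ?_)
        cop_tac
  · exact Or.inr (pc_cubic_three v d hd i)

include hU in
theorem hS_pair_pair (p q p' q' : Fin m) (hpq : p ≠ q) (hpq' : p' ≠ q')
    (hne : Idx.pair ⟨(p, q), hpq⟩ ≠ Idx.pair ⟨(p', q'), hpq'⟩) :
    PC (cord m) (GG v d) mu (.pair ⟨(p, q), hpq⟩) (.pair ⟨(p', q'), hpq'⟩) := by
  by_cases h1 : p = p'
  · subst h1
    have hqq : q ≠ q' := fun h => hne (by subst h; rfl)
    exact pc_pair_pair v d hU p q q' hpq hpq' hqq
  · by_cases h2 : p = q'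
    · subst h2
      by_cases h3 : q = p'
      · subst h3
        exact PC.of_eq (cord m) (GG v d) mu _ _ (GG_pair_swap v d q p hpq')
          (mu_pair_swap q p hpq')
      · exact PC.congr (cord m) (GG v d) mu (pc_pair_pair v d hU p q p' hpq (Ne.symm hpq') h3) rfl rfl
          (GG_pair_swap v d p p' (Ne.symm hpq')) (mu_pair_swap p p' (Ne.symm hpq'))
    · by_cases h3 : q = p'
      · subst h3
        exact PC.congr (cord m) (GG v d) mu (pc_pair_pair v d hU q p q' (Ne.symm hpq) hpq' h2)
          (GG_pair_swap v d q p (Ne.symm hpq)) (mu_pair_swap q p (Ne.symm hpq)) rfl rfl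
      · by_cases h4 : q = q'
        · subst h4
          exact PC.congr (cord m) (GG v d) mu
            (pc_pair_pair v d hU q p p' (Ne.symm hpq) (Ne.symm hpq') h1)
            (GG_pair_swap v d q p (Ne.symm hpq)) (mu_pair_swap q p (Ne.symm hpq))
            (GG_pair_swap v d q p' (Ne.symm hpq')) (mu_pair_swap q p' (Ne.symm hpq'))
        · refine pc_cop v d _ _ ?_
          cop_tac

include hU hd in
theorem hS_all (k k' : Idx m) (hne : k ≠ k') :
    PC (cord m) (GG v d) mu k k' ∨ PC (cord m) (GG v d) mu k' k := by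
  rcases k with i | i | ⟨⟨p, q⟩, hpq⟩ | _
  · exact hS_two v d hU hd i k' hne
  · exact hS_three v d hU hd i k' hne
  · rcases k' with j | j | ⟨⟨p', q'⟩, hpq'⟩ | _
    · exact (hS_two v d hU hd j _ (Ne.symm hne)).symm
    · exact (hS_three v d hU hd j _ (Ne.symm hne)).symm
    · exact Or.inl (hS_pair_pair v d hU p q p' q' hpq hpq' hne)
    · refine Or.inl (pc_cop v d _ _ ?_)
      cop_tac
  · rcases k' with j | j | ⟨⟨p', q'⟩, hpq'⟩ | _
    · exact (hS_two v d hU hd j _ (Ne.symm hne)).symm
    · exact (hS_three v d hU hd j _ (Ne.symm hne)).symm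
    · refine Or.inl (pc_cop v d _ _ ?_)
      cop_tac
    · exact absurd rfl hne

/-- the certified Gröbner basis of the curve algebra -/
noncomputable def curveGB : GB (cord m) (Fintype.card (Idx m)) R :=
  mkGB (cord m) (GG v d) (rr v d) mu (hGG v d) (hrr v d) (hS_all v d hU hd)

theorem curveGB_ideal : (curveGB v d hU hd).ideal = Ideal.span (Set.range (GG v d)) :=
  mkGB_ideal _ _ _ _ _ _ _

theorem curveGB_Std : (curveGB v d hU hd).Std = {ν | ∀ k : Idx m, ¬ mu k ≤ ν} :=
  mkGB_Std _ _ _ _ _ _ _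

end Assemble

end Groth.Agent.Lib.Helper31.Cv
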