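import Mathlib
import Groth.Agent.Lib.Helper31.Cv6

set_option autoImplicit false
set_option linter.unusedSectionVars false

open W4c5m1nsnscurves MvPolynomial Groth.Agent.Lib.Helper91.Groebner

namespace Groth.Agent.Lib.Helper31.Cv

variable {R : Type*} [CommRing R] {m : ℕ}

section Ideal

variable (v : UGen m → R)

theorem G2_mem (i : Fin m) : G2 v i ∈ Ideal.span (CRel R m v) :=
  Ideal.subset_span (Or.inl (Or.inl ⟨i, rfl⟩))

theorem G3_mem (i : Fin m) : G3 v i ∈ Ideal.span (CRel R m v) := by
  have : G3 v i = X .x3 * X (.xi i) -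
      (X .x2 * X .x3 + C (v .a + v (.ci i) + v (.cbi i)) * (X (.xi i) - C (v (.cbi i))) +
        C (v .cb) - C (v .c)) := by
    simp only [G3, map_add]
  rw [this]
  exact Ideal.subset_span (Or.inl (Or.inr ⟨i, rfl⟩))

theorem GP_mem (q : DPair m) : GP v q ∈ Ideal.span (CRel R m v) :=
  Ideal.subset_span (Or.inr ⟨q, rfl⟩)

theorem GC_eq (i : Fin m) :
    GC v (dd v i) = (C (v .a) + C (v (.ci i)) + C (v (.cbi i)) - X .x3) * G2 v i +
      (X .x2 - C (v (.ci i))) * G3 v i := by
  simp only [GC, G2, G3, dd, map_add, map_sub, map_mul]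
  ring

theorem span_eq (hm : 1 ≤ m) :
    Ideal.span (CRel R m v) = Ideal.span (Set.range (GG v (dd v ⟨0, hm⟩))) := by
  apply le_antisymm
  · rw [Ideal.span_le]
    rintro p ((⟨i, rfl⟩ | ⟨i, rfl⟩) | ⟨q, rfl⟩)
    · exact Ideal.subset_span ⟨.two i, rfl⟩
    · have : G3 v i ∈ Ideal.span (Set.range (GG v (dd v ⟨0, hm⟩))) :=
        Ideal.subset_span ⟨.three i, rfl⟩
      rw [SetLike.mem_coe]
      simpa only [G3, map_add] using this
    · exact Ideal.subset_span ⟨.pair q, rfl⟩
  · rw [Ideal.span_le]
    rintro p ⟨k, rfl⟩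
    cases k with
    | two i => exact G2_mem v i
    | three i => exact G3_mem v i
    | pair q => exact GP_mem v q
    | cubic =>
      show GC v (dd v ⟨0, hm⟩) ∈ _
      rw [GC_eq]
      exact Ideal.add_mem _ (Ideal.mul_mem_left _ _ (G2_mem v _)) (Ideal.mul_mem_left _ _ (G3_mem v _))

end Ideal

section Std

/-- exponent vectors of the basis monomials -/
noncomputable def fexp : Option (ℕ ⊕ (CVar m × ℕ)) → (CVar m →₀ ℕ)
  | none => 0
  | some (Sum.inl k) => Finsupp.single .x2 (k + 1) + Finsupp.single .x3 1
  | some (Sum.inr (y, k)) => Finsupp.single y (k + 1)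

theorem two_le_iff {a b : CVar m} (hab : a ≠ b) (p q : ℕ) (ν : CVar m →₀ ℕ) :
    Finsupp.single a p + Finsupp.single b q ≤ ν ↔ p ≤ ν a ∧ q ≤ ν b := by
  rw [Finsupp.le_def]
  constructor
  · intro h
    have h1 := h a
    have h2 := h b
    simp only [Finsupp.add_apply, Finsupp.single_apply, if_true, if_neg hab, if_neg hab.symm,
      add_zero, zero_add] at h1 h2
    exact ⟨h1, h2⟩
  · rintro ⟨h1, h2⟩ s
    simp only [Finsupp.add_apply, Finsupp.single_apply]
    by_cases hs1 : a = s
    · subst hs1
      rw [if_pos rfl, if_neg hab.symm, add_zero]; exact h1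
    · by_cases hs2 : b = s
      · subst hs2
        rw [if_neg hs1, if_pos rfl, zero_add]; exact h2
      · rw [if_neg hs1, if_neg hs2]; exact Nat.zero_le _

theorem std_iff (ν : CVar m →₀ ℕ) :
    (∀ k : Idx m, ¬ mu k ≤ ν) ↔
      (∀ i : Fin m, ¬ (1 ≤ ν .x2 ∧ 1 ≤ ν (.xi i))) ∧ (∀ i : Fin m, ¬ (1 ≤ ν .x3 ∧ 1 ≤ ν (.xi i))) ∧
      (∀ i j : Fin m, i ≠ j → ¬ (1 ≤ ν (.xi i) ∧ 1 ≤ ν (.xi j))) ∧ ¬ (1 ≤ ν .x2 ∧ 2 ≤ ν .x3) := by
  constructor
  · intro h
    refine ⟨fun i => ?_, fun i => ?_, fun i j hij => ?_, ?_⟩
    · have := h (.two i)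
      rwa [mu, two_le_iff (by simp)] at this
    · have := h (.three i)
      rwa [mu, two_le_iff (by simp)] at this
    · have := h (.pair ⟨(i, j), hij⟩)
      rwa [mu, two_le_iff (by simpa using hij)] at this
    · have := h .cubic
      rwa [mu, two_le_iff (by simp)] at this
  · rintro ⟨h1, h2, h3, h4⟩ k
    cases k with
    | two i => rw [mu, two_le_iff (by simp)]; exact h1 i
    | three i => rw [mu, two_le_iff (by simp)]; exact h2 i
    | pair q =>
      obtain ⟨⟨i, j⟩, hij⟩ := q
      rw [mu, two_le_iff (by simpa using hij)]; exact h3 i j hij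
    | cubic => rw [mu, two_le_iff (by simp)]; exact h4

theorem fexp_injective : Function.Injective (fexp (m := m)) := by
  intro a b h
  rcases a with _ | (k | ⟨y, k⟩) <;> rcases b with _ | (k' | ⟨y', k'⟩)
  · rfl
  · exfalso
    have := DFunLike.congr_fun h CVar.x3
    simp [fexp] at this
  · exfalso
    have := DFunLike.congr_fun h y'
    simp [fexp] at this
  · exfalso
    have := DFunLike.congr_fun h CVar.x3
    simp [fexp] at this
  · have := DFunLike.congr_fun h CVar.x2
    simp [fexp] at this
    rw [this]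
  · exfalso
    have h2 := DFunLike.congr_fun h CVar.x2
    have h3 := DFunLike.congr_fun h CVar.x3
    simp [fexp, Finsupp.single_apply] at h2 h3
    by_cases hy : y' = CVar.x3
    · subst hy; simp at h2
    · simp [hy] at h3
  · exfalso
    have := DFunLike.congr_fun h y
    simp [fexp] at this
  · exfalso
    have h2 := DFunLike.congr_fun h CVar.x2
    have h3 := DFunLike.congr_fun h CVar.x3
    simp [fexp, Finsupp.single_apply] at h2 h3
    by_cases hy : y = CVar.x3
    · subst hy; simp at h2
    · simp [hy] at h3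
  · simp only [fexp] at h
    rw [Finsupp.single_eq_single_iff] at h
    rcases h with ⟨h1, h2⟩ | ⟨h1, _⟩
    · subst h1
      have : k = k' := by omega
      rw [this]
    · omega

theorem fexp_mem (i : Option (ℕ ⊕ (CVar m × ℕ))) : ∀ k : Idx m, ¬ mu k ≤ fexp i := by
  rw [std_iff]
  rcases i with _ | (k | ⟨y, k⟩)
  · simp [fexp]
  · simp [fexp, Finsupp.single_apply]
  · refine ⟨fun i => ?_, fun i => ?_, fun i j hij => ?_, ?_⟩
    · simp only [fexp, Finsupp.single_apply]
      by_cases hy : y = CVar.x2
      · subst hy; simp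
      · simp [hy]
    · simp only [fexp, Finsupp.single_apply]
      by_cases hy : y = CVar.x3
      · subst hy; simp
      · simp [hy]
    · simp only [fexp, Finsupp.single_apply]
      by_cases hy : y = CVar.xi i
      · subst hy
        have : ¬ (CVar.xi i : CVar m) = CVar.xi j := by simpa using hij
        simp [this]
      · simp [hy]
    · simp only [fexp, Finsupp.single_apply]
      by_cases hy : y = CVar.x2
      · subst hy; simp
      · simp [hy]

theorem exists_fexp (ν : CVar m →₀ ℕ) (h : ∀ k : Idx m, ¬ mu k ≤ ν) : ∃ i, fexp i = ν := by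
  rw [std_iff] at h
  obtain ⟨h1, h2, h3, h4⟩ := h
  by_cases hx : ∃ i : Fin m, 1 ≤ ν (.xi i)
  · obtain ⟨i, hi⟩ := hx
    refine ⟨some (Sum.inr (.xi i, ν (.xi i) - 1)), ?_⟩
    ext s
    simp only [fexp, Finsupp.single_apply]
    cases s with
    | x2 =>
      have := h1 i
      simp only [reduceCtorEq, if_false]
      omega
    | x3 =>
      have := h2 i
      simp only [reduceCtorEq, if_false]
      omega
    | xi j =>
      by_cases hij : i = j
      · subst hij
        rw [if_pos rfl]; omega
      · have := h3 i j hij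
        have hne : ¬ (CVar.xi i : CVar m) = CVar.xi j := by simpa using hij
        rw [if_neg hne]
        omega
  · push Not at hx
    have hz : ∀ j : Fin m, ν (.xi j) = 0 := fun j => by have := hx j; omega
    by_cases h2z : ν .x2 = 0
    · by_cases h3z : ν .x3 = 0
      · refine ⟨none, ?_⟩
        ext s
        cases s with
        | x2 => simp [fexp, h2z]
        | x3 => simp [fexp, h3z]
        | xi j => simp [fexp, hz j]
      · refine ⟨some (Sum.inr (.x3, ν .x3 - 1)), ?_⟩
        ext s
        simp only [fexp, Finsupp.single_apply]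
        cases s with
        | x2 => simp only [reduceCtorEq, if_false]; omega
        | x3 => rw [if_pos rfl]; omega
        | xi j => simp only [reduceCtorEq, if_false]; exact (hz j).symm
    · have h3le : ν .x3 ≤ 1 := by omega
      by_cases h3z : ν .x3 = 0
      · refine ⟨some (Sum.inr (.x2, ν .x2 - 1)), ?_⟩
        ext s
        simp only [fexp, Finsupp.single_apply]
        cases s with
        | x2 => rw [if_pos rfl]; omega
        | x3 => simp only [reduceCtorEq, if_false]; omega
        | xi j => simp only [reduceCtorEq, if_false]; exact (hz j).symm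
      · refine ⟨some (Sum.inl (ν .x2 - 1)), ?_⟩
        ext s
        simp only [fexp, Finsupp.add_apply, Finsupp.single_apply]
        cases s with
        | x2 => simp only [reduceCtorEq, if_false, if_true]; omega
        | x3 => simp only [reduceCtorEq, if_false, if_true]; omega
        | xi j => simp only [reduceCtorEq, if_false]; have := hz j; omega

theorem range_fexp : Set.range (fexp (m := m)) = {ν | ∀ k : Idx m, ¬ mu k ≤ ν} := by
  ext ν
  constructor
  · rintro ⟨i, rfl⟩; exact fexp_mem i
  · intro h; exact exists_fexp ν h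

theorem mk_fexp (v : UGen m → R) (i : Option (ℕ ⊕ (CVar m × ℕ))) :
    Ideal.Quotient.mk (Ideal.span (CRel R m v)) (monomial (fexp i) (1 : R)) = cmon R m v i := by
  rcases i with _ | (k | ⟨y, k⟩)
  · simp only [fexp, cmon]; rfl
  · simp only [fexp, cmon]
    congr 1
    rw [X_pow_eq_monomial, X, monomial_mul, one_mul]
  · simp only [fexp, cmon]
    congr 1
    rw [X_pow_eq_monomial]

end Std

end Groth.Agent.Lib.Helper31.Cv
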