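import Mathlib
import Groth.Agent.Lib.Helper31.Cv7

set_option autoImplicit false
set_option linter.unusedSectionVars false

open W4c5m1nsnscurves MvPolynomial Groth.Agent.Lib.Helper91.Groebner

namespace Groth.Agent.Lib.Helper31.Cv

variable {R : Type*} [CommRing R] {m : ℕ}

/-- relations imply that the monomials form a basis -/
theorem basis_of_rel (v : UGen m → R) (hm : 1 ≤ m)
    (hU : ∀ p ∈ URel R m, MvPolynomial.eval v p = 0) :
    LinearIndependent R (cmon R m v) ∧ Submodule.span R (Set.range (cmon R m v)) = ⊤ := by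
  have hd : ∀ i, dd v i - dd v ⟨0, hm⟩ = 0 := by
    intro i
    by_cases h : i = ⟨0, hm⟩
    · rw [h, sub_self]
    · have := c9 (v .a) (v .c) (v .cb) (v (.ci i)) (v (.cbi i)) (v (.ci ⟨0, hm⟩))
        (v (.cbi ⟨0, hm⟩)) (v (.cij i ⟨0, hm⟩ h)) (v (.cij ⟨0, hm⟩ i (Ne.symm h)))
        (UL v hU i ⟨0, hm⟩ h) (UQ v hU i ⟨0, hm⟩ h) (UB v hU i ⟨0, hm⟩ h)
      simp only [dd]
      linear_combination this
  have key := (curveGB v (dd v ⟨0, hm⟩) hU hd).basis_of_param (Ideal.span (CRel R m v))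
    (by rw [curveGB_ideal]; exact span_eq v hm) fexp fexp_injective
    (by rw [curveGB_Std]; exact range_fexp)
  have hfam : (fun i => Ideal.Quotient.mk (Ideal.span (CRel R m v)) (monomial (fexp i) (1 : R)))
      = cmon R m v := funext (mk_fexp v)
  rw [hfam] at key
  exact key

theorem coeff_zero_of_li {ι M : Type*} [AddCommGroup M] [Module R M] {b : ι → M}
    (hli : LinearIndependent R b) (k0 k1 k2 k3 : ι)
    (h01 : k0 ≠ k1) (h02 : k0 ≠ k2) (h03 : k0 ≠ k3) (h12 : k1 ≠ k2) (h13 : k1 ≠ k3) (h23 : k2 ≠ k3)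
    (r0 r1 r2 r3 : R) (h : r0 • b k0 + r1 • b k1 + r2 • b k2 + r3 • b k3 = 0) :
    r0 = 0 ∧ r1 = 0 ∧ r2 = 0 ∧ r3 = 0 := by
  have hinj : Function.Injective (![k0, k1, k2, k3] : Fin 4 → ι) := by
    intro a c hac
    fin_cases a <;> fin_cases c <;> simp_all
  have hl := Fintype.linearIndependent_iff.1 (hli.comp _ hinj) ![r0, r1, r2, r3]
    (by simpa [Fin.sum_univ_four, add_assoc] using h)
  exact ⟨hl 0, hl 1, hl 2, hl 3⟩

section Conv

variable (v : UGen m → R)

theorem smul_mk (r : R) (p : MvPolynomial (CVar m) R) :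
    r • (Ideal.Quotient.mk (Ideal.span (CRel R m v)) p) =
      Ideal.Quotient.mk (Ideal.span (CRel R m v)) (C r) *
        Ideal.Quotient.mk (Ideal.span (CRel R m v)) p := by
  rw [← map_mul, ← smul_eq_C_mul]; rfl

theorem smul_mk' (r : R) (x : CurveAlg R m v) :
    r • x = Ideal.Quotient.mk (Ideal.span (CRel R m v)) (C r) * x := by
  obtain ⟨p, rfl⟩ := Ideal.Quotient.mk_surjective x
  exact smul_mk v r p

theorem mkG2 (i : Fin m) : Ideal.Quotient.mk (Ideal.span (CRel R m v)) (G2 v i) = 0 :=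
  Ideal.Quotient.eq_zero_iff_mem.2 (G2_mem v i)

theorem mkG3 (i : Fin m) : Ideal.Quotient.mk (Ideal.span (CRel R m v)) (G3 v i) = 0 :=
  Ideal.Quotient.eq_zero_iff_mem.2 (G3_mem v i)

theorem mkGP (q : DPair m) : Ideal.Quotient.mk (Ideal.span (CRel R m v)) (GP v q) = 0 :=
  Ideal.Quotient.eq_zero_iff_mem.2 (GP_mem v q)

theorem pair_rel (hli : LinearIndependent R (cmon R m v)) (i j : Fin m) (h : i ≠ j) :
    (v (.cij i j h) + v (.cij j i h.symm) -
      (v .a + v (.ci i) + v (.cbi i) + v (.ci j) + v (.cbi j)) = 0) ∧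
    (v (.cij j i h.symm) * v (.ci j) + v (.cij i j h) * v (.ci i) - v (.ci i) * v (.ci j) - v .c
      = 0) ∧
    (v (.cij j i h.symm) * v (.cbi i) + v (.cij i j h) * v (.cbi j) - v (.cbi i) * v (.cbi j)
      - v .cb = 0) := by
  have h1 := mkG2 v i
  have h2 := mkG3 v i
  have h3 := mkG2 v j
  have h4 := mkG3 v j
  have h5 := mkGP v ⟨(i, j), h⟩
  simp only [G2, G3, GP, map_sub, map_add, map_mul] at h1 h2 h3 h4 h5
  have key := e3 (Ideal.Quotient.mk (Ideal.span (CRel R m v)) (X .x2))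
    (Ideal.Quotient.mk (Ideal.span (CRel R m v)) (X .x3))
    (Ideal.Quotient.mk (Ideal.span (CRel R m v)) (X (.xi i)))
    (Ideal.Quotient.mk (Ideal.span (CRel R m v)) (X (.xi j)))
    (Ideal.Quotient.mk (Ideal.span (CRel R m v)) (C (v .a)))
    (Ideal.Quotient.mk (Ideal.span (CRel R m v)) (C (v .c)))
    (Ideal.Quotient.mk (Ideal.span (CRel R m v)) (C (v .cb)))
    (Ideal.Quotient.mk (Ideal.span (CRel R m v)) (C (v (.ci i))))
    (Ideal.Quotient.mk (Ideal.span (CRel R m v)) (C (v (.cbi i))))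
    (Ideal.Quotient.mk (Ideal.span (CRel R m v)) (C (v (.ci j))))
    (Ideal.Quotient.mk (Ideal.span (CRel R m v)) (C (v (.cbi j))))
    (Ideal.Quotient.mk (Ideal.span (CRel R m v)) (C (v (.cij i j h))))
    (Ideal.Quotient.mk (Ideal.span (CRel R m v)) (C (v (.cij j i h.symm))))
    h1 h2 h3 h4 h5
  obtain ⟨e1, e2, e3', -⟩ := coeff_zero_of_li hli (some (Sum.inl 0)) (some (Sum.inr (.x2, 0)))
    (some (Sum.inr (.xi j, 0))) none (by simp) (by simp) (by simp) (by simp) (by simp) (by simp)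
    (- v .a - v (.ci i) + v (.cij i j h) - v (.ci j) + v (.cij j i h.symm) - v (.cbi i) - v (.cbi j))
    (v (.cij i j h) * v (.cbi j) + v (.cij j i h.symm) * v (.cbi i) - v (.cbi i) * v (.cbi j) - v .cb)
    (- v .a * v (.ci j) - v (.ci i) * v (.cij i j h) + v (.cij i j h) * v (.ci j)
      - v (.ci j) * v (.cbi i) - v (.ci j) * v (.cbi j) - v (.ci j) ^ 2 + v .c)
    (- v .a * v (.ci i) * v (.cbi i) + v .a * v (.ci j) * v (.cbi j) - v (.ci i) * v (.cbi i) ^ 2
      - v (.ci i) ^ 2 * v (.cbi i) + v (.ci j) * v (.cbi j) ^ 2 + v (.ci j) ^ 2 * v (.cbi j)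
      + v .a * v .c + v .c * v (.ci i) - v .c * v (.cij i j h) + v .c * v (.ci j)
      - v .c * v (.cij j i h.symm) + 2 * v .c * v (.cbi i) + v (.ci i) * v .cb - v (.ci j) * v .cb)
    (by
      simp only [smul_mk']
      simp only [cmon, map_mul, map_pow, map_add, map_sub, map_neg, map_ofNat, zero_add,
        pow_one]
      linear_combination key)
  refine ⟨?_, ?_, ?_⟩
  · linear_combination e1
  · linear_combination (v (.ci j)) * e1 - e3'
  · linear_combination e2

theorem triple_rel (hli : LinearIndependent R (cmon R m v)) (i j k : Fin m) (hij : i ≠ j)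
    (hjk : j ≠ k) (hik : i ≠ k) :
    v (.cij i j hij) * v (.cij j k hjk) + v (.cij j i hij.symm) * v (.cij i k hik) -
      v (.cij i k hik) * v (.cij j k hjk) + (v .a + v (.ci k) + v (.cbi k)) * v (.ci k) - v .c = 0 := by
  have h1 := mkG2 v j
  have h2 := mkG3 v j
  have h3 := mkG2 v k
  have h4 := mkG3 v k
  have h5 := mkGP v ⟨(i, j), hij⟩
  have h6 := mkGP v ⟨(i, k), hik⟩
  have h7 := mkGP v ⟨(j, k), hjk⟩
  simp only [G2, G3, GP, map_sub, map_add, map_mul] at h1 h2 h3 h4 h5 h6 h7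
  have key := e6
    (Ideal.Quotient.mk (Ideal.span (CRel R m v)) (X .x2))
    (Ideal.Quotient.mk (Ideal.span (CRel R m v)) (X .x3))
    (Ideal.Quotient.mk (Ideal.span (CRel R m v)) (X (.xi i)))
    (Ideal.Quotient.mk (Ideal.span (CRel R m v)) (X (.xi j)))
    (Ideal.Quotient.mk (Ideal.span (CRel R m v)) (X (.xi k)))
    (Ideal.Quotient.mk (Ideal.span (CRel R m v)) (C (v .a)))
    (Ideal.Quotient.mk (Ideal.span (CRel R m v)) (C (v .c)))
    (Ideal.Quotient.mk (Ideal.span (CRel R m v)) (C (v .cb)))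
    (Ideal.Quotient.mk (Ideal.span (CRel R m v)) (C (v (.ci i))))
    (Ideal.Quotient.mk (Ideal.span (CRel R m v)) (C (v (.cbi i))))
    (Ideal.Quotient.mk (Ideal.span (CRel R m v)) (C (v (.ci j))))
    (Ideal.Quotient.mk (Ideal.span (CRel R m v)) (C (v (.cbi j))))
    (Ideal.Quotient.mk (Ideal.span (CRel R m v)) (C (v (.ci k))))
    (Ideal.Quotient.mk (Ideal.span (CRel R m v)) (C (v (.cbi k))))
    (Ideal.Quotient.mk (Ideal.span (CRel R m v)) (C (v (.cij i j hij))))
    (Ideal.Quotient.mk (Ideal.span (CRel R m v)) (C (v (.cij i k hik))))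
    (Ideal.Quotient.mk (Ideal.span (CRel R m v)) (C (v (.cij j i hij.symm))))
    (Ideal.Quotient.mk (Ideal.span (CRel R m v)) (C (v (.cij j k hjk))))
    (Ideal.Quotient.mk (Ideal.span (CRel R m v)) (C (v (.cij k i hik.symm))))
    (Ideal.Quotient.mk (Ideal.span (CRel R m v)) (C (v (.cij k j hjk.symm))))
    h1 h2 h3 h4 h5 h6 h7
  obtain ⟨-, -, e2, -⟩ := coeff_zero_of_li hli (some (Sum.inl 0)) (some (Sum.inr (.xi j, 0)))
    (some (Sum.inr (.xi k, 0))) none (by simp) (by simp) (by simp) (by simpa using hjk) (by simp)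
    (by simp)
    ( - v (.cij i j hij) + v (.cij i k hik) + v (.ci j) - v (.cij j i hij.symm) - v (.ci k) + v (.cij k i hik.symm) + v (.cbi j) - v (.cbi k) )
    ( v .a * v (.ci j) + v (.cij i j hij) * v (.cij k i hik.symm) - v (.cij i j hij) * v (.cij k j hjk.symm) + v (.cij i k hik) * v (.cij k j hjk.symm) + v (.ci j) * v (.cbi j) + v (.ci j) ^ 2 - v .c )
    ( - v .a * v (.ci k) - v (.cij i j hij) * v (.cij j k hjk) - v (.cij i k hik) * v (.cij j i hij.symm) + v (.cij i k hik) * v (.cij j k hjk) - v (.ci k) * v (.cbi k) - v (.ci k) ^ 2 + v .c )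
    ( - v .a * v (.ci j) * v (.cbi j) + v .a * v (.ci k) * v (.cbi k) - v (.ci j) * v (.cbi j) ^ 2 - v (.ci j) ^ 2 * v (.cbi j) + v (.ci k) * v (.cbi k) ^ 2 + v (.ci k) ^ 2 * v (.cbi k) + v .c * v (.cij i j hij) - v .c * v (.cij i k hik) - v .c * v (.ci j) + v .c * v (.cij j i hij.symm) + v .c * v (.ci k) - v .c * v (.cij k i hik.symm) + v (.ci j) * v .cb - v (.ci k) * v .cb )
    (by
      simp only [smul_mk']
      simp only [cmon, map_mul, map_pow, map_add, map_sub, map_neg, zero_add, pow_one]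
      linear_combination key)
  linear_combination - e2

/-- the monomial basis forces the relations -/
theorem rel_of_basis (hli : LinearIndependent R (cmon R m v)) :
    ∀ p ∈ URel R m, MvPolynomial.eval v p = 0 := by
  rintro p (((⟨⟨⟨i, j⟩, h⟩, rfl⟩ | ⟨⟨⟨i, j⟩, h⟩, rfl⟩) | ⟨⟨⟨i, j⟩, h⟩, rfl⟩) | ⟨⟨⟨i, j, k⟩, hij, hjk, hik⟩, rfl⟩)
  · have := (pair_rel v hli i j h).1
    simpa using this
  · have := (pair_rel v hli i j h).2.1
    simpa using this
  · have := (pair_rel v hli i j h).2.2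
    simpa using this
  · have := triple_rel v hli i j k hij hjk hik
    simpa using this

end Conv

end Groth.Agent.Lib.Helper31.Cv
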