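import Mathlib

/-!
# Good vertices in Dynkin diagrams (without classification)

For a base `b` of a finite crystallographic root pairing over a char-0 domain and any nonempty set
`S` of simple roots, there is `i ∈ S` which has no neighbour in `S`, or exactly one neighbour `j`
in `S` and `⟨α_i, α_j^∨⟩ = -1`.  Proof: otherwise an explicit positive combination `u` of simple
roots has `B(u,u) ≤ 0` for the canonical positive definite form.
-/

set_option autoImplicit false
set_option linter.unusedSectionVars false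

namespace Groth.Agent.Lib.Helper31.DY

open Set Function Submodule Module
open scoped Classical

universe u v w x
variable {ι : Type u} {R : Type v} {M : Type w} {N : Type x} [CommRing R] [IsDomain R] [CharZero R]
  [AddCommGroup M] [Module R M] [AddCommGroup N] [Module R N] (P : RootPairing ι R M N)
  [Finite ι] [P.IsCrystallographic]

/-- neighbours of `i` inside `S` -/
noncomputable def nbr (S : Finset ι) (i : ι) : Finset ι :=
  S.filter (fun j => j ≠ i ∧ P.pairingIn ℤ i j ≠ 0)

lemma mem_nbr {S : Finset ι} {i j : ι} :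
    j ∈ nbr P S i ↔ j ∈ S ∧ j ≠ i ∧ P.pairingIn ℤ i j ≠ 0 := by
  simp [nbr]

lemma two_mul_posForm' (B : P.RootPositiveForm ℤ) (i j : ι) :
    2 * B.posForm (P.rootSpanMem ℤ i) (P.rootSpanMem ℤ j)
      = P.pairingIn ℤ i j * B.posForm (P.rootSpanMem ℤ j) (P.rootSpanMem ℤ j) := by
  apply FaithfulSMul.algebraMap_injective ℤ R
  have h := B.toInvariantForm.two_mul_apply_root_root i j
  rw [map_mul, map_mul, map_ofNat, RootPairing.RootPositiveForm.algebraMap_posForm,
    RootPairing.RootPositiveForm.algebraMap_posForm, P.algebraMap_pairingIn]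
  exact h

lemma two_mul_posForm [Fintype ι] (i j : ι) :
    2 * (P.posRootForm ℤ).posForm (P.rootSpanMem ℤ i) (P.rootSpanMem ℤ j)
      = P.pairingIn ℤ i j * (P.posRootForm ℤ).posForm (P.rootSpanMem ℤ j) (P.rootSpanMem ℤ j) :=
  two_mul_posForm' P (P.posRootForm ℤ) i j

theorem exists_good (b : P.Base) (S : Finset ι) (hS : S ⊆ b.support) (hne : S.Nonempty) :
    ∃ i ∈ S, nbr P S i = ∅ ∨ ∃ j, nbr P S i = {j} ∧ P.pairingIn ℤ i j = -1 := by
  have : Fintype ι := Fintype.ofFinite ι
  have : IsReflexive R M := .of_isPerfPair P.toLinearMap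
  have : IsReflexive R N := .of_isPerfPair P.flip.toLinearMap
  by_contra hcon
  push Not at hcon
  set v : ι → P.rootSpan ℤ := P.rootSpanMem ℤ with hv
  set B := (P.posRootForm ℤ).posForm with hB
  set c : ι → ℤ := fun i => if 2 ≤ (nbr P S i).card then 2 else 1 with hc
  have hc0 : ∀ i, 0 < c i := by intro i; simp only [hc]; split_ifs <;> norm_num
  -- basic facts on neighbours
  have hnb : ∀ i ∈ S, ∀ j ∈ nbr P S i, j ∈ S ∧ i ∈ nbr P S j ∧ P.pairingIn ℤ i j ≤ -1 ∧
      P.pairingIn ℤ j i ≤ -1 := by
    intro i hi j hj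
    rw [mem_nbr] at hj
    obtain ⟨hjS, hji, hne0⟩ := hj
    have hne0' : P.pairingIn ℤ j i ≠ 0 := fun h => hne0 ((P.pairingIn_eq_zero_iff (S := ℤ)).mp h)
    have h1 : P.pairingIn ℤ i j ≤ 0 := b.pairingIn_le_zero_of_ne hji.symm (hS hi) (hS hjS)
    have h2 : P.pairingIn ℤ j i ≤ 0 := b.pairingIn_le_zero_of_ne hji (hS hjS) (hS hi)
    refine ⟨hjS, (mem_nbr P).mpr ⟨hi, hji.symm, hne0'⟩, by omega, by omega⟩
  have key : ∀ i ∈ S, ∀ j ∈ nbr P S i, c j * P.pairingIn ℤ j i ≤ -2 := by
    intro i hi j hj
    obtain ⟨hjS, hij, h1, h2⟩ := hnb i hi j hj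
    simp only [hc]
    split_ifs with hcard
    · linarith
    · have hcard1 : (nbr P S j).card = 1 := by
        have : 0 < (nbr P S j).card := Finset.card_pos.mpr ⟨i, hij⟩
        omega
      obtain ⟨k, hk⟩ := Finset.card_eq_one.mp hcard1
      have hki : k = i := by
        rw [hk, Finset.mem_singleton] at hij; exact hij.symm
      subst hki
      have := (hcon j hjS).2 k hk
      omega
  have ineq : ∀ i ∈ S, 2 * c i + ∑ j ∈ nbr P S i, c j * P.pairingIn ℤ j i ≤ 0 := by
    intro i hi
    have h1 : ∑ j ∈ nbr P S i, c j * P.pairingIn ℤ j i ≤ ∑ _j ∈ nbr P S i, (-2 : ℤ) :=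
      Finset.sum_le_sum (key i hi)
    rw [Finset.sum_const, nsmul_eq_mul] at h1
    have hpos : 0 < (nbr P S i).card :=
      Finset.card_pos.mpr (hcon i hi).1
    simp only [hc]
    split_ifs with hcard
    · have : (2 : ℤ) ≤ (nbr P S i).card := by exact_mod_cast hcard
      push_cast at h1 ⊢
      nlinarith
    · have : ((nbr P S i).card : ℤ) = 1 := by
        have : (nbr P S i).card = 1 := by omega
        exact_mod_cast this
      rw [this] at h1
      linarith
  -- the vector u
  set u : P.rootSpan ℤ := ∑ i ∈ S, c i • v i with hu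
  have hlen : ∀ i, 0 < B (v i) (v i) := fun i => (P.posRootForm ℤ).zero_lt_posForm_apply_root i
  have hBu : ∀ i ∈ S, 2 * B u (v i) ≤ 0 := by
    intro i hi
    have e1 : 2 * B u (v i) = ∑ j ∈ S, c j * (2 * B (v j) (v i)) := by
      rw [hu, map_sum, LinearMap.sum_apply, Finset.mul_sum]
      apply Finset.sum_congr rfl
      intro j _
      rw [map_smul, LinearMap.smul_apply, smul_eq_mul]; ring
    have e2 : ∑ j ∈ S, c j * (2 * B (v j) (v i))
        = B (v i) (v i) * (2 * c i + ∑ j ∈ nbr P S i, c j * P.pairingIn ℤ j i) := by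
      have : ∀ j ∈ S, c j * (2 * B (v j) (v i))
          = B (v i) (v i) * (c j * P.pairingIn ℤ j i) := by
        intro j _
        rw [two_mul_posForm P j i]; ring
      rw [Finset.sum_congr rfl this, ← Finset.mul_sum]
      congr 1
      rw [← Finset.add_sum_erase S _ hi, P.pairingIn_same]
      congr 1
      · ring
      · symm
        apply Finset.sum_subset
        · intro j hj
          rw [mem_nbr] at hj
          exact Finset.mem_erase.mpr ⟨hj.2.1, hj.1⟩
        · intro j hj hjn
          rw [Finset.mem_erase] at hj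
          have : P.pairingIn ℤ i j = 0 := by
            by_contra h
            exact hjn ((mem_nbr P).mpr ⟨hj.2, hj.1, h⟩)
          rw [(P.pairingIn_eq_zero_iff (S := ℤ)).mp this, mul_zero]
    rw [e1, e2]
    exact mul_nonpos_of_nonneg_of_nonpos (hlen i).le (ineq i hi)
  have hBuu : 2 * B u u ≤ 0 := by
    have e1 : 2 * B u u = ∑ i ∈ S, c i * (2 * B u (v i)) := by
      conv_lhs => rw [hu]
      rw [map_sum, Finset.mul_sum]
      apply Finset.sum_congr rfl
      intro j _
      rw [map_smul, smul_eq_mul]; ring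
    rw [e1]
    apply Finset.sum_nonpos
    intro i hi
    exact mul_nonpos_of_nonneg_of_nonpos (hc0 i).le (hBu i hi)
  have hu0 : u = 0 := by
    by_contra hne0
    have := P.posRootForm_posForm_pos_of_ne_zero ℤ hne0
    linarith
  -- contradiction with linear independence
  obtain ⟨i0, hi0⟩ := hne
  have hli := b.linearIndependentInt
  rw [Fintype.linearIndependent_iff] at hli
  have := hli (fun i : b.support => if (i : ι) ∈ S then c i else 0) (by
    rw [← hu0, hu]
    rw [Finset.sum_coe_sort b.support (fun i => (if i ∈ S then c i else 0) • P.rootSpanMem ℤ i)]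
    rw [← Finset.sum_subset hS (fun i _ hiS => by simp [hiS])]
    apply Finset.sum_congr rfl
    intro i hi
    simp [hi, hv]) ⟨i0, hS hi0⟩
  simp only [hi0, if_true] at this
  exact absurd this (hc0 i0).ne'

end Groth.Agent.Lib.Helper31.DY
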