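import Mathlib
import Groth.Agent.Lib.Helper31.DY1

/-!
# Solving `a_ij x_i - a_ji x_j = e_ij` on a Dynkin diagram by peeling off good vertices
-/

set_option autoImplicit false
set_option linter.unusedSectionVars false

namespace Groth.Agent.Lib.Helper31.DY

open Set Function Submodule Module
open scoped Classical

universe u v w x
variable {ι : Type u} {R : Type v} {M : Type w} {N : Type x} [CommRing R] [IsDomain R] [CharZero R]
  [AddCommGroup M] [Module R M] [AddCommGroup N] [Module R N] (P : RootPairing ι R M N)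
  [Finite ι] [P.IsCrystallographic]

theorem exists_x (b : P.Base) (e : ι → ι → ℤ) (hanti : ∀ i j, e i j = - e j i)
    (hzero : ∀ i ∈ b.support, ∀ j ∈ b.support, i ≠ j → P.pairingIn ℤ i j = 0 → e i j = 0) :
    ∀ (n : ℕ) (S : Finset ι), S.card = n → S ⊆ b.support →
      ∃ x : ι → ℤ, ∀ i ∈ S, ∀ j ∈ S, i ≠ j →
        P.pairingIn ℤ i j * x i - P.pairingIn ℤ j i * x j = e i j := by
  have : IsReflexive R M := .of_isPerfPair P.toLinearMap
  have : IsReflexive R N := .of_isPerfPair P.flip.toLinearMap
  intro n
  induction n with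
  | zero =>
    intro S hS _
    rw [Finset.card_eq_zero] at hS
    subst hS
    exact ⟨fun _ => 0, by simp⟩
  | succ n ih =>
    intro S hcard hS
    have hne : S.Nonempty := by
      rw [← Finset.card_pos]; omega
    obtain ⟨i0, hi0, hgood⟩ := exists_good P b S hS hne
    have hcard' : (S.erase i0).card = n := by
      rw [Finset.card_erase_of_mem hi0]; omega
    obtain ⟨x', hx'⟩ := ih (S.erase i0) hcard' ((Finset.erase_subset _ _).trans hS)
    -- the value at `i0`
    have hval : ∃ t : ℤ, ∀ j ∈ S, j ≠ i0 →
        P.pairingIn ℤ i0 j * t - P.pairingIn ℤ j i0 * x' j = e i0 j := by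
      rcases hgood with h0 | ⟨j0, hj0, ha⟩
      · refine ⟨0, ?_⟩
        intro j hj hji
        have h1 : P.pairingIn ℤ i0 j = 0 := by
          by_contra h
          have : j ∈ nbr P S i0 := (mem_nbr P).mpr ⟨hj, hji, h⟩
          rw [h0] at this
          exact absurd this (Finset.notMem_empty _)
        have h2 : P.pairingIn ℤ j i0 = 0 := (P.pairingIn_eq_zero_iff (S := ℤ)).mp h1
        rw [h1, h2, hzero i0 (hS hi0) j (hS hj) hji.symm h1]; ring
      · refine ⟨- e i0 j0 - P.pairingIn ℤ j0 i0 * x' j0, ?_⟩
        intro j hj hji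
        by_cases hjj : j = j0
        · subst hjj
          rw [ha]; ring
        · have h1 : P.pairingIn ℤ i0 j = 0 := by
            by_contra h
            have : j ∈ nbr P S i0 := (mem_nbr P).mpr ⟨hj, hji, h⟩
            rw [hj0, Finset.mem_singleton] at this
            exact hjj this
          have h2 : P.pairingIn ℤ j i0 = 0 := (P.pairingIn_eq_zero_iff (S := ℤ)).mp h1
          rw [h1, h2, hzero i0 (hS hi0) j (hS hj) hji.symm h1]; ring
    obtain ⟨t, ht⟩ := hval
    refine ⟨Function.update x' i0 t, ?_⟩
    intro i hi j hj hij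
    by_cases h1 : i = i0
    · subst h1
      have hj' : j ≠ i := hij.symm
      rw [Function.update_self, Function.update_of_ne hj']
      exact ht j hj hj'
    · by_cases h2 : j = i0
      · subst h2
        rw [Function.update_self, Function.update_of_ne h1]
        have := ht i hi h1
        rw [hanti i j]
        linarith
      · rw [Function.update_of_ne h1, Function.update_of_ne h2]
        exact hx' i (Finset.mem_erase.mpr ⟨h1, hi⟩) j (Finset.mem_erase.mpr ⟨h2, hj⟩) hij

theorem exists_C (b : P.Base) (d : ι → ι → ℤ)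
    (hd : ∀ i ∈ b.support, ∀ j ∈ b.support, i ≠ j → P.pairingIn ℤ i j = 0 → d i j = d j i) :
    ∃ C : ι → ι → ℤ, ∀ i ∈ b.support, ∀ j ∈ b.support, i ≠ j →
      C i j + C j i - P.pairingIn ℤ j i * C j j = d i j := by
  obtain ⟨x, hx⟩ := exists_x P b (fun i j => d i j - d j i) (fun i j => by ring)
    (fun i hi j hj hij h0 => by rw [hd i hi j hj hij h0]; ring) _ b.support rfl subset_rfl
  obtain ⟨n, ⟨f⟩⟩ := Finite.exists_equiv_fin ι
  refine ⟨fun i j => if i = j then x i else
    if f i < f j then d i j + P.pairingIn ℤ j i * x j else 0, ?_⟩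
  intro i hi j hj hij
  have hfij : f i ≠ f j := fun h => hij (f.injective h)
  simp only [if_true, if_neg hij, if_neg hij.symm]
  rcases lt_or_gt_of_ne hfij with h | h
  · rw [if_pos h, if_neg (not_lt.mpr h.le)]; ring
  · rw [if_neg (not_lt.mpr h.le), if_pos h]
    have := hx i hi j hj hij
    linarith

end Groth.Agent.Lib.Helper31.DY
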