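import Mathlib
import Groth.Prelude.Def_W4c6eohyperellchar2Gc

set_option autoImplicit false
set_option linter.unusedSectionVars false
universe u

namespace Groth.Agent.Lib.Helper31.DieuGc

open W4c6eohyperellchar2

variable (c : ℕ) (k : Type u) [Field k] [CharP k 2] [PerfectRing k 2]

lemma coefX_X (n m : ℕ) : coefX (X c k n) m = if m = n ∧ 1 ≤ m ∧ m ≤ c then 1 else 0 := by
  unfold coefX X
  by_cases h : 1 ≤ m ∧ m ≤ c
  · rw [dif_pos h]
    simp only
    by_cases h2 : m = n
    · subst h2
      rw [if_pos (by omega), if_pos ⟨rfl, h⟩]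
    · rw [if_neg (by omega), if_neg (by tauto)]
  · rw [dif_neg h, if_neg (by tauto)]

lemma coefX_Y (n m : ℕ) : coefX (Y c k n) m = 0 := by
  unfold coefX Y
  split_ifs <;> rfl

lemma coefY_X (n m : ℕ) : coefY (X c k n) m = 0 := by
  unfold coefY X
  split_ifs <;> rfl

lemma coefY_Y (n m : ℕ) : coefY (Y c k n) m = if m = n ∧ 1 ≤ m ∧ m ≤ c then 1 else 0 := by
  unfold coefY Y
  by_cases h : 1 ≤ m ∧ m ≤ c
  · rw [dif_pos h]
    simp only
    by_cases h2 : m = n
    · subst h2
      rw [if_pos (by omega), if_pos ⟨rfl, h⟩]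
    · rw [if_neg (by omega), if_neg (by tauto)]
  · rw [dif_neg h, if_neg (by tauto)]

lemma F_X_even (j : ℕ) (hj : Even j) (hjc : j ≤ c) : F c k (X c k j) = X c k (j / 2) := by
  obtain ⟨m, rfl⟩ := hj
  unfold F
  refine Prod.ext ?_ ?_
  · funext i
    simp only [coefX_X]
    unfold X
    simp only
    by_cases h : i.val + 1 = (m + m) / 2
    · rw [if_pos h, if_pos (by omega)]; simp
    · rw [if_neg h, if_neg (by omega)]; simp
  · funext i
    simp only [coefX_X]
    unfold X
    simp only
    rw [if_neg (by omega)]; simp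

lemma F_X_odd (j : ℕ) (hj : Odd j) (hjc : j ≤ c) :
    F c k (X c k j) = Y c k (c - (j - 1) / 2) := by
  obtain ⟨m, rfl⟩ := hj
  unfold F
  refine Prod.ext ?_ ?_
  · funext i
    simp only [coefX_X]
    unfold Y
    simp only
    rw [if_neg (by omega)]; simp
  · funext i
    simp only [coefX_X]
    unfold Y
    simp only
    have hi := i.2
    by_cases h : i.val + 1 = c - (2 * m + 1 - 1) / 2
    · rw [if_pos h, if_pos (by omega)]; simp
    · rw [if_neg h, if_neg (by omega)]; simp

lemma V_Y (j : ℕ) : V c k (Y c k j) = Y c k (2 * j) := by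
  unfold V
  refine Prod.ext ?_ ?_
  · rfl
  · funext i
    simp only [coefX_Y, coefY_Y, map_zero]
    unfold Y
    simp only
    have hi := i.2
    by_cases h : i.val + 1 = 2 * j
    · rw [if_pos h, if_pos (by omega), if_pos (by omega)]; simp
    · rw [if_neg h]
      split_ifs with h1 h2
      · omega
      · simp
      · rfl

lemma V_X (j : ℕ) (hj : 1 ≤ j) (hjc : j ≤ c) : V c k (X c k j) = Y c k (2 * c - 2 * j + 1) := by
  unfold V
  refine Prod.ext ?_ ?_
  · rfl
  · funext i
    simp only [coefX_X, coefY_X, map_zero]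
    unfold Y
    simp only
    have hi := i.2
    by_cases h : i.val + 1 = 2 * c - 2 * j + 1
    · rw [if_pos h, if_neg (by omega), if_pos (by omega)]; simp
    · rw [if_neg h]
      split_ifs with h1 h2
      · rfl
      · omega
      · simp

lemma F_zero : F c k 0 = 0 := by
  unfold F coefX
  refine Prod.ext ?_ ?_ <;> funext i <;> simp

lemma X_of_lt (j : ℕ) (h : c < j) : X c k j = 0 := by
  unfold X
  refine Prod.ext ?_ rfl
  funext i
  have := i.2
  simp only
  rw [if_neg (by omega)]; rfl

lemma Y_of_lt (j : ℕ) (h : c < j) : Y c k j = 0 := by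
  unfold Y
  refine Prod.ext rfl ?_
  funext i
  have := i.2
  simp only
  rw [if_neg (by omega)]; rfl

lemma V_iter_Y (n j : ℕ) : (V c k)^[n] (Y c k j) = Y c k (2 ^ n * j) := by
  induction n generalizing j with
  | zero => simp
  | succ n ih =>
    rw [Function.iterate_succ_apply, V_Y, ih]
    congr 1
    ring

lemma F_iter_X (e l : ℕ) (h : 2 ^ e * l ≤ c) : (F c k)^[e] (X c k (2 ^ e * l)) = X c k l := by
  induction e with
  | zero => simp
  | succ e ih =>
    have h1 : 2 ^ (e + 1) * l = 2 * (2 ^ e * l) := by ring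
    rw [Function.iterate_succ_apply, F_X_even c k _ ⟨2 ^ e * l, by rw [h1]; ring⟩ h]
    rw [h1, Nat.mul_div_cancel_left _ (by norm_num : 0 < 2)]
    exact ih (by omega)

lemma add_self (v : GcMod c k) : v + v = 0 := by
  refine Prod.ext ?_ ?_ <;> funext i <;> simp [CharTwo.add_self_eq_zero]

theorem S19041
    (j e l : ℕ) (hj : j = 2 ^ e * l) (hl : Odd l) (hjc : j ≤ c) (hcj : c < 2 * j)
    (j' n : ℕ) (hj'c : j' ≤ c) (hcj' : c < 2 * j')
    (hn : 2 ^ n * (2 * c - 2 * j' + 1) = c - (l - 1) / 2) :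
    (F c k)^[e + 1] (X c k j) + (V c k)^[n + 1] (X c k j') = 0 := by
  subst hj
  have hlc : l ≤ c := by
    have : 1 ≤ 2 ^ e := Nat.one_le_two_pow
    nlinarith
  rw [Function.iterate_succ_apply', F_iter_X c k e l hjc, F_X_odd c k l hl hlc,
    Function.iterate_succ_apply, V_X c k j' (by omega) hj'c, V_iter_Y, hn]
  exact add_self c k _

end Groth.Agent.Lib.Helper31.DieuGc
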