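import Mathlib
import Groth.Prelude.Def_W4c6eohyperellchar2Gc
import Groth.Agent.Lib.Helper31.DieuGc

set_option autoImplicit false
set_option linter.unusedSectionVars false
universe u

namespace Groth.Agent.Lib.Helper31.DieuGc

open W4c6eohyperellchar2

variable (c : ℕ) (k : Type u) [Field k] [CharP k 2] [PerfectRing k 2]

lemma decomp (v : GcMod c k) :
    v = ∑ i : Fin c, (v.1 i • X c k (i.val + 1) + v.2 i • Y c k (i.val + 1)) := by
  refine Prod.ext ?_ ?_
  · funext i
    rw [Prod.fst_sum, Finset.sum_apply]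
    simp only [X, Y, Prod.fst_add, Prod.smul_fst, Pi.add_apply, Pi.smul_apply, smul_eq_mul,
      Pi.zero_apply, mul_zero, add_zero, add_left_inj, mul_ite, mul_one]
    rw [Finset.sum_eq_single i]
    · simp
    · intro j _ hj
      rw [if_neg]
      intro h
      exact hj (Fin.ext h.symm)
    · intro h
      exact absurd (Finset.mem_univ i) h
  · funext i
    rw [Prod.snd_sum, Finset.sum_apply]
    simp only [X, Y, Prod.snd_add, Prod.smul_snd, Pi.add_apply, Pi.smul_apply, smul_eq_mul,
      Pi.zero_apply, mul_zero, zero_add, add_left_inj, mul_ite, mul_one]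
    rw [Finset.sum_eq_single i]
    · simp
    · intro j _ hj
      rw [if_neg]
      intro h
      exact hj (Fin.ext h.symm)
    · intro h
      exact absurd (Finset.mem_univ i) h

/-- every `Y i` (`1 ≤ i ≤ c`) is `V^[n+1] (X j)` for some `1 ≤ j ≤ c` with `c < 2j`. -/
lemma exists_Y_eq (i : ℕ) (hi : 1 ≤ i) (hic : i ≤ c) :
    ∃ n j, 1 ≤ j ∧ j ≤ c ∧ c < 2 * j ∧ Y c k i = (V c k)^[n + 1] (X c k j) := by
  obtain ⟨n, m, hm, rfl⟩ := Nat.exists_eq_two_pow_mul_odd (n := i) (by omega)
  obtain ⟨t, rfl⟩ := hm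
  have h2 : 1 ≤ 2 ^ n := Nat.one_le_two_pow
  have hmc : 2 * t + 1 ≤ c := by nlinarith
  refine ⟨n, c - t, by omega, by omega, by omega, ?_⟩
  rw [Function.iterate_succ_apply, V_X c k (c - t) (by omega) (by omega), V_iter_Y]
  congr 2
  omega

theorem S19042 (N : Submodule k (GcMod c k))
    (hF : ∀ v ∈ N, F c k v ∈ N) (hV : ∀ v ∈ N, V c k v ∈ N)
    (hX : ∀ j : ℕ, c < 2 * j → j ≤ c → X c k j ∈ N) : N = ⊤ := by
  have h1 : ∀ d j : ℕ, c - j = d → 1 ≤ j → j ≤ c → X c k j ∈ N := by
    intro d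
    induction d using Nat.strong_induction_on with
    | _ d ih =>
      intro j hd hj hjc
      by_cases h : c < 2 * j
      · exact hX j h hjc
      · have := ih (c - 2 * j) (by omega) (2 * j) rfl (by omega) (by omega)
        have h2 := hF _ this
        rwa [F_X_even c k (2 * j) ⟨j, by ring⟩ (by omega),
          Nat.mul_div_cancel_left _ (by norm_num : 0 < 2)] at h2
  have hVn : ∀ n : ℕ, ∀ v ∈ N, (V c k)^[n] v ∈ N := by
    intro n
    induction n with
    | zero => intro v hv; exact hv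
    | succ n ih =>
      intro v hv
      rw [Function.iterate_succ_apply']
      exact hV _ (ih v hv)
  have h2 : ∀ i : ℕ, 1 ≤ i → i ≤ c → Y c k i ∈ N := by
    intro i hi hic
    obtain ⟨n, j, hj, hjc, -, h⟩ := exists_Y_eq c k i hi hic
    rw [h]
    exact hVn _ _ (h1 _ j rfl hj hjc)
  rw [eq_top_iff]
  intro v _
  rw [decomp c k v]
  refine Submodule.sum_mem _ fun i _ => ?_
  have := i.2
  exact N.add_mem (N.smul_mem _ (h1 _ _ rfl (by omega) (by omega)))
    (N.smul_mem _ (h2 _ (by omega) (by omega)))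

end Groth.Agent.Lib.Helper31.DieuGc
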