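import Mathlib
import Groth.Prelude.Def_W4c6eohyperellchar2Gc
import Groth.Agent.Lib.Helper31.DieuGc2

set_option autoImplicit false
set_option linter.unusedSectionVars false
universe u

namespace Groth.Agent.Lib.Helper31.DieuGc

open W4c6eohyperellchar2

variable (c : ℕ) (k : Type u) [Field k] [CharP k 2] [PerfectRing k 2]

/-- the index type of generators -/
abbrev J (c : ℕ) : Type := {j : ℕ // c < 2 * j ∧ j ≤ c}

/-- the span of the images of `F` and `V` -/
noncomputable abbrev S : Submodule k (GcMod c k) :=
  Submodule.span k (Set.range (F c k) ∪ Set.range (V c k))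

/-- projection to the coordinates `X_j`, `c < 2j ≤ 2c` -/
noncomputable def proj : GcMod c k →ₗ[k] (J c → k) where
  toFun v j := coefX v j.1
  map_add' v w := by
    funext j
    have := j.2
    simp only [coefX, Pi.add_apply]
    rw [dif_pos (by omega), dif_pos (by omega), dif_pos (by omega)]
    rfl
  map_smul' a v := by
    funext j
    have := j.2
    simp only [coefX, Pi.smul_apply, RingHom.id_apply]
    rw [dif_pos (by omega), dif_pos (by omega)]
    rfl

lemma proj_X (j : J c) : proj c k (X c k j.1) = Pi.single j 1 := by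
  funext j'
  have h1 := j.2
  have h2 := j'.2
  change coefX (X c k j.1) j'.1 = _
  rw [coefX_X]
  by_cases h : j' = j
  · subst h
    rw [if_pos ⟨rfl, by omega, by omega⟩, Pi.single_eq_same]
  · rw [if_neg (fun h' => h (Subtype.ext h'.1)), Pi.single_eq_of_ne h]

lemma S_le_ker : S c k ≤ LinearMap.ker (proj c k) := by
  rw [Submodule.span_le]
  rintro _ (⟨v, rfl⟩ | ⟨v, rfl⟩)
  · rw [SetLike.mem_coe, LinearMap.mem_ker]
    funext j
    have h2 := j.2
    change coefX (F c k v) j.1 = 0
    unfold coefX
    rw [dif_pos (by omega)]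
    simp only [F]
    unfold coefX
    rw [dif_neg (by omega)]
    simp
  · rw [SetLike.mem_coe, LinearMap.mem_ker]
    funext j
    have h2 := j.2
    change coefX (V c k v) j.1 = 0
    unfold coefX
    rw [dif_pos (by omega)]
    rfl

theorem S19043 :
    LinearIndependent k (fun j : {j : ℕ // c < 2 * j ∧ j ≤ c} =>
        Submodule.mkQ (Submodule.span k (Set.range (F c k) ∪ Set.range (V c k))) (X c k j.1)) ∧
      Submodule.span k (Set.range (fun j : {j : ℕ // c < 2 * j ∧ j ≤ c} =>
        Submodule.mkQ (Submodule.span k (Set.range (F c k) ∪ Set.range (V c k))) (X c k j.1))) = ⊤ := by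
  classical
  constructor
  · apply LinearIndependent.of_comp ((S c k).liftQ (proj c k) (S_le_ker c k))
    have : (⇑((S c k).liftQ (proj c k) (S_le_ker c k)) ∘ fun j : J c =>
        Submodule.mkQ (S c k) (X c k j.1)) = fun j => Pi.single j (1 : k) := by
      funext j
      simp only [Function.comp_apply, Submodule.mkQ_apply, Submodule.liftQ_apply]
      exact proj_X c k j
    rw [this]
    exact Pi.linearIndependent_single_one _ _
  · rw [eq_top_iff]
    intro q _
    obtain ⟨v, rfl⟩ := Submodule.mkQ_surjective _ q
    rw [decomp c k v, map_sum]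
    refine Submodule.sum_mem _ fun i _ => ?_
    have hi := i.2
    rw [map_add, map_smul, map_smul]
    have hY : Submodule.mkQ (S c k) (Y c k (i.val + 1)) = 0 := by
      rw [Submodule.mkQ_apply, Submodule.Quotient.mk_eq_zero]
      obtain ⟨n, j, -, -, -, h⟩ := exists_Y_eq c k (i.val + 1) (by omega) (by omega)
      rw [h, Function.iterate_succ_apply']
      exact Submodule.subset_span (Or.inr ⟨_, rfl⟩)
    rw [hY, smul_zero, add_zero]
    by_cases h : c < 2 * (i.val + 1)
    · exact Submodule.smul_mem _ _ (Submodule.subset_span ⟨⟨i.val + 1, h, by omega⟩, rfl⟩)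
    · have hX : Submodule.mkQ (S c k) (X c k (i.val + 1)) = 0 := by
        rw [Submodule.mkQ_apply, Submodule.Quotient.mk_eq_zero]
        have := F_X_even c k (2 * (i.val + 1)) ⟨i.val + 1, by ring⟩ (by omega)
        rw [Nat.mul_div_cancel_left _ (by norm_num : 0 < 2)] at this
        rw [← this]
        exact Submodule.subset_span (Or.inl ⟨_, rfl⟩)
      rw [hX, smul_zero]
      exact Submodule.zero_mem _

end Groth.Agent.Lib.Helper31.DieuGc
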