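import Mathlib
import Groth.Prelude.Def_W4c6eohyperellchar2Gc
import Groth.Agent.Lib.Helper31.DieuGc2

set_option autoImplicit false
set_option linter.unusedSectionVars false
universe u

namespace Groth.Agent.Lib.Helper31.DieuGc

open W4c6eohyperellchar2

variable (c : ℕ) (k : Type u) [Field k] [CharP k 2] [PerfectRing k 2]

lemma mem_Nfil_iff (i : ℕ) (v : GcMod c k) :
    v ∈ Nfil c k i ↔ (∀ t : Fin c, min i c < t.val + 1 → v.2 t = 0) ∧
      (∀ t : Fin c, t.val + 1 ≤ 2 * c - i → v.1 t = 0) := by
  constructor
  · intro hv
    unfold Nfil at hv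
    induction hv using Submodule.span_induction with
    | mem x hx =>
      rcases hx with ⟨n, hn, rfl⟩ | ⟨n, hn, rfl⟩
      · simp only [Set.mem_Icc] at hn
        refine ⟨fun t ht => ?_, fun t _ => rfl⟩
        simp only [Y]
        rw [if_neg (by omega)]
      · simp only [Set.mem_Ioc] at hn
        refine ⟨fun t _ => rfl, fun t ht => ?_⟩
        simp only [X]
        rw [if_neg (by omega)]
    | zero => exact ⟨fun _ _ => rfl, fun _ _ => rfl⟩
    | add x y _ _ hx hy =>
      refine ⟨fun t ht => ?_, fun t ht => ?_⟩
      · rw [Prod.snd_add, Pi.add_apply, hx.1 t ht, hy.1 t ht, add_zero]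
      · rw [Prod.fst_add, Pi.add_apply, hx.2 t ht, hy.2 t ht, add_zero]
    | smul a x _ hx =>
      refine ⟨fun t ht => ?_, fun t ht => ?_⟩
      · rw [Prod.smul_snd, Pi.smul_apply, hx.1 t ht, smul_zero]
      · rw [Prod.smul_fst, Pi.smul_apply, hx.2 t ht, smul_zero]
  · rintro ⟨h1, h2⟩
    rw [decomp c k v]
    refine Submodule.sum_mem _ fun t _ => ?_
    have ht := t.2
    refine Submodule.add_mem _ ?_ ?_
    · by_cases h : t.val + 1 ≤ 2 * c - i
      · rw [h2 t h, zero_smul]; exact Submodule.zero_mem _
      · refine Submodule.smul_mem _ _ (Submodule.subset_span (Or.inr ⟨t.val + 1, ?_, rfl⟩))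
        simp only [Set.mem_Ioc]
        omega
    · by_cases h : min i c < t.val + 1
      · rw [h1 t h, zero_smul]; exact Submodule.zero_mem _
      · refine Submodule.smul_mem _ _ (Submodule.subset_span (Or.inl ⟨t.val + 1, ?_, rfl⟩))
        simp only [Set.mem_Icc]
        omega

lemma Nfil_mono {i i' : ℕ} (h : i ≤ i') : Nfil c k i ≤ Nfil c k i' := by
  intro v hv
  rw [mem_Nfil_iff] at hv ⊢
  exact ⟨fun t ht => hv.1 t (by omega), fun t ht => hv.2 t (by omega)⟩

lemma X_mem_Nfil (i n : ℕ) (h1 : 2 * c - i < n) (h2 : n ≤ c) : X c k n ∈ Nfil c k i :=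
  Submodule.subset_span (Or.inr ⟨n, ⟨h1, h2⟩, rfl⟩)

lemma Y_mem_Nfil (i n : ℕ) (h1 : 1 ≤ n) (h2 : n ≤ min i c) : Y c k n ∈ Nfil c k i :=
  Submodule.subset_span (Or.inl ⟨n, ⟨h1, h2⟩, rfl⟩)

/-- the third claim: `NF⁻¹ N_i = N_{c + ⌈i/2⌉}` -/
theorem NF_preimage (a : ℕ → k) (ha : a c ≠ 0) (i : ℕ) (hi : i ≤ 2 * c) :
    NF c k a ⁻¹' (Nfil c k i : Set (GcMod c k)) = (Nfil c k (c + (i + 1) / 2) : Set (GcMod c k)) := by
  ext v
  simp only [Set.mem_preimage, SetLike.mem_coe]
  rw [mem_Nfil_iff, mem_Nfil_iff]
  constructor
  · rintro ⟨hB, hA⟩
    refine ⟨fun t ht => ?_, ?_⟩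
    · have := t.2
      omega
    · -- strong induction on the position
      have key : ∀ n : ℕ, ∀ t : Fin c, t.val = n → t.val + 1 ≤ 2 * c - (c + (i + 1) / 2) →
          v.1 t = 0 := by
        intro n
        induction n using Nat.strong_induction_on with
        | _ n ih =>
          intro t htn ht
          have htc := t.2
          by_cases h2 : 2 * (t.val + 1) ≤ c
          · have := hA ⟨2 * (t.val + 1) - 1, by omega⟩ (by simp only; omega)
            simp only [NF] at this
            rw [if_pos (by omega)] at this
            unfold coefX at this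
            rw [dif_pos (by omega)] at this
            have h3 : (⟨(2 * (t.val + 1) - 1 + 1) / 2 - 1, by omega⟩ : Fin c) = t := by
              apply Fin.ext
              simp only
              omega
            rw [h3] at this
            exact pow_eq_zero_iff (by norm_num) |>.mp this
          · have := hB ⟨2 * (c - (t.val + 1)), by omega⟩ (by simp only; omega)
            simp only [NF] at this
            rw [if_pos (by omega)] at this
            rw [Finset.sum_eq_single t] at this
            · rw [if_pos ⟨by omega, by omega⟩] at this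
              have h4 : t.val + 1 + 2 * (c - (t.val + 1)) / 2 = c := by omega
              rw [h4] at this
              rcases mul_eq_zero.mp this with h5 | h5
              · exact pow_eq_zero_iff (by norm_num) |>.mp h5
              · exact absurd h5 ha
            · intro j _ hj
              have hjc := j.2
              by_cases h6 : j.val < t.val
              · rw [ih j.val (by omega) j rfl (by omega)]
                simp
              · rw [if_neg]
                rintro ⟨_, h7⟩
                have : j.val ≠ t.val := fun h => hj (Fin.ext h)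
                omega
            · intro h
              exact absurd (Finset.mem_univ t) h
      exact fun t ht => key t.val t rfl ht
  · rintro ⟨-, h⟩
    refine ⟨fun t ht => ?_, fun t ht => ?_⟩
    · have htc := t.2
      simp only [NF]
      split_ifs with h1
      · refine Finset.sum_eq_zero fun j _ => ?_
        split_ifs with h2
        · rw [h j (by omega)]
          simp
        · rfl
      · rfl
    · have htc := t.2
      simp only [NF]
      split_ifs with h1
      · unfold coefX
        rw [dif_pos (by omega)]
        rw [h _ (by simp only; omega)]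
        simp
      · rfl

end Groth.Agent.Lib.Helper31.DieuGc
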