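import Mathlib
import Groth.Prelude.Def_W4c6eohyperellchar2Gc
import Groth.Agent.Lib.Helper31.DieuGc4

set_option autoImplicit false
set_option linter.unusedSectionVars false
universe u

namespace Groth.Agent.Lib.Helper31.DieuGc

open W4c6eohyperellchar2

variable (c : ℕ) (k : Type u) [Field k] [CharP k 2] [PerfectRing k 2]

/-- inverse Frobenius as a ring hom -/
noncomputable abbrev phi : k →+* k := ((frobeniusEquiv k 2).symm : k →+* k)

instance : RingHomSurjective (phi k) := ⟨(frobeniusEquiv k 2).symm.surjective⟩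

lemma coefY_add (v w : GcMod c k) (n : ℕ) : coefY (v + w) n = coefY v n + coefY w n := by
  unfold coefY
  split_ifs
  · rfl
  · simp

lemma coefY_smul (r : k) (v : GcMod c k) (n : ℕ) : coefY (r • v) n = r * coefY v n := by
  unfold coefY
  split_ifs
  · rfl
  · simp

/-- `NV` as a semilinear map -/
noncomputable def NVl (a : ℕ → k) : GcMod c k →ₛₗ[phi k] GcMod c k where
  toFun := NV c k a
  map_add' v w := by
    refine Prod.ext ?_ ?_
    · simp [NV]
    · funext t
      simp only [NV, coefY_add, map_add, Prod.fst_add, Pi.add_apply, Prod.snd_add, add_mul]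
      rw [add_add_add_comm, ← Finset.sum_add_distrib]
      congr 1
      refine Finset.sum_congr rfl fun j _ => ?_
      split_ifs <;> simp
  map_smul' r v := by
    refine Prod.ext ?_ ?_
    · simp [NV]
    · funext t
      simp only [NV, coefY_smul, map_mul, Prod.smul_fst, Pi.smul_apply, Prod.smul_snd, smul_eq_mul,
        mul_add, Finset.mul_sum]
      congr 1
      refine Finset.sum_congr rfl fun j _ => ?_
      split_ifs
      · simp [mul_assoc]
      · simp

lemma NVl_apply (a : ℕ → k) (v : GcMod c k) : NVl c k a v = NV c k a v := rfl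

lemma NV_Y_even (a : ℕ → k) (m : ℕ) (hm : 2 * m ≤ c) : NV c k a (Y c k (2 * m)) = Y c k m := by
  refine Prod.ext rfl ?_
  funext t
  have := t.2
  simp only [NV]
  rw [coefY_Y, Finset.sum_eq_zero]
  · simp only [Y]
    by_cases h : t.val + 1 = m
    · rw [if_pos ⟨by omega, by omega, by omega⟩, if_pos h]; simp
    · rw [if_neg (by omega), if_neg h]; simp
  · intro j _
    simp only [Y]
    split_ifs <;> simp

/-- coordinates of `NV σ_j`, `j = 2s+1` -/
lemma NV_X_odd_snd (a : ℕ → k) (s : ℕ) (hs : 2 * s + 1 ≤ c) (t : Fin c) :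
    (NV c k a (X c k (2 * s + 1))).2 t =
      if t.val + 1 + s ≤ c then (frobeniusEquiv k 2).symm (a (t.val + 1 + s)) else 0 := by
  have := t.2
  simp only [NV]
  rw [coefY_X, map_zero, zero_add]
  rw [Finset.sum_eq_single ⟨2 * s, by omega⟩]
  · simp only [X]
    have h1 : 2 * s / 2 = s := by omega
    rw [h1]
    split_ifs with h2 h3 h3
    · simp
    · omega
    · omega
    · rfl
  · intro j _ hj
    have : j.val ≠ 2 * s := fun h => hj (Fin.ext h)
    simp only [X]
    split_ifs with h2 h3
    · omega
    · simp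
    · rfl
  · intro h
    exact absurd (Finset.mem_univ _) h

end Groth.Agent.Lib.Helper31.DieuGc

namespace Groth.Agent.Lib.Helper31.DieuGc

open W4c6eohyperellchar2

variable (c : ℕ) (k : Type u) [Field k] [CharP k 2] [PerfectRing k 2]

lemma NV_mem_Nfil (a : ℕ → k) (i : ℕ) (v : GcMod c k) (hv : v ∈ Nfil c k i) :
    NV c k a v ∈ Nfil c k (i / 2) := by
  rw [mem_Nfil_iff] at hv ⊢
  refine ⟨fun t ht => ?_, fun t _ => rfl⟩
  have htc := t.2
  simp only [NV]
  have h1 : coefY v (2 * (t.val + 1)) = 0 := by
    unfold coefY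
    split_ifs with h
    · exact hv.1 _ (by simp only; omega)
    · rfl
  rw [h1, map_zero, zero_add]
  refine Finset.sum_eq_zero fun j _ => ?_
  split_ifs with h2
  · rw [hv.2 j (by omega)]
    simp
  · rfl

lemma Y_mem_map (a : ℕ → k) (ha : a c ≠ 0) :
    ∀ m : ℕ, 1 ≤ m → m ≤ c → Y c k m ∈ (Nfil c k (2 * m)).map (NVl c k a) := by
  intro m
  induction m using Nat.strong_induction_on with
  | _ m ih =>
    intro hm hmc
    by_cases h : 2 * m ≤ c
    · refine ⟨Y c k (2 * m), Y_mem_Nfil c k _ _ (by omega) (by omega), ?_⟩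
      rw [NVl_apply, NV_Y_even c k a m h]
    · set s := c - m with hs
      set W := (Nfil c k (2 * m)).map (NVl c k a) with hW
      set u := NVl c k a (X c k (2 * s + 1)) with hu
      have huW : u ∈ W :=
        ⟨X c k (2 * s + 1), X_mem_Nfil c k _ _ (by omega) (by omega), rfl⟩
      have hu1 : u.1 = 0 := rfl
      have hu2 : ∀ t : Fin c, u.2 t =
          if t.val + 1 + s ≤ c then (frobeniusEquiv k 2).symm (a (t.val + 1 + s)) else 0 :=
        fun t => NV_X_odd_snd c k a s (by omega) t
      have hdec : u = ∑ t : Fin c, u.2 t • Y c k (t.val + 1) := by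
        conv_lhs => rw [decomp c k u]
        refine Finset.sum_congr rfl fun t _ => ?_
        rw [hu1]
        simp
      let t0 : Fin c := ⟨m - 1, by omega⟩
      have hsplit := Finset.add_sum_erase Finset.univ (fun t : Fin c => u.2 t • Y c k (t.val + 1))
        (Finset.mem_univ t0)
      rw [← hdec] at hsplit
      have hrest : ∑ t ∈ Finset.univ.erase t0, u.2 t • Y c k (t.val + 1) ∈ W := by
        refine Submodule.sum_mem _ fun t ht => ?_
        have htc := t.2
        have hne : t.val ≠ m - 1 := fun h' => (Finset.ne_of_mem_erase ht) (Fin.ext h')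
        by_cases h3 : t.val + 1 < m
        · refine Submodule.smul_mem _ _ ?_
          have := ih (t.val + 1) h3 (by omega) (by omega)
          exact Submodule.map_mono (Nfil_mono c k (by omega)) this
        · rw [hu2 t, if_neg (by omega), zero_smul]
          exact Submodule.zero_mem _
      have h0 : u.2 t0 • Y c k (t0.val + 1) ∈ W := by
        have : u.2 t0 • Y c k (t0.val + 1) =
            u - ∑ t ∈ Finset.univ.erase t0, u.2 t • Y c k (t.val + 1) :=
          eq_sub_of_add_eq hsplit
        rw [this]
        exact Submodule.sub_mem _ huW hrest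
      have h4 : t0.val + 1 = m := by simp only [t0]; omega
      rw [hu2 t0, h4, if_pos (by omega)] at h0
      have h5 : m + s = c := by omega
      rw [h5] at h0
      have h6 : (frobeniusEquiv k 2).symm (a c) ≠ 0 := by
        rw [Ne, EmbeddingLike.map_eq_zero_iff]
        exact ha
      have := Submodule.smul_mem W ((frobeniusEquiv k 2).symm (a c))⁻¹ h0
      rwa [smul_smul, inv_mul_cancel₀ h6, one_smul] at this

theorem NV_image (a : ℕ → k) (ha : a c ≠ 0) (i : ℕ) (hi : i ≤ 2 * c) :
    NV c k a '' (Nfil c k i : Set (GcMod c k)) = (Nfil c k (i / 2) : Set (GcMod c k)) := by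
  apply Set.Subset.antisymm
  · rintro _ ⟨v, hv, rfl⟩
    exact NV_mem_Nfil c k a i v hv
  · have : Nfil c k (i / 2) ≤ (Nfil c k i).map (NVl c k a) := by
      conv_lhs => unfold Nfil
      rw [Submodule.span_le]
      rintro _ (⟨n, hn, rfl⟩ | ⟨n, hn, rfl⟩)
      · simp only [Set.mem_Icc] at hn
        exact Submodule.map_mono (Nfil_mono c k (by omega))
          (Y_mem_map c k a ha n hn.1 (by omega))
      · simp only [Set.mem_Ioc] at hn
        omega
    intro w hw
    obtain ⟨v, hv, rfl⟩ := this hw
    exact ⟨v, hv, rfl⟩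

end Groth.Agent.Lib.Helper31.DieuGc
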