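import Mathlib
import Groth.Prelude.Def_W4c6eohyperellchar2Gc
import Groth.Agent.Lib.Helper31.DieuGc5

set_option autoImplicit false
set_option linter.unusedSectionVars false
universe u

namespace Groth.Agent.Lib.Helper31.DieuGc

open W4c6eohyperellchar2

variable (c : ℕ) (k : Type u) [Field k] [CharP k 2] [PerfectRing k 2]

/-- the standard basis family -/
def Bfam : Fin c ⊕ Fin c → GcMod c k
  | Sum.inl t => Y c k (t.val + 1)
  | Sum.inr t => X c k (t.val + 1)

lemma Bfam_li : LinearIndependent k (Bfam c k) := by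
  rw [Fintype.linearIndependent_iff]
  intro g hg
  rw [Fintype.sum_sum_type] at hg
  simp only [Bfam] at hg
  have h := decomp c k ((fun t => g (Sum.inr t), fun t => g (Sum.inl t)) : GcMod c k)
  simp only at h
  rw [Finset.sum_add_distrib, add_comm, hg] at h
  intro s
  cases s with
  | inl t => exact congrFun (congrArg Prod.snd h) t
  | inr t => exact congrFun (congrArg Prod.fst h) t

/-- the selection of basis vectors spanning `Nfil i` -/
def gsel (i : ℕ) (hi : i ≤ 2 * c) (t : Fin i) : Fin c ⊕ Fin c :=
  if h : t.val < c then Sum.inl ⟨t.val, h⟩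
  else Sum.inr ⟨2 * c - i + (t.val - c), by have := t.2; omega⟩

lemma gsel_inj (i : ℕ) (hi : i ≤ 2 * c) : Function.Injective (gsel c i hi) := by
  intro t t' h
  unfold gsel at h
  have h1 := t.2
  have h2 := t'.2
  split_ifs at h with h3 h4 h4
  · simp only [Sum.inl.injEq, Fin.mk.injEq] at h
    exact Fin.ext h
  · simp only [Sum.inr.injEq, Fin.mk.injEq] at h
    exact Fin.ext (by omega)

lemma span_sel (i : ℕ) (hi : i ≤ 2 * c) :
    Submodule.span k (Set.range (Bfam c k ∘ gsel c i hi)) = Nfil c k i := by
  apply le_antisymm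
  · rw [Submodule.span_le]
    rintro _ ⟨t, rfl⟩
    have ht := t.2
    simp only [Function.comp_apply, gsel]
    split_ifs with h
    · exact Y_mem_Nfil c k _ _ (by omega) (by simp only; omega)
    · exact X_mem_Nfil c k _ _ (by simp only; omega) (by simp only; omega)
  · unfold Nfil
    rw [Submodule.span_le]
    rintro _ (⟨n, hn, rfl⟩ | ⟨n, hn, rfl⟩)
    · simp only [Set.mem_Icc] at hn
      refine Submodule.subset_span ⟨⟨n - 1, by omega⟩, ?_⟩
      simp only [Function.comp_apply, gsel]
      rw [dif_pos (by omega)]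
      simp only [Bfam]
      congr 1
      omega
    · simp only [Set.mem_Ioc] at hn
      refine Submodule.subset_span ⟨⟨c + (n - 1 - (2 * c - i)), by omega⟩, ?_⟩
      simp only [Function.comp_apply, gsel]
      rw [dif_neg (by omega)]
      simp only [Bfam]
      congr 1
      omega

theorem finrank_Nfil (i : ℕ) (hi : i ≤ 2 * c) : Module.finrank k (Nfil c k i) = i := by
  rw [← span_sel c k i hi]
  rw [finrank_span_eq_card ((Bfam_li c k).comp _ (gsel_inj c i hi))]
  simp

theorem S19048 (a : ℕ → k) (ha : a c ≠ 0) (i : ℕ) (hi : i ≤ 2 * c) :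
    Module.finrank k (Nfil c k i) = i ∧
      NV c k a '' (Nfil c k i : Set (GcMod c k)) = (Nfil c k (i / 2) : Set (GcMod c k)) ∧
      NF c k a ⁻¹' (Nfil c k i : Set (GcMod c k)) =
        (Nfil c k (c + (i + 1) / 2) : Set (GcMod c k)) :=
  ⟨finrank_Nfil c k i hi, NV_image c k a ha i hi, NF_preimage c k a ha i hi⟩

end Groth.Agent.Lib.Helper31.DieuGc
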