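import Mathlib

set_option autoImplicit false

namespace Groth.Agent.Lib.Helper31.ElemInv

open MvPolynomial

variable {κ : Type*} [Field κ] {n : ℕ}

/-- usable elements: the subsemiring generated by `c` is infinite -/
def Usable (c : κ) : Prop := (Subsemiring.closure ({c} : Set κ) : Set κ).Infinite

/-- a Zariski closed subset of `κ^n` stable under the elementary transformations -/
structure Setup (S : Set (Fin n → κ)) : Prop where
  closed : ∃ J : Set (MvPolynomial (Fin n) κ), S = {b | ∀ h ∈ J, MvPolynomial.eval b h = 0}
  inv : ∀ i j : Fin n, i ≠ j → ∀ (d : ℕ) (b : Fin n → κ), b ∈ S →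
    Function.update b i (b i + b j ^ d) ∈ S

/-- a Zariski closed set containing infinitely many points of a coordinate line contains the
line -/
theorem line_of_infinite {S : Set (Fin n → κ)} (hS : Setup S) (b : Fin n → κ) (l : Fin n)
    (hinf : {c : κ | Function.update b l c ∈ S}.Infinite) (c : κ) :
    Function.update b l c ∈ S := by
  classical
  obtain ⟨J, hJ⟩ := hS.closed
  rw [hJ]
  intro h hh
  set q : Polynomial κ := MvPolynomial.eval₂Hom Polynomial.C
    (Function.update (fun m => Polynomial.C (b m)) l Polynomial.X) h with hq
  have key : ∀ c' : κ, q.eval c' = MvPolynomial.eval (Function.update b l c') h := by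
    intro c'
    have : (Polynomial.evalRingHom c').comp (MvPolynomial.eval₂Hom Polynomial.C
        (Function.update (fun m => Polynomial.C (b m)) l Polynomial.X)) =
        MvPolynomial.eval (Function.update b l c') := by
      apply MvPolynomial.ringHom_ext
      · intro r
        simp
      · intro m
        by_cases hm : m = l
        · subst hm
          simp
        · simp [Function.update_of_ne hm]
    rw [hq, ← this]
    rfl
  have hq0 : q = 0 := by
    apply Polynomial.eq_zero_of_infinite_isRoot
    refine hinf.mono ?_
    intro c' hc'
    rw [Set.mem_ofPred_eq, Polynomial.IsRoot, key]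
    have := hc'
    rw [Set.mem_ofPred_eq, hJ] at this
    exact this h hh
  rw [← key, hq0, Polynomial.eval_zero]

/-- the line lemma: a usable coordinate `j` lets one move any other coordinate freely -/
theorem line_of_usable {S : Set (Fin n → κ)} (hS : Setup S) (b : Fin n → κ) (hb : b ∈ S)
    (l j : Fin n) (hlj : l ≠ j) (hu : Usable (b j)) (c : κ) :
    Function.update b l c ∈ S := by
  classical
  have htrans' : ∀ t ∈ AddSubmonoid.closure (Submonoid.closure ({b j} : Set κ) : Set κ),
      ∀ b' ∈ S, b' j = b j → Function.update b' l (b' l + t) ∈ S := by
    intro t ht'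
    induction ht' using AddSubmonoid.closure_induction with
    | mem t ht =>
      intro b' hb' hbj
      obtain ⟨d, rfl⟩ := Submonoid.mem_closure_singleton.mp ht
      rw [← hbj]
      exact hS.inv l j hlj d b' hb'
    | zero =>
      intro b' hb' _
      rw [add_zero, Function.update_eq_self]
      exact hb'
    | add t t' _ _ iht iht' =>
      intro b' hb' hbj
      have h1 := iht b' hb' hbj
      have h2 := iht' _ h1 (by rw [Function.update_of_ne hlj.symm]; exact hbj)
      rw [Function.update_idem, Function.update_self, add_assoc] at h2
      exact h2
  have htrans : ∀ t ∈ Subsemiring.closure ({b j} : Set κ), ∀ b' ∈ S, b' j = b j →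
      Function.update b' l (b' l + t) ∈ S := by
    intro t ht
    apply htrans'
    have := Subsemiring.coe_closure_eq ({b j} : Set κ)
    have h2 : t ∈ (Subsemiring.closure ({b j} : Set κ) : Set κ) := ht
    rw [this] at h2
    exact h2
  apply line_of_infinite hS b l
  have hinj : Function.Injective (fun t : κ => b l + t) := add_right_injective _
  have hinf : ((fun t : κ => b l + t) '' (Subsemiring.closure ({b j} : Set κ) : Set κ)).Infinite :=
    hu.image hinj.injOn
  refine hinf.mono ?_
  rintro _ ⟨t, ht, rfl⟩
  exact htrans t ht b hb rfl

/-- the core lemma -/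
theorem eq_univ {S : Set (Fin n → κ)} (hS : Setup S) (a : Fin n → κ) (ha : a ∈ S)
    (j : Fin n) (hj : Usable (a j)) (i : Fin n) (hij : i ≠ j)
    (hU : {c : κ | Usable c}.Infinite) : S = Set.univ := by
  classical
  rw [Set.eq_univ_iff_forall]
  intro y
  -- a base point with two usable coordinates
  set b := Function.update a i (a j) with hb
  have hbS : b ∈ S := line_of_usable hS a ha i j hij hj (a j)
  have hbi : b i = a j := by rw [hb, Function.update_self]
  have hbj : b j = a j := by rw [hb, Function.update_of_ne hij.symm]
  -- step 1
  have step1 : ∀ L : Finset (Fin n), i ∉ L → j ∉ L →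
      (fun m => if m ∈ L then y m else b m) ∈ S := by
    intro L
    induction L using Finset.induction_on with
    | empty =>
      intro _ _
      simpa using hbS
    | insert l L hl ih =>
      intro hi hj'
      rw [Finset.mem_insert, not_or] at hi hj'
      have hz := ih hi.2 hj'.2
      have hzj : (fun m => if m ∈ L then y m else b m) j = b j := by
        simp [hj'.2]
      have := line_of_usable hS _ hz l j (Ne.symm hj'.1) (by show Usable (if j ∈ L then y j else b j); rw [if_neg hj'.2, hbj]; exact hj) (y l)
      convert this using 1
      funext m
      by_cases hml : m = l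
      · subst hml
        simp
      · rw [Function.update_of_ne hml]
        simp [Finset.mem_insert, hml]
  set L : Finset (Fin n) := Finset.univ.filter (fun m => m ≠ i ∧ m ≠ j) with hL
  have hz := step1 L (by simp [hL]) (by simp [hL])
  set z : Fin n → κ := fun m => if m ∈ L then y m else b m with hzdef
  have hzi : z i = a j := by simp [hzdef, hL, hbi]
  have hzj : z j = a j := by simp [hzdef, hL, hbj]
  have hzm : ∀ m, m ≠ i → m ≠ j → z m = y m := by
    intro m h1 h2
    simp [hzdef, hL, h1, h2]
  -- step 2
  have step2 : ∀ c, Usable c → Function.update (Function.update z j (y j)) i c ∈ S := by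
    intro c hc
    have h1 : Function.update z i c ∈ S :=
      line_of_usable hS z hz i j hij (by rw [hzj]; exact hj) c
    have h2 := line_of_usable hS _ h1 j i hij.symm (by rw [Function.update_self]; exact hc) (y j)
    rw [Function.update_comm hij] at h2
    exact h2
  -- step 3
  have h3 := line_of_infinite hS (Function.update z j (y j)) i (hU.mono fun c hc => step2 c hc) (y i)
  convert h3 using 1
  funext m
  by_cases hmi : m = i
  · subst hmi
    simp
  · rw [Function.update_of_ne hmi]
    by_cases hmj : m = j
    · subst hmj
      simp
    · rw [Function.update_of_ne hmj, hzm m hmi hmj]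

end Groth.Agent.Lib.Helper31.ElemInv
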