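import Mathlib
import Groth.Agent.Lib.Helper31.ElemInv1

set_option autoImplicit false

namespace Groth.Agent.Lib.Helper31.ElemInv

variable {κ : Type*} [Field κ]

theorem usable_of_charZero [CharZero κ] (c : κ) : Usable c := by
  unfold Usable
  refine (Set.infinite_range_of_injective (Nat.cast_injective (R := κ))).mono ?_
  rintro _ ⟨m, rfl⟩
  exact natCast_mem _ m

theorem infinite_of_charZero [CharZero κ] : {c : κ | Usable c}.Infinite := by
  have : {c : κ | Usable c} = Set.univ := by
    ext c
    simp [usable_of_charZero c]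
  rw [this]
  exact Set.infinite_univ

variable (p : ℕ) [Fact p.Prime] [CharP κ p]

theorem good_of_not_usable (c : κ) (hc : ¬ Usable c) : ∃ m : ℕ, 0 < m ∧ c ^ (p ^ m) = c := by
  classical
  unfold Usable at hc
  rw [Set.not_infinite] at hc
  set R := Subsemiring.closure ({c} : Set κ) with hR
  haveI : Finite R := hc.to_subtype
  haveI : Fintype R := Fintype.ofFinite R
  let φ : R → R := fun x => ⟨(x : κ) ^ p, pow_mem x.2 p⟩
  have hφinj : Function.Injective φ := by
    intro x y h
    have h' : (x : κ) ^ p = (y : κ) ^ p := congrArg Subtype.val h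
    exact Subtype.ext (frobenius_inj κ p h')
  have hφbij : Function.Bijective φ := Finite.injective_iff_bijective.mp hφinj
  set σ : Equiv.Perm R := Equiv.ofBijective φ hφbij with hσ
  have hpow : ∀ (m : ℕ) (x : R), (((σ ^ m) x : R) : κ) = (x : κ) ^ (p ^ m) := by
    intro m
    induction m with
    | zero => intro x; simp
    | succ m ih =>
      intro x
      rw [pow_succ', Equiv.Perm.mul_apply]
      change ((((σ ^ m) x : R) : κ)) ^ p = _
      rw [ih, ← pow_mul, ← pow_succ]
  refine ⟨orderOf σ, orderOf_pos σ, ?_⟩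
  have := hpow (orderOf σ) ⟨c, Subsemiring.subset_closure rfl⟩
  rw [pow_orderOf_eq_one] at this
  exact this.symm

theorem infinite_of_not_good (c : κ) (hc : ¬ ∃ m : ℕ, 0 < m ∧ c ^ (p ^ m) = c) :
    {c' : κ | Usable c'}.Infinite := by
  have hinj : Function.Injective (fun e : ℕ => c ^ (p ^ e)) := by
    intro e e' h
    by_contra hne
    wlog hlt : e < e' generalizing e e'
    · exact this h.symm (Ne.symm hne) (lt_of_le_of_ne (not_lt.mp hlt) (Ne.symm hne))
    apply hc
    refine ⟨e' - e, by omega, ?_⟩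
    have h1 : (c ^ (p ^ (e' - e))) ^ (p ^ e) = c ^ (p ^ e) := by
      rw [← pow_mul, ← pow_add, Nat.sub_add_cancel hlt.le]
      exact h.symm
    exact iterateFrobenius_inj κ p e h1
  refine (Set.infinite_range_of_injective hinj).mono ?_
  rintro _ ⟨e, rfl⟩
  by_contra hnu
  obtain ⟨m, hm, h⟩ := good_of_not_usable p _ hnu
  apply hc
  refine ⟨m, hm, ?_⟩
  have h1 : (c ^ (p ^ m)) ^ (p ^ e) = c ^ (p ^ e) := by
    rw [← pow_mul, mul_comm, pow_mul]
    exact h
  exact iterateFrobenius_inj κ p e h1

theorem usable_of_not_good (c : κ) (hc : ¬ ∃ m : ℕ, 0 < m ∧ c ^ (p ^ m) = c) : Usable c := by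
  by_contra h
  exact hc (good_of_not_usable p c h)

end Groth.Agent.Lib.Helper31.ElemInv
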