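import Mathlib
import Groth.Agent.Lib.Helper31.ElemInv2

set_option autoImplicit false

universe u

namespace Groth.Agent.Lib.Helper31.ElemInv

open MvPolynomial

variable {k : Type u} [Field k] {n : ℕ}

/-- the elementary automorphism `x_i ↦ x_i + x_j^d` -/
noncomputable abbrev elem (i j : Fin n) (d : ℕ) :
    MvPolynomial (Fin n) k →ₐ[k] MvPolynomial (Fin n) k :=
  MvPolynomial.aeval (R := k)
    (Function.update MvPolynomial.X i (MvPolynomial.X i + MvPolynomial.X j ^ d) :
      Fin n → MvPolynomial (Fin n) k)

section Point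

variable (W : Set (PrimeSpectrum (MvPolynomial (Fin n) k))) (I : Ideal (MvPolynomial (Fin n) k))
  (hWI : Wᶜ = PrimeSpectrum.zeroLocus (I : Set (MvPolynomial (Fin n) k)))
  (hinv : ∀ i j : Fin n, i ≠ j → ∀ (d : ℕ) (x : PrimeSpectrum (MvPolynomial (Fin n) k)),
    PrimeSpectrum.comap (elem (k := k) i j d).toRingHom x ∈ W ↔ x ∈ W)
  (x : PrimeSpectrum (MvPolynomial (Fin n) k)) (hx : x ∉ W)

/-- the structure map `k → κ(x)` -/
noncomputable abbrev iota : k →+* x.asIdeal.ResidueField :=
  (algebraMap (MvPolynomial (Fin n) k) x.asIdeal.ResidueField).comp MvPolynomial.C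

/-- evaluation at a `κ(x)`-point -/
noncomputable abbrev psi (b : Fin n → x.asIdeal.ResidueField) :
    MvPolynomial (Fin n) k →+* x.asIdeal.ResidueField :=
  (MvPolynomial.eval b).comp (MvPolynomial.map (iota x))

/-- the coordinates of `x` -/
noncomputable abbrev coord : Fin n → x.asIdeal.ResidueField :=
  fun i => algebraMap (MvPolynomial (Fin n) k) x.asIdeal.ResidueField (MvPolynomial.X i)

theorem psi_coord : psi x (coord x) = algebraMap (MvPolynomial (Fin n) k) x.asIdeal.ResidueField := by
  apply MvPolynomial.ringHom_ext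
  · intro r
    simp [psi, iota]
  · intro i
    simp [psi, coord]

theorem psi_elem (b : Fin n → x.asIdeal.ResidueField) (i j : Fin n) (d : ℕ) :
    (psi x b).comp (elem (k := k) i j d).toRingHom =
      psi x (Function.update b i (b i + b j ^ d)) := by
  apply MvPolynomial.ringHom_ext
  · intro r
    simp [psi, iota]
  · intro l
    by_cases hl : l = i
    · subst hl
      simp [psi, elem]
    · simp [psi, elem, Function.update_of_ne hl]

/-- the set of `κ(x)`-points of the complement of `W` -/
def pts : Set (Fin n → x.asIdeal.ResidueField) :=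
  {b | ∀ h ∈ I, psi x b h = 0}

include hWI in
theorem mem_pts_iff (b : Fin n → x.asIdeal.ResidueField) :
    b ∈ pts I x ↔ (⟨RingHom.ker (psi x b), RingHom.ker_isPrime _⟩ :
      PrimeSpectrum (MvPolynomial (Fin n) k)) ∉ W := by
  rw [← Set.mem_compl_iff, hWI, PrimeSpectrum.mem_zeroLocus]
  constructor
  · intro hb h hh
    exact hb h hh
  · intro hb h hh
    exact hb hh

include hWI hinv in
theorem setup_pts : Setup (pts I x) where
  closed := by
    refine ⟨(MvPolynomial.map (iota x)) '' (I : Set (MvPolynomial (Fin n) k)), ?_⟩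
    ext b
    constructor
    · rintro hb _ ⟨h, hh, rfl⟩
      exact hb h hh
    · intro hb h hh
      exact hb _ ⟨h, hh, rfl⟩
  inv := by
    intro i j hij d b hb
    rw [mem_pts_iff W I hWI] at hb ⊢
    intro hmem
    apply hb
    rw [← hinv i j hij d]
    convert hmem using 1
    apply PrimeSpectrum.ext
    change Ideal.comap _ (RingHom.ker (psi x b)) = RingHom.ker _
    rw [← psi_elem, RingHom.comap_ker]

include hWI hx in
theorem coord_mem_pts : coord x ∈ pts I x := by
  intro h hh
  rw [psi_coord, Ideal.algebraMap_residueField_eq_zero]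
  have : x ∈ Wᶜ := hx
  rw [hWI, PrimeSpectrum.mem_zeroLocus] at this
  exact this hh

include hWI hinv hx in
/-- no coordinate is usable, or there are only finitely many usable elements -/
theorem not_usable (hn : 2 ≤ n) (f : MvPolynomial (Fin n) k) (hfI : f ∈ I) (hf : f ≠ 0)
    (j : Fin n) (hj : Usable (coord x j)) (hU : {c : x.asIdeal.ResidueField | Usable c}.Infinite) :
    False := by
  obtain ⟨i, hij⟩ : ∃ i : Fin n, i ≠ j := by
    by_cases h0 : j = ⟨0, by omega⟩
    · exact ⟨⟨1, by omega⟩, by rw [h0]; simp [Fin.ext_iff]⟩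
    · exact ⟨⟨0, by omega⟩, fun h => h0 h.symm⟩
  have huniv := eq_univ (setup_pts W I hWI hinv x) (coord x) (coord_mem_pts W I hWI x hx) j hj i hij hU
  haveI : Infinite x.asIdeal.ResidueField := by
    haveI := hU.to_subtype
    exact Infinite.of_injective (fun c : {c : x.asIdeal.ResidueField | Usable c} => (c : x.asIdeal.ResidueField))
      Subtype.val_injective
  have h0 : MvPolynomial.map (iota x) f = 0 := by
    apply MvPolynomial.funext
    intro b
    have hb : b ∈ pts I x := by rw [huniv]; trivial
    simpa using hb f hfI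
  apply hf
  have hinj : Function.Injective (iota x) := (iota x).injective
  exact MvPolynomial.map_injective _ hinj (by rw [h0, map_zero])

end Point

end Groth.Agent.Lib.Helper31.ElemInv
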