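import Mathlib
import Groth.Agent.Lib.Helper31.ElemInv3

set_option autoImplicit false

universe u

namespace Groth.Agent.Lib.Helper31.ElemInv

open MvPolynomial

variable {k : Type u} [Field k] {n : ℕ}

/-- a prime of `k[x_1..x_n]` modulo which every variable satisfies `x^N = x` is maximal -/
theorem isMaximal_of_good (P : Ideal (MvPolynomial (Fin n) k)) [P.IsPrime]
    (hgood : ∀ i : Fin n, ∃ N : ℕ, 1 < N ∧
      (MvPolynomial.X i : MvPolynomial (Fin n) k) ^ N - MvPolynomial.X i ∈ P) : P.IsMaximal := by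
  have hXi : ∀ i : Fin n, IsIntegral k (Ideal.Quotient.mk P (MvPolynomial.X i)) := by
    intro i
    obtain ⟨N, hN, hmem⟩ := hgood i
    refine ⟨Polynomial.X ^ N - Polynomial.X, Polynomial.monic_X_pow_sub ?_, ?_⟩
    · rw [Polynomial.degree_X]
      exact_mod_cast hN
    · rw [Polynomial.eval₂_sub, Polynomial.eval₂_pow, Polynomial.eval₂_X, ← map_pow, ← map_sub]
      exact Ideal.Quotient.eq_zero_iff_mem.mpr hmem
  have hint : ∀ q : MvPolynomial (Fin n) k, IsIntegral k (Ideal.Quotient.mk P q) := by
    intro q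
    induction q using MvPolynomial.induction_on with
    | C r => exact isIntegral_algebraMap (R := k) (A := MvPolynomial (Fin n) k ⧸ P) (x := r)
    | add q q' hq hq' =>
      rw [map_add]
      exact hq.add hq'
    | mul_X q i hq =>
      rw [map_mul]
      exact hq.mul (hXi i)
  haveI : Algebra.IsIntegral k (MvPolynomial (Fin n) k ⧸ P) :=
    ⟨fun y => by
      obtain ⟨q, rfl⟩ := Ideal.Quotient.mk_surjective y
      exact hint q⟩
  exact Ideal.Quotient.maximal_of_isField P
    (isField_of_isIntegral_of_isField' (Field.toIsField k))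

theorem alg_main (hn : 2 ≤ n) (W : Set (PrimeSpectrum (MvPolynomial (Fin n) k)))
    (hWo : IsOpen W) (hWne : W.Nonempty)
    (hinv : ∀ i j : Fin n, i ≠ j → ∀ (d : ℕ) (x : PrimeSpectrum (MvPolynomial (Fin n) k)),
      PrimeSpectrum.comap (elem (k := k) i j d).toRingHom x ∈ W ↔ x ∈ W) :
    W = Set.univ ∨ ∃ p : ℕ, p.Prime ∧ CharP k p ∧ Wᶜ.Finite ∧
      ∀ x : PrimeSpectrum (MvPolynomial (Fin n) k), x ∉ W →
        IsClosed ({x} : Set (PrimeSpectrum (MvPolynomial (Fin n) k))) ∧ ∀ i : Fin n, ∃ m : ℕ, 0 < m ∧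
          (algebraMap (MvPolynomial (Fin n) k) x.asIdeal.ResidueField (MvPolynomial.X i)) ^ (p ^ m) =
            algebraMap (MvPolynomial (Fin n) k) x.asIdeal.ResidueField (MvPolynomial.X i) := by
  classical
  by_cases hW : W = Set.univ
  · exact Or.inl hW
  right
  obtain ⟨I, hI⟩ := (PrimeSpectrum.isClosed_iff_zeroLocus_ideal Wᶜ).mp hWo.isClosed_compl
  have hIne : I ≠ ⊥ := by
    rintro rfl
    have : Wᶜ = Set.univ := by
      rw [hI]
      simp
    rw [Set.compl_univ_iff] at this
    rw [this] at hWne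
    exact Set.not_nonempty_empty hWne
  obtain ⟨f, hfI, hf⟩ := Submodule.exists_mem_ne_zero_of_ne_bot hIne
  obtain ⟨x0, hx0⟩ : ∃ x, x ∉ W := by
    by_contra h
    push Not at h
    exact hW (Set.eq_univ_of_forall h)
  obtain ⟨p, hp⟩ := CharP.exists k
  rcases CharP.char_is_prime_or_zero k p with hpp | hp0
  · haveI := Fact.mk hpp
    have good : ∀ x : PrimeSpectrum (MvPolynomial (Fin n) k), x ∉ W → ∀ i : Fin n,
        ∃ m : ℕ, 0 < m ∧
          (algebraMap (MvPolynomial (Fin n) k) x.asIdeal.ResidueField (MvPolynomial.X i)) ^ (p ^ m) =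
            algebraMap (MvPolynomial (Fin n) k) x.asIdeal.ResidueField (MvPolynomial.X i) := by
      intro x hx i
      haveI : CharP x.asIdeal.ResidueField p := charP_of_injective_ringHom (iota x).injective p
      by_contra hng
      exact not_usable W I hI hinv x hx hn f hfI hf i (usable_of_not_good p _ hng)
        (infinite_of_not_good p _ hng)
    have hmax : ∀ x : PrimeSpectrum (MvPolynomial (Fin n) k), x ∉ W → x.asIdeal.IsMaximal := by
      intro x hx
      apply isMaximal_of_good
      intro i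
      obtain ⟨m, hm, h⟩ := good x hx i
      refine ⟨p ^ m, Nat.one_lt_pow hm.ne' hpp.one_lt, ?_⟩
      rw [← Ideal.algebraMap_residueField_eq_zero, map_sub, map_pow, h, sub_self]
    refine ⟨p, hpp, hp, ?_, fun x hx =>
      ⟨(PrimeSpectrum.isClosed_singleton_iff_isMaximal x).mpr (hmax x hx), good x hx⟩⟩
    have hfin := Ideal.finite_minimalPrimes_of_isNoetherianRing (MvPolynomial (Fin n) k) I
    refine (hfin.preimage (f := PrimeSpectrum.asIdeal) ?_).subset ?_
    · intro x _ y _ h
      exact PrimeSpectrum.ext h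
    · intro x hx
      have hx' : x ∉ W := hx
      have hxI : I ≤ x.asIdeal := by
        have : x ∈ Wᶜ := hx
        rw [hI, PrimeSpectrum.mem_zeroLocus] at this
        exact this
      obtain ⟨q, hq, hqx⟩ := Ideal.exists_minimalPrimes_le hxI
      haveI : q.IsPrime := hq.1.1
      have hqW : (⟨q, hq.1.1⟩ : PrimeSpectrum (MvPolynomial (Fin n) k)) ∉ W := by
        rw [← Set.mem_compl_iff, hI, PrimeSpectrum.mem_zeroLocus]
        exact hq.1.2
      have hqmax := hmax _ hqW
      have : q = x.asIdeal := hqmax.eq_of_le x.2.ne_top hqx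
      rw [Set.mem_preimage, ← this]
      exact hq
  · exfalso
    subst hp0
    haveI : CharZero k := CharP.charP_to_charZero k
    haveI : CharZero x0.asIdeal.ResidueField := charZero_of_injective_ringHom (iota x0).injective
    exact not_usable W I hI hinv x0 hx0 hn f hfI hf ⟨0, by omega⟩ (usable_of_charZero _)
      infinite_of_charZero

end Groth.Agent.Lib.Helper31.ElemInv
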