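import Mathlib

namespace Groth.Agent.Lib.Helper31.F2T1

open scoped TensorProduct
open Module

universe v

variable {V : Type v} [AddCommGroup V] [Module (ZMod 2) V]

theorem add_self_zmod {M : Type*} [AddCommGroup M] [Module (ZMod 2) M] (z : M) : z + z = 0 := by
  rw [← two_smul (ZMod 2) z]
  have : (2 : ZMod 2) = 0 := by decide
  rw [this, zero_smul]

/-- `alt = id + swap`. -/
noncomputable def alt : (V ⊗[ZMod 2] V) →ₗ[ZMod 2] (V ⊗[ZMod 2] V) :=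
  LinearMap.id + (TensorProduct.comm (ZMod 2) V V).toLinearMap

@[simp] theorem alt_tmul (x y : V) : alt (x ⊗ₜ[ZMod 2] y) = x ⊗ₜ[ZMod 2] y + y ⊗ₜ[ZMod 2] x := by
  simp [alt]

/-- the span of squares -/
noncomputable def Na : Submodule (ZMod 2) (V ⊗[ZMod 2] V) :=
  Submodule.span (ZMod 2) (Set.range fun v : V => v ⊗ₜ[ZMod 2] v)

/-- the span of symmetrized tensors -/
noncomputable def Ns : Submodule (ZMod 2) (V ⊗[ZMod 2] V) :=
  Submodule.span (ZMod 2) (Set.range fun p : V × V => p.1 ⊗ₜ[ZMod 2] p.2 + p.2 ⊗ₜ[ZMod 2] p.1)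

theorem Na_le_ker : (Na : Submodule (ZMod 2) (V ⊗[ZMod 2] V)) ≤ LinearMap.ker alt := by
  unfold Na
  rw [Submodule.span_le]
  rintro _ ⟨v, rfl⟩
  simp only [SetLike.mem_coe, LinearMap.mem_ker, alt_tmul]
  exact add_self_zmod _

theorem alt_tmul_mem_Ns (x y : V) : alt (x ⊗ₜ[ZMod 2] y) ∈ (Ns : Submodule (ZMod 2) (V ⊗[ZMod 2] V)) := by
  rw [alt_tmul]
  exact Submodule.subset_span ⟨(x, y), rfl⟩

theorem sq_mem_Na (x : V) : x ⊗ₜ[ZMod 2] x ∈ (Na : Submodule (ZMod 2) (V ⊗[ZMod 2] V)) :=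
  Submodule.subset_span ⟨x, rfl⟩

theorem alt_tmul_mem_Na (x y : V) : alt (x ⊗ₜ[ZMod 2] y) ∈ (Na : Submodule (ZMod 2) (V ⊗[ZMod 2] V)) := by
  have : alt (x ⊗ₜ[ZMod 2] y) = (x + y) ⊗ₜ[ZMod 2] (x + y) - x ⊗ₜ[ZMod 2] x - y ⊗ₜ[ZMod 2] y := by
    rw [alt_tmul, TensorProduct.add_tmul, TensorProduct.tmul_add, TensorProduct.tmul_add]
    abel
  rw [this]
  exact Na.sub_mem (Na.sub_mem (sq_mem_Na _) (sq_mem_Na _)) (sq_mem_Na _)

variable (b : Basis (Fin 3) (ZMod 2) V)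

/-- coordinates of a tensor -/
noncomputable def co (s : V ⊗[ZMod 2] V) (i j : Fin 3) : ZMod 2 := (b.tensorProduct b).repr s (i, j)

theorem co_add (s s' : V ⊗[ZMod 2] V) (i j : Fin 3) : co b (s + s') i j = co b s i j + co b s' i j := by
  simp [co]

theorem co_sub (s s' : V ⊗[ZMod 2] V) (i j : Fin 3) : co b (s - s') i j = co b s i j - co b s' i j := by
  simp [co]

theorem co_tmul (x y : V) (i j : Fin 3) : co b (x ⊗ₜ[ZMod 2] y) i j = b.repr x i * b.repr y j := by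
  simp [co, mul_comm]

theorem expand (s : V ⊗[ZMod 2] V) :
    s = ∑ i : Fin 3, ∑ j : Fin 3, co b s i j • (b i ⊗ₜ[ZMod 2] b j) := by
  conv_lhs => rw [← (b.tensorProduct b).sum_repr s]
  rw [Fintype.sum_prod_type]
  simp [co, Basis.tensorProduct_apply]

theorem co_alt (s : V ⊗[ZMod 2] V) (i j : Fin 3) : co b (alt s) i j = co b s i j + co b s j i := by
  induction s using TensorProduct.induction_on with
  | zero => simp [co]
  | tmul x y => rw [alt_tmul, co_add, co_tmul, co_tmul, co_tmul]; ring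
  | add s s' hs hs' => rw [map_add, co_add, hs, hs', co_add, co_add]; ring

include b in
/-- symmetric coordinates ⇒ in `Na`. -/
theorem mem_Na_of_ker (s : V ⊗[ZMod 2] V) (hs : alt s = 0) : s ∈ (Na : Submodule (ZMod 2) (V ⊗[ZMod 2] V)) := by
  have hsym : ∀ i j, co b s i j = co b s j i := by
    intro i j
    have := co_alt b s i j
    rw [hs] at this
    have h0 : co b (0 : V ⊗[ZMod 2] V) i j = 0 := by simp [co]
    rw [h0] at this
    have h2 := add_self_zmod (co b s j i)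
    calc co b s i j = co b s i j + (co b s j i + co b s j i) := by rw [h2, add_zero]
      _ = (co b s i j + co b s j i) + co b s j i := by ring
      _ = co b s j i := by rw [← this, zero_add]
  rw [expand b s]
  simp only [Fin.sum_univ_three]
  rw [hsym 1 0, hsym 2 0, hsym 2 1]
  have e : ∀ (c : ZMod 2) (i j : Fin 3), c • (b i ⊗ₜ[ZMod 2] b j) + c • (b j ⊗ₜ[ZMod 2] b i) =
      c • alt (b i ⊗ₜ[ZMod 2] b j) := by
    intro c i j; rw [alt_tmul, smul_add]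
  have : co b s 0 0 • (b 0 ⊗ₜ[ZMod 2] b 0) + co b s 0 1 • (b 0 ⊗ₜ[ZMod 2] b 1) + co b s 0 2 • (b 0 ⊗ₜ[ZMod 2] b 2) +
      (co b s 0 1 • (b 1 ⊗ₜ[ZMod 2] b 0) + co b s 1 1 • (b 1 ⊗ₜ[ZMod 2] b 1) + co b s 1 2 • (b 1 ⊗ₜ[ZMod 2] b 2)) +
      (co b s 0 2 • (b 2 ⊗ₜ[ZMod 2] b 0) + co b s 1 2 • (b 2 ⊗ₜ[ZMod 2] b 1) + co b s 2 2 • (b 2 ⊗ₜ[ZMod 2] b 2)) =
      co b s 0 0 • (b 0 ⊗ₜ[ZMod 2] b 0) + co b s 1 1 • (b 1 ⊗ₜ[ZMod 2] b 1) + co b s 2 2 • (b 2 ⊗ₜ[ZMod 2] b 2) +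
      co b s 0 1 • alt (b 0 ⊗ₜ[ZMod 2] b 1) + co b s 0 2 • alt (b 0 ⊗ₜ[ZMod 2] b 2) +
      co b s 1 2 • alt (b 1 ⊗ₜ[ZMod 2] b 2) := by
    rw [← e, ← e, ← e]; abel
  rw [this]
  refine Na.add_mem (Na.add_mem (Na.add_mem (Na.add_mem (Na.add_mem ?_ ?_) ?_) ?_) ?_) ?_
  · exact Na.smul_mem _ (sq_mem_Na _)
  · exact Na.smul_mem _ (sq_mem_Na _)
  · exact Na.smul_mem _ (sq_mem_Na _)
  · exact Na.smul_mem _ (alt_tmul_mem_Na _ _)
  · exact Na.smul_mem _ (alt_tmul_mem_Na _ _)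
  · exact Na.smul_mem _ (alt_tmul_mem_Na _ _)

/-- symmetric coordinates with zero diagonal ⇒ in `Ns`; also the normal form. -/
theorem normal_form (s : V ⊗[ZMod 2] V) (hs : alt s = 0) (hd : ∀ i, co b s i i = 0) :
    s = co b s 0 1 • alt (b 0 ⊗ₜ[ZMod 2] b 1) + co b s 0 2 • alt (b 0 ⊗ₜ[ZMod 2] b 2) +
      co b s 1 2 • alt (b 1 ⊗ₜ[ZMod 2] b 2) := by
  have hsym : ∀ i j, co b s i j = co b s j i := by
    intro i j
    have := co_alt b s i j
    rw [hs] at this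
    have h0 : co b (0 : V ⊗[ZMod 2] V) i j = 0 := by simp [co]
    rw [h0] at this
    have h2 := add_self_zmod (co b s j i)
    calc co b s i j = co b s i j + (co b s j i + co b s j i) := by rw [h2, add_zero]
      _ = (co b s i j + co b s j i) + co b s j i := by ring
      _ = co b s j i := by rw [← this, zero_add]
  conv_lhs => rw [expand b s]
  simp only [Fin.sum_univ_three]
  rw [hsym 1 0, hsym 2 0, hsym 2 1, hd 0, hd 1, hd 2]
  simp only [alt_tmul, smul_add, zero_smul]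
  abel

theorem mem_Ns_of (s : V ⊗[ZMod 2] V) (hs : alt s = 0) (hd : ∀ i, co b s i i = 0) :
    s ∈ (Ns : Submodule (ZMod 2) (V ⊗[ZMod 2] V)) := by
  rw [normal_form b s hs hd]
  exact Ns.add_mem (Ns.add_mem (Ns.smul_mem _ (alt_tmul_mem_Ns _ _)) (Ns.smul_mem _ (alt_tmul_mem_Ns _ _)))
    (Ns.smul_mem _ (alt_tmul_mem_Ns _ _))

theorem alt_alt (s : V ⊗[ZMod 2] V) : alt (alt s) = 0 := by
  induction s using TensorProduct.induction_on with
  | zero => simp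
  | tmul x y =>
    rw [alt_tmul, map_add, alt_tmul, alt_tmul]
    have := add_self_zmod (x ⊗ₜ[ZMod 2] y + y ⊗ₜ[ZMod 2] x)
    rw [add_comm (y ⊗ₜ[ZMod 2] x)]
    exact this
  | add s s' hs hs' => rw [map_add, map_add, hs, hs', add_zero]

theorem co_alt_diag (s : V ⊗[ZMod 2] V) (i : Fin 3) : co b (alt s) i i = 0 := by
  rw [co_alt]; exact add_self_zmod _

end Groth.Agent.Lib.Helper31.F2T1
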