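import Mathlib
import Groth.Agent.Lib.Helper31.F2T1

namespace Groth.Agent.Lib.Helper31.F2T2

open scoped TensorProduct
open Module
open Groth.Agent.Lib.Helper31.F2T1

universe u v

variable {V : Type v} [AddCommGroup V] [Module (ZMod 2) V]

theorem alt_map (f : V →ₗ[ZMod 2] V) (s : V ⊗[ZMod 2] V) :
    alt (TensorProduct.map f f s) = TensorProduct.map f f (alt s) := by
  induction s using TensorProduct.induction_on with
  | zero => simp
  | tmul x y => simp [alt_tmul, TensorProduct.map_tmul]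
  | add s s' hs hs' => simp only [map_add, hs, hs']

set_option maxRecDepth 100000 in
theorem finite_check : ∀ x0 x1 x2 y0 y1 y2 u0 u1 u2 w0 w1 w2 : ZMod 2,
    x0*y1 + y0*x1 = u0*w1 + w0*u1 → x0*y2 + y0*x2 = u0*w2 + w0*u2 → x1*y2 + y1*x2 = u1*w2 + w1*u2 →
    ¬(x0*y1 + y0*x1 = 0 ∧ x0*y2 + y0*x2 = 0 ∧ x1*y2 + y1*x2 = 0) →
    (u0*w0 + u0*u0 + w0*w0 = x0*y0 + x0*x0 + y0*y0) ∧
    (u1*w1 + u1*u1 + w1*w1 = x1*y1 + x1*x1 + y1*y1) ∧
    (u2*w2 + u2*u2 + w2*w2 = x2*y2 + x2*x2 + y2*y2) := by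
  decide +kernel

theorem alt_sq (x : V) : alt (x ⊗ₜ[ZMod 2] x) = 0 := by
  rw [alt_tmul]; exact add_self_zmod _

variable (b : Basis (Fin 3) (ZMod 2) V)

theorem co_alt_tmul (x y : V) (i j : Fin 3) :
    co b (alt (x ⊗ₜ[ZMod 2] y)) i j = b.repr x i * b.repr y j + b.repr y i * b.repr x j := by
  rw [co_alt, co_tmul, co_tmul]; ring

theorem alt_tp (x y : V) :
    alt (x ⊗ₜ[ZMod 2] y + x ⊗ₜ[ZMod 2] x + y ⊗ₜ[ZMod 2] y) = alt (x ⊗ₜ[ZMod 2] y) := by
  rw [map_add, map_add, alt_sq, alt_sq, add_zero, add_zero]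

include b in
theorem key (f : V →ₗ[ZMod 2] V) (x y : V) (hne : alt (x ⊗ₜ[ZMod 2] y) ≠ 0)
    (hf : TensorProduct.map f f (alt (x ⊗ₜ[ZMod 2] y)) = alt (x ⊗ₜ[ZMod 2] y)) :
    TensorProduct.map f f (x ⊗ₜ[ZMod 2] y + x ⊗ₜ[ZMod 2] x + y ⊗ₜ[ZMod 2] y) -
      (x ⊗ₜ[ZMod 2] y + x ⊗ₜ[ZMod 2] x + y ⊗ₜ[ZMod 2] y) ∈
      (Ns : Submodule (ZMod 2) (V ⊗[ZMod 2] V)) := by
  have hf' : alt (f x ⊗ₜ[ZMod 2] f y) = alt (x ⊗ₜ[ZMod 2] y) := by
    rw [← hf, ← alt_map, TensorProduct.map_tmul]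
  apply mem_Ns_of b
  · rw [map_sub, alt_map, alt_tp, hf, sub_self]
  · have h01 := co_alt_tmul b x y 0 1
    have h02 := co_alt_tmul b x y 0 2
    have h12 := co_alt_tmul b x y 1 2
    have g01 := co_alt_tmul b (f x) (f y) 0 1
    have g02 := co_alt_tmul b (f x) (f y) 0 2
    have g12 := co_alt_tmul b (f x) (f y) 1 2
    rw [hf'] at g01 g02 g12
    have hnz : ¬(b.repr x 0 * b.repr y 1 + b.repr y 0 * b.repr x 1 = 0 ∧
        b.repr x 0 * b.repr y 2 + b.repr y 0 * b.repr x 2 = 0 ∧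
        b.repr x 1 * b.repr y 2 + b.repr y 1 * b.repr x 2 = 0) := by
      rintro ⟨e1, e2, e3⟩
      apply hne
      rw [normal_form b (alt (x ⊗ₜ[ZMod 2] y)) (alt_alt _) (co_alt_diag b _), h01, h02, h12, e1, e2, e3]
      simp
    have fc := finite_check (b.repr x 0) (b.repr x 1) (b.repr x 2) (b.repr y 0) (b.repr y 1) (b.repr y 2)
      (b.repr (f x) 0) (b.repr (f x) 1) (b.repr (f x) 2) (b.repr (f y) 0) (b.repr (f y) 1) (b.repr (f y) 2)
      (by rw [← h01, g01]) (by rw [← h02, g02]) (by rw [← h12, g12]) hnz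
    intro i
    simp only [map_add, TensorProduct.map_tmul, co_sub, co_add, co_tmul]
    fin_cases i
    · simpa using sub_eq_zero.mpr fc.1
    · simpa using sub_eq_zero.mpr fc.2.1
    · simpa using sub_eq_zero.mpr fc.2.2

theorem zmod2_cases (c : ZMod 2) : c = 0 ∨ c = 1 := by
  revert c; decide

theorem exists_xy (s : V ⊗[ZMod 2] V) (hs : alt s = 0) (hd : ∀ i, co b s i i = 0) :
    ∃ x y : V, alt (x ⊗ₜ[ZMod 2] y) = s := by
  obtain ⟨γ, β, α, hn⟩ : ∃ γ β α : ZMod 2, s = γ • alt (b 0 ⊗ₜ[ZMod 2] b 1) +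
      β • alt (b 0 ⊗ₜ[ZMod 2] b 2) + α • alt (b 1 ⊗ₜ[ZMod 2] b 2) := ⟨_, _, _, normal_form b s hs hd⟩
  clear hs hd
  rw [hn]
  rcases zmod2_cases γ with h | h
  · refine ⟨β • b 0 + α • b 1, b 2, ?_⟩
    rw [h]
    simp only [alt_tmul, TensorProduct.add_tmul, TensorProduct.smul_tmul',
      TensorProduct.tmul_smul, smul_add, zero_smul, zero_add, map_add]
  · refine ⟨b 0 + α • b 2, b 1 + β • b 2, ?_⟩
    rw [h]
    have h2 := add_self_zmod (((β * α) • b 2) ⊗ₜ[ZMod 2] b 2)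
    simp only [alt_tmul, TensorProduct.add_tmul, TensorProduct.tmul_add, TensorProduct.smul_tmul',
      TensorProduct.tmul_smul, smul_add, one_smul, smul_smul, map_add]
    rw [h2, add_zero]
    abel

theorem main (G : Type u) [Group G] (hV : Module.finrank (ZMod 2) V = 3)
    (ρ : Representation (ZMod 2) G V) (t : V ⊗[ZMod 2] V)
    (ht : ∀ g : G, ρ.tprod ρ g t - t ∈ (Na : Submodule (ZMod 2) (V ⊗[ZMod 2] V))) :
    ∃ t' : V ⊗[ZMod 2] V, t' - t ∈ (Na : Submodule (ZMod 2) (V ⊗[ZMod 2] V)) ∧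
      ∀ g : G, ρ.tprod ρ g t' - t' ∈ (Ns : Submodule (ZMod 2) (V ⊗[ZMod 2] V)) := by
  have : Module.Finite (ZMod 2) V := Module.finite_of_finrank_pos (by rw [hV]; norm_num)
  let b : Basis (Fin 3) (ZMod 2) V := Module.finBasisOfFinrankEq _ V hV
  have hinv : ∀ g : G, TensorProduct.map (ρ g) (ρ g) (alt t) = alt t := by
    intro g
    have h1 := Na_le_ker (ht g)
    rw [LinearMap.mem_ker, map_sub, Representation.tprod_apply, alt_map, sub_eq_zero] at h1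
    exact h1
  by_cases h0 : alt t = 0
  · refine ⟨0, ?_, ?_⟩
    · apply mem_Na_of_ker b
      rw [zero_sub, map_neg, h0, neg_zero]
    · intro g
      rw [map_zero, sub_zero]
      exact Ns.zero_mem
  · obtain ⟨x, y, hxy⟩ := exists_xy b (alt t) (alt_alt _) (co_alt_diag b _)
    refine ⟨x ⊗ₜ[ZMod 2] y + x ⊗ₜ[ZMod 2] x + y ⊗ₜ[ZMod 2] y, ?_, ?_⟩
    · apply mem_Na_of_ker b
      rw [map_sub, alt_tp, hxy, sub_self]
    · intro g
      rw [Representation.tprod_apply]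
      apply key b (ρ g) x y
      · rw [hxy]; exact h0
      · rw [hxy]; exact hinv g

end Groth.Agent.Lib.Helper31.F2T2
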