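import Mathlib

set_option autoImplicit false
universe u v

namespace Groth.Agent.Lib.Helper31

theorem algebraMap_bijective_quot (k : Type u) [Field k] [IsAlgClosed k]
    (A : Type v) [CommRing A] [Algebra k A] [Module.Finite k A] (I : Ideal A) [I.IsMaximal] :
    Function.Bijective (algebraMap k (A ⧸ I)) := by
  have : IsDomain (A ⧸ I) := Ideal.Quotient.isDomain I
  have : Module.Finite k (A ⧸ I) := Module.Finite.quotient k I
  have : Algebra.IsIntegral k (A ⧸ I) := Algebra.IsIntegral.of_finite k (A ⧸ I)
  exact IsAlgClosed.algebraMap_bijective_of_isIntegral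

theorem exists_algEquiv_pi (k : Type u) [Field k] [IsAlgClosed k]
    (A : Type v) [CommRing A] [Algebra k A] [Module.Finite k A] [IsReduced A] :
    ∃ (ι : Type v) (_ : Finite ι), Nonempty (A ≃ₐ[k] (ι → k)) := by
  have : IsArtinianRing A := IsArtinianRing.of_finite k A
  refine ⟨MaximalSpectrum A, inferInstance, ⟨?_⟩⟩
  let e₁ : A ≃ₐ[k] (∀ I : MaximalSpectrum A, A ⧸ I.asIdeal) :=
    AlgEquiv.restrictScalars k (IsArtinianRing.equivPi A)
  let e₂ : ∀ I : MaximalSpectrum A, k ≃ₐ[k] (A ⧸ I.asIdeal) := fun I =>
    haveI := I.isMaximal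
    AlgEquiv.ofBijective (Algebra.ofId k (A ⧸ I.asIdeal)) (algebraMap_bijective_quot k A I.asIdeal)
  exact e₁.trans (AlgEquiv.piCongrRight (fun I => (e₂ I).symm))

theorem derivation_idem_eq_zero {R A M : Type*} [CommSemiring R] [CommRing A] [Algebra R A]
    [AddCommGroup M] [Module A M] [Module R M] (D : Derivation R A M) (e : A) (he : e * e = e) :
    D e = 0 := by
  have h1 : D e = e • D e + e • D e := by
    conv_lhs => rw [← he]
    rw [Derivation.leibniz]
  have h2 : e • D e = 0 := by
    have h3 := congrArg (fun w => e • w) h1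
    simp only [smul_add, smul_smul, he] at h3
    have : e • D e + e • D e = e • D e + 0 := by rw [add_zero]; exact h3.symm
    exact add_left_cancel this
  rw [h1, h2, add_zero]

/-- The character `A → k` attached to a maximal ideal of a finite algebra over an
algebraically closed field. -/
noncomputable def charOfMaximal (k : Type u) [Field k] [IsAlgClosed k]
    (A : Type v) [CommRing A] [Algebra k A] [Module.Finite k A] (P : Ideal A) [P.IsMaximal] :
    A →ₐ[k] k :=
  ((AlgEquiv.ofBijective (Algebra.ofId k (A ⧸ P)) (algebraMap_bijective_quot k A P)).symm :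
    (A ⧸ P) →ₐ[k] k).comp (Ideal.Quotient.mkₐ k P)

theorem sub_charOfMaximal_mem (k : Type u) [Field k] [IsAlgClosed k]
    (A : Type v) [CommRing A] [Algebra k A] [Module.Finite k A] (P : Ideal A) [P.IsMaximal]
    (a : A) : a - algebraMap k A (charOfMaximal k A P a) ∈ P := by
  rw [← Ideal.Quotient.eq_zero_iff_mem, map_sub, sub_eq_zero]
  set e := AlgEquiv.ofBijective (Algebra.ofId k (A ⧸ P)) (algebraMap_bijective_quot k A P) with he
  have h1 : charOfMaximal k A P a = e.symm (Ideal.Quotient.mk P a) := rfl
  have h2 : Ideal.Quotient.mk P (algebraMap k A (charOfMaximal k A P a))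
      = e (charOfMaximal k A P a) := rfl
  rw [h2, h1, e.apply_symm_apply]

theorem exists_derivation_ne_zero (k : Type u) [Field k] [IsAlgClosed k]
    (A : Type v) [CommRing A] [Algebra k A] [Module.Finite k A] (hA : ¬ IsReduced A) :
    ∃ D : Derivation k A A, D ≠ 0 := by
  classical
  have : IsArtinianRing A := IsArtinianRing.of_finite k A
  have : IsNoetherianRing A := inferInstance
  rw [isReduced_iff_pow_one_lt 2 one_lt_two] at hA
  simp only [not_forall] at hA
  obtain ⟨x, hx2, hx0⟩ := hA
  have hxmem : x ∈ Ideal.span ({x} : Set A) := Ideal.subset_span rfl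
  have hx' : (⟨x, hxmem⟩ : ↥(Ideal.span ({x} : Set A))) ≠ 0 := by
    intro h
    exact hx0 (congrArg Subtype.val h)
  obtain ⟨P, hP, -⟩ := exists_le_isAssociatedPrime_of_isNoetherianRing (R := A) _ hx'
  rw [isAssociatedPrime_iff] at hP
  obtain ⟨hPprime, s, hPs⟩ := hP
  have hPmem : ∀ a : A, a ∈ P ↔ a * (s : A) = 0 := by
    intro a
    rw [hPs, Submodule.mem_colon_singleton, Submodule.mem_bot]
    constructor
    · intro h
      have := congrArg Subtype.val h
      simpa using this
    · intro h
      apply Subtype.ext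
      simpa using h
  have hs0 : (s : A) ≠ 0 := by
    intro h
    apply hPprime.ne_top
    rw [Ideal.eq_top_iff_one, hPmem, one_mul, h]
  obtain ⟨t, ht⟩ := Ideal.mem_span_singleton'.mp s.2
  have hxP : x ∈ P := by
    rw [hPmem, ← ht]
    have : x * (t * x) = t * x ^ 2 := by ring
    rw [this, hx2, mul_zero]
  have hPmax : P.IsMaximal := IsArtinianRing.isMaximal_of_isPrime P
  have hnotidem : ¬ IsIdempotentElem P := by
    intro hidem
    obtain ⟨e, he, hPe⟩ := (Ideal.isIdempotentElem_iff_of_fg P (IsNoetherian.noetherian P)).mp hidem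
    have heP : e ∈ P := by
      rw [hPe]
      exact Ideal.subset_span rfl
    have hes : e * (s : A) = 0 := (hPmem e).mp heP
    have hxe : x * e = x := by
      rw [hPe] at hxP
      obtain ⟨c, hc⟩ := Ideal.mem_span_singleton'.mp hxP
      rw [← hc, mul_assoc, he.eq]
    apply hs0
    calc (s : A) = t * x := ht.symm
      _ = t * (x * e) := by rw [hxe]
      _ = e * (t * x) := by ring
      _ = 0 := by rw [ht, hes]
  have hlt : P * P < P := lt_of_le_of_ne Ideal.mul_le_right (fun h => hnotidem h)
  obtain ⟨y, hyP, hyPP⟩ := SetLike.exists_of_lt hlt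
  let W : Submodule k A := Submodule.span k {(1 : A)} ⊔ (P * P).restrictScalars k
  have hyW : y ∉ W := by
    intro hy
    obtain ⟨u, hu, z, hz, huz⟩ := Submodule.mem_sup.mp hy
    obtain ⟨c, rfl⟩ := Submodule.mem_span_singleton.mp hu
    have hz' : z ∈ P * P := hz
    have hcP : c • (1 : A) ∈ P := by
      have : c • (1 : A) = y - z := by rw [← huz]; ring
      rw [this]
      exact P.sub_mem hyP (Ideal.mul_le_right hz')
    have hc0 : c = 0 := by
      by_contra hc
      apply hPprime.ne_top
      rw [Ideal.eq_top_iff_one]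
      have : (1 : A) = c⁻¹ • (c • (1 : A)) := by rw [smul_smul, inv_mul_cancel₀ hc, one_smul]
      rw [this, Algebra.smul_def]
      exact P.mul_mem_left _ hcP
    apply hyPP
    rw [← huz, hc0, zero_smul, zero_add]
    exact hz'
  obtain ⟨lam, hlamy, hWlam⟩ := Submodule.exists_le_ker_of_notMem hyW
  have hlam1 : lam 1 = 0 := by
    have : (1 : A) ∈ W := Submodule.mem_sup_left (Submodule.subset_span rfl)
    exact hWlam this
  have hlamPP : ∀ z ∈ P * P, lam z = 0 := by
    intro z hz
    have : z ∈ W := Submodule.mem_sup_right hz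
    exact hWlam this
  let χ := charOfMaximal k A P
  have hχ : ∀ a : A, a - algebraMap k A (χ a) ∈ P := sub_charOfMaximal_mem k A P
  have hlamsub : ∀ a : A, lam (a - algebraMap k A (χ a)) = lam a := by
    intro a
    rw [map_sub, Algebra.algebraMap_eq_smul_one, map_smul, hlam1, smul_zero, sub_zero]
  have hleib : ∀ a b : A, lam (a * b) = χ a * lam b + χ b * lam a := by
    intro a b
    have hab : a * b = (χ a * χ b) • (1 : A) + χ a • (b - algebraMap k A (χ b))
        + χ b • (a - algebraMap k A (χ a))
        + (a - algebraMap k A (χ a)) * (b - algebraMap k A (χ b)) := by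
      simp only [Algebra.smul_def, map_mul]
      ring
    rw [hab, map_add, map_add, map_add, map_smul, map_smul, map_smul, hlam1, hlamsub, hlamsub,
      hlamPP _ (Ideal.mul_mem_mul (hχ a) (hχ b))]
    simp only [smul_eq_mul, mul_zero, zero_add, add_zero]
  have hsmul : ∀ a : A, a * (s : A) = χ a • (s : A) := by
    intro a
    have h1 : (a - algebraMap k A (χ a)) * (s : A) = 0 := (hPmem _).mp (hχ a)
    rw [sub_mul, sub_eq_zero] at h1
    rw [h1, Algebra.smul_def]
  let D : Derivation k A A := Derivation.mk' (lam.smulRight (s : A)) (by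
    intro a b
    simp only [LinearMap.smulRight_apply, smul_eq_mul]
    rw [hleib, mul_smul_comm, mul_smul_comm, hsmul a, hsmul b, add_smul, smul_smul, smul_smul,
      mul_comm (lam b) (χ a), mul_comm (lam a) (χ b)])
  refine ⟨D, ?_⟩
  intro hD
  have h1 : D y = 0 := by rw [hD]; rfl
  have h2 : D y = lam y • (s : A) := rfl
  rw [h2] at h1
  rcases smul_eq_zero.mp h1 with h3 | h3
  · exact hlamy h3
  · exact hs0 h3

end Groth.Agent.Lib.Helper31
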