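import Mathlib

set_option autoImplicit false
universe u
open TensorProduct

namespace Groth.Agent.Lib.Helper31.FlatFamD1

theorem subsingleton_of_forall_subsingleton_tensor {A : Type u} [CommRing A] {T : Type u}
    (B : T → Type u) [∀ t, CommRing (B t)] [∀ t, Algebra A (B t)] [∀ t, Module.Flat A (B t)]
    (hsurj : ∀ p : PrimeSpectrum A, ∃ (t : T) (q : PrimeSpectrum (B t)),
      PrimeSpectrum.comap (algebraMap A (B t)) q = p)
    (M : Type u) [AddCommGroup M] [Module A M] (h : ∀ t, Subsingleton (B t ⊗[A] M)) :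
    Subsingleton M := by
  by_contra hM
  rw [not_subsingleton_iff_nontrivial] at hM
  obtain ⟨x, hx⟩ := exists_ne (0 : M)
  set f : A →ₗ[A] M := LinearMap.toSpanSingleton A M x with hf
  set I : Ideal A := LinearMap.ker f with hIdef
  have hI : I ≠ ⊤ := by
    intro hI
    have h1 : (1 : A) ∈ I := by rw [hI]; trivial
    rw [hIdef, LinearMap.mem_ker] at h1
    simp [hf] at h1
    exact hx h1
  obtain ⟨p, hp, hIp⟩ := Ideal.exists_le_maximal I hI
  obtain ⟨t, q, hq⟩ := hsurj ⟨p, hp.isPrime⟩
  -- injective map A/I → M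
  let g : (A ⧸ I) →ₗ[A] M := Submodule.liftQ I f le_rfl
  have hg : Function.Injective g := by
    rw [← LinearMap.ker_eq_bot]
    exact Submodule.ker_liftQ_eq_bot _ _ _ le_rfl
  have hg' : Function.Injective (LinearMap.lTensor (B t) g) :=
    Module.Flat.lTensor_preserves_injective_linearMap g hg
  haveI : Subsingleton (B t ⊗[A] (A ⧸ I)) := hg'.subsingleton
  haveI : Subsingleton (B t ⧸ (I • ⊤ : Submodule A (B t))) :=
    (tensorQuotEquivQuotSMul (B t) I).symm.injective.subsingleton
  have htop : (I • ⊤ : Submodule A (B t)) = ⊤ := Submodule.Quotient.subsingleton_iff.mp ‹_›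
  have hle : (I • ⊤ : Submodule A (B t)) ≤ (q.asIdeal).restrictScalars A := by
    rw [Submodule.smul_le]
    intro a ha b _
    rw [Submodule.restrictScalars_mem, Algebra.smul_def]
    apply Ideal.mul_mem_right
    have : a ∈ p := hIp ha
    have hq' : (PrimeSpectrum.comap (algebraMap A (B t)) q).asIdeal = p := by rw [hq]
    rw [← hq'] at this
    exact this
  have h1 : (1 : B t) ∈ (q.asIdeal).restrictScalars A := hle (by rw [htop]; trivial)
  exact q.isPrime.ne_top ((Ideal.eq_top_iff_one _).mpr h1)

end Groth.Agent.Lib.Helper31.FlatFamD1
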