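import Mathlib
import Groth.Agent.Lib.Helper31.FlatFamD1

set_option autoImplicit false
universe u
open TensorProduct

namespace Groth.Agent.Lib.Helper31.FlatFamD2

theorem finite_of_forall_finite_tensor {A : Type u} [CommRing A] {T : Type u} [Finite T]
    (B : T → Type u) [∀ t, CommRing (B t)] [∀ t, Algebra A (B t)] [∀ t, Module.Flat A (B t)]
    (hsurj : ∀ p : PrimeSpectrum A, ∃ (t : T) (q : PrimeSpectrum (B t)),
      PrimeSpectrum.comap (algebraMap A (B t)) q = p)
    (M : Type u) [AddCommGroup M] [Module A M] (h : ∀ t, Module.Finite (B t) (B t ⊗[A] M)) :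
    Module.Finite A M := by
  classical
  cases nonempty_fintype T
  choose n s hs using fun t => Module.Finite.exists_fin (R := B t) (M := B t ⊗[A] M)
  choose k b m hsum using fun (ti : Σ t, Fin (n t)) =>
    TensorProduct.exists_sum_tmul_eq (s ti.1 ti.2)
  let ι := Σ (ti : Σ t, Fin (n t)), Fin (k ti)
  let f₀ : (ι → A) →ₗ[A] M := (Pi.basisFun A ι).constr A fun tij => m tij.1 tij.2
  apply Module.Finite.of_surjective f₀
  have hsurjt : ∀ t, Function.Surjective (LinearMap.lTensor (B t) f₀) := by
    intro t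
    have h1 : Function.Surjective (AlgebraTensorModule.lTensor (B t) (B t) f₀) := by
      rw [← LinearMap.range_eq_top, eq_top_iff, ← hs t, Submodule.span_le, Set.range_subset_iff]
      intro i
      use ∑ (j : Fin (k ⟨t, i⟩)), b ⟨t, i⟩ j ⊗ₜ Pi.basisFun A ι ⟨⟨t, i⟩, j⟩
      have hb : ∀ j : Fin (k ⟨t, i⟩), f₀ (Pi.basisFun A ι ⟨⟨t, i⟩, j⟩) = m ⟨t, i⟩ j := by
        intro j
        exact Module.Basis.constr_basis _ _ _ _
      rw [map_sum, hsum ⟨t, i⟩]
      refine Finset.sum_congr rfl (fun j _ => ?_)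
      rw [AlgebraTensorModule.lTensor_tmul, hb j]
    exact h1
  rw [← LinearMap.range_eq_top]
  have hQ : Subsingleton (M ⧸ LinearMap.range f₀) := by
    refine Groth.Agent.Lib.Helper31.FlatFamD1.subsingleton_of_forall_subsingleton_tensor B hsurj _
      (fun t => ?_)
    have h2 : Function.Surjective (LinearMap.lTensor (B t) (LinearMap.range f₀).mkQ) :=
      LinearMap.lTensor_surjective _ (Submodule.mkQ_surjective _)
    refine ⟨fun x y => ?_⟩
    have hz : ∀ w : B t ⊗[A] (M ⧸ LinearMap.range f₀), w = 0 := by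
      intro w
      obtain ⟨w', rfl⟩ := h2 w
      obtain ⟨w'', rfl⟩ := hsurjt t w'
      rw [← LinearMap.comp_apply, ← LinearMap.lTensor_comp]
      have : (LinearMap.range f₀).mkQ ∘ₗ f₀ = 0 := by
        ext v
        simp
      rw [this, LinearMap.lTensor_zero, LinearMap.zero_apply]
    rw [hz x, hz y]
  exact Submodule.Quotient.subsingleton_iff.mp hQ

end Groth.Agent.Lib.Helper31.FlatFamD2
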