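import Mathlib
import Groth.Agent.Lib.Helper31.Fm8

/-!
# The determinant of a weighted sum of complementary projections (helper31)
-/

set_option autoImplicit false
set_option linter.unusedSectionVars false

open Module

universe u v

namespace Groth.Agent.Lib.Helper31.Fm

variable {k : Type u} [Field k] {N : ℕ} {L : Type v} [CommRing L] [Algebra k L]

theorem det_proj_comb (W W' : Submodule k (Fin N → k)) (hc : IsCompl W W') (r : ℕ)
    (hr : finrank k W = r) (x y : L) :
    (x • (LinearMap.toMatrix' (W.projection W' hc)).map (algebraMap k L) +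
      y • (LinearMap.toMatrix' (W'.projection W hc.symm)).map (algebraMap k L)).det =
      x ^ r * y ^ (N - r) := by
  classical
  have hr' : finrank k W' = N - r := by
    have := Submodule.finrank_add_eq_of_isCompl hc
    rw [Module.finrank_fin_fun] at this
    omega
  let bW := Module.finBasisOfFinrankEq k W hr
  let bW' := Module.finBasisOfFinrankEq k W' hr'
  let β : Basis (Fin r ⊕ Fin (N - r)) k (Fin N → k) :=
    (bW.prod bW').map (Submodule.prodEquivOfIsCompl W W' hc)
  have hβl : ∀ j, β (Sum.inl j) = (bW j : Fin N → k) := by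
    intro j
    simp [β, Submodule.coe_prodEquivOfIsCompl']
  have hβr : ∀ j, β (Sum.inr j) = (bW' j : Fin N → k) := by
    intro j
    simp [β, Submodule.coe_prodEquivOfIsCompl']
  let std := Pi.basisFun k (Fin N)
  let h : Matrix (Fin N) (Fin r ⊕ Fin (N - r)) k := std.toMatrix β
  let hi : Matrix (Fin r ⊕ Fin (N - r)) (Fin N) k := β.toMatrix std
  let E1 : Matrix (Fin r ⊕ Fin (N - r)) (Fin r ⊕ Fin (N - r)) k :=
    Matrix.diagonal (Sum.elim (fun _ => (1 : k)) (fun _ => 0))
  let E2 : Matrix (Fin r ⊕ Fin (N - r)) (Fin r ⊕ Fin (N - r)) k :=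
    Matrix.diagonal (Sum.elim (fun _ => (0 : k)) (fun _ => 1))
  have hh : h * hi = 1 := Basis.toMatrix_mul_toMatrix_flip std β
  have hh' : hi * h = 1 := Basis.toMatrix_mul_toMatrix_flip β std
  have hP1 : LinearMap.toMatrix' (W.projection W' hc) =
      h * E1 * hi := by
    rw [← LinearMap.toMatrix_eq_toMatrix',
      ← basis_toMatrix_mul_linearMap_toMatrix_mul_basis_toMatrix std β std β]
    congr 2
    ext i j
    rw [LinearMap.toMatrix_apply]
    rcases j with j | j
    · rw [hβl, Submodule.projection_apply_of_mem_left hc (bW j).2, ← hβl, Basis.repr_self]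
      change _ = Matrix.diagonal _ i _
      rw [Matrix.diagonal_apply]
      by_cases hij : i = Sum.inl j
      · subst hij; simp
      · rw [Finsupp.single_apply, if_neg (Ne.symm hij), if_neg hij]
    · rw [hβr, Submodule.projection_apply_of_mem_right hc (bW' j).2, map_zero,
        Finsupp.zero_apply]
      change _ = Matrix.diagonal _ i _
      rw [Matrix.diagonal_apply]
      by_cases hij : i = Sum.inr j
      · subst hij; simp
      · rw [if_neg hij]
  have hP2 : LinearMap.toMatrix' (W'.projection W hc.symm) =
      h * E2 * hi := by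
    rw [← LinearMap.toMatrix_eq_toMatrix',
      ← basis_toMatrix_mul_linearMap_toMatrix_mul_basis_toMatrix std β std β]
    congr 2
    ext i j
    rw [LinearMap.toMatrix_apply]
    rcases j with j | j
    · rw [hβl, Submodule.projection_apply_of_mem_right hc.symm (bW j).2, map_zero,
        Finsupp.zero_apply]
      change _ = Matrix.diagonal _ i _
      rw [Matrix.diagonal_apply]
      by_cases hij : i = Sum.inl j
      · subst hij; simp
      · rw [if_neg hij]
    · rw [hβr, Submodule.projection_apply_of_mem_left hc.symm (bW' j).2, ← hβr, Basis.repr_self]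
      change _ = Matrix.diagonal _ i _
      rw [Matrix.diagonal_apply]
      by_cases hij : i = Sum.inr j
      · subst hij; simp
      · rw [Finsupp.single_apply, if_neg (Ne.symm hij), if_neg hij]
  set hL : Matrix (Fin N) (Fin r ⊕ Fin (N - r)) L := h.map (algebraMap k L) with hhL
  set hiL : Matrix (Fin r ⊕ Fin (N - r)) (Fin N) L := hi.map (algebraMap k L) with hhiL
  let DL : Matrix (Fin r ⊕ Fin (N - r)) (Fin r ⊕ Fin (N - r)) L :=
    Matrix.diagonal (Sum.elim (fun _ => x) (fun _ => y))
  have hhL1 : hL * hiL = 1 := by
    rw [hhL, hhiL, ← Matrix.map_mul, hh, Matrix.map_one _ (map_zero _) (map_one _)]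
  have hhL2 : hiL * hL = 1 := by
    rw [hhL, hhiL, ← Matrix.map_mul, hh', Matrix.map_one _ (map_zero _) (map_one _)]
  have hD : x • (LinearMap.toMatrix' (W.projection W' hc)).map (algebraMap k L) +
      y • (LinearMap.toMatrix' (W'.projection W hc.symm)).map (algebraMap k L) =
      hL * (DL * hiL) := by
    rw [hP1, hP2, Matrix.map_mul, Matrix.map_mul, Matrix.map_mul, Matrix.map_mul]
    have e1 : DL = x • E1.map (algebraMap k L) + y • E2.map (algebraMap k L) := by
      ext i j
      rcases i with i | i <;> rcases j with j | j <;>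
        simp [DL, E1, E2, Matrix.diagonal_apply, Matrix.add_apply,
          Matrix.smul_apply]
    rw [e1]
    simp only [Matrix.mul_add, Matrix.add_mul, Matrix.mul_smul, Matrix.smul_mul, Matrix.mul_assoc]
    rfl
  rw [hD, Matrix.det_comm' hhL1 hhL2, Matrix.mul_assoc, hhL2, Matrix.mul_one, Matrix.det_diagonal,
    Fintype.prod_sum_type]
  simp

end Groth.Agent.Lib.Helper31.Fm
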