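import Mathlib
import Groth.Agent.Lib.Helper31.Fm9

/-!
# The strict numerical criterion is necessary for stability of point configurations (helper31)
-/

set_option autoImplicit false
set_option linter.unusedSectionVars false

open TensorProduct MvPolynomial CoordGrp Module
open scoped LaurentPolynomial

universe u

namespace Groth.Agent.Lib.Helper31.Fm

variable {k : Type u} [Field k] {N d : ℕ}

/-- the one-parameter subgroup with weight `N - r` on `W` and `-r` on `W'` (transposed) -/
noncomputable def opsMat (W W' : Submodule k (Fin N → k)) (hc : IsCompl W W') (r : ℕ) :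
    Matrix (Fin N) (Fin N) k[T;T⁻¹] :=
  ((LaurentPolynomial.T ((N : ℤ) - r) : k[T;T⁻¹]) •
      (LinearMap.toMatrix' (W.projection W' hc)).map (algebraMap k k[T;T⁻¹]) +
    (LaurentPolynomial.T (-(r : ℤ)) : k[T;T⁻¹]) •
      (LinearMap.toMatrix' (W'.projection W hc.symm)).map (algebraMap k k[T;T⁻¹])).transpose

theorem opsMat_det (W W' : Submodule k (Fin N → k)) (hc : IsCompl W W') (r : ℕ)
    (hr : finrank k W = r) (hrN : r ≤ N) : (opsMat W W' hc r).det = 1 := by
  rw [opsMat, Matrix.det_transpose, det_proj_comb W W' hc r hr, LaurentPolynomial.T_pow,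
    LaurentPolynomial.T_pow, ← LaurentPolynomial.T_add]
  have h : ((r : ℤ) * ((N : ℤ) - r) + ((N - r : ℕ) : ℤ) * (-(r : ℤ))) = 0 := by
    rw [Nat.cast_sub hrN]
    ring
  rw [h, LaurentPolynomial.T_zero]

theorem vecMul_opsMat (W W' : Submodule k (Fin N → k)) (hc : IsCompl W W') (r : ℕ)
    (v : Fin N → k) :
    Matrix.vecMul (fun l => algebraMap k k[T;T⁻¹] (v l)) (opsMat W W' hc r) =
      fun l => LaurentPolynomial.T ((N : ℤ) - r) * algebraMap k k[T;T⁻¹] (W.projection W' hc v l) +
        LaurentPolynomial.T (-(r : ℤ)) * algebraMap k k[T;T⁻¹] (W'.projection W hc.symm v l) := by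
  have h : ∀ f : (Fin N → k) →ₗ[k] (Fin N → k),
      Matrix.mulVec ((LinearMap.toMatrix' f).map (algebraMap k k[T;T⁻¹]))
        (fun l => algebraMap k k[T;T⁻¹] (v l)) = fun l => algebraMap k k[T;T⁻¹] (f v l) := by
    intro f
    funext l
    have := RingHom.map_mulVec (algebraMap k k[T;T⁻¹]) (LinearMap.toMatrix' f) v l
    rw [LinearMap.toMatrix'_mulVec] at this
    rw [this]
    rfl
  rw [opsMat, Matrix.vecMul_transpose, Matrix.add_mulVec, Matrix.smul_mulVec, Matrix.smul_mulVec,
    h, h]
  funext l
  simp [smul_eq_mul]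


theorem T_not_integral (j : ℕ) (hj : 0 < j) :
    ¬ IsIntegral k (LaurentPolynomial.T (j : ℤ) : k[T;T⁻¹]) := by
  intro h
  have h1 : IsAlgebraic k (LaurentPolynomial.T (j : ℤ) : k[T;T⁻¹]) := h.isAlgebraic
  rw [← Polynomial.toLaurent_X_pow, ← Polynomial.toLaurentAlg_apply,
    isAlgebraic_algHom_iff _ (by
      rw [Polynomial.coe_toLaurentAlg]
      exact Polynomial.toLaurent_injective)] at h1
  exact (Transcendental.pow (Polynomial.transcendental_X k) hj) h1

theorem config_strict [IsAlgClosed k] (n m : ℕ) (hm : (Nat.factorial m : k) ≠ 0)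
    (p : Fin m → Fin (n + 1) → k) (hp : ∀ i, p i ≠ 0)
    (a : FormIdx (n + 1) m → k)
    (ha : formPoly a = ∏ i, ∑ j, C (p i j) * X j)
    (hst : @GLin.IsStableVec k _ (SLn (n + 1) k) _ _ (FormIdx (n + 1) m)
      (GLin.comodAlong (phi (n + 1) k) (formsCoact k (n + 1) m))
      (GLin.isCoactAlg_comodAlong (phi (n + 1) k) (formsCoact k (n + 1) m)
        (formsCoact_isCoactAlg k (n + 1) m)) a)
    (W : Submodule k (Fin (n + 1) → k)) (hW : W ≠ ⊥) (hW' : W ≠ ⊤) :
    Nat.card {i : Fin m // p i ∈ W} * (n + 1) < m * Module.finrank k W := by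
  classical
  by_contra hlt
  rw [not_lt] at hlt
  obtain ⟨r, hr⟩ : ∃ r, finrank k W = r := ⟨_, rfl⟩
  rw [hr] at hlt
  have hr0 : 0 < r := by
    rw [← hr]
    exact Submodule.one_le_finrank_iff.mpr hW
  have hrN : r < n + 1 := by
    have := Submodule.finrank_lt hW'
    rw [Module.finrank_fin_fun, hr] at this
    exact this
  obtain ⟨W', hc⟩ := Submodule.exists_isCompl W
  obtain ⟨s, hs⟩ : ∃ s, Nat.card {i : Fin m // p i ∈ W} = s := ⟨_, rfl⟩
  rw [hs] at hlt
  have hs' : (Finset.univ.filter (fun i => p i ∈ W)).card = s := by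
    rw [← hs, Nat.card_eq_fintype_card, Fintype.card_subtype]
  have hs'' : (Finset.univ.filter (fun i => ¬ p i ∈ W)).card = m - s := by
    have := Finset.card_filter_add_card_filter_not (s := (Finset.univ : Finset (Fin m)))
      (fun i => p i ∈ W)
    rw [hs', Finset.card_univ, Fintype.card_fin] at this
    omega
  have hsm : s ≤ m := by
    rw [← hs']
    exact (Finset.card_le_univ _).trans (by simp)
  let ε : Fin m → ℤ := fun i => if p i ∈ W then ((n + 1 : ℕ) : ℤ) - r else -(r : ℤ)
  let vt : Fin m → Fin (n + 1) → Polynomial k := fun i l =>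
    if p i ∈ W then Polynomial.C (p i l)
    else Polynomial.C (W'.projection W hc.symm (p i) l) +
      Polynomial.X ^ (n + 1) * Polynomial.C (W.projection W' hc (p i) l)
  have hε : ∑ i, ε i = ((s * (n + 1) - m * r : ℕ) : ℤ) := by
    rw [Nat.cast_sub hlt]
    simp only [ε]
    rw [Finset.sum_ite, Finset.sum_const, Finset.sum_const, hs', hs'']
    simp only [nsmul_eq_mul]
    rw [Nat.cast_sub hsm]
    push_cast
    ring
  have H1 : ∀ i, Matrix.vecMul (fun l => algebraMap k k[T;T⁻¹] (p i l)) (opsMat W W' hc r) =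
      fun l => LaurentPolynomial.T (ε i) * Polynomial.toLaurent (vt i l) := by
    intro i
    rw [vecMul_opsMat]
    funext l
    by_cases hi : p i ∈ W
    · have e1 : W.projection W' hc (p i) = p i := Submodule.projection_apply_of_mem_left hc hi
      have e2 : W'.projection W hc.symm (p i) = 0 :=
        Submodule.projection_apply_of_mem_right hc.symm hi
      simp only [ε, vt, if_pos hi, e1, e2, Pi.zero_apply, map_zero, mul_zero, add_zero,
        Polynomial.toLaurent_C]
      rfl
    · simp only [ε, vt, if_neg hi, map_add, map_mul, Polynomial.toLaurent_X_pow,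
        Polynomial.toLaurent_C]
      rw [mul_add, ← mul_assoc, ← LaurentPolynomial.T_add]
      have : (-(r : ℤ) + ((n + 1 : ℕ) : ℤ)) = ((n + 1 : ℕ) : ℤ) - r := by ring
      rw [this, add_comm]
      rfl
  have H3 : ∀ i, Matrix.vecMul (fun l => algebraMap k k[T;T⁻¹] ((vt i l).eval 0))
      (opsMat W W' hc r) =
      fun l => LaurentPolynomial.T (ε i) * algebraMap k k[T;T⁻¹] ((vt i l).eval 0) := by
    intro i
    by_cases hi : p i ∈ W
    · have e0 : ∀ l, (vt i l).eval 0 = p i l := by
        intro l
        simp only [vt, if_pos hi, Polynomial.eval_C]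
      simp only [e0]
      rw [vecMul_opsMat]
      have e1 : W.projection W' hc (p i) = p i := Submodule.projection_apply_of_mem_left hc hi
      have e2 : W'.projection W hc.symm (p i) = 0 :=
        Submodule.projection_apply_of_mem_right hc.symm hi
      funext l
      simp only [ε, if_pos hi, e1, e2, Pi.zero_apply, map_zero, mul_zero, add_zero]
    · have hmem : W'.projection W hc.symm (p i) ∈ W' := Submodule.projection_apply_mem hc.symm _
      have e0 : ∀ l, (vt i l).eval 0 = W'.projection W hc.symm (p i) l := by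
        intro l
        simp only [vt, if_neg hi, Polynomial.eval_add, Polynomial.eval_C, Polynomial.eval_mul,
          Polynomial.eval_pow, Polynomial.eval_X]
        rw [zero_pow (Nat.succ_ne_zero n), zero_mul, add_zero]
      simp only [e0]
      rw [vecMul_opsMat]
      have e1 : W.projection W' hc (W'.projection W hc.symm (p i)) = 0 :=
        Submodule.projection_apply_of_mem_right hc hmem
      have e2 : W'.projection W hc.symm (W'.projection W hc.symm (p i)) =
          W'.projection W hc.symm (p i) :=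
        Submodule.projection_apply_of_mem_left hc.symm hmem
      funext l
      simp only [ε, if_neg hi, e1, e2, Pi.zero_apply, map_zero, mul_zero, zero_add]
  obtain ⟨w, hwW, hw0⟩ := Submodule.exists_mem_ne_zero_of_ne_bot hW
  obtain ⟨l₀, hl₀⟩ := Function.ne_iff.mp hw0
  rw [Pi.zero_apply] at hl₀
  have hvw := congrFun (vecMul_opsMat W W' hc r w) l₀
  rw [Submodule.projection_apply_of_mem_left hc hwW,
    Submodule.projection_apply_of_mem_right hc.symm hwW] at hvw
  simp only [Pi.zero_apply, map_zero, mul_zero, add_zero] at hvw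
  let c : Fin (n + 1) → Fin (n + 1) → k := fun i j => if j = l₀ then w i / w l₀ else 0
  have htc : (LaurentPolynomial.T (((n + 1 : ℕ) : ℤ) - r) : k[T;T⁻¹]) =
      ∑ i, ∑ j, algebraMap k k[T;T⁻¹] (c i j) * opsMat W W' hc r i j := by
    have h1 : ∀ i, ∑ j, algebraMap k k[T;T⁻¹] (c i j) * opsMat W W' hc r i j =
        algebraMap k k[T;T⁻¹] (w i / w l₀) * opsMat W W' hc r i l₀ := by
      intro i
      rw [Finset.sum_eq_single l₀]
      · simp only [c, if_pos rfl]
      · intro j _ hj
        simp only [c, if_neg hj, map_zero, zero_mul]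
      · intro h
        exact absurd (Finset.mem_univ _) h
    simp only [h1]
    have h2 : ∑ i, algebraMap k k[T;T⁻¹] (w i / w l₀) * opsMat W W' hc r i l₀ =
        algebraMap k k[T;T⁻¹] (w l₀)⁻¹ *
          Matrix.vecMul (fun l => algebraMap k k[T;T⁻¹] (w l)) (opsMat W W' hc r) l₀ := by
      rw [Matrix.vecMul, dotProduct, Finset.mul_sum]
      refine Finset.sum_congr rfl fun i _ => ?_
      rw [div_eq_mul_inv, map_mul]
      ring
    rw [h2, hvw, mul_comm, mul_assoc, ← map_mul, mul_inv_cancel₀ hl₀, map_one, mul_one]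
  have hNr : ((n + 1 : ℕ) : ℤ) - r = ((n + 1 - r : ℕ) : ℤ) := by
    rw [Nat.cast_sub hrN.le]
  have ht : ¬ IsIntegral k (LaurentPolynomial.T (((n + 1 : ℕ) : ℤ) - r) : k[T;T⁻¹]) := by
    rw [hNr]
    exact T_not_integral _ (by omega)
  exact abstract_unstable a p hp hm ha (opsMat W W' hc r) (opsMat_det W W' hc r hr hrN.le) ε vt _
    hε H1 (fun _ => H3) _ ht c htc hst

end Groth.Agent.Lib.Helper31.Fm
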