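import Mathlib

namespace Groth.Agent.Lib.Helper31.HC1

open MeasureTheory Filter Topology

universe u

/-- Continuous real functions on a finite product of compact Hausdorff Borel spaces are
measurable for the product sigma-algebra (Stone–Weierstrass). -/
theorem measurable_of_continuous_pi {ι : Type*} [Finite ι] {G : Type u} [TopologicalSpace G]
    [CompactSpace G] [T2Space G] [MeasurableSpace G] [BorelSpace G]
    (f : C(ι → G, ℝ)) : Measurable f := by
  classical
  let gens : Set C(ι → G, ℝ) :=
    {f | ∃ (i : ι) (g : C(G, ℝ)), f = g.comp (ContinuousMap.eval i)}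
  let 𝒜 : Subalgebra ℝ C(ι → G, ℝ) := Algebra.adjoin ℝ gens
  have hsep : 𝒜.SeparatesPoints := by
    intro x y hxy
    obtain ⟨i, hi⟩ : ∃ i, x i ≠ y i := by
      by_contra h
      push Not at h
      exact hxy (funext h)
    obtain ⟨g, hg0, hg1, -⟩ := exists_continuous_zero_one_of_isClosed
      (isClosed_singleton (x := x i)) (isClosed_singleton (x := y i))
      (Set.disjoint_singleton.2 hi)
    refine ⟨_, ⟨g.comp (ContinuousMap.eval i), Algebra.subset_adjoin ⟨i, g, rfl⟩, rfl⟩, ?_⟩
    simp only [ContinuousMap.comp_apply, ContinuousMap.eval_apply]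
    rw [hg0 rfl, hg1 rfl]
    simp
  have hcl := ContinuousMap.subalgebra_topologicalClosure_eq_top_of_separatesPoints 𝒜 hsep
  have hA : ∀ f ∈ 𝒜, Measurable f := by
    intro f hf
    induction hf using Algebra.adjoin_induction with
    | mem f hf =>
      obtain ⟨i, g, rfl⟩ := hf
      exact g.continuous.measurable.comp (measurable_pi_apply i)
    | algebraMap r => exact measurable_const
    | add f g _ _ hf hg => exact hf.add hg
    | mul f g _ _ hf hg => exact hf.mul hg
  have hmem : f ∈ 𝒜.topologicalClosure := by rw [hcl]; trivial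
  rw [← SetLike.mem_coe, Subalgebra.topologicalClosure_coe, mem_closure_iff_seq_limit] at hmem
  obtain ⟨s, hs, hlim⟩ := hmem
  refine measurable_of_tendsto_metrizable (f := fun n => (s n : (ι → G) → ℝ)) (fun n => hA _ (hs n)) ?_
  rw [tendsto_pi_nhds]
  intro x
  exact ((continuous_eval_const (F := C(ι → G, ℝ)) x).tendsto f).comp hlim

end Groth.Agent.Lib.Helper31.HC1
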