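import Mathlib
import Groth.Agent.Lib.Helper31.HC1

namespace Groth.Agent.Lib.Helper31.HC2

open MeasureTheory Filter Topology

universe u

set_option linter.unusedSectionVars false
set_option linter.unusedSimpArgs false

variable {G : Type u} [AddCommGroup G] [TopologicalSpace G] [IsTopologicalAddGroup G]
  [CompactSpace G] [T2Space G] [MeasurableSpace G] [BorelSpace G]
  (μ : MeasureTheory.Measure G) [μ.IsAddHaarMeasure] [MeasureTheory.IsProbabilityMeasure μ]

theorem integrable_of_continuous {m : ℕ} (f : (Fin m → G) → ℝ) (hf : Continuous f) :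
    Integrable f (Measure.pi (fun _ : Fin m => μ)) := by
  have hm : Measurable f := HC1.measurable_of_continuous_pi (⟨f, hf⟩ : C(Fin m → G, ℝ))
  refine Integrable.of_bound hm.aestronglyMeasurable ‖(⟨f, hf⟩ : C(Fin m → G, ℝ))‖ ?_
  exact Filter.Eventually.of_forall fun x => ContinuousMap.norm_coe_le_norm (⟨f, hf⟩ : C(Fin m → G, ℝ)) x

/-- replace the coordinates in `S` of `x` by those of `w`. -/
def mix {n : ℕ} (S : Finset (Fin n)) (w x : Fin n → G) : Fin n → G :=
  fun i => if i ∈ S then w i else x i

omit [AddCommGroup G] [IsTopologicalAddGroup G] [CompactSpace G] [T2Space G] [MeasurableSpace G]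
  [BorelSpace G] in
theorem continuous_mix {n : ℕ} (S : Finset (Fin n)) (x : Fin n → G) :
    Continuous (fun w : Fin n → G => mix S w x) := by
  apply continuous_pi
  intro i
  unfold mix
  split_ifs
  · exact continuous_apply i
  · exact continuous_const

theorem continuous_integrand {m : ℕ} (ψ : (Fin (m + 1) → G) → ℝ) (hψc : Continuous ψ)
    (S : Finset (Fin (m + 1))) (x : Fin (m + 1) → G) :
    Continuous (fun u : Fin m → G => ψ (mix S (Fin.cons (0 : G) u) x)) :=
  hψc.comp ((continuous_mix S x).comp (continuous_const.finCons continuous_id))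

/-- partial integral -/
noncomputable def F {m : ℕ} (ψ : (Fin (m + 1) → G) → ℝ) (S : Finset (Fin (m + 1)))
    (x : Fin (m + 1) → G) : ℝ :=
  ∫ u, ψ (mix S (Fin.cons (0 : G) u) x) ∂(Measure.pi (fun _ : Fin m => μ))

theorem F_empty {m : ℕ} (ψ : (Fin (m + 1) → G) → ℝ) (x : Fin (m + 1) → G) :
    F μ ψ ∅ x = ψ x := by
  unfold F
  have : ∀ u : Fin m → G, mix (∅ : Finset (Fin (m + 1))) (Fin.cons (0 : G) u) x = x := by
    intro u; funext i; simp [mix]
  simp [this]

theorem F_full {m : ℕ} (ψ : (Fin (m + 1) → G) → ℝ) (x : Fin (m + 1) → G) :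
    F μ ψ (Finset.univ.erase 0) x =
      ∫ u, ψ (Fin.cons (x 0) u) ∂(Measure.pi (fun _ : Fin m => μ)) := by
  unfold F
  congr 1
  funext u
  congr 1
  funext i
  refine Fin.cases ?_ (fun k => ?_) i
  · simp [mix]
  · simp [mix, Fin.succ_ne_zero]

theorem F_rel {m : ℕ} (ψ : (Fin (m + 1) → G) → ℝ) (hψc : Continuous ψ)
    (hψ : ∀ (i j : Fin (m + 1)), i ≠ j → ∀ (x : Fin (m + 1) → G) (a b c : G),
      ψ (Function.update (Function.update x i (a + b)) j c) + ψ (Function.update (Function.update x i a) j b) =
        ψ (Function.update (Function.update x i a) j (b + c)) + ψ (Function.update (Function.update x i b) j c))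
    (S : Finset (Fin (m + 1))) (h0 : (0 : Fin (m + 1)) ∉ S) (j : Fin m) (hj : j.succ ∉ S)
    (y : Fin (m + 1) → G) :
    F μ ψ S y = F μ ψ (insert j.succ S) y + F μ ψ (insert j.succ S) (Function.update y 0 (y j.succ))
      - F μ ψ (insert j.succ S) (Function.update y 0 (y 0 + y j.succ)) := by
  classical
  have h0j : (0 : Fin (m + 1)) ≠ j.succ := (Fin.succ_ne_zero j).symm
  -- identification lemmas
  have e1 : ∀ (u : Fin m → G) (a : G),
      Function.update (Function.update (mix S (Fin.cons (0 : G) u) y) 0 a) j.succ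
        ((Fin.cons (0 : G) u : Fin (m + 1) → G) j.succ) =
      mix (insert j.succ S) (Fin.cons (0 : G) u) (Function.update y 0 a) := by
    intro u a
    funext i
    by_cases hij : i = j.succ
    · subst hij; simp [mix]
    · by_cases hi0 : i = 0
      · subst hi0
        simp [mix, Function.update_of_ne hij, h0, h0j]
      · simp [mix, Function.update_of_ne hij, Function.update_of_ne hi0, hij]
  have e2 : ∀ (u : Fin m → G),
      Function.update (Function.update (mix S (Fin.cons (0 : G) u) y) 0 (y 0)) j.succ (y j.succ) =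
      mix S (Fin.cons (0 : G) u) y := by
    intro u
    funext i
    by_cases hij : i = j.succ
    · subst hij; simp [mix, hj]
    · by_cases hi0 : i = 0
      · subst hi0
        simp [mix, Function.update_of_ne hij, h0]
      · simp [Function.update_of_ne hij, Function.update_of_ne hi0]
  have e3 : ∀ (u : Fin m → G),
      Function.update (Function.update (mix S (Fin.cons (0 : G) u) y) 0 (y 0)) j.succ
        (y j.succ + (Fin.cons (0 : G) u : Fin (m + 1) → G) j.succ) =
      mix (insert j.succ S) (Fin.cons (0 : G) (Pi.single j (y j.succ) + u)) y := by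
    intro u
    funext i
    by_cases hij : i = j.succ
    · subst hij; simp [mix]
    · by_cases hi0 : i = 0
      · subst hi0
        simp [mix, Function.update_of_ne hij, h0, h0j]
      · obtain ⟨k, rfl⟩ := Fin.exists_succ_eq.2 hi0
        have hkj : k ≠ j := fun h => hij (by rw [h])
        simp [mix, Function.update_of_ne hij, Function.update_of_ne hi0, hij, Pi.single_apply, hkj]
  have hpt : ∀ u : Fin m → G,
      ψ (mix (insert j.succ S) (Fin.cons (0 : G) u) (Function.update y 0 (y 0 + y j.succ))) +
        ψ (mix S (Fin.cons (0 : G) u) y) =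
      ψ (mix (insert j.succ S) (Fin.cons (0 : G) (Pi.single j (y j.succ) + u)) y) +
        ψ (mix (insert j.succ S) (Fin.cons (0 : G) u) (Function.update y 0 (y j.succ))) := by
    intro u
    have := hψ 0 j.succ h0j (mix S (Fin.cons (0 : G) u) y) (y 0) (y j.succ)
      ((Fin.cons (0 : G) u : Fin (m + 1) → G) j.succ)
    rw [e1, e2, e3, e1] at this
    exact this
  have hI := fun (S : Finset (Fin (m + 1))) (x : Fin (m + 1) → G) =>
    integrable_of_continuous μ _ (continuous_integrand ψ hψc S x)
  have hint := congrArg (fun f : (Fin m → G) → ℝ => ∫ u, f u ∂(Measure.pi (fun _ : Fin m => μ)))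
    (funext hpt)
  beta_reduce at hint
  rw [integral_add (hI _ _) (hI _ _), integral_add ?_ (hI _ _)] at hint
  · have htr := integral_add_left_eq_self (μ := Measure.pi (fun _ : Fin m => μ))
      (fun u : Fin m → G => ψ (mix (insert j.succ S) (Fin.cons (0 : G) u) y)) (Pi.single j (y j.succ))
    beta_reduce at htr
    rw [htr] at hint
    unfold F
    linarith
  · exact (hI (insert j.succ S) y).comp_add_left (Pi.single j (y j.succ))

end Groth.Agent.Lib.Helper31.HC2
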