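import Mathlib
import Groth.Agent.Lib.Helper31.HC2

namespace Groth.Agent.Lib.Helper31.HC3

open MeasureTheory Filter Topology Finset
open Groth.Agent.Lib.Helper31.HC2

universe u

set_option linter.unusedSectionVars false
set_option linter.unusedSimpArgs false

variable {G : Type u} [AddCommGroup G] [TopologicalSpace G] [IsTopologicalAddGroup G]
  [CompactSpace G] [T2Space G] [MeasurableSpace G] [BorelSpace G]
  (μ : MeasureTheory.Measure G) [μ.IsAddHaarMeasure] [MeasureTheory.IsProbabilityMeasure μ]

theorem alt_sum_real {α : Type*} [DecidableEq α] (U : Finset α) (hU : U.Nonempty) :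
    ∑ I ∈ U.powerset.erase ∅, (-1 : ℝ) ^ (1 + I.card) = 1 := by
  have h1 : (∑ I ∈ U.powerset, (-1 : ℝ) ^ I.card) = 0 := by
    have := congrArg (Int.cast : ℤ → ℝ) (sum_powerset_neg_one_pow_card_of_nonempty hU)
    push_cast at this
    exact this
  rw [Finset.sum_erase_eq_sub (Finset.empty_mem_powerset U)]
  simp only [pow_add, pow_one, ← Finset.mul_sum, h1]
  simp

theorem sum_pe_insert {α : Type*} [DecidableEq α] {a : α} {U : Finset α} (ha : a ∉ U)
    (h : Finset α → ℝ) :
    ∑ I ∈ (insert a U).powerset.erase ∅, h I =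
      ∑ I ∈ U.powerset.erase ∅, h I + ∑ I ∈ U.powerset, h (insert a I) := by
  rw [Finset.sum_erase_eq_sub (Finset.empty_mem_powerset _), Finset.sum_powerset_insert ha,
    Finset.sum_erase_eq_sub (Finset.empty_mem_powerset _)]
  ring

theorem claim {m : ℕ} (ψ : (Fin (m + 1) → G) → ℝ) (hψc : Continuous ψ)
    (hψ : ∀ (i j : Fin (m + 1)), i ≠ j → ∀ (x : Fin (m + 1) → G) (a b c : G),
      ψ (Function.update (Function.update x i (a + b)) j c) + ψ (Function.update (Function.update x i a) j b) =
        ψ (Function.update (Function.update x i a) j (b + c)) + ψ (Function.update (Function.update x i b) j c))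
    (x : Fin (m + 1) → G) (S : Finset (Fin (m + 1))) :
    (0 : Fin (m + 1)) ∉ S →
    ψ x = ∑ I ∈ (insert 0 S).powerset.erase ∅,
      (-1 : ℝ) ^ (1 + I.card) * F μ ψ S (Function.update x 0 (∑ i ∈ I, x i)) := by
  classical
  induction S using Finset.induction_on with
  | empty =>
    intro _
    rw [sum_pe_insert (Finset.notMem_empty _)]
    simp [F_empty]
  | insert a S ha ih =>
    intro h0
    have ha0 : a ≠ 0 := fun h => h0 (by rw [h]; exact Finset.mem_insert_self _ _)
    have h0S : (0 : Fin (m + 1)) ∉ S := fun h => h0 (Finset.mem_insert_of_mem h)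
    obtain ⟨j, rfl⟩ := Fin.exists_succ_eq.2 ha0
    have haU : j.succ ∉ insert (0 : Fin (m + 1)) S := by
      rw [Finset.mem_insert]; push Not; exact ⟨ha0, ha⟩
    rw [Finset.insert_comm, sum_pe_insert haU]
    rw [ih h0S]
    -- rewrite each F S term using F_rel
    have hrel : ∀ I : Finset (Fin (m + 1)),
        F μ ψ S (Function.update x 0 (∑ i ∈ I, x i)) =
          F μ ψ (insert j.succ S) (Function.update x 0 (∑ i ∈ I, x i)) +
            F μ ψ (insert j.succ S) (Function.update x 0 (x j.succ)) -
            F μ ψ (insert j.succ S) (Function.update x 0 (∑ i ∈ I, x i + x j.succ)) := by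
      intro I
      have := F_rel μ ψ hψc hψ S h0S j ha (Function.update x 0 (∑ i ∈ I, x i))
      simpa [Function.update_of_ne ha0] using this
    simp only [hrel]
    have hins : ∀ I ∈ (insert (0 : Fin (m + 1)) S).powerset.erase ∅,
        (-1 : ℝ) ^ (1 + (insert j.succ I).card) *
            F μ ψ (insert j.succ S) (Function.update x 0 (∑ i ∈ insert j.succ I, x i)) =
          - ((-1 : ℝ) ^ (1 + I.card) *
            F μ ψ (insert j.succ S) (Function.update x 0 (∑ i ∈ I, x i + x j.succ))) := by
      intro I hI
      have hjI : j.succ ∉ I := fun h =>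
        haU (Finset.mem_powerset.1 (Finset.mem_of_mem_erase hI) h)
      rw [Finset.card_insert_of_notMem hjI, Finset.sum_insert hjI, add_comm (x j.succ)]
      ring
    rw [← Finset.add_sum_erase _ _ (Finset.empty_mem_powerset (insert (0 : Fin (m + 1)) S)),
      Finset.sum_congr rfl hins]
    simp only [mul_sub, mul_add, Finset.sum_sub_distrib, Finset.sum_add_distrib, ← Finset.sum_mul,
      Finset.sum_neg_distrib]
    rw [alt_sum_real _ (Finset.insert_nonempty _ _)]
    simp
    ring

end Groth.Agent.Lib.Helper31.HC3
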