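import Mathlib
import Groth.Agent.Lib.Helper31.HC3

namespace Groth.Agent.Lib.Helper31.HC4

open MeasureTheory Filter Topology Finset
open Groth.Agent.Lib.Helper31.HC2

universe u

set_option linter.unusedSectionVars false
set_option linter.unusedSimpArgs false

variable {G : Type u} [AddCommGroup G] [TopologicalSpace G] [IsTopologicalAddGroup G]
  [CompactSpace G] [T2Space G] [MeasurableSpace G] [BorelSpace G]
  (μ : MeasureTheory.Measure G) [μ.IsAddHaarMeasure] [MeasureTheory.IsProbabilityMeasure μ]

theorem sign_eq (m c : ℕ) : (-1 : ℝ) ^ (m + 1 + c) * (-1 : ℝ) ^ m = (-1 : ℝ) ^ (1 + c) := by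
  have : (-1 : ℝ) ^ (m + 1 + c) * (-1 : ℝ) ^ m = (-1 : ℝ) ^ (1 + c) * ((-1) ^ m * (-1) ^ m) := by ring
  rw [this, ← pow_add, ← two_mul, pow_mul]
  simp

/-- Part (1). -/
theorem part1 {m : ℕ} (ψ : (Fin (m + 1) → G) → ℝ) (hψc : Continuous ψ)
    (hψ : ∀ (i j : Fin (m + 1)), i ≠ j → ∀ (x : Fin (m + 1) → G) (a b c : G),
      ψ (Function.update (Function.update x i (a + b)) j c) + ψ (Function.update (Function.update x i a) j b) =
        ψ (Function.update (Function.update x i a) j (b + c)) + ψ (Function.update (Function.update x i b) j c))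
    (x : Fin (m + 1) → G) :
    ψ x = ∑ I ∈ ((Finset.univ : Finset (Fin (m + 1))).powerset.erase ∅),
        (-1 : ℝ) ^ (m + 1 + I.card) * ((-1 : ℝ) ^ m *
          ∫ u, ψ (Fin.cons (∑ i ∈ I, x i) u) ∂(MeasureTheory.Measure.pi (fun _ : Fin m => μ))) := by
  classical
  have h := HC3.claim μ ψ hψc hψ x (Finset.univ.erase 0) (Finset.notMem_erase _ _)
  rw [Finset.insert_erase (Finset.mem_univ _)] at h
  rw [h]
  refine Finset.sum_congr rfl fun I _ => ?_
  rw [F_full, Function.update_self, ← mul_assoc, sign_eq]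

/-- the integral functional on `C(K, ℝ)` is continuous. -/
theorem continuous_integral_functional {m : ℕ} :
    Continuous (fun f : C(Fin m → G, ℝ) => ∫ u, f u ∂(Measure.pi (fun _ : Fin m => μ))) := by
  refine (LipschitzWith.of_dist_le_mul (K := 1) fun f g => ?_).continuous
  rw [Real.dist_eq, ← integral_sub (integrable_of_continuous μ _ f.continuous)
    (integrable_of_continuous μ _ g.continuous), ← Real.norm_eq_abs]
  have := norm_integral_le_of_norm_le_const (μ := Measure.pi (fun _ : Fin m => μ))
    (f := fun u => f u - g u) (C := dist f g)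
    (Filter.Eventually.of_forall fun u => by
      rw [← dist_eq_norm]
      exact ContinuousMap.dist_apply_le_dist u)
  simpa using this

/-- Part (2). -/
theorem part2 {m : ℕ} (ψ : (Fin (m + 1) → G) → ℝ) (hψc : Continuous ψ) :
    Continuous (fun g : G => (-1 : ℝ) ^ m *
      ∫ u, ψ (Fin.cons g u) ∂(MeasureTheory.Measure.pi (fun _ : Fin m => μ))) := by
  refine continuous_const.mul ?_
  let Ψ : C(G × (Fin m → G), ℝ) :=
    ⟨fun p => ψ (Fin.cons p.1 p.2), hψc.comp (Continuous.finCons (A := fun _ => G) continuous_fst continuous_snd)⟩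
  exact (continuous_integral_functional μ).comp Ψ.curry.continuous

end Groth.Agent.Lib.Helper31.HC4
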