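import Mathlib
import Groth.Agent.Lib.Helper31.HC4

namespace Groth.Agent.Lib.Helper31.HC5

open MeasureTheory Filter Topology Finset
open Groth.Agent.Lib.Helper31.HC2

universe u

set_option linter.unusedSectionVars false
set_option linter.unusedSimpArgs false

variable {G : Type u} [AddCommGroup G] [TopologicalSpace G] [IsTopologicalAddGroup G]
  [CompactSpace G] [T2Space G] [MeasurableSpace G] [BorelSpace G]
  (μ : MeasureTheory.Measure G) [μ.IsAddHaarMeasure] [MeasureTheory.IsProbabilityMeasure μ]

/-- the sum of the coordinates in `I` of `cons g u`. -/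
def ssum {m : ℕ} (I : Finset (Fin (m + 1))) (g : G) (u : Fin m → G) : G :=
  ∑ i ∈ I, (Fin.cons g u : Fin (m + 1) → G) i

theorem continuous_ssum {m : ℕ} (I : Finset (Fin (m + 1))) (g : G) :
    Continuous (ssum I g) := by
  unfold ssum
  exact continuous_finsetSum _ fun i _ =>
    (continuous_apply i).comp (Continuous.finCons (A := fun _ => G) continuous_const continuous_id)

theorem ssum_translate {m : ℕ} (I : Finset (Fin (m + 1))) (g : G) (j : Fin m) (hj : j.succ ∈ I)
    (t : G) (u : Fin m → G) : ssum I g (Pi.single j t + u) = ssum I g u + t := by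
  classical
  unfold ssum
  have h1 : ∀ i : Fin (m + 1), (Fin.cons g (Pi.single j t + u) : Fin (m + 1) → G) i =
      (Fin.cons g u : Fin (m + 1) → G) i + (if i = j.succ then t else 0) := by
    intro i
    refine Fin.cases ?_ (fun k => ?_) i
    · simp [(Fin.succ_ne_zero j).symm]
    · by_cases hk : k = j
      · subst hk; simp [add_comm]
      · simp [hk, Pi.single_apply]
  simp only [h1, Finset.sum_add_distrib, Finset.sum_ite_eq', hj, if_true]

theorem key {m : ℕ} (φ : G → ℝ) (hφ : Continuous φ) (g : G) (I : Finset (Fin (m + 1)))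
    (j : Fin m) (hj : j.succ ∈ I) :
    ∫ u, φ (ssum I g u) ∂(Measure.pi (fun _ : Fin m => μ)) = ∫ t, φ t ∂μ := by
  -- Step 1
  have h1 : ∀ t : G, ∫ u, φ (ssum I g u + t) ∂(Measure.pi (fun _ : Fin m => μ)) =
      ∫ u, φ (ssum I g u) ∂(Measure.pi (fun _ : Fin m => μ)) := by
    intro t
    have := integral_add_left_eq_self (μ := Measure.pi (fun _ : Fin m => μ))
      (fun u : Fin m → G => φ (ssum I g u)) (Pi.single j t)
    simp only [ssum_translate I g j hj] at this
    exact this
  -- Step 2
  have h2 : ∫ u, φ (ssum I g u) ∂(Measure.pi (fun _ : Fin m => μ)) =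
      ∫ t, (∫ u, φ (ssum I g u + t) ∂(Measure.pi (fun _ : Fin m => μ))) ∂μ := by
    simp only [h1]
    simp
  -- Step 3: Fubini
  have hint : Integrable (Function.uncurry fun (t : G) (u : Fin m → G) => φ (ssum I g u + t))
      (μ.prod (Measure.pi (fun _ : Fin m => μ))) := by
    let F' : C(Fin (m + 1) → G, ℝ) :=
      ⟨fun w => φ (ssum I g (Fin.tail w) + w 0),
        hφ.comp (((continuous_ssum I g).comp
          (continuous_pi fun k => continuous_apply k.succ)).add (continuous_apply 0))⟩
    have hF' : Measurable F' := HC1.measurable_of_continuous_pi F'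
    have he : Measurable (fun p : G × (Fin m → G) => (Fin.cons p.1 p.2 : Fin (m + 1) → G)) := by
      refine measurable_pi_lambda _ fun i => ?_
      refine Fin.cases ?_ (fun k => ?_) i
      · simpa using measurable_fst
      · simp only [Fin.cons_succ]
        exact (measurable_pi_apply k).comp measurable_snd
    have hmeas : Measurable (Function.uncurry fun (t : G) (u : Fin m → G) => φ (ssum I g u + t)) := by
      have : (Function.uncurry fun (t : G) (u : Fin m → G) => φ (ssum I g u + t)) =
          F' ∘ (fun p : G × (Fin m → G) => (Fin.cons p.1 p.2 : Fin (m + 1) → G)) := by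
        funext p
        simp [F', Function.uncurry]
      rw [this]
      exact hF'.comp he
    refine Integrable.of_bound hmeas.aestronglyMeasurable ‖(⟨φ, hφ⟩ : C(G, ℝ))‖ ?_
    exact Filter.Eventually.of_forall fun p =>
      ContinuousMap.norm_coe_le_norm (⟨φ, hφ⟩ : C(G, ℝ)) _
  rw [h2, integral_integral_swap hint]
  -- Step 4
  have h4 : ∀ u : Fin m → G, ∫ t, φ (ssum I g u + t) ∂μ = ∫ t, φ t ∂μ := fun u =>
    integral_add_left_eq_self (μ := μ) φ (ssum I g u)
  simp only [h4]
  simp

/-- Part (3). -/
theorem part3 {m : ℕ} (ψ : (Fin (m + 1) → G) → ℝ) (φ : G → ℝ) (hφ : Continuous φ)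
    (hφψ : ∀ x : Fin (m + 1) → G,
      ψ x = ∑ I ∈ ((Finset.univ : Finset (Fin (m + 1))).powerset.erase ∅),
        (-1 : ℝ) ^ (m + 1 + I.card) * φ (∑ i ∈ I, x i)) :
    φ = fun g => (-1 : ℝ) ^ m *
      ∫ u, ψ (Fin.cons g u) ∂(MeasureTheory.Measure.pi (fun _ : Fin m => μ)) := by
  classical
  funext g
  set κ := ∫ t, φ t ∂μ with hκ
  have hval : ∀ I ∈ ((Finset.univ : Finset (Fin (m + 1))).powerset.erase ∅),
      ∫ u, φ (ssum I g u) ∂(Measure.pi (fun _ : Fin m => μ)) =
        κ + (if I = {0} then φ g - κ else 0) := by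
    intro I hI
    by_cases hI0 : I = {0}
    · subst hI0
      simp [ssum]
    · rw [if_neg hI0, add_zero]
      have hne : I ≠ ∅ := (Finset.mem_erase.1 hI).1
      obtain ⟨i, hiI, hi0⟩ : ∃ i ∈ I, i ≠ 0 := by
        by_contra h
        push Not at h
        apply hI0
        ext k
        simp only [Finset.mem_singleton]
        constructor
        · intro hk; exact h k hk
        · rintro rfl
          obtain ⟨k, hk⟩ := Finset.nonempty_iff_ne_empty.2 hne
          rwa [← h k hk]
      obtain ⟨j, rfl⟩ := Fin.exists_succ_eq.2 hi0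
      exact key μ φ hφ g I j hiI
  have hint : ∀ I : Finset (Fin (m + 1)),
      Integrable (fun u : Fin m → G => (-1 : ℝ) ^ (m + 1 + I.card) * φ (ssum I g u))
        (Measure.pi (fun _ : Fin m => μ)) := fun I =>
    (integrable_of_continuous μ _ (hφ.comp (continuous_ssum I g))).const_mul _
  have h0mem : ({0} : Finset (Fin (m + 1))) ∈ (Finset.univ : Finset (Fin (m + 1))).powerset.erase ∅ := by
    simp
  have hcalc : ∫ u, ψ (Fin.cons g u) ∂(Measure.pi (fun _ : Fin m => μ)) = (-1 : ℝ) ^ m * φ g := by
    have : (fun u : Fin m → G => ψ (Fin.cons g u)) = fun u =>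
        ∑ I ∈ ((Finset.univ : Finset (Fin (m + 1))).powerset.erase ∅),
          (-1 : ℝ) ^ (m + 1 + I.card) * φ (ssum I g u) := by
      funext u
      rw [hφψ]
      rfl
    rw [this, integral_finsetSum _ (fun I _ => hint I)]
    simp only [integral_const_mul]
    rw [Finset.sum_congr rfl (fun I hI => by rw [hval I hI])]
    simp only [mul_add, Finset.sum_add_distrib, mul_ite, mul_zero, Finset.sum_ite_eq', h0mem,
      if_true, ← Finset.sum_mul]
    have hs : ∑ I ∈ ((Finset.univ : Finset (Fin (m + 1))).powerset.erase ∅),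
        (-1 : ℝ) ^ (m + 1 + I.card) = (-1 : ℝ) ^ m := by
      have := HC3.alt_sum_real (Finset.univ : Finset (Fin (m + 1))) Finset.univ_nonempty
      have h2 : ∀ I : Finset (Fin (m + 1)), (-1 : ℝ) ^ (m + 1 + I.card) =
          (-1 : ℝ) ^ m * (-1 : ℝ) ^ (1 + I.card) := fun I => by rw [← pow_add, add_assoc]
      simp only [h2, ← Finset.mul_sum, this, mul_one]
    rw [hs]
    simp only [Finset.card_singleton]
    rw [show m + 1 + 1 = m + 2 by ring, pow_add]
    simp
    ring
  rw [hcalc, ← mul_assoc, ← pow_add, ← two_mul, pow_mul]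
  simp

end Groth.Agent.Lib.Helper31.HC5
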