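import Mathlib

/-!
# Counting fibres of weight functions by power series (helper31)
-/

set_option autoImplicit false

namespace Groth.Agent.Lib.Helper31.Hb

open PowerSeries

/-- the fibres of `w` are finite and their cardinalities are the coefficients of `H` -/
def Counts {α : Type*} (w : α → ℕ) (H : PowerSeries ℤ) : Prop :=
  ∀ d, Finite {a // w a = d} ∧ (Nat.card {a // w a = d} : ℤ) = coeff d H

theorem Counts.congr {α β : Type*} {w : α → ℕ} {w' : β → ℕ} {H : PowerSeries ℤ} (e : α ≃ β)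
    (h : ∀ a, w' (e a) = w a) (hc : Counts w H) : Counts w' H := by
  intro d
  have e' : {a // w a = d} ≃ {b // w' b = d} :=
    e.subtypeEquiv (fun a => by rw [h a])
  obtain ⟨h1, h2⟩ := hc d
  exact ⟨Finite.of_equiv _ e', by rw [← Nat.card_congr e', h2]⟩

theorem Counts.sum {α β : Type*} {w : α → ℕ} {w' : β → ℕ} {H H' : PowerSeries ℤ}
    (hc : Counts w H) (hc' : Counts w' H') : Counts (Sum.elim w w') (H + H') := by
  intro d
  obtain ⟨h1, h2⟩ := hc d
  obtain ⟨h1', h2'⟩ := hc' d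
  have e : {x : α ⊕ β // Sum.elim w w' x = d} ≃ {a // w a = d} ⊕ {b // w' b = d} :=
    { toFun := fun x => match x with
        | ⟨Sum.inl a, h⟩ => Sum.inl ⟨a, h⟩
        | ⟨Sum.inr b, h⟩ => Sum.inr ⟨b, h⟩
      invFun := fun y => match y with
        | Sum.inl a => ⟨Sum.inl a.1, a.2⟩
        | Sum.inr b => ⟨Sum.inr b.1, b.2⟩
      left_inv := by rintro ⟨a | b, h⟩ <;> rfl
      right_inv := by rintro (a | b) <;> rfl }
  refine ⟨Finite.of_equiv _ e.symm, ?_⟩
  rw [Nat.card_congr e, Nat.card_sum, map_add, ← h2, ← h2']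
  push_cast
  rfl

theorem Counts.prod {α β : Type*} {w : α → ℕ} {w' : β → ℕ} {H H' : PowerSeries ℤ}
    (hc : Counts w H) (hc' : Counts w' H') :
    Counts (fun p : α × β => w p.1 + w' p.2) (H * H') := by
  intro d
  have hf : ∀ e, Finite {a // w a = e} := fun e => (hc e).1
  have hf' : ∀ e, Finite {b // w' b = e} := fun e => (hc' e).1
  have e : {p : α × β // w p.1 + w' p.2 = d} ≃
      Σ x : ↥(Finset.HasAntidiagonal.antidiagonal d), {a // w a = x.1.1} × {b // w' b = x.1.2} :=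
    { toFun := fun p => ⟨⟨(w p.1.1, w' p.1.2), by simpa using p.2⟩, ⟨p.1.1, rfl⟩, ⟨p.1.2, rfl⟩⟩
      invFun := fun y => ⟨(y.2.1.1, y.2.2.1), by
        have := y.1.2
        rw [Finset.HasAntidiagonal.mem_antidiagonal] at this
        rw [y.2.1.2, y.2.2.2]; exact this⟩
      left_inv := by rintro ⟨⟨a, b⟩, h⟩; rfl
      right_inv := by
        rintro ⟨⟨⟨p, q⟩, hx⟩, ⟨a, ha⟩, ⟨b, hb⟩⟩
        simp only at ha hb
        subst ha hb
        rfl }
  refine ⟨Finite.of_equiv _ e.symm, ?_⟩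
  rw [Nat.card_congr e, Nat.card_sigma, coeff_mul]
  push_cast
  rw [Finset.sum_coe_sort (Finset.HasAntidiagonal.antidiagonal d)
    (fun x => ((Nat.card ({a // w a = x.1} × {b // w' b = x.2}) : ℕ) : ℤ))]
  refine Finset.sum_congr rfl fun x _ => ?_
  rw [Nat.card_prod, ← (hc x.1).2, ← (hc' x.2).2]
  push_cast
  rfl

theorem Counts.const {α : Type*} [Finite α] : Counts (fun _ : α => 0) (C (Nat.card α : ℤ)) := by
  intro d
  refine ⟨inferInstance, ?_⟩
  rw [coeff_C]
  by_cases hd : d = 0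
  · subst hd
    rw [if_pos rfl]
    have e : {a : α // (0 : ℕ) = 0} ≃ α := Equiv.subtypeUnivEquiv (fun _ => rfl)
    rw [Nat.card_congr e]
  · rw [if_neg hd]
    have : IsEmpty {a : α // (0 : ℕ) = d} := ⟨fun a => hd a.2.symm⟩
    simp

theorem Counts.nat_shift (j : ℕ) : Counts (fun k : ℕ => k + j) (X ^ j * mk fun _ => (1 : ℤ)) := by
  intro d
  rw [coeff_X_pow_mul']
  by_cases hd : j ≤ d
  · have e : {k : ℕ // k + j = d} ≃ Unit :=
      { toFun := fun _ => ()
        invFun := fun _ => ⟨d - j, by omega⟩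
        left_inv := by rintro ⟨k, hk⟩; ext; simp only; omega
        right_inv := fun _ => rfl }
    refine ⟨Finite.of_equiv _ e.symm, ?_⟩
    rw [if_pos hd, Nat.card_congr e]
    simp
  · have : IsEmpty {k : ℕ // k + j = d} := ⟨fun k => hd (by have := k.2; omega)⟩
    refine ⟨inferInstance, ?_⟩
    rw [if_neg hd]
    simp

theorem Counts.nat_mul (c : ℕ) (hc : 0 < c) :
    Counts (fun k : ℕ => c * k) (mk fun d => if c ∣ d then (1 : ℤ) else 0) := by
  intro d
  rw [coeff_mk]
  by_cases hd : c ∣ d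
  · obtain ⟨q, rfl⟩ := hd
    have e : {k : ℕ // c * k = c * q} ≃ Unit :=
      { toFun := fun _ => ()
        invFun := fun _ => ⟨q, rfl⟩
        left_inv := by
          rintro ⟨k, hk⟩
          ext
          exact (Nat.eq_of_mul_eq_mul_left hc hk).symm
        right_inv := fun _ => rfl }
    refine ⟨Finite.of_equiv _ e.symm, ?_⟩
    rw [if_pos (Dvd.intro _ rfl), Nat.card_congr e]
    simp
  · have : IsEmpty {k : ℕ // c * k = d} := ⟨fun k => hd ⟨k.1, k.2.symm⟩⟩
    refine ⟨inferInstance, ?_⟩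
    rw [if_neg hd]
    simp

end Groth.Agent.Lib.Helper31.Hb
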