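import Mathlib
import Groth.Agent.Lib.Helper31.Hb1

/-!
# Homogeneous bases of graded ℤ-modules and their counting series (helper31)
-/

set_option autoImplicit false

namespace Groth.Agent.Lib.Helper31.Hb

open PowerSeries DirectSum

/-- `S` has a ℤ-basis of elements homogeneous for the pieces `P`, counted by `H` -/
def HB {S : Type*} [AddCommGroup S] (P : ℕ → Submodule ℤ S) (H : PowerSeries ℤ) : Prop :=
  ∃ (ι : Type) (wt : ι → ℕ) (b : Module.Basis ι ℤ S), (∀ i, b i ∈ P (wt i)) ∧ Counts wt H

theorem HB.free {S : Type*} [AddCommGroup S] {P : ℕ → Submodule ℤ S} {H : PowerSeries ℤ}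
    (h : HB P H) : Module.Free ℤ S := by
  obtain ⟨ι, wt, b, -, -⟩ := h
  exact Module.Free.of_basis b

theorem HB.finrank {S : Type*} [AddCommGroup S] {P : ℕ → Submodule ℤ S} {H : PowerSeries ℤ}
    (h : HB P H) (hP : DirectSum.IsInternal P) (d : ℕ) :
    (Module.finrank ℤ (P d) : ℤ) = coeff d H := by
  classical
  obtain ⟨ι, wt, b, hb, hc⟩ := h
  obtain ⟨hfin, hcard⟩ := hc d
  -- the span of the basis vectors of weight `d`
  have hQ : P d = Submodule.span ℤ (Set.range fun i : {i // wt i = d} => b i.1) := by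
    apply le_antisymm
    · intro x hx
      -- expand `x` in the basis
      set c := b.repr x with hcdef
      have hx_sum : x = ∑ i ∈ c.support, c i • b i := by
        conv_lhs => rw [← b.linearCombination_repr x]
        rw [Finsupp.linearCombination_apply, Finsupp.sum]
      -- the element of the direct sum
      set y : ⨁ e, P e := ∑ i ∈ c.support,
        DirectSum.of (fun e => P e) (wt i) ⟨c i • b i, (P (wt i)).smul_mem _ (hb i)⟩ with hy
      have hy1 : DirectSum.coeAddMonoidHom P y = x := by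
        rw [hy, map_sum, hx_sum]
        refine Finset.sum_congr rfl fun i _ => ?_
        rw [DirectSum.coeAddMonoidHom_of]
      have hy2 : DirectSum.coeAddMonoidHom P (DirectSum.of (fun e => P e) d ⟨x, hx⟩) = x := by
        rw [DirectSum.coeAddMonoidHom_of]
      have heq : y = DirectSum.of (fun e => P e) d ⟨x, hx⟩ := hP.injective (hy1.trans hy2.symm)
      have hcomp : ((y d : P d) : S) = x := by
        rw [heq, DirectSum.of_eq_same]
      rw [← hcomp, hy]
      rw [DFinsupp.finsetSum_apply, AddSubmonoidClass.coe_finsetSum]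
      refine Submodule.sum_mem _ fun i _ => ?_
      rw [DirectSum.coe_of_apply]
      split_ifs with hi
      · exact Submodule.smul_mem _ _ (Submodule.subset_span ⟨⟨i, hi⟩, rfl⟩)
      · exact Submodule.zero_mem _
    · rw [Submodule.span_le]
      rintro _ ⟨i, rfl⟩
      have := hb i.1
      rwa [i.2] at this
  have hli : LinearIndependent ℤ (fun i : {i // wt i = d} => b i.1) :=
    b.linearIndependent.comp _ Subtype.val_injective
  have : Fintype {i // wt i = d} := Fintype.ofFinite _
  have hfr : Module.finrank ℤ (P d) = Fintype.card {i // wt i = d} := by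
    rw [hQ]
    exact finrank_span_eq_card hli
  rw [hfr, ← Nat.card_eq_fintype_card, hcard]

theorem HB.step {S S' : Type*} [CommRing S] [CommRing S'] (φ : S →+* S')
    {P : ℕ → Submodule ℤ S} {P' : ℕ → Submodule ℤ S'}
    (hφ : ∀ d x, x ∈ P d → φ x ∈ P' d)
    (hmul : ∀ a b x y, x ∈ P' a → y ∈ P' b → x * y ∈ P' (a + b))
    {κ : Type} (c : κ → S') (cw : κ → ℕ) (hc : ∀ k, c k ∈ P' (cw k))
    {Q : PowerSeries ℤ} (hcw : Counts cw Q)
    (hfree : ∀ (ι : Type) (b : Module.Basis ι ℤ S),
      ∃ b' : Module.Basis (ι × κ) ℤ S', ∀ i k, b' (i, k) = φ (b i) * c k)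
    {H : PowerSeries ℤ} (h : HB P H) : HB P' (H * Q) := by
  obtain ⟨ι, wt, b, hb, hcnt⟩ := h
  obtain ⟨b', hb'⟩ := hfree ι b
  refine ⟨ι × κ, fun p => wt p.1 + cw p.2, b', ?_, hcnt.prod hcw⟩
  rintro ⟨i, k⟩
  rw [hb']
  exact hmul _ _ _ _ (hφ _ _ (hb i)) (hc k)

end Groth.Agent.Lib.Helper31.Hb
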