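import Mathlib
import Groth.Prelude.Def_W4c5m1nsnscurvesI
import Groth.Prelude.Def_W4c5m1nsnscurvesC
import Groth.Agent.Lib.Helper31.Hb2

/-!
# The grading of the coordinate ring of U_n: homogeneity facts (helper31)
-/

set_option autoImplicit false
set_option linter.unusedSectionVars false

open W4c5m1nsnscurves MvPolynomial

namespace Groth.Agent.Lib.Helper31.Hb

attribute [local instance] MvPolynomial.weightedGradedAlgebra

variable (R : Type) [CommRing R] (m : ℕ)

theorem hX (g : UGen m) : IsWeightedHomogeneous (uwt (m := m)) (X g : MvPolynomial (UGen m) R) (uwt g) :=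
  isWeightedHomogeneous_X R uwt g

theorem hX1 (g : UGen m) (h : uwt g = 1) :
    IsWeightedHomogeneous (uwt (m := m)) (X g : MvPolynomial (UGen m) R) 1 := h ▸ hX R m g

theorem hX2 (g : UGen m) (h : uwt g = 2) :
    IsWeightedHomogeneous (uwt (m := m)) (X g : MvPolynomial (UGen m) R) 2 := h ▸ hX R m g

theorem hXX (g g' : UGen m) (h : uwt g = 1) (h' : uwt g' = 1) :
    IsWeightedHomogeneous (uwt (m := m)) (X g * X g' : MvPolynomial (UGen m) R) 2 :=
  (hX1 R m g h).mul (hX1 R m g' h')

theorem urel_homog :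
    (Ideal.span (URel R m)).IsHomogeneous (weightedHomogeneousSubmodule R (uwt (m := m))) := by
  apply Ideal.homogeneous_span
  rintro p (((⟨q, rfl⟩ | ⟨q, rfl⟩) | ⟨q, rfl⟩) | ⟨q, rfl⟩)
  · refine ⟨1, ?_⟩
    show _ ∈ weightedHomogeneousSubmodule R uwt _
    rw [mem_weightedHomogeneousSubmodule]
    exact ((hX1 R m _ rfl).add (hX1 R m _ rfl)).sub
      (((((hX1 R m .a rfl).add (hX1 R m _ rfl)).add (hX1 R m _ rfl)).add (hX1 R m _ rfl)).add
        (hX1 R m _ rfl))
  · refine ⟨2, ?_⟩
    show _ ∈ weightedHomogeneousSubmodule R uwt _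
    rw [mem_weightedHomogeneousSubmodule]
    exact ((((hXX R m _ _ rfl rfl).add (hXX R m _ _ rfl rfl)).sub
      (hXX R m _ _ rfl rfl)).sub (hX2 R m .c rfl))
  · refine ⟨2, ?_⟩
    show _ ∈ weightedHomogeneousSubmodule R uwt _
    rw [mem_weightedHomogeneousSubmodule]
    exact ((((hXX R m _ _ rfl rfl).add (hXX R m _ _ rfl rfl)).sub
      (hXX R m _ _ rfl rfl)).sub (hX2 R m .cb rfl))
  · refine ⟨2, ?_⟩
    show _ ∈ weightedHomogeneousSubmodule R uwt _
    rw [mem_weightedHomogeneousSubmodule]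
    have h3 : IsWeightedHomogeneous (uwt (m := m))
        ((X .a + X (.ci q.1.2.2) + X (.cbi q.1.2.2)) * X (.ci q.1.2.2) :
          MvPolynomial (UGen m) R) 2 :=
      (((hX1 R m .a rfl).add (hX1 R m _ rfl)).add (hX1 R m _ rfl)).mul (hX1 R m _ rfl)
    exact (((((hXX R m _ _ rfl rfl).add (hXX R m _ _ rfl rfl)).sub
      (hXX R m _ _ rfl rfl)).add h3).sub (hX2 R m .c rfl))

theorem upiece_internal : DirectSum.IsInternal (upiece R m) := by
  have : GrQuot.IsHomog (weightedHomogeneousSubmodule R (uwt (m := m))) (Ideal.span (URel R m)) :=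
    (GrQuot.isHomog_iff _ _).2 (urel_homog R m)
  exact DirectSum.Decomposition.isInternal
    (GrQuot.quot (weightedHomogeneousSubmodule R (uwt (m := m))) (Ideal.span (URel R m)))

theorem mk_mem_upiece {p : MvPolynomial (UGen m) R} {d : ℕ}
    (hp : IsWeightedHomogeneous (uwt (m := m)) p d) :
    Ideal.Quotient.mk (Ideal.span (URel R m)) p ∈ upiece R m d :=
  GrQuot.mk_mem_quot _ _ ((mem_weightedHomogeneousSubmodule R _ _ _).2 hp)

theorem ugen_mem (g : UGen m) : ugen R m g ∈ upiece R m (uwt g) :=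
  mk_mem_upiece R m (hX R m g)

theorem upiece_mul {a b : ℕ} {x y : URing R m} (hx : x ∈ upiece R m a) (hy : y ∈ upiece R m b) :
    x * y ∈ upiece R m (a + b) :=
  SetLike.mul_mem_graded (A := GrQuot.quot (weightedHomogeneousSubmodule R (uwt (m := m)))
    (Ideal.span (URel R m))) hx hy

theorem upiece_one : (1 : URing R m) ∈ upiece R m 0 :=
  SetLike.one_mem_graded (GrQuot.quot (weightedHomogeneousSubmodule R (uwt (m := m)))
    (Ideal.span (URel R m)))

theorem upiece_pow {a : ℕ} {x : URing R m} (hx : x ∈ upiece R m a) (n : ℕ) :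
    x ^ n ∈ upiece R m (n * a) := by
  induction n with
  | zero => simpa using upiece_one R m
  | succ n ih =>
    rw [pow_succ, Nat.succ_mul]
    exact upiece_mul R m ih hx

theorem isWH_rename {p : MvPolynomial (UGen m) R} {d : ℕ}
    (hp : IsWeightedHomogeneous (uwt (m := m)) p d) :
    IsWeightedHomogeneous (uwt (m := m + 1)) (rename UGen.castSucc p) d := by
  intro ν hν
  obtain ⟨u, rfl, hu⟩ := coeff_rename_ne_zero _ _ _ hν
  rw [← hp hu]
  simp only [Finsupp.weight, LinearMap.toAddMonoidHom_coe]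
  rw [Finsupp.linearCombination_mapDomain]
  congr 2
  funext g
  cases g <;> rfl

theorem uincl_mem {d : ℕ} {x : URing R m} (hx : x ∈ upiece R m d) :
    uincl R m x ∈ upiece R (m + 1) d := by
  obtain ⟨p, hp, rfl⟩ := (GrQuot.mem_quot_iff _ _ _ _).1 hx
  have : uincl R m (Ideal.Quotient.mk (Ideal.span (URel R m)) p) =
      Ideal.Quotient.mk (Ideal.span (URel R (m + 1))) (rename UGen.castSucc p) := rfl
  rw [this]
  exact mk_mem_upiece R (m + 1)
    (isWH_rename R m ((mem_weightedHomogeneousSubmodule R _ _ _).1 hp))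

end Groth.Agent.Lib.Helper31.Hb
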