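import Mathlib
import Groth.Prelude.Def_W4c5m1nsnscurvesI
import Groth.Prelude.Def_W4c5m1nsnscurvesC
import Groth.Agent.Lib.Helper31.Hb3
import Groth.Agent.S18252
import Groth.Agent.S18246

/-!
# The inductive step for the Hilbert series of the coordinate ring of U_n (helper31)
-/

set_option autoImplicit false
set_option linter.unusedSectionVars false

open W4c5m1nsnscurves MvPolynomial

namespace Groth.Agent.Lib.Helper31.Hb

variable (m : ℕ)

/-- weights of the monomials `cmon` -/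
def mw : Option (ℕ ⊕ (CVar m × ℕ)) → ℕ
  | none => 0
  | some (Sum.inl k) => k + 2
  | some (Sum.inr (_, k)) => k + 1

/-- `CVar m` has `m + 2` elements -/
def cvarEquiv : CVar m ≃ Option (Option (Fin m)) where
  toFun
    | .x2 => none
    | .x3 => some none
    | .xi i => some (some i)
  invFun
    | none => .x2
    | some none => .x3
    | some (some i) => .xi i
  left_inv := by rintro (_ | _ | i) <;> rfl
  right_inv := by rintro (_ | _ | i) <;> rfl

theorem card_cvar : Nat.card (CVar m) = m + 2 := by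
  rw [Nat.card_congr (cvarEquiv m), Nat.card_eq_fintype_card, Fintype.card_option,
    Fintype.card_option, Fintype.card_fin]

instance : Finite (CVar m) := Finite.of_equiv _ (cvarEquiv m).symm

theorem hmk1 : (PowerSeries.mk fun _ => (1 : ℤ)) * (1 - PowerSeries.X) = 1 :=
  PowerSeries.mk_one_mul_one_sub_eq_one ℤ

theorem mw_counts : Counts (mw m)
    ((PowerSeries.mk fun _ => (1 : ℤ)) *
      (1 + PowerSeries.C ((m + 1 : ℕ) : ℤ) * PowerSeries.X + PowerSeries.X ^ 2)) := by
  have h1 : Counts (fun _ : PUnit.{1} => 0) (PowerSeries.C (Nat.card PUnit.{1} : ℤ)) := Counts.const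
  have h2 : Counts (fun k : ℕ => k + 2) (PowerSeries.X ^ 2 * PowerSeries.mk fun _ => (1 : ℤ)) :=
    Counts.nat_shift 2
  have h3 : Counts (fun p : CVar m × ℕ => 0 + (p.2 + 1))
      (PowerSeries.C (Nat.card (CVar m) : ℤ) *
        (PowerSeries.X ^ 1 * PowerSeries.mk fun _ => (1 : ℤ))) :=
    Counts.prod Counts.const (Counts.nat_shift 1)
  have h4 := (h2.sum h3).sum h1
  have h5 := h4.congr (Equiv.optionEquivSumPUnit.{0, 0} (ℕ ⊕ (CVar m × ℕ))).symm (w' := mw m) (by
    rintro ((k | ⟨y, k⟩) | _)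
    · rfl
    · simp [mw]
    · rfl)
  convert h5 using 1
  rw [card_cvar]
  simp only [Nat.card_unique, Nat.cast_one, map_one, Nat.cast_add, map_add, Nat.cast_ofNat,
    map_ofNat]
  linear_combination hmk1


theorem urel_eval (p : MvPolynomial (UGen m) (URing ℤ m)) (hp : p ∈ URel (URing ℤ m) m) :
    MvPolynomial.eval (ugen ℤ m) p = 0 := by
  rcases hp with ((⟨q, rfl⟩ | ⟨q, rfl⟩) | ⟨q, rfl⟩) | ⟨q, rfl⟩
  · simp only [map_sub, map_add, eval_X]
    rw [Groth.Agent.S18252.urel1 ℤ m q.1.1 q.1.2 q.2, sub_self]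
  · simp only [map_sub, map_add, map_mul, eval_X]
    exact Groth.Agent.S18252.urel2 ℤ m q.1.1 q.1.2 q.2
  · simp only [map_sub, map_add, map_mul, eval_X]
    exact Groth.Agent.S18252.urel3 ℤ m q.1.1 q.1.2 q.2
  · simp only [map_sub, map_add, map_mul, eval_X]
    exact Groth.Agent.S18252.urel4 ℤ m q.1.1 q.1.2.1 q.1.2.2 q.2.1 q.2.2.1 q.2.2.2

theorem HB_succ (hm : 1 ≤ m) {H : PowerSeries ℤ} (h : HB (upiece ℤ m) H) :
    HB (upiece ℤ (m + 1)) (H * ((PowerSeries.mk fun _ => (1 : ℤ)) *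
      (1 + PowerSeries.C ((m + 1 : ℕ) : ℤ) * PowerSeries.X + PowerSeries.X ^ 2))) := by
  obtain ⟨e, he0, he2, he3, hei⟩ := Groth.Agent.S18252.result ℤ m hm
  obtain ⟨hli, hspan⟩ := (Groth.Agent.S18246.result (URing ℤ m) m hm (ugen ℤ m)).2 (urel_eval m)
  -- homogeneity of the images of the variables
  have hv : ∀ y : CVar m, e (Ideal.Quotient.mk (Ideal.span (CRel (URing ℤ m) m (ugen ℤ m)))
      (X y)) ∈ upiece ℤ (m + 1) 1 := by
    rintro (_ | _ | i)
    · rw [he2]; exact ugen_mem ℤ (m + 1) (.ci (Fin.last m))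
    · rw [he3]
      exact Submodule.add_mem _ (Submodule.add_mem _ (ugen_mem ℤ (m + 1) .a)
        (ugen_mem ℤ (m + 1) (.ci (Fin.last m)))) (ugen_mem ℤ (m + 1) (.cbi (Fin.last m)))
    · rw [hei]; exact ugen_mem ℤ (m + 1) (.cij i.castSucc (Fin.last m) (Fin.castSucc_lt_last i).ne)
  refine HB.step (P := upiece ℤ m) (P' := upiece ℤ (m + 1))
    (uincl ℤ m : URing ℤ m →+* URing ℤ (m + 1))
    (fun d x hx => uincl_mem ℤ m hx)
    (fun a b x y hx hy => upiece_mul ℤ (m + 1) hx hy)
    (fun k => e (cmon (URing ℤ m) m (ugen ℤ m) k)) (mw m) ?_ (mw_counts m) ?_ h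
  · rintro (_ | k | ⟨y, k⟩)
    · have h0 : cmon (URing ℤ m) m (ugen ℤ m) none = 1 := rfl
      simp only [h0, map_one]
      exact upiece_one ℤ (m + 1)
    · have h0 : cmon (URing ℤ m) m (ugen ℤ m) (some (Sum.inl k)) =
          Ideal.Quotient.mk _ (X .x2) ^ (k + 1) * Ideal.Quotient.mk _ (X .x3) := by
        simp only [cmon, map_mul, map_pow]
      simp only [h0, map_mul, map_pow]
      have := upiece_mul ℤ (m + 1) (upiece_pow ℤ (m + 1) (hv .x2) (k + 1)) (hv .x3)
      rwa [mul_one] at this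
    · have h0 : cmon (URing ℤ m) m (ugen ℤ m) (some (Sum.inr (y, k))) =
          Ideal.Quotient.mk _ (X y) ^ (k + 1) := by
        simp only [cmon, map_pow]
      simp only [h0, map_pow]
      have := upiece_pow ℤ (m + 1) (hv y) (k + 1)
      rwa [mul_one] at this
  · intro ι b
    let bA : Module.Basis _ (URing ℤ m) (CurveAlg (URing ℤ m) m (ugen ℤ m)) :=
      Module.Basis.mk hli hspan.ge
    refine ⟨(b.smulTower bA).map e.toAddEquiv.toIntLinearEquiv, fun i k => ?_⟩
    rw [Module.Basis.map_apply, Module.Basis.smulTower_apply]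
    show e (b i • bA k) = _
    rw [Module.Basis.mk_apply]
    rw [show b i • cmon (URing ℤ m) m (ugen ℤ m) k =
      algebraMap (URing ℤ m) (CurveAlg (URing ℤ m) m (ugen ℤ m)) (b i) *
        cmon (URing ℤ m) m (ugen ℤ m) k from
      Algebra.smul_def (R := URing ℤ m) (A := CurveAlg (URing ℤ m) m (ugen ℤ m)) _ _, map_mul, he0]
    rfl

end Groth.Agent.Lib.Helper31.Hb
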