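import Mathlib
import Groth.Prelude.Def_W4c5m1nsnscurvesI
import Groth.Prelude.Def_W4c5m1nsnscurvesC
import Groth.Agent.Lib.Helper31.Hb3

/-!
# The base case `m = 1`: the coordinate ring of U_4 is a weighted polynomial ring (helper31)
-/

set_option autoImplicit false
set_option linter.unusedSectionVars false

open W4c5m1nsnscurves MvPolynomial

namespace Groth.Agent.Lib.Helper31.Hb

theorem Counts.nat_id : Counts (fun k : ℕ => k) (PowerSeries.mk fun _ => (1 : ℤ)) := by
  have := Counts.nat_shift 0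
  simpa using this

/-- the series `1 + t² + t⁴ + …` -/
noncomputable def Eser : PowerSeries ℤ := PowerSeries.mk fun d => if 2 ∣ d then (1 : ℤ) else 0

/-- the Hilbert series of the coordinate ring of U_4 -/
noncomputable def H1 : PowerSeries ℤ :=
  ((PowerSeries.mk fun _ => (1 : ℤ)) * ((PowerSeries.mk fun _ => (1 : ℤ)) *
    (PowerSeries.mk fun _ => (1 : ℤ)))) * (Eser * Eser)

/-- exponent tuples -/
abbrev Tup : Type := (ℕ × ℕ × ℕ) × (ℕ × ℕ)

/-- the weight of an exponent tuple -/
def tw (t : Tup) : ℕ := (t.1.1 + (t.1.2.1 + t.1.2.2)) + (2 * t.2.1 + 2 * t.2.2)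

theorem tw_counts : Counts tw H1 :=
  Counts.prod (Counts.prod Counts.nat_id (Counts.prod Counts.nat_id Counts.nat_id))
    (Counts.prod (Counts.nat_mul 2 (by norm_num)) (Counts.nat_mul 2 (by norm_num)))

/-- exponent tuples as exponent vectors -/
noncomputable def tupEquiv : Tup ≃ (UGen 1 →₀ ℕ) where
  toFun t := Finsupp.single .a t.1.1 + Finsupp.single (.ci 0) t.1.2.1 +
    Finsupp.single (.cbi 0) t.1.2.2 + Finsupp.single .c t.2.1 + Finsupp.single .cb t.2.2
  invFun ν := ((ν .a, ν (.ci 0), ν (.cbi 0)), (ν .c, ν .cb))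
  left_inv t := by
    classical
    simp
  right_inv ν := by
    classical
    ext g
    cases g with
    | a => simp
    | c => simp
    | cb => simp
    | ci i =>
      obtain rfl : i = 0 := Subsingleton.elim _ _
      simp
    | cbi i =>
      obtain rfl : i = 0 := Subsingleton.elim _ _
      simp
    | cij i j h => exact absurd (Subsingleton.elim i j) h

theorem weight_tupEquiv (t : Tup) : Finsupp.weight (uwt (m := 1)) (tupEquiv t) = tw t := by
  simp only [tupEquiv, Equiv.coe_fn_mk, map_add, Finsupp.weight_single, uwt, tw, smul_eq_mul]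
  ring

theorem urel_one_empty : URel ℤ 1 = ∅ := by
  rw [Set.eq_empty_iff_forall_notMem]
  rintro p (((⟨q, rfl⟩ | ⟨q, rfl⟩) | ⟨q, rfl⟩) | ⟨q, rfl⟩)
  · exact q.2 (Subsingleton.elim _ _)
  · exact q.2 (Subsingleton.elim _ _)
  · exact q.2 (Subsingleton.elim _ _)
  · exact q.2.1 (Subsingleton.elim _ _)

theorem HB_one : HB (upiece ℤ 1) H1 := by
  have hbot : Ideal.span (URel ℤ 1) = ⊥ := by rw [urel_one_empty, Ideal.span_empty]
  have hbij : Function.Bijective
      ((Ideal.Quotient.mkₐ ℤ (Ideal.span (URel ℤ 1))).toLinearMap) := by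
    constructor
    · rw [← LinearMap.ker_eq_bot, LinearMap.ker_eq_bot']
      intro p hp
      have : p ∈ Ideal.span (URel ℤ 1) := Ideal.Quotient.eq_zero_iff_mem.1 hp
      rw [hbot] at this
      exact this
    · exact Ideal.Quotient.mk_surjective
  let L : MvPolynomial (UGen 1) ℤ ≃ₗ[ℤ] URing ℤ 1 := LinearEquiv.ofBijective _ hbij
  refine ⟨UGen 1 →₀ ℕ, Finsupp.weight (uwt (m := 1)), (basisMonomials (UGen 1) ℤ).map L, ?_,
    tw_counts.congr tupEquiv weight_tupEquiv⟩
  intro ν
  rw [Module.Basis.map_apply]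
  show Ideal.Quotient.mk _ (basisMonomials (UGen 1) ℤ ν) ∈ _
  rw [coe_basisMonomials]
  exact mk_mem_upiece ℤ 1 (isWeightedHomogeneous_monomial _ _ _ rfl)

end Groth.Agent.Lib.Helper31.Hb
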