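import Mathlib
import Groth.Prelude.Def_W4c5m1nsnscurvesI
import Groth.Prelude.Def_W4c5m1nsnscurvesC
import Groth.Agent.Lib.Helper31.Hb4
import Groth.Agent.Lib.Helper31.Hb5

/-!
# The Hilbert series of the coordinate ring of U_n (helper31)
-/

set_option autoImplicit false
set_option linter.unusedSectionVars false

open W4c5m1nsnscurves MvPolynomial

namespace Groth.Agent.Lib.Helper31.Hb

/-- the factor contributed by the `m`-th step -/
noncomputable def Qs (m : ℕ) : PowerSeries ℤ :=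
  (PowerSeries.mk fun _ => (1 : ℤ)) *
    (1 + PowerSeries.C ((m + 1 : ℕ) : ℤ) * PowerSeries.X + PowerSeries.X ^ 2)

/-- the series obtained by induction -/
noncomputable def Gs (m : ℕ) : PowerSeries ℤ := H1 * ∏ k ∈ Finset.Ico 1 m, Qs k

theorem HB_Gs (m : ℕ) (hm : 1 ≤ m) : HB (upiece ℤ m) (Gs m) := by
  induction m, hm using Nat.le_induction with
  | base =>
    have : Gs 1 = H1 := by simp [Gs]
    rw [this]
    exact HB_one
  | succ m hm ih =>
    have : Gs (m + 1) = Gs m * Qs m := by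
      rw [Gs, Gs, Finset.prod_Ico_succ_top hm, mul_assoc]
    rw [this]
    exact HB_succ m hm ih

theorem hE : Eser * (1 - PowerSeries.X ^ 2) = 1 := by
  ext n
  rw [mul_sub, mul_one, map_sub, PowerSeries.coeff_mul_X_pow', PowerSeries.coeff_one]
  rcases n with _ | _ | n
  · simp [Eser]
  · simp [Eser]
  · simp [Eser, PowerSeries.coeff_mk]

theorem hE1 : Eser * (1 + PowerSeries.X) = PowerSeries.mk fun _ => (1 : ℤ) := by
  linear_combination (-(Eser * (1 + PowerSeries.X))) * hmk1 +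
    (PowerSeries.mk fun _ => (1 : ℤ)) * hE

theorem Gs_two : Gs 2 = uhilb 2 := by
  have h1 : Gs 2 = H1 * Qs 1 := by simp [Gs]
  have h2 : uhilb 2 = (PowerSeries.mk fun _ => (1 : ℤ)) ^ 6 := by simp [uhilb]
  rw [h1, h2, H1, Qs]
  simp only [Nat.cast_ofNat, Nat.reduceAdd, map_ofNat]
  linear_combination ((PowerSeries.mk fun _ => (1 : ℤ)) ^ 4 *
    (Eser * (1 + PowerSeries.X) + PowerSeries.mk fun _ => (1 : ℤ))) * hE1

theorem Gs_eq (m : ℕ) (hm : 2 ≤ m) : Gs m = uhilb m := by
  induction m, hm using Nat.le_induction with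
  | base => exact Gs_two
  | succ m hm ih =>
    have h1 : Gs (m + 1) = Gs m * Qs m := by
      rw [Gs, Gs, Finset.prod_Ico_succ_top (by omega : 1 ≤ m), mul_assoc]
    have h2 : uhilb (m + 1) = uhilb m * Qs m := by
      rw [uhilb, uhilb, Finset.prod_Icc_succ_top (by omega : 3 ≤ m + 1), Qs]
      ring
    rw [h1, h2, ih]

theorem HB_uhilb (m : ℕ) (hm : 2 ≤ m) : HB (upiece ℤ m) (uhilb m) := by
  rw [← Gs_eq m hm]
  exact HB_Gs m (by omega)

end Groth.Agent.Lib.Helper31.Hb
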