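import Mathlib
import Groth.Prelude.Def_KZero
import Groth.Prelude.Def_DCoh2
import Groth.Agent.Lib.Helper2.DCohHom
import Groth.Agent.Lib.Lead.QCohLocal

set_option autoImplicit false
universe u
open CategoryTheory CategoryTheory.Limits AlgebraicGeometry
attribute [local instance] HasDerivedCategory.standard

namespace Groth.Agent.Lib.Helper31.K0TrK2

open Scheme.Modules Groth.Agent.Lib.Helper2.DCohBase Groth.Agent.Lib.Helper2.DCohHom

/-- quasi-coherence can be checked on an arbitrary open cover -/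
theorem isQuasicoherent_of_locally {X : Scheme.{u}} (M : X.Modules)
    (h : ∀ x : X, ∃ V : X.Opens, x ∈ V ∧ (M.restrict V.ι).IsQuasicoherent) :
    M.IsQuasicoherent := by
  apply Groth.Agent.Lib.Lead.QCohLocal.isQuasicoherent_of_forall_affine
  intro x
  obtain ⟨V, hxV, hV⟩ := h x
  obtain ⟨_, ⟨W, hW, rfl⟩, hxW, -⟩ :=
    (V : Scheme.{u}).isBasis_affineOpens.exists_subset_of_mem_open
      (Set.mem_univ (⟨x, hxV⟩ : V)) isOpen_univ
  have hU : IsAffineOpen (V.ι ''ᵁ W) := hW.image_of_isOpenImmersion V.ι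
  refine ⟨V.ι ''ᵁ W, hU, ⟨⟨x, hxV⟩, hxW, rfl⟩, ?_⟩
  have hr : Set.range hU.fromSpec.base ⊆ Set.range V.ι.base := by
    rw [hU.range_fromSpec]
    rintro _ ⟨y, -, rfl⟩
    exact ⟨y, rfl⟩
  let k := IsOpenImmersion.lift V.ι hU.fromSpec hr
  have hk : k ≫ V.ι = hU.fromSpec := IsOpenImmersion.lift_fac _ _ _
  haveI : IsOpenImmersion (k ≫ V.ι) := by rw [hk]; infer_instance
  haveI : IsOpenImmersion k := IsOpenImmersion.of_comp k V.ι
  haveI := hV
  haveI : ((M.restrict V.ι).restrict k).IsQuasicoherent := inferInstance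
  have e : (M.restrict V.ι).restrict k ≅ M.restrict hU.fromSpec :=
    ((restrictFunctorComp k V.ι).app M).symm ≪≫ (restrictFunctorCongr hk).app M
  exact (SheafOfModules.isQuasicoherent (Spec Γ(X, V.ι ''ᵁ W)).ringCatSheaf).prop_of_iso e inferInstance


theorem isQCohD_of_isPerfect {X : Scheme.{u}} (K : DCoh.D X) (hK : DCoh.IsPerfect K) :
    DCoh.IsQCohD K := by
  intro i
  obtain ⟨F, ⟨e⟩⟩ := exists_rep K
  change (DCoh.HD K i).IsQuasicoherent
  apply isQuasicoherent_of_locally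
  intro x
  obtain ⟨V, hxV, hV⟩ := hK x
  obtain ⟨E, hE, ⟨eE⟩⟩ := hV F ⟨e⟩
  refine ⟨V, hxV, ?_⟩
  have e1 := homRestrictIso K F e V.ι i
  have e2 := (DerivedCategory.homologyFunctor (V : Scheme.{u}).Modules i).mapIso eE
  have e3 := (DerivedCategory.homologyFunctorFactors (V : Scheme.{u}).Modules i).app E
  haveI := isQuasicoherent_homology_of_isStrictlyPerfect E hE i
  exact (SheafOfModules.isQuasicoherent (V : Scheme.{u}).ringCatSheaf).prop_of_iso
    (e1 ≪≫ e2 ≪≫ e3).symm (isQuasicoherent_homology_of_isStrictlyPerfect E hE i)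

end Groth.Agent.Lib.Helper31.K0TrK2
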