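import Mathlib

set_option autoImplicit false
set_option linter.unusedSectionVars false

open Finset Matrix

namespace Groth.Agent.Lib.Helper31.LTor

section
variable {n : ℕ} (A : Matrix (Fin n) (Fin n) ℤ) (m : Fin n → ℤ) (F : Type) [Field F]

/-- edge type -/
abbrev E : Type := {p : Fin n × Fin n // p.1 < p.2 ∧ 0 < A p.1 p.2}

lemma card_E : Fintype.card (E A) =
    (univ.filter fun p : Fin n × Fin n => p.1 < p.2 ∧ 0 < A p.1 p.2).card := by
  rw [Fintype.card_subtype]

/-- incidence matrix -/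
def D : Matrix (E A) (Fin n) F := fun e i =>
  if e.1.1 = i then 1 else if e.1.2 = i then -1 else 0

lemma D_mulVec (u : Fin n → F) (e : E A) : (D A F *ᵥ u) e = u e.1.1 - u e.1.2 := by
  have hne : e.1.1 ≠ e.1.2 := ne_of_lt e.2.1
  simp only [Matrix.mulVec, dotProduct, D]
  have : ∀ i, (if e.1.1 = i then (1 : F) else if e.1.2 = i then -1 else 0) * u i =
      (if e.1.1 = i then u i else 0) - (if e.1.2 = i then u i else 0) := by
    intro i
    by_cases h1 : e.1.1 = i
    · have h2 : e.1.2 ≠ i := fun h => hne (h1.trans h.symm)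
      simp [h1, h2]
    · by_cases h2 : e.1.2 = i <;> simp [h1, h2]
  simp_rw [this]
  rw [Finset.sum_sub_distrib]
  simp

variable {A}

/-- connectedness ⇒ kernel of D consists of constants -/
lemma const_of_D_mulVec_eq_zero (hsymm : A.IsSymm) (hA : ∀ i j, i ≠ j → 0 ≤ A i j)
    (hconn : ∀ I : Finset (Fin n), I.Nonempty → I ≠ univ → ∃ i ∈ I, ∃ j ∉ I, A i j ≠ 0)
    (u : Fin n → F) (hu : D A F *ᵥ u = 0) (i0 : Fin n) : ∀ i, u i = u i0 := by
  classical
  have hedge : ∀ i j, i ≠ j → A i j ≠ 0 → u i = u j := by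
    intro i j hij hne
    have hpos : 0 < A i j := lt_of_le_of_ne (hA i j hij) (Ne.symm hne)
    rcases lt_or_gt_of_ne hij with h | h
    · have := congr_fun hu ⟨(i, j), h, hpos⟩
      rw [D_mulVec] at this
      simpa [sub_eq_zero] using this
    · have hpos' : 0 < A j i := by rw [hsymm.apply i j]; exact hpos
      have := congr_fun hu ⟨(j, i), h, hpos'⟩
      rw [D_mulVec] at this
      have h2 : u j = u i := by simpa [sub_eq_zero] using this
      exact h2.symm
  by_contra hcon
  push Not at hcon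
  obtain ⟨i1, hi1⟩ := hcon
  let I : Finset (Fin n) := univ.filter fun i => u i = u i0
  have hI : I.Nonempty := ⟨i0, by simp [I]⟩
  have hI' : I ≠ univ := by
    intro h
    have : i1 ∈ I := h ▸ mem_univ _
    simp [I] at this
    exact hi1 this
  obtain ⟨i, hi, j, hj, hij⟩ := hconn I hI hI'
  have hne : i ≠ j := fun h => hj (h ▸ hi)
  have h1 := hedge i j hne hij
  simp only [I, mem_filter, mem_univ, true_and] at hi hj
  exact hj (h1 ▸ hi)

lemma rank_D_ge (hsymm : A.IsSymm) (hA : ∀ i j, i ≠ j → 0 ≤ A i j)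
    (hconn : ∀ I : Finset (Fin n), I.Nonempty → I ≠ univ → ∃ i ∈ I, ∃ j ∉ I, A i j ≠ 0) :
    n ≤ (D A F).rank + 1 := by
  have h1 := LinearMap.finrank_range_add_finrank_ker (D A F).mulVecLin
  rw [Module.finrank_fintype_fun_eq_card, Fintype.card_fin] at h1
  have h2 : Module.finrank F (LinearMap.ker (D A F).mulVecLin) ≤ 1 := by
    have hle : LinearMap.ker (D A F).mulVecLin ≤ Submodule.span F {fun _ : Fin n => (1 : F)} := by
      intro u hu
      rw [LinearMap.mem_ker, Matrix.mulVecLin_apply] at hu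
      rcases Nat.eq_zero_or_pos n with h0 | hpos
      · subst h0
        have : u = 0 := Subsingleton.elim _ _
        rw [this]; exact zero_mem _
      · let i0 : Fin n := ⟨0, hpos⟩
        have hc := const_of_D_mulVec_eq_zero F hsymm hA hconn u hu i0
        rw [Submodule.mem_span_singleton]
        refine ⟨u i0, ?_⟩
        funext i
        simp [hc i]
    calc Module.finrank F (LinearMap.ker (D A F).mulVecLin)
        ≤ Module.finrank F (Submodule.span F {fun _ : Fin n => (1 : F)}) :=
          Submodule.finrank_mono hle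
      _ ≤ 1 := by
          have := finrank_span_le_card (R := F) ({fun _ : Fin n => (1 : F)} : Set (Fin n → F))
          simpa using this
  have h3 : (D A F).rank = Module.finrank F (LinearMap.range (D A F).mulVecLin) := rfl
  omega


variable (A)

/-- weights -/
def wt (e : E A) : F := (m e.1.1 : F) * (A e.1.1 e.1.2 : F) * (m e.1.2 : F)

/-- the transposed weighted incidence matrix -/
def L : Matrix (Fin n) (E A) F := (D A F)ᵀ * Matrix.diagonal (wt A m F)

lemma L_mulVec (d : E A → F) (i : Fin n) :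
    (L A m F *ᵥ d) i = ∑ e : E A, D A F e i * wt A m F e * d e := by
  simp only [L, Matrix.mulVec, dotProduct, Matrix.mul_diagonal, Matrix.transpose_apply]

variable {A} {m}

lemma key_sum (hsymm : A.IsSymm) (hA : ∀ i j, i ≠ j → 0 ≤ A i j) (u : Fin n → F) (i : Fin n) :
    (L A m F *ᵥ (D A F *ᵥ u)) i =
      ∑ j, (m i : F) * (A i j : F) * (m j : F) * (u i - u j) := by
  classical
  rw [L_mulVec]
  simp_rw [D_mulVec]
  -- sum over subtype to sum over pairs
  let φ : Fin n × Fin n → F := fun p =>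
    (if p.1 = i then 1 else if p.2 = i then -1 else 0) *
      ((m p.1 : F) * (A p.1 p.2 : F) * (m p.2 : F)) * (u p.1 - u p.2)
  have h1 : ∑ e : E A, D A F e i * wt A m F e * (u e.1.1 - u e.1.2) = ∑ e : E A, φ e.1 := rfl
  rw [h1]
  have h2 : ∑ e : E A, φ e.1 =
      ∑ p ∈ univ.filter (fun p : Fin n × Fin n => p.1 < p.2 ∧ 0 < A p.1 p.2), φ p := by
    rw [Finset.sum_subtype (univ.filter (fun p : Fin n × Fin n => p.1 < p.2 ∧ 0 < A p.1 p.2))
      (p := fun p : Fin n × Fin n => p.1 < p.2 ∧ 0 < A p.1 p.2) (by simp)]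
  rw [h2, Finset.sum_filter, Fintype.sum_prod_type]
  let g1 : Fin n → F := fun j' =>
    if (i < j' ∧ 0 < A i j') then (m i : F) * (A i j' : F) * (m j' : F) * (u i - u j') else 0
  let g2 : Fin n → F := fun i' =>
    if (i' < i ∧ 0 < A i' i) then -((m i' : F) * (A i' i : F) * (m i : F)) * (u i' - u i) else 0
  have h3 : ∀ i' j' : Fin n, (if (i' < j' ∧ 0 < A i' j') then φ (i', j') else 0) =
      (if i' = i then g1 j' else 0) + (if j' = i then g2 i' else 0) := by
    intro i' j'
    by_cases h1 : i' = i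
    · by_cases h2 : j' = i
      · subst h1; subst h2
        simp [g1, g2]
      · subst h1
        simp [φ, g1, h2]
    · by_cases h2 : j' = i
      · subst h2
        simp [φ, g2, h1]
      · simp [φ, h1, h2]
  simp_rw [h3, Finset.sum_add_distrib]
  have h4 : ∑ i' : Fin n, ∑ j' : Fin n, (if i' = i then g1 j' else 0) = ∑ j', g1 j' := by
    rw [Finset.sum_comm]
    apply Finset.sum_congr rfl
    intro j' _
    simp
  have h5 : ∑ i' : Fin n, ∑ j' : Fin n, (if j' = i then g2 i' else 0) = ∑ i', g2 i' := by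
    apply Finset.sum_congr rfl
    intro i' _
    simp
  rw [h4, h5, ← Finset.sum_add_distrib]
  apply Finset.sum_congr rfl
  intro j _
  rcases lt_trichotomy i j with h | h | h
  · have hji : ¬ j < i := not_lt.mpr h.le
    by_cases hp : 0 < A i j
    · simp [g1, g2, h, hji, hp]
    · have h0 : A i j = 0 := le_antisymm (not_lt.mp hp) (hA i j (ne_of_lt h))
      simp [g1, g2, hji, h0]
  · subst h
    simp [g1, g2]
  · have hij : ¬ i < j := not_lt.mpr h.le
    have hs : A j i = A i j := hsymm.apply j i |>.symm ▸ rfl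
    by_cases hp : 0 < A j i
    · simp only [g1, g2, hij, h, hp, false_and, if_false, true_and, if_true, zero_add]
      rw [hsymm.apply i j]
      ring
    · have h0 : A j i = 0 := le_antisymm (not_lt.mp hp) (hA j i (ne_of_lt h))
      have h0' : A i j = 0 := by rw [← hsymm.apply i j]; exact h0
      simp [g1, g2, hij, h0, h0']

lemma L_D_eq_zero (hsymm : A.IsSymm) (hA : ∀ i j, i ≠ j → 0 ≤ A i j) (hAm : A.mulVec m = 0)
    (hm : ∀ i, (m i : F) ≠ 0) (y : Fin n → F)
    (hy : (A.map (Int.castRingHom F)) *ᵥ y = 0) :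
    L A m F *ᵥ (D A F *ᵥ (fun i => y i / (m i : F))) = 0 := by
  funext i
  rw [key_sum F hsymm hA]
  simp only [Pi.zero_apply]
  have e1 : ∑ j, (m i : F) * (A i j : F) * (m j : F) = 0 := by
    have := congr_fun hAm i
    simp only [Matrix.mulVec, dotProduct, Pi.zero_apply] at this
    have h2 : ((∑ j, A i j * m j : ℤ) : F) = 0 := by rw [this]; simp
    push_cast at h2
    calc ∑ j, (m i : F) * (A i j : F) * (m j : F)
        = (m i : F) * ∑ j, (A i j : F) * (m j : F) := by
          rw [Finset.mul_sum]; apply Finset.sum_congr rfl; intro j _; ring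
      _ = 0 := by rw [h2, mul_zero]
  have e2 : ∑ j, (A i j : F) * y j = 0 := by
    have := congr_fun hy i
    simpa [Matrix.mulVec, dotProduct] using this
  calc ∑ j, (m i : F) * (A i j : F) * (m j : F) * (y i / (m i : F) - y j / (m j : F))
      = (y i / (m i : F)) * ∑ j, (m i : F) * (A i j : F) * (m j : F)
          - (m i : F) * ∑ j, (A i j : F) * y j := by
        rw [Finset.mul_sum, Finset.mul_sum, ← Finset.sum_sub_distrib]
        apply Finset.sum_congr rfl
        intro j _
        have := hm j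
        have hi := hm i
        field_simp
    _ = 0 := by rw [e1, e2]; ring


end

theorem main {n : ℕ} (A : Matrix (Fin n) (Fin n) ℤ)
    (m : Fin n → ℤ) (hsymm : A.IsSymm) (hA : ∀ i j, i ≠ j → 0 ≤ A i j) (hm : ∀ i, 0 < m i)
    (hAm : A.mulVec m = 0)
    (hconn : ∀ I : Finset (Fin n), I.Nonempty → I ≠ univ → ∃ i ∈ I, ∃ j ∉ I, A i j ≠ 0)
    (ℓ : ℕ) (hℓ : ℓ.Prime) (hℓA : ∀ i j, A i j ≠ 0 → ¬ ((ℓ : ℤ) ∣ A i j))
    (hℓm : ∀ i, ¬ ((ℓ : ℤ) ∣ m i)) :
    Nat.card (Submodule.torsionBy ℤ ((Fin n → ℤ) ⧸ LinearMap.range (Matrix.mulVecLin A)) (ℓ : ℤ))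
      ≤ ℓ ^ ((univ.filter fun p : Fin n × Fin n => p.1 < p.2 ∧ 0 < A p.1 p.2).card + 1 - n) := by
  classical
  have : Fact ℓ.Prime := ⟨hℓ⟩
  let F := ZMod ℓ
  have hmF : ∀ i, ((m i : ℤ) : F) ≠ 0 := by
    intro i h
    exact hℓm i ((ZMod.intCast_zmod_eq_zero_iff_dvd _ _).mp h)
  have hwt : ∀ e : E A, wt A m F e ≠ 0 := by
    intro e
    have h1 : A e.1.1 e.1.2 ≠ 0 := ne_of_gt e.2.2
    have h2 : ((A e.1.1 e.1.2 : ℤ) : F) ≠ 0 := by
      intro h
      exact hℓA _ _ h1 ((ZMod.intCast_zmod_eq_zero_iff_dvd _ _).mp h)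
    exact mul_ne_zero (mul_ne_zero (hmF _) h2) (hmF _)
  -- rank of L
  have hrank : (L A m F).rank = (D A F).rank := by
    unfold L
    rw [Matrix.rank_mul_eq_left_of_isUnit_det, Matrix.rank_transpose]
    rw [Matrix.det_diagonal]
    exact (Finset.prod_ne_zero_iff.mpr fun e _ => hwt e).isUnit
  have hDr := rank_D_ge F hsymm hA hconn
  let K := LinearMap.ker (L A m F).mulVecLin
  have hK : Module.finrank F K + n ≤
      (univ.filter fun p : Fin n × Fin n => p.1 < p.2 ∧ 0 < A p.1 p.2).card + 1 := by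
    have h1 := LinearMap.finrank_range_add_finrank_ker (L A m F).mulVecLin
    rw [Module.finrank_fintype_fun_eq_card, card_E] at h1
    have h3 : (L A m F).rank = Module.finrank F (LinearMap.range (L A m F).mulVecLin) := rfl
    have : Module.finrank F K = Module.finrank F (LinearMap.ker (L A m F).mulVecLin) := rfl
    omega
  have hcardK : Nat.card K = ℓ ^ Module.finrank F K := by
    rw [Module.natCard_eq_pow_finrank (K := F) (V := K)]
    simp [F]
  -- choose representatives
  have hex : ∀ t : Submodule.torsionBy ℤ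
      ((Fin n → ℤ) ⧸ LinearMap.range (Matrix.mulVecLin A)) (ℓ : ℤ),
      ∃ y : Fin n → ℤ, ∃ x : Fin n → ℤ,
        (Submodule.Quotient.mk x : (Fin n → ℤ) ⧸ LinearMap.range (Matrix.mulVecLin A)) = t.1 ∧
        A *ᵥ y = (ℓ : ℤ) • x := by
    intro t
    obtain ⟨x, hx⟩ := Submodule.Quotient.mk_surjective _ t.1
    have ht := t.2
    rw [Submodule.mem_torsionBy_iff, ← hx, ← Submodule.Quotient.mk_smul,
      Submodule.Quotient.mk_eq_zero, LinearMap.mem_range] at ht
    obtain ⟨y, hy⟩ := ht
    exact ⟨y, x, hx, by simpa using hy⟩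
  choose yy xx hxx hyy using hex
  have hker : ∀ t, D A F *ᵥ (fun i => ((yy t i : ℤ) : F) / ((m i : ℤ) : F)) ∈ K := by
    intro t
    rw [LinearMap.mem_ker, Matrix.mulVecLin_apply]
    apply L_D_eq_zero F hsymm hA hAm hmF
    funext i
    have h1 := RingHom.map_mulVec (Int.castRingHom F) A (yy t) i
    rw [hyy t] at h1
    simp only [Pi.smul_apply, smul_eq_mul, map_mul, eq_intCast, Int.cast_natCast] at h1
    have hl : ((ℓ : ℕ) : F) = 0 := ZMod.natCast_self ℓ
    rw [hl, zero_mul] at h1
    exact h1.symm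
  let f : Submodule.torsionBy ℤ
      ((Fin n → ℤ) ⧸ LinearMap.range (Matrix.mulVecLin A)) (ℓ : ℤ) → K := fun t => ⟨_, hker t⟩
  have hinj : Function.Injective f := by
    intro t t' htt
    rcases Nat.eq_zero_or_pos n with h0 | hpos
    · subst h0
      apply Subtype.ext
      rw [← hxx t, ← hxx t']
      congr 1
      exact Subsingleton.elim _ _
    · let i0 : Fin n := ⟨0, hpos⟩
      have h1 : D A F *ᵥ (fun i => ((yy t i : ℤ) : F) / ((m i : ℤ) : F)) =
          D A F *ᵥ (fun i => ((yy t' i : ℤ) : F) / ((m i : ℤ) : F)) :=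
        congrArg Subtype.val htt
      have h2 : D A F *ᵥ ((fun i => ((yy t i : ℤ) : F) / ((m i : ℤ) : F)) -
          (fun i => ((yy t' i : ℤ) : F) / ((m i : ℤ) : F))) = 0 := by
        rw [Matrix.mulVec_sub, h1, sub_self]
      have hc := const_of_D_mulVec_eq_zero F hsymm hA hconn _ h2 i0
      set c : F := ((fun i => ((yy t i : ℤ) : F) / ((m i : ℤ) : F)) -
          (fun i => ((yy t' i : ℤ) : F) / ((m i : ℤ) : F))) i0 with hcdef
      obtain ⟨c', hc'⟩ := ZMod.intCast_surjective c
      have hdvd : ∀ i, (ℓ : ℤ) ∣ yy t i - yy t' i - c' * m i := by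
        intro i
        rw [← ZMod.intCast_zmod_eq_zero_iff_dvd]
        have hmi := hmF i
        have h5 : ((yy t i : ℤ) : F) / ((m i : ℤ) : F) - ((yy t' i : ℤ) : F) / ((m i : ℤ) : F) = c :=
          hc i
        rw [div_sub_div_same, div_eq_iff hmi] at h5
        push_cast
        rw [hc']
        linear_combination h5
      choose z hz using hdvd
      have hy : yy t - yy t' = c' • m + (ℓ : ℤ) • z := by
        funext i
        have := hz i
        simp only [Pi.sub_apply, Pi.add_apply, Pi.smul_apply, smul_eq_mul]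
        linarith
      have h3 : A *ᵥ (yy t - yy t') = (ℓ : ℤ) • (A *ᵥ z) := by
        rw [hy, Matrix.mulVec_add, Matrix.mulVec_smul, Matrix.mulVec_smul, hAm, smul_zero, zero_add]
      rw [Matrix.mulVec_sub, hyy, hyy, ← smul_sub] at h3
      have hl0 : (ℓ : ℤ) ≠ 0 := by exact_mod_cast hℓ.ne_zero
      have h4 : xx t - xx t' = A *ᵥ z := by
        funext i
        have := congr_fun h3 i
        simp only [Pi.smul_apply, smul_eq_mul] at this
        exact mul_left_cancel₀ hl0 this
      apply Subtype.ext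
      rw [← hxx t, ← hxx t', Submodule.Quotient.eq, h4]
      exact ⟨z, rfl⟩
  calc Nat.card (Submodule.torsionBy ℤ
        ((Fin n → ℤ) ⧸ LinearMap.range (Matrix.mulVecLin A)) (ℓ : ℤ))
      ≤ Nat.card K := Nat.card_le_card_of_injective f hinj
    _ = ℓ ^ Module.finrank F K := hcardK
    _ ≤ _ := Nat.pow_le_pow_right hℓ.pos (by omega)

end Groth.Agent.Lib.Helper31.LTor
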