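import Mathlib
import Groth.Prelude.Def_W4c1nerontoraddGraph

set_option autoImplicit false
set_option linter.unusedSectionVars false
universe u

namespace Groth.Agent.Lib.Helper31.LG

open LabGraph

variable {V E : Type u} [Fintype V] [Fintype E] [DecidableEq V] [DecidableEq E]
  (ends : E → V × V)

/-- coboundary of a vertex potential -/
def cob (φ : V → ℤ) (e : E) : ℤ := φ (ends e).2 - φ (ends e).1

/-- cycles are orthogonal to coboundaries -/
theorem sum_cycle_cob (γ : E → ℤ) (hγ : ∀ v : V, boundary ends γ v = 0) (φ : V → ℤ) :
    ∑ e : E, γ e * cob ends φ e = 0 := by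
  have h1 : ∑ v : V, φ v * boundary ends γ v = 0 := by
    simp [hγ]
  rw [← h1]
  unfold boundary cob
  simp_rw [Finset.mul_sum]
  rw [Finset.sum_comm]
  refine Finset.sum_congr rfl fun e _ => ?_
  simp_rw [mul_sub, Finset.sum_sub_distrib, mul_ite, mul_zero]
  rw [Finset.sum_ite_eq, Finset.sum_ite_eq]
  simp only [Finset.mem_univ, if_true]
  ring

/-- even edge sets -/
def IsEvenSet (S : Finset E) : Prop := ∀ v : V, Even (endCount ends S v)

/-- no nonempty even subset -/
def NoEven (F : Finset E) : Prop := ∀ S : Finset E, S ⊆ F → S.Nonempty → ¬ IsEvenSet ends S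

theorem sum_endCount (F : Finset E) : ∑ v : V, endCount ends F v = 2 * F.card := by
  unfold endCount
  rw [Finset.sum_comm]
  simp_rw [Finset.sum_add_distrib, Finset.sum_ite_eq, Finset.mem_univ, if_true]
  simp only [Finset.sum_const, smul_eq_mul, mul_one]
  omega

theorem sum_boundary (γ : E → ℤ) : ∑ v : V, boundary ends γ v = 0 := by
  unfold boundary
  rw [Finset.sum_comm]
  refine Finset.sum_eq_zero fun e _ => ?_
  rw [Finset.sum_sub_distrib, Finset.sum_ite_eq, Finset.sum_ite_eq]
  simp

/-- boundary of a vector supported on `F` -/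
theorem boundary_eq_sum_subtype (F : Finset E) (g : F → ℤ) (v : V) :
    boundary ends (fun e => if h : e ∈ F then g ⟨e, h⟩ else 0) v =
      ∑ e : F, ((if (ends e.1).2 = v then g e else 0) - (if (ends e.1).1 = v then g e else 0)) := by
  unfold boundary
  rw [← Finset.sum_subset (Finset.subset_univ F)]
  · rw [← Finset.sum_coe_sort F]
    refine Finset.sum_congr rfl fun e _ => ?_
    simp [e.2]
  · intro e _ he
    simp [he]

theorem exists_int_cycle (F : Finset E) (hne : F.Nonempty)
    (hdeg : ∀ v : V, endCount ends F v ≠ 1) :
    ∃ γ : E → ℤ, γ ≠ 0 ∧ (∀ e, e ∉ F → γ e = 0) ∧ ∀ v : V, boundary ends γ v = 0 := by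
  classical
  set VF : Finset V := Finset.univ.filter (fun v => endCount ends F v ≠ 0) with hVF
  have hcard : VF.card ≤ F.card := by
    have h1 := sum_endCount ends F
    have h2 : ∑ v : V, endCount ends F v = ∑ v ∈ VF, endCount ends F v := by
      rw [hVF, Finset.sum_filter]
      refine Finset.sum_congr rfl fun v _ => ?_
      by_cases h : endCount ends F v = 0
      · simp [h]
      · simp [h]
    have h3 : ∑ v ∈ VF, 2 ≤ ∑ v ∈ VF, endCount ends F v := by
      refine Finset.sum_le_sum fun v hv => ?_
      have h0 : endCount ends F v ≠ 0 := (Finset.mem_filter.mp hv).2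
      have h1' := hdeg v
      omega
    simp only [Finset.sum_const, smul_eq_mul] at h3
    omega
  obtain ⟨e0, he0⟩ := hne
  have hv0 : (ends e0).1 ∈ VF := by
    rw [hVF, Finset.mem_filter]
    refine ⟨Finset.mem_univ _, ?_⟩
    unfold endCount
    intro h
    have := (Finset.sum_eq_zero_iff.mp h) e0 he0
    simp at this
  set v0 := (ends e0).1 with hv0def
  set VF' := VF.erase v0 with hVF'
  have hcard' : VF'.card < F.card := by
    rw [hVF', Finset.card_erase_of_mem hv0]
    have : 0 < VF.card := Finset.card_pos.mpr ⟨v0, hv0⟩
    omega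
  let D : (F → ℤ) →ₗ[ℤ] (VF' → ℤ) :=
    { toFun := fun g v => ∑ e : F,
        ((if (ends e.1).2 = v.1 then g e else 0) - (if (ends e.1).1 = v.1 then g e else 0))
      map_add' := by
        intro g g'
        funext v
        simp only [Pi.add_apply]
        rw [← Finset.sum_add_distrib]
        refine Finset.sum_congr rfl fun e _ => ?_
        split_ifs <;> ring
      map_smul' := by
        intro c g
        funext v
        simp only [Pi.smul_apply, smul_eq_mul, RingHom.id_apply]
        rw [Finset.mul_sum]
        refine Finset.sum_congr rfl fun e _ => ?_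
        split_ifs <;> ring }
  have hninj : ¬ Function.Injective D := by
    intro hinj
    have := LinearMap.finrank_le_finrank_of_injective hinj
    rw [Module.finrank_fintype_fun_eq_card, Module.finrank_fintype_fun_eq_card,
      Fintype.card_coe, Fintype.card_coe] at this
    omega
  rw [injective_iff_map_eq_zero] at hninj
  push Not at hninj
  obtain ⟨g, hg0, hgne⟩ := hninj
  refine ⟨fun e => if h : e ∈ F then g ⟨e, h⟩ else 0, ?_, ?_, ?_⟩
  · intro h
    apply hgne
    funext e
    have := congrFun h e.1
    simpa [e.2] using this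
  · intro e he
    simp [he]
  · have hmain : ∀ v : V, v ≠ v0 →
        boundary ends (fun e => if h : e ∈ F then g ⟨e, h⟩ else 0) v = 0 := by
      intro v hv
      rw [boundary_eq_sum_subtype]
      by_cases hvF : v ∈ VF
      · have := congrFun hg0 ⟨v, Finset.mem_erase.mpr ⟨hv, hvF⟩⟩
        exact this
      · have h0 : endCount ends F v = 0 := by
          by_contra h
          exact hvF (Finset.mem_filter.mpr ⟨Finset.mem_univ _, h⟩)
        unfold endCount at h0
        refine Finset.sum_eq_zero fun e _ => ?_
        have := (Finset.sum_eq_zero_iff.mp h0) e.1 e.2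
        have h1 : (ends e.1).1 ≠ v := by
          intro h; simp [h] at this
        have h2 : (ends e.1).2 ≠ v := by
          intro h; simp [h] at this
        simp [h1, h2]
    intro v
    by_cases hv : v = v0
    · subst hv
      have hs := sum_boundary ends (fun e => if h : e ∈ F then g ⟨e, h⟩ else 0)
      rw [← Finset.add_sum_erase Finset.univ _ (Finset.mem_univ v0)] at hs
      rw [Finset.sum_eq_zero (fun v hv => hmain v (Finset.ne_of_mem_erase hv)), add_zero] at hs
      exact hs
    · exact hmain v hv

end Groth.Agent.Lib.Helper31.LG
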