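import Mathlib
import Groth.Prelude.Def_W4c1nerontoraddGraph
import Groth.Agent.Lib.Helper31.LabGraphCore1

set_option autoImplicit false
set_option linter.unusedSectionVars false
universe u

namespace Groth.Agent.Lib.Helper31.LG

open LabGraph

variable {V E : Type u} [Fintype V] [Fintype E] [DecidableEq V] [DecidableEq E]
  (ends : E → V × V)

theorem boundary_smul (c : ℤ) (γ : E → ℤ) (v : V) :
    boundary ends (fun e => c * γ e) v = c * boundary ends γ v := by
  unfold boundary
  rw [Finset.mul_sum]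
  refine Finset.sum_congr rfl fun e _ => ?_
  split_ifs <;> ring

/-- extracting a `p`-primitive cycle -/
theorem exists_prim_cycle (p : ℕ) (hp : 2 ≤ p) (F : Finset E) :
    ∀ n : ℕ, ∀ γ : E → ℤ, γ ≠ 0 → (∀ e, e ∉ F → γ e = 0) → (∀ v : V, boundary ends γ v = 0) →
      ∑ e : E, (γ e).natAbs = n →
      ∃ γ' : E → ℤ, (∀ e, e ∉ F → γ' e = 0) ∧ (∀ v : V, boundary ends γ' v = 0) ∧
        ∃ e, ¬ (p : ℤ) ∣ γ' e := by
  intro n
  induction n using Nat.strong_induction_on with
  | _ n ih =>
    intro γ hne hsupp hcyc hsum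
    by_cases hall : ∀ e, (p : ℤ) ∣ γ e
    · choose δ hδ using hall
      have hp0 : (p : ℤ) ≠ 0 := by positivity
      have hδne : δ ≠ 0 := by
        intro h
        apply hne
        funext e
        rw [hδ e, h]
        simp
      have hδsupp : ∀ e, e ∉ F → δ e = 0 := by
        intro e he
        have := hsupp e he
        rw [hδ e] at this
        exact (mul_eq_zero.mp this).resolve_left hp0
      have hδcyc : ∀ v : V, boundary ends δ v = 0 := by
        intro v
        have h1 := hcyc v
        have h2 : γ = fun e => (p : ℤ) * δ e := funext hδ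
        rw [h2, boundary_smul] at h1
        exact (mul_eq_zero.mp h1).resolve_left hp0
      have hlt : ∑ e : E, (δ e).natAbs < n := by
        rw [← hsum]
        obtain ⟨e1, he1⟩ : ∃ e, δ e ≠ 0 := by
          by_contra h
          push Not at h
          exact hδne (funext h)
        refine Finset.sum_lt_sum (fun e _ => ?_) ⟨e1, Finset.mem_univ _, ?_⟩
        · rw [hδ e, Int.natAbs_mul, Int.natAbs_natCast]
          nlinarith [Nat.zero_le (δ e).natAbs]
        · rw [hδ e1, Int.natAbs_mul, Int.natAbs_natCast]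
          have : 0 < (δ e1).natAbs := Int.natAbs_pos.mpr he1
          nlinarith
      exact ih _ hlt δ hδne hδsupp hδcyc rfl
    · push Not at hall
      exact ⟨γ, hsupp, hcyc, hall⟩

/-- a nonempty edge set without leaves carries, for each `p ≥ 2`, an integer cycle with an entry
prime to `p` -/
theorem exists_cycle_not_dvd (p : ℕ) (hp : 2 ≤ p) (F : Finset E) (hne : F.Nonempty)
    (hdeg : ∀ v : V, endCount ends F v ≠ 1) :
    ∃ γ : E → ℤ, (∀ e, e ∉ F → γ e = 0) ∧ (∀ v : V, boundary ends γ v = 0) ∧
      ∃ e, ¬ (p : ℤ) ∣ γ e := by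
  obtain ⟨γ, h1, h2, h3⟩ := exists_int_cycle ends F hne hdeg
  exact exists_prim_cycle ends p hp F _ γ h1 h2 h3 rfl

/-- the set of odd entries of an integer cycle is an even set -/
theorem isEvenSet_odd_support (γ : E → ℤ) (hcyc : ∀ v : V, boundary ends γ v = 0) :
    IsEvenSet ends (Finset.univ.filter fun e => ¬ (2 : ℤ) ∣ γ e) := by
  intro v
  rw [← ZMod.natCast_eq_zero_iff_even]
  have h1 : ((boundary ends γ v : ℤ) : ZMod 2) = 0 := by rw [hcyc v]; simp
  rw [← h1]
  unfold endCount boundary
  push_cast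
  rw [Finset.sum_filter]
  refine Finset.sum_congr rfl fun e _ => ?_
  have hneg : ∀ x : ZMod 2, -x = x := by decide
  by_cases h : (2 : ℤ) ∣ γ e
  · have h0 : ((γ e : ℤ) : ZMod 2) = 0 := (ZMod.intCast_zmod_eq_zero_iff_dvd _ 2).mpr h
    simp [h, h0]
  · have h0 : ((γ e : ℤ) : ZMod 2) = 1 := by
      have : ((γ e : ℤ) : ZMod 2) ≠ 0 := fun h' => h ((ZMod.intCast_zmod_eq_zero_iff_dvd _ 2).mp h')
      revert this
      generalize ((γ e : ℤ) : ZMod 2) = x
      revert x
      decide
    simp only [h, not_false_eq_true, if_true]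
    have h11 : (1 : ZMod 2) + 1 = 0 := by decide
    split_ifs <;> simp [h0, sub_eq_add_neg, hneg, add_comm, h11]

/-- leaf lemma -/
theorem exists_leaf (F : Finset E) (hne : F.Nonempty) (hF : NoEven ends F) :
    ∃ v : V, endCount ends F v = 1 := by
  by_contra hcon
  push Not at hcon
  obtain ⟨γ, hsupp, hcyc, e1, he1⟩ := exists_cycle_not_dvd ends 2 le_rfl F hne hcon
  refine hF (Finset.univ.filter fun e => ¬ (2 : ℤ) ∣ γ e) ?_ ⟨e1, ?_⟩
    (isEvenSet_odd_support ends γ hcyc)
  · intro e he
    by_contra heF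
    have := (Finset.mem_filter.mp he).2
    rw [hsupp e heF] at this
    exact this (dvd_zero _)
  · exact Finset.mem_filter.mpr ⟨Finset.mem_univ _, by exact_mod_cast he1⟩

end Groth.Agent.Lib.Helper31.LG
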