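import Mathlib
import Groth.Prelude.Def_W4c1nerontoraddGraph
import Groth.Agent.Lib.Helper31.LabGraphCore2

set_option autoImplicit false
set_option linter.unusedSectionVars false
universe u

namespace Groth.Agent.Lib.Helper31.LG

open LabGraph

variable {V E : Type u} [Fintype V] [Fintype E] [DecidableEq V] [DecidableEq E]
  (ends : E → V × V)

theorem NoEven.mono {F F' : Finset E} (h : F' ⊆ F) (hF : NoEven ends F) : NoEven ends F' :=
  fun S hS => hF S (hS.trans h)

/-- potentials with prescribed differences exist on forests -/
theorem exists_potential : ∀ n : ℕ, ∀ F : Finset E, F.card = n → NoEven ends F →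
    ∀ x : E → ℤ, ∃ φ : V → ℤ, ∀ e ∈ F, cob ends φ e = x e := by
  intro n
  induction n with
  | zero =>
    intro F hF _ x
    rw [Finset.card_eq_zero] at hF
    subst hF
    exact ⟨0, fun e he => absurd he (Finset.notMem_empty e)⟩
  | succ n ih =>
    intro F hcard hF x
    have hne : F.Nonempty := Finset.card_pos.mp (by omega)
    obtain ⟨v, hv⟩ := exists_leaf ends F hne hF
    -- the unique edge at v
    have hex : ∃ e0 ∈ F, ((if (ends e0).1 = v then 1 else 0) + (if (ends e0).2 = v then 1 else 0)) ≠ 0 := by
      by_contra h
      push Not at h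
      unfold endCount at hv
      rw [Finset.sum_eq_zero h] at hv
      exact absurd hv (by norm_num)
    obtain ⟨e0, he0F, he0⟩ := hex
    have hsplit : endCount ends F v =
        ((if (ends e0).1 = v then 1 else 0) + (if (ends e0).2 = v then 1 else 0)) +
          endCount ends (F.erase e0) v := by
      unfold endCount
      exact (Finset.add_sum_erase F (fun e => (if (ends e).1 = v then 1 else 0) +
        (if (ends e).2 = v then 1 else 0)) he0F).symm
    have hrest : endCount ends (F.erase e0) v = 0 := by omega
    have hone : ((if (ends e0).1 = v then 1 else 0) + (if (ends e0).2 = v then 1 else 0)) = 1 := by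
      omega
    have hothers : ∀ e ∈ F.erase e0, (ends e).1 ≠ v ∧ (ends e).2 ≠ v := by
      intro e he
      unfold endCount at hrest
      have := (Finset.sum_eq_zero_iff.mp hrest) e he
      constructor
      · intro h; simp [h] at this
      · intro h; simp [h] at this
    obtain ⟨φ', hφ'⟩ := ih (F.erase e0) (by rw [Finset.card_erase_of_mem he0F]; omega)
      (NoEven.mono ends (Finset.erase_subset _ _) hF) x
    by_cases h1 : (ends e0).1 = v
    · have h2 : (ends e0).2 ≠ v := by
        intro h2
        rw [if_pos h1, if_pos h2] at hone
        omega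
      refine ⟨Function.update φ' v (φ' (ends e0).2 - x e0), ?_⟩
      intro e he
      by_cases hee : e = e0
      · subst hee
        unfold cob
        rw [h1, Function.update_self, Function.update_of_ne h2]
        ring
      · have := hothers e (Finset.mem_erase.mpr ⟨hee, he⟩)
        rw [← hφ' e (Finset.mem_erase.mpr ⟨hee, he⟩)]
        unfold cob
        rw [Function.update_of_ne this.1, Function.update_of_ne this.2]
    · have h2 : (ends e0).2 = v := by
        by_contra h2
        rw [if_neg h1, if_neg h2] at hone
        omega
      refine ⟨Function.update φ' v (x e0 + φ' (ends e0).1), ?_⟩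
      intro e he
      by_cases hee : e = e0
      · subst hee
        unfold cob
        rw [h2, Function.update_self, Function.update_of_ne h1]
        ring
      · have := hothers e (Finset.mem_erase.mpr ⟨hee, he⟩)
        rw [← hφ' e (Finset.mem_erase.mpr ⟨hee, he⟩)]
        unfold cob
        rw [Function.update_of_ne this.1, Function.update_of_ne this.2]

/-- every nonempty even set contains a circuit -/
theorem exists_circuit_subset (S : Finset E) (hne : S.Nonempty) (hS : IsEvenSet ends S) :
    ∃ C : Finset E, C ⊆ S ∧ IsCircuit ends C := by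
  classical
  have hne' : (S.powerset.filter fun C => C.Nonempty ∧ IsEvenSet ends C).Nonempty :=
    ⟨S, Finset.mem_filter.mpr ⟨Finset.mem_powerset.mpr le_rfl, hne, hS⟩⟩
  obtain ⟨C, hC, hmin⟩ := Finset.exists_min_image _ Finset.card hne'
  rw [Finset.mem_filter, Finset.mem_powerset] at hC
  refine ⟨C, hC.1, hC.2.1, hC.2.2, ?_⟩
  intro C' hC' hC'ne
  by_contra hcon
  push Not at hcon
  have := hmin C' (Finset.mem_filter.mpr ⟨Finset.mem_powerset.mpr (hC'.subset.trans hC.1),
    hC'ne, hcon⟩)
  have := Finset.card_lt_card hC'
  omega

/-- circuit-coprime: the edges with label divisible by a prime form a forest -/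
theorem noEven_of_circuitCoprime (l : E → ℕ) (hcc : IsCircuitCoprime ends l) (p : ℕ)
    (hp : p.Prime) : NoEven ends (Finset.univ.filter fun e => p ∣ l e) := by
  intro S hS hne hev
  obtain ⟨C, hCS, hC⟩ := exists_circuit_subset ends S hne hev
  have h1 := hcc C hC
  have h2 : p ∣ C.gcd l := Finset.dvd_gcd fun e he => (Finset.mem_filter.mp (hS (hCS he))).2
  rw [h1] at h2
  exact hp.one_lt.ne' (Nat.dvd_one.mp h2)

end Groth.Agent.Lib.Helper31.LG
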