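import Mathlib
import Groth.Prelude.Def_W4c1nerontoraddGraph
import Groth.Agent.Lib.Helper31.LabGraphCore3

set_option autoImplicit false
set_option linter.unusedSectionVars false
universe u

namespace Groth.Agent.Lib.Helper31.LG

open LabGraph

variable {V E : Type u} [Fintype V] [Fintype E] [DecidableEq V] [DecidableEq E]
  (ends : E → V × V)

/-- the key solvability property: edge residues are realised by vertex potentials -/
def Ksolv (l : E → ℕ) : Prop :=
  ∀ x : E → ℤ, ∃ φ : V → ℤ, ∀ e, (l e : ℤ) ∣ x e - cob ends φ e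

/-- the subgroup of edge vectors `δφ + l y` -/
def InH (l : E → ℕ) (x : E → ℤ) : Prop :=
  ∃ (φ : V → ℤ) (y : E → ℤ), ∀ e, x e = cob ends φ e + (l e : ℤ) * y e

theorem InH.add {l : E → ℕ} {x x' : E → ℤ} (h : InH ends l x) (h' : InH ends l x') :
    InH ends l (x + x') := by
  obtain ⟨φ, y, hx⟩ := h
  obtain ⟨φ', y', hx'⟩ := h'
  refine ⟨φ + φ', y + y', fun e => ?_⟩
  simp only [Pi.add_apply, hx e, hx' e, cob]
  ring

theorem InH.smul {l : E → ℕ} {x : E → ℤ} (a : ℤ) (h : InH ends l x) :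
    InH ends l (fun e => a * x e) := by
  obtain ⟨φ, y, hx⟩ := h
  refine ⟨fun v => a * φ v, fun e => a * y e, fun e => ?_⟩
  simp only [hx e, cob]
  ring

theorem step_prime (l : E → ℕ) (hcc : IsCircuitCoprime ends l) (p : ℕ) (hp : p.Prime)
    (x : E → ℤ) : ∃ h z : E → ℤ, InH ends l h ∧ ∀ e, x e = h e + (p : ℤ) * z e := by
  obtain ⟨φ, hφ⟩ := exists_potential ends _ _ rfl (noEven_of_circuitCoprime ends l hcc p hp) x
  have hyz : ∀ e, ∃ y z : ℤ, x e - cob ends φ e = (l e : ℤ) * y + (p : ℤ) * z := by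
    intro e
    by_cases hpe : p ∣ l e
    · refine ⟨0, 0, ?_⟩
      rw [hφ e (Finset.mem_filter.mpr ⟨Finset.mem_univ _, hpe⟩)]
      ring
    · have hcop : IsCoprime (l e : ℤ) (p : ℤ) := by
        rw [Int.isCoprime_iff_gcd_eq_one, Int.gcd_natCast_natCast]
        exact (Nat.Coprime.symm ((Nat.Prime.coprime_iff_not_dvd hp).mpr hpe))
      obtain ⟨a, b, hab⟩ := hcop
      refine ⟨a * (x e - cob ends φ e), b * (x e - cob ends φ e), ?_⟩
      linear_combination (-(x e - cob ends φ e)) * hab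
  choose y z hyz using hyz
  refine ⟨fun e => cob ends φ e + (l e : ℤ) * y e, z, ⟨φ, y, fun e => rfl⟩, fun e => ?_⟩
  linear_combination hyz e

theorem step_list (l : E → ℕ) (hcc : IsCircuitCoprime ends l) (L : List ℕ)
    (hL : ∀ p ∈ L, p.Prime) (x : E → ℤ) :
    ∃ h z : E → ℤ, InH ends l h ∧ ∀ e, x e = h e + (L.prod : ℤ) * z e := by
  induction L generalizing x with
  | nil =>
    exact ⟨0, x, ⟨0, 0, fun e => by simp [cob]⟩, fun e => by simp⟩
  | cons p L ih =>
    obtain ⟨h, z, hh, hx⟩ := step_prime ends l hcc p (hL p List.mem_cons_self) x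
    obtain ⟨h', z', hh', hz⟩ := ih (fun q hq => hL q (List.mem_cons_of_mem _ hq)) z
    refine ⟨h + fun e => (p : ℤ) * h' e, z', hh.add ends (hh'.smul ends p), fun e => ?_⟩
    simp only [Pi.add_apply, List.prod_cons, Nat.cast_mul]
    rw [hx e, hz e]
    ring

theorem ksolv_of_circuitCoprime (l : E → ℕ) (hl : ∀ e, 0 < l e)
    (hcc : IsCircuitCoprime ends l) : Ksolv ends l := by
  intro x
  set N : ℕ := ∏ e : E, l e with hN
  have hN0 : N ≠ 0 := Finset.prod_ne_zero_iff.mpr fun e _ => (hl e).ne'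
  obtain ⟨h, z, ⟨φ, y, hh⟩, hx⟩ := step_list ends l hcc N.primeFactorsList
    (fun p hp => Nat.prime_of_mem_primeFactorsList hp) x
  rw [Nat.prod_primeFactorsList hN0] at hx
  refine ⟨φ, fun e => ?_⟩
  rw [hx e, hh e]
  have hdvd : (l e : ℤ) ∣ (N : ℤ) := by
    exact_mod_cast Finset.dvd_prod_of_mem l (Finset.mem_univ e)
  have : cob ends φ e + (l e : ℤ) * y e + (N : ℤ) * z e - cob ends φ e =
      (l e : ℤ) * y e + (N : ℤ) * z e := by ring
  rw [this]
  exact dvd_add (dvd_mul_right _ _) (Dvd.dvd.mul_right hdvd _)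

theorem circuitCoprime_of_ksolv (l : E → ℕ) (hl : ∀ e, 0 < l e) (hK : Ksolv ends l) :
    IsCircuitCoprime ends l := by
  intro C hC
  by_contra hg
  set g := C.gcd l with hgdef
  obtain ⟨e0, he0⟩ := hC.1
  have hg0 : g ≠ 0 := by
    intro h
    have := (Finset.gcd_eq_zero_iff.mp h) e0 he0
    exact (hl e0).ne' this
  have hg2 : 2 ≤ g := by omega
  have hdeg : ∀ v : V, endCount ends C v ≠ 1 := by
    intro v h
    have := hC.2.1 v
    rw [h] at this
    exact absurd this (by decide)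
  obtain ⟨γ, hsupp, hcyc, e1, he1⟩ := exists_cycle_not_dvd ends g hg2 C hC.1 hdeg
  obtain ⟨φ, hφ⟩ := hK (Pi.single e1 1)
  have h0 := sum_cycle_cob ends γ hcyc φ
  have hdvd : (g : ℤ) ∣ ∑ e : E, γ e * ((Pi.single e1 1 : E → ℤ) e - cob ends φ e) := by
    refine Finset.dvd_sum fun e _ => ?_
    by_cases heC : e ∈ C
    · have h1 : (g : ℤ) ∣ (l e : ℤ) := by exact_mod_cast Finset.gcd_dvd heC
      exact Dvd.dvd.mul_left (h1.trans (hφ e)) _
    · rw [hsupp e heC, zero_mul]
      exact dvd_zero _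
  have hsum : ∑ e : E, γ e * ((Pi.single e1 1 : E → ℤ) e - cob ends φ e) = γ e1 := by
    simp_rw [mul_sub]
    rw [Finset.sum_sub_distrib, h0, sub_zero, Finset.sum_eq_single e1]
    · simp
    · intro e _ he
      simp [he]
    · intro h
      exact absurd (Finset.mem_univ _) h
  rw [hsum] at hdvd
  exact he1 hdvd

theorem circuitCoprime_iff_ksolv (l : E → ℕ) (hl : ∀ e, 0 < l e) :
    IsCircuitCoprime ends l ↔ Ksolv ends l :=
  ⟨ksolv_of_circuitCoprime ends l hl, circuitCoprime_of_ksolv ends l hl⟩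

end Groth.Agent.Lib.Helper31.LG
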