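import Mathlib
import Groth.Prelude.Def_W4c1nerontoraddGraph
import Groth.Agent.Lib.Helper31.LabGraphCore4

set_option autoImplicit false
set_option linter.unusedSectionVars false
universe u

namespace Groth.Agent.Lib.Helper31.LG

open LabGraph

variable {V E : Type u} [Fintype V] [Fintype E] [DecidableEq V] [DecidableEq E]
  (ends : E → V × V)

theorem circuitCoprime_of_wk (l : E → ℕ) (hl : ∀ e, 0 < l e)
    (hK : ∀ x : E → ℤ, ∃ z : E → ℤ, (∀ e, (l e : ℤ) ∣ x e - z e) ∧
      ∀ γ : E → ℤ, (∀ v : V, boundary ends γ v = 0) → ∑ e : E, γ e * z e = 0) :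
    IsCircuitCoprime ends l := by
  intro C hC
  by_contra hg
  set g := C.gcd l with hgdef
  obtain ⟨e0, he0⟩ := hC.1
  have hg0 : g ≠ 0 := by
    intro h
    have := (Finset.gcd_eq_zero_iff.mp h) e0 he0
    exact (hl e0).ne' this
  have hg2 : 2 ≤ g := by omega
  have hdeg : ∀ v : V, endCount ends C v ≠ 1 := by
    intro v h
    have := hC.2.1 v
    rw [h] at this
    exact absurd this (by decide)
  obtain ⟨γ, hsupp, hcyc, e1, he1⟩ := exists_cycle_not_dvd ends g hg2 C hC.1 hdeg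
  obtain ⟨z, hz, hzc⟩ := hK (Pi.single e1 1)
  have h0 := hzc γ hcyc
  have hdvd : (g : ℤ) ∣ ∑ e : E, γ e * ((Pi.single e1 1 : E → ℤ) e - z e) := by
    refine Finset.dvd_sum fun e _ => ?_
    by_cases heC : e ∈ C
    · have h1 : (g : ℤ) ∣ (l e : ℤ) := by exact_mod_cast Finset.gcd_dvd heC
      exact Dvd.dvd.mul_left (h1.trans (hz e)) _
    · rw [hsupp e heC, zero_mul]
      exact dvd_zero _
  have hsum : ∑ e : E, γ e * ((Pi.single e1 1 : E → ℤ) e - z e) = γ e1 := by
    simp_rw [mul_sub]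
    rw [Finset.sum_sub_distrib, h0, sub_zero, Finset.sum_eq_single e1]
    · simp
    · intro e _ he
      simp [he]
    · intro h
      exact absurd (Finset.mem_univ _) h
  rw [hsum] at hdvd
  exact he1 hdvd

theorem S13758 (l : E → ℕ) (hl : ∀ e, 0 < l e) :
    IsCircuitCoprime ends l ↔
      ∀ x : E → ℤ, ∃ y : E → ℤ, ∀ γ : E → ℤ, (∀ v : V, boundary ends γ v = 0) →
        ∑ e : E, γ e * (x e - (l e : ℤ) * y e) = 0 := by
  constructor
  · intro hcc x
    obtain ⟨φ, hφ⟩ := ksolv_of_circuitCoprime ends l hl hcc x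
    choose y hy using hφ
    refine ⟨y, fun γ hγ => ?_⟩
    rw [← sum_cycle_cob ends γ hγ φ]
    refine Finset.sum_congr rfl fun e _ => ?_
    rw [← hy e]
    ring
  · intro h
    apply circuitCoprime_of_wk ends l hl
    intro x
    obtain ⟨y, hy⟩ := h x
    refine ⟨fun e => x e - (l e : ℤ) * y e, fun e => ?_, hy⟩
    simp

end Groth.Agent.Lib.Helper31.LG
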