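import Mathlib
import Groth.Prelude.Def_W4c1nerontoraddGraph
import Groth.Agent.Lib.Helper31.LabGraphCore5

set_option autoImplicit false
set_option linter.unusedSectionVars false
universe u

namespace Groth.Agent.Lib.Helper31.LG

open LabGraph

variable {V E : Type u} [Fintype V] [Fintype E] [DecidableEq V] [DecidableEq E]
  (ends : E → V × V) (l : E → ℕ)

theorem pathVert_succ (e : E) (j : Fin (l e - 1)) :
    pathVert ends l e (j.val + 1) = Sum.inr ⟨e, j⟩ := by
  have hj := j.2
  unfold pathVert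
  rw [dif_neg (by omega), dif_pos (by omega)]
  rfl

theorem pathVert_zero (e : E) : pathVert ends l e 0 = Sum.inl (ends e).1 := by
  unfold pathVert
  rw [dif_pos rfl]

theorem pathVert_last (e : E) (i : ℕ) (hi : l e ≤ i) (h0 : i ≠ 0) :
    pathVert ends l e i = Sum.inl (ends e).2 := by
  unfold pathVert
  rw [dif_neg h0, dif_neg (by omega)]

theorem pathVert_eq_inr_iff (e' : E) (i : ℕ) (e : E) (j : Fin (l e - 1)) :
    pathVert ends l e' i = Sum.inr ⟨e, j⟩ ↔ e' = e ∧ i = j.val + 1 := by
  constructor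
  · intro h
    unfold pathVert at h
    split_ifs at h with h0 h1
    · simp only [Sum.inr.injEq, Sigma.mk.injEq] at h
      obtain ⟨rfl, h2⟩ := h
      refine ⟨rfl, ?_⟩
      have := eq_of_heq h2
      have := congrArg Fin.val this
      simp only at this
      omega
  · rintro ⟨rfl, rfl⟩
    exact pathVert_succ ends l e' j

theorem mdeg_new (ψ : BlVert V E l → ℤ) (e : E) (j : Fin (l e - 1)) :
    mdeg (blEnds ends l) (fun _ => 1) ψ (Sum.inr ⟨e, j⟩) =
      (ψ (pathVert ends l e j.val) - ψ (Sum.inr ⟨e, j⟩)) +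
        (ψ (pathVert ends l e (j.val + 2)) - ψ (Sum.inr ⟨e, j⟩)) := by
  have hj := j.2
  unfold mdeg
  rw [Finset.sum_add_distrib]
  have h1 : ∑ p : BlEdge E l, (if (blEnds ends l p).1 = Sum.inr ⟨e, j⟩ then
      (ψ (blEnds ends l p).2 - ψ (blEnds ends l p).1) / (((fun _ => 1) p : ℕ) : ℤ) else 0) =
      ψ (pathVert ends l e (j.val + 2)) - ψ (Sum.inr ⟨e, j⟩) := by
    rw [Finset.sum_eq_single (⟨e, ⟨j.val + 1, by omega⟩⟩ : BlEdge E l)]
    · simp only [blEnds, pathVert_succ ends l e j, if_true, Nat.cast_one, Int.ediv_one]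
    · intro p _ hp
      rw [if_neg]
      intro h
      apply hp
      simp only [blEnds] at h
      obtain ⟨h2, h3⟩ := (pathVert_eq_inr_iff ends l p.1 p.2.val e j).mp h
      obtain ⟨e', k⟩ := p
      simp only at h2 h3
      subst h2
      congr 1
      exact Fin.ext h3
    · intro h
      exact absurd (Finset.mem_univ _) h
  have h2 : ∑ p : BlEdge E l, (if (blEnds ends l p).2 = Sum.inr ⟨e, j⟩ then
      (ψ (blEnds ends l p).1 - ψ (blEnds ends l p).2) / (((fun _ => 1) p : ℕ) : ℤ) else 0) =
      ψ (pathVert ends l e j.val) - ψ (Sum.inr ⟨e, j⟩) := by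
    rw [Finset.sum_eq_single (⟨e, ⟨j.val, by omega⟩⟩ : BlEdge E l)]
    · simp only [blEnds, pathVert_succ ends l e j, if_true, Nat.cast_one, Int.ediv_one]
    · intro p _ hp
      rw [if_neg]
      intro h
      apply hp
      simp only [blEnds] at h
      obtain ⟨h2, h3⟩ := (pathVert_eq_inr_iff ends l p.1 (p.2.val + 1) e j).mp h
      obtain ⟨e', k⟩ := p
      simp only at h2 h3
      subst h2
      congr 1
      exact Fin.ext (by simp only; omega)
    · intro h
      exact absurd (Finset.mem_univ _) h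
  rw [h1, h2]
  ring

end Groth.Agent.Lib.Helper31.LG
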