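import Mathlib
import Groth.Prelude.Def_W4c1nerontoraddGraph
import Groth.Agent.Lib.Helper31.LabGraphBlow1

set_option autoImplicit false
set_option linter.unusedSectionVars false
universe u

namespace Groth.Agent.Lib.Helper31.LG

open LabGraph

theorem ap_lemma (L : ℕ) (hL : 2 ≤ L) (u : ℕ → ℤ) (c : ℤ)
    (h1 : ∀ j, j + 2 < L → u j + u (j + 2) - 2 * u (j + 1) = 0)
    (h2 : u (L - 2) + u L - 2 * u (L - 1) - c = 0) : (L : ℤ) ∣ c - (u L - u 0) := by
  have key : ∀ i, i < L → u i = u 0 + i * (u 1 - u 0) := by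
    intro i
    induction i using Nat.strong_induction_on with
    | _ i ih =>
      intro hi
      match i with
      | 0 => simp
      | 1 => simp
      | (j + 2) =>
        have e1 := ih j (by omega) (by omega)
        have e2 := ih (j + 1) (by omega) (by omega)
        have e3 := h1 j hi
        push_cast at e1 e2 ⊢
        linear_combination e3 - e1 + 2 * e2
  have e1 := key (L - 2) (by omega)
  have e2 := key (L - 1) (by omega)
  have c1 : ((L - 2 : ℕ) : ℤ) = (L : ℤ) - 2 := by omega
  have c2 : ((L - 1 : ℕ) : ℤ) = (L : ℤ) - 1 := by omega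
  rw [c1] at e1
  rw [c2] at e2
  refine ⟨-(u 1 - u 0), ?_⟩
  linear_combination -h2 + e1 - 2 * e2

variable {V E : Type u} [Fintype V] [Fintype E] [DecidableEq V] [DecidableEq E]
  (ends : E → V × V) (l : E → ℕ)

theorem ksolv_of_blowup (hl : ∀ e, 0 < l e)
    (h : ∀ β : BlVert V E l → ℤ, ∃ (ψ : BlVert V E l → ℤ) (α : V → ℤ),
        ∀ w : BlVert V E l,
          mdeg (blEnds ends l) (fun _ => 1) ψ w + β w = Sum.elim α (fun _ => (0 : ℤ)) w) :
    Ksolv ends l := by
  intro x
  obtain ⟨ψ, α, hψ⟩ := h (Sum.elim (fun _ => 0)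
    (fun q => if q.2.val + 2 = l q.1 then - x q.1 else 0))
  refine ⟨fun v => ψ (Sum.inl v), fun e => ?_⟩
  by_cases hle : l e = 1
  · rw [hle]; simp
  · have hL : 2 ≤ l e := by have := hl e; omega
    have hcond : ∀ j, (hj : j < l e - 1) →
        ψ (pathVert ends l e j) + ψ (pathVert ends l e (j + 2)) -
          2 * ψ (pathVert ends l e (j + 1)) +
          (if j + 2 = l e then - x e else 0) = 0 := by
      intro j hj
      have := hψ (Sum.inr ⟨e, ⟨j, hj⟩⟩)
      rw [mdeg_new] at this
      simp only [Sum.elim_inr] at this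
      rw [← pathVert_succ ends l e ⟨j, hj⟩] at this
      simp only at this
      linear_combination this
    have := ap_lemma (l e) hL (fun i => ψ (pathVert ends l e i)) (x e)
      (fun j hj => by
        have := hcond j (by omega)
        rw [if_neg (by omega)] at this
        linear_combination this)
      (by
        have := hcond (l e - 2) (by omega)
        rw [if_pos (by omega)] at this
        have e1 : l e - 2 + 2 = l e := by omega
        have e2 : l e - 2 + 1 = l e - 1 := by omega
        rw [e1, e2] at this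
        linear_combination this)
    rw [pathVert_zero, pathVert_last ends l e (l e) le_rfl (by omega)] at this
    exact this

/-- partial sums -/
def Bsum (b : ℕ → ℤ) : ℕ → ℤ
  | 0 => 0
  | i + 1 => Bsum b i + b i

/-- double partial sums -/
def Ssum (b : ℕ → ℤ) : ℕ → ℤ
  | 0 => 0
  | i + 1 => Ssum b i + Bsum b (i + 1)

theorem Ssum_second_diff (b : ℕ → ℤ) (i : ℕ) :
    Ssum b (i + 2) - 2 * Ssum b (i + 1) + Ssum b i = b (i + 1) := by
  simp only [Ssum, Bsum]
  ring

theorem blowup_of_ksolv (hl : ∀ e, 0 < l e) (hK : Ksolv ends l) :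
    ∀ β : BlVert V E l → ℤ, ∃ (ψ : BlVert V E l → ℤ) (α : V → ℤ),
        ∀ w : BlVert V E l,
          mdeg (blEnds ends l) (fun _ => 1) ψ w + β w = Sum.elim α (fun _ => (0 : ℤ)) w := by
  intro β
  let b : E → ℕ → ℤ := fun e i =>
    if h : 0 < i ∧ i < l e then β (Sum.inr ⟨e, ⟨i - 1, by omega⟩⟩) else 0
  obtain ⟨φ, hφ⟩ := hK (fun e => - Ssum (b e) (l e))
  have ht : ∀ e, ∃ t : ℤ, (l e : ℤ) * t = cob ends φ e + Ssum (b e) (l e) := by
    intro e
    obtain ⟨t, ht⟩ := hφ e
    exact ⟨-t, by linear_combination ht⟩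
  choose t ht using ht
  let uu : E → ℕ → ℤ := fun e i => φ (ends e).1 + (i : ℤ) * t e - Ssum (b e) i
  let ψ : BlVert V E l → ℤ := Sum.elim φ (fun q => uu q.1 (q.2.val + 1))
  have hpath : ∀ e i, i ≤ l e → ψ (pathVert ends l e i) = uu e i := by
    intro e i hi
    by_cases h0 : i = 0
    · subst h0
      rw [pathVert_zero]
      simp [ψ, uu, Ssum]
    · by_cases h1 : i < l e
      · have := pathVert_succ ends l e ⟨i - 1, by omega⟩
        simp only at this
        have e1 : i - 1 + 1 = i := by omega
        rw [e1] at this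
        rw [this]
        simp only [ψ, Sum.elim_inr]
        rw [e1]
      · have hil : i = l e := by omega
        subst hil
        rw [pathVert_last ends l e (l e) le_rfl h0]
        simp only [ψ, Sum.elim_inl, uu]
        have := ht e
        unfold cob at this
        linear_combination -this
  refine ⟨ψ, fun v => mdeg (blEnds ends l) (fun _ => 1) ψ (Sum.inl v) + β (Sum.inl v), ?_⟩
  intro w
  cases w with
  | inl v => rfl
  | inr q =>
    obtain ⟨e, j⟩ := q
    have hj := j.2
    rw [mdeg_new]
    simp only [Sum.elim_inr]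
    rw [hpath e j.val (by omega), hpath e (j.val + 2) (by omega)]
    have h3 : ψ (Sum.inr ⟨e, j⟩) = uu e (j.val + 1) := rfl
    rw [h3]
    have h4 : β (Sum.inr ⟨e, j⟩) = b e (j.val + 1) := by
      simp only [b]
      rw [dif_pos ⟨by omega, by omega⟩]
      rfl
    rw [h4]
    simp only [uu]
    have := Ssum_second_diff (b e) j.val
    push_cast
    linear_combination -this

theorem S13760 (hl : ∀ e, 0 < l e) :
    (∀ β : BlVert V E l → ℤ, ∃ (ψ : BlVert V E l → ℤ) (α : V → ℤ),
        ∀ w : BlVert V E l,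
          mdeg (blEnds ends l) (fun _ => 1) ψ w + β w = Sum.elim α (fun _ => (0 : ℤ)) w) ↔
      IsCircuitCoprime ends l := by
  rw [circuitCoprime_iff_ksolv ends l hl]
  exact ⟨ksolv_of_blowup ends l hl, blowup_of_ksolv ends l hl⟩

end Groth.Agent.Lib.Helper31.LG
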