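import Mathlib
import Groth.Prelude.Def_W4c1nerontoraddGraph
import Groth.Agent.Lib.Helper31.LabGraphCore3

set_option autoImplicit false
set_option linter.unusedSectionVars false
universe u

namespace Groth.Agent.Lib.Helper31.LT

open LabGraph Groth.Agent.Lib.Helper31.LG Matrix

variable {V E : Type u} [Fintype V] [Fintype E] [DecidableEq V] [DecidableEq E]
  (ends : E → V × V) (r : V)

/-- reduced (root row deleted) incidence matrix -/
def inc : Matrix {v : V // v ≠ r} E ℤ := fun v e =>
  (if (ends e).2 = v.1 then 1 else 0) - (if (ends e).1 = v.1 then 1 else 0)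

/-- extension by zero at the root -/
def ext (ψ : {v : V // v ≠ r} → ℤ) : V → ℤ := fun v => if h : v = r then 0 else ψ ⟨v, h⟩

theorem ext_root (ψ : {v : V // v ≠ r} → ℤ) : ext r ψ r = 0 := by
  simp [ext]

theorem ext_coe (ψ : {v : V // v ≠ r} → ℤ) (v : {v : V // v ≠ r}) : ext r ψ v.1 = ψ v := by
  simp [ext, v.2]

theorem ext_restrict (φ : V → ℤ) (h : φ r = 0) : ext r (fun v => φ v.1) = φ := by
  funext v
  by_cases hv : v = r
  · subst hv; rw [ext_root, h]
  · simp [ext, hv]

theorem sum_ite_ext (ψ : {v : V // v ≠ r} → ℤ) (a : V) :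
    ∑ v : {v : V // v ≠ r}, (if a = v.1 then ψ v else 0) = ext r ψ a := by
  by_cases ha : a = r
  · subst ha
    rw [ext_root]
    refine Finset.sum_eq_zero fun v _ => ?_
    rw [if_neg (fun h => v.2 h.symm)]
  · rw [Finset.sum_eq_single (⟨a, ha⟩ : {v : V // v ≠ r})]
    · simp [ext, ha]
    · intro v _ hv
      rw [if_neg (fun h => hv (Subtype.ext h.symm))]
    · intro h; exact absurd (Finset.mem_univ _) h

theorem sum_inc_mul (ψ : {v : V // v ≠ r} → ℤ) (e : E) :
    ∑ v, inc ends r v e * ψ v = cob ends (ext r ψ) e := by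
  unfold inc cob
  rw [← sum_ite_ext r ψ (ends e).2, ← sum_ite_ext r ψ (ends e).1, ← Finset.sum_sub_distrib]
  refine Finset.sum_congr rfl fun v _ => ?_
  split_ifs <;> ring

theorem sum_inc_mul_edge (γ : E → ℤ) (v : {v : V // v ≠ r}) :
    ∑ e, inc ends r v e * γ e = boundary ends γ v.1 := by
  unfold inc boundary
  refine Finset.sum_congr rfl fun e _ => ?_
  split_ifs <;> ring

theorem cob_sub_const (φ : V → ℤ) (c : ℤ) (e : E) :
    cob ends (fun v => φ v - c) e = cob ends φ e := by
  unfold cob; ring

open scoped Classical in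
/-- maximal minors of the reduced incidence matrix -/
theorem det_sq (f : {v : V // v ≠ r} → E) :
    ((inc ends r).submatrix id f).det ^ 2 =
      if Function.Injective f ∧ NoEven ends (Finset.image f Finset.univ) then 1 else 0 := by
  by_cases hinj : Function.Injective f
  swap
  · rw [if_neg (fun h => hinj h.1)]
    unfold Function.Injective at hinj
    push Not at hinj
    obtain ⟨i, j, hfij, hij⟩ := hinj
    rw [Matrix.det_zero_of_column_eq hij (fun k => by simp [hfij])]
    ring
  by_cases hNE : NoEven ends (Finset.image f Finset.univ)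
  · rw [if_pos ⟨hinj, hNE⟩]
    have hpot : ∀ j : {v : V // v ≠ r}, ∃ ψ : {v : V // v ≠ r} → ℤ,
        ∀ i, cob ends (ext r ψ) (f i) = if i = j then 1 else 0 := by
      intro j
      obtain ⟨φ, hφ⟩ := exists_potential ends _ _ rfl hNE (fun e => if e = f j then 1 else 0)
      refine ⟨fun v => φ v.1 - φ r, fun i => ?_⟩
      have h1 : ext r (fun v : {v : V // v ≠ r} => φ v.1 - φ r) = fun v => φ v - φ r :=
        ext_restrict r (fun v => φ v - φ r) (by simp)
      rw [h1, cob_sub_const, hφ (f i) (Finset.mem_image_of_mem f (Finset.mem_univ i))]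
      by_cases hij : i = j
      · subst hij; simp
      · rw [if_neg hij, if_neg (fun h => hij (hinj h))]
    choose Ψ hΨ using hpot
    set B : Matrix {v : V // v ≠ r} {v : V // v ≠ r} ℤ := fun v j => Ψ j v with hB
    have hmul : ((inc ends r).submatrix id f)ᵀ * B = 1 := by
      ext i j
      rw [Matrix.mul_apply]
      simp only [Matrix.transpose_apply, Matrix.submatrix_apply, id_eq, hB]
      rw [sum_inc_mul, hΨ, Matrix.one_apply]
    have hdet : ((inc ends r).submatrix id f).det * B.det = 1 := by
      rw [← Matrix.det_transpose ((inc ends r).submatrix id f), ← Matrix.det_mul, hmul,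
        Matrix.det_one]
    have hu : IsUnit ((inc ends r).submatrix id f).det := IsUnit.of_mul_eq_one _ hdet
    rcases Int.isUnit_iff.mp hu with h | h <;> rw [h] <;> norm_num
  · rw [if_neg (fun h => hNE h.2)]
    unfold NoEven at hNE
    push Not at hNE
    obtain ⟨S, hS, hne, hev⟩ := hNE
    obtain ⟨γ, hγ0, hsupp, hcyc⟩ := exists_int_cycle ends S hne (fun v h1 => by
      have := hev v
      rw [h1] at this
      exact absurd this (by decide))
    have hdet : ((inc ends r).submatrix id f).det = 0 := by
      rw [← Matrix.exists_mulVec_eq_zero_iff]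
      refine ⟨fun i => γ (f i), ?_, ?_⟩
      · intro h0
        apply hγ0
        funext e
        by_cases he : e ∈ S
        · obtain ⟨i, -, rfl⟩ := Finset.mem_image.mp (hS he)
          exact congrFun h0 i
        · exact hsupp e he
      · funext v
        simp only [Matrix.mulVec, dotProduct, Matrix.submatrix_apply, id_eq, Pi.zero_apply]
        rw [← hcyc v.1, ← sum_inc_mul_edge ends r γ v]
        rw [← Finset.sum_image (f := fun e => inc ends r v e * γ e) (g := f)
          (fun i _ j _ h => hinj h)]
        refine Finset.sum_subset (Finset.subset_univ _) fun e _ he => ?_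
        rw [hsupp e (fun h => he (hS h)), mul_zero]
    rw [hdet]; ring

end Groth.Agent.Lib.Helper31.LT
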