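import Mathlib
import Groth.Prelude.Def_W4c2conddiscmodels
import Groth.Agent.Lib.Helper31.LabGraphCore3
import Groth.Agent.Lib.Helper31.LabTree1

set_option autoImplicit false
set_option linter.unusedSectionVars false
universe u

namespace Groth.Agent.Lib.Helper31.LT

open LabGraph Groth.Agent.Lib.Helper31.LG Matrix

variable {V E : Type u} [Fintype V] [Fintype E] [DecidableEq V] [DecidableEq E]
  (ends : E → V × V)

theorem endCount_subtype (T : Finset E) (C : Finset T) (v : V) :
    endCount (fun e : T => ends e.1) C v =
      endCount ends (C.map (Function.Embedding.subtype _)) v := by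
  unfold endCount
  rw [Finset.sum_map]
  rfl

theorem forest_iff (T : Finset E) :
    DualGr.IsForest (V := V) (fun e : T => ends e.1) ↔ NoEven ends T := by
  constructor
  · intro hF S hS hne hev
    set S' : Finset T := Finset.univ.filter (fun e : T => e.1 ∈ S) with hS'
    have hmap : S'.map (Function.Embedding.subtype _) = S := by
      ext e
      simp only [Finset.mem_map, Function.Embedding.coe_subtype, hS', Finset.mem_filter,
        Finset.mem_univ, true_and]
      constructor
      · rintro ⟨a, ha, rfl⟩; exact ha
      · intro he; exact ⟨⟨e, hS he⟩, he, rfl⟩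
    have hne' : S'.Nonempty := by
      obtain ⟨e, he⟩ := hne
      exact ⟨⟨e, hS he⟩, by simp [hS', he]⟩
    have hev' : IsEvenSet (fun e : T => ends e.1) S' := by
      intro v
      rw [endCount_subtype, hmap]
      exact hev v
    obtain ⟨C, -, hC⟩ := exists_circuit_subset (fun e : T => ends e.1) S' hne' hev'
    exact hF C hC
  · intro hT C hC
    refine hT (C.map (Function.Embedding.subtype _)) ?_ ?_ ?_
    · intro e he
      obtain ⟨a, -, rfl⟩ := Finset.mem_map.mp he
      exact a.2
    · exact hC.1.map
    · intro v
      rw [← endCount_subtype]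
      exact hC.2.1 v

/-- adjacency in the subgraph spanned by `T` -/
theorem adj_subtype_iff (T : Finset E) (v w : V) :
    Adj (fun e : T => ends e.1) v w ↔ ∃ e ∈ T, ends e = (v, w) ∨ ends e = (w, v) := by
  unfold Adj
  constructor
  · rintro ⟨e, he⟩; exact ⟨e.1, e.2, he⟩
  · rintro ⟨e, heT, he⟩; exact ⟨⟨e, heT⟩, he⟩

theorem adj_symm (v w : V) (h : Adj ends v w) : Adj ends w v := by
  obtain ⟨e, he⟩ := h
  exact ⟨e, he.symm⟩

theorem reach_symm {v w : V} (h : Relation.ReflTransGen (Adj ends) v w) :
    Relation.ReflTransGen (Adj ends) w v := by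
  induction h with
  | refl => exact Relation.ReflTransGen.refl
  | tail _ hbc ih => exact Relation.ReflTransGen.head (adj_symm ends _ _ hbc) ih

/-- a potential with zero coboundary on `T` is constant on `T`-reachable vertices -/
theorem const_of_reach (T : Finset E) (φ : V → ℤ) (hφ : ∀ e ∈ T, cob ends φ e = 0) {v w : V}
    (h : Relation.ReflTransGen (Adj (fun e : T => ends e.1)) v w) : φ v = φ w := by
  induction h with
  | refl => rfl
  | tail _ hbc ih =>
    rw [ih]
    obtain ⟨e, he⟩ := hbc
    have := hφ e.1 e.2
    unfold cob at this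
    rcases he with he | he <;> simp only [he] at this <;> omega

variable (r : V)

/-- the coboundary restricted to `T`, on potentials vanishing at the root, as a linear map -/
noncomputable def cobLin (T : Finset E) : ({v : V // v ≠ r} → ℤ) →ₗ[ℤ] (T → ℤ) :=
  (((inc ends r).submatrix id (fun e : T => e.1))ᵀ).mulVecLin

theorem cobLin_apply (T : Finset E) (ψ : {v : V // v ≠ r} → ℤ) (e : T) :
    cobLin ends r T ψ e = cob ends (ext r ψ) e.1 := by
  unfold cobLin
  simp only [Matrix.mulVecLin_apply, Matrix.mulVec, dotProduct, Matrix.transpose_apply,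
    Matrix.submatrix_apply, id_eq]
  exact sum_inc_mul ends r ψ e.1

theorem cobLin_surjective (T : Finset E) (hT : NoEven ends T) :
    Function.Surjective (cobLin ends r T) := by
  intro x
  obtain ⟨φ, hφ⟩ := exists_potential ends _ T rfl hT
    (fun e => if h : e ∈ T then x ⟨e, h⟩ else 0)
  refine ⟨fun v => φ v.1 - φ r, ?_⟩
  funext e
  rw [cobLin_apply]
  have h1 : ext r (fun v : {v : V // v ≠ r} => φ v.1 - φ r) = fun v => φ v - φ r :=
    ext_restrict r (fun v => φ v - φ r) (by simp)
  rw [h1, cob_sub_const, hφ e.1 e.2, dif_pos e.2]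

theorem cobLin_injective (T : Finset E)
    (hT : LabGraph.Connected (V := V) (fun e : T => ends e.1)) :
    Function.Injective (cobLin ends r T) := by
  rw [← LinearMap.ker_eq_bot, LinearMap.ker_eq_bot']
  intro ψ hψ
  have h0 : ∀ e ∈ T, cob ends (ext r ψ) e = 0 := by
    intro e he
    have := congrFun hψ ⟨e, he⟩
    rw [cobLin_apply] at this
    exact this
  funext v
  have := const_of_reach ends T (ext r ψ) h0 (hT.2 r v.1)
  rw [ext_root, ext_coe] at this
  simp [← this]

theorem card_of_isSpanningTree (T : Finset E) (hT : IsSpanningTree ends T) :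
    T.card = Fintype.card {v : V // v ≠ r} ∧ NoEven ends T := by
  have hNE : NoEven ends T := (forest_iff ends T).mp hT.2
  refine ⟨le_antisymm ?_ ?_, hNE⟩
  · have := card_le_of_surjective ℤ (cobLin ends r T) (cobLin_surjective ends r T hNE)
    simpa using this
  · have := card_le_of_injective ℤ (cobLin ends r T) (cobLin_injective ends r T hT.1)
    simpa using this

theorem isSpanningTree_of_card (T : Finset E) (hc : T.card = Fintype.card {v : V // v ≠ r})
    (hT : NoEven ends T) : IsSpanningTree ends T := by
  classical
  refine ⟨⟨⟨r⟩, ?_⟩, (forest_iff ends T).mpr hT⟩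
  have e : {v : V // v ≠ r} ≃ T := Fintype.equivOfCardEq (by rw [Fintype.card_coe, hc])
  set f : {v : V // v ≠ r} → E := fun i => (e i).1 with hf
  have hinj : Function.Injective f := fun i j h => e.injective (Subtype.ext h)
  have himg : Finset.image f Finset.univ = T := by
    ext x
    simp only [Finset.mem_image, Finset.mem_univ, true_and, hf]
    constructor
    · rintro ⟨i, rfl⟩; exact (e i).2
    · intro hx; exact ⟨e.symm ⟨x, hx⟩, by simp⟩
  have hdet := det_sq ends r f
  rw [if_pos ⟨hinj, himg ▸ hT⟩] at hdet
  have hdet0 : ((inc ends r).submatrix id f).det ≠ 0 := by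
    intro h0; rw [h0] at hdet; norm_num at hdet
  have hreach : ∀ v : V, Relation.ReflTransGen (Adj (fun e : T => ends e.1)) r v := by
    by_contra hcon
    push Not at hcon
    obtain ⟨v₀, hv₀⟩ := hcon
    set φ : V → ℤ := fun v =>
      if Relation.ReflTransGen (Adj (fun e : T => ends e.1)) r v then 0 else 1 with hφ
    have hφr : φ r = 0 := by simp [hφ, Relation.ReflTransGen.refl]
    have hcob : ∀ e ∈ T, cob ends φ e = 0 := by
      intro e he
      have hiff : Relation.ReflTransGen (Adj (fun e : T => ends e.1)) r (ends e).1 ↔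
          Relation.ReflTransGen (Adj (fun e : T => ends e.1)) r (ends e).2 := by
        constructor
        · intro h; exact h.tail ⟨⟨e, he⟩, Or.inl rfl⟩
        · intro h; exact h.tail ⟨⟨e, he⟩, Or.inr rfl⟩
      unfold cob
      simp only [hφ, hiff, sub_self]
    apply hdet0
    rw [← Matrix.exists_vecMul_eq_zero_iff]
    refine ⟨fun v => φ v.1, ?_, ?_⟩
    · intro h0
      have hv₀r : v₀ ≠ r := by
        rintro rfl; exact hv₀ Relation.ReflTransGen.refl
      have := congrFun h0 ⟨v₀, hv₀r⟩
      simp [hφ, hv₀] at this
    · funext i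
      simp only [Matrix.vecMul, dotProduct, Matrix.submatrix_apply, id_eq, Pi.zero_apply]
      have h1 := sum_inc_mul ends r (fun v => φ v.1) (f i)
      rw [ext_restrict r φ hφr, hcob (f i) (e i).2] at h1
      rw [← h1]
      exact Finset.sum_congr rfl fun v _ => mul_comm _ _
  intro v w
  exact (reach_symm _ (hreach v)).trans (hreach w)

open scoped Classical in
theorem isSpanningTree_iff (T : Finset E) :
    IsSpanningTree ends T ↔ (T.card = Fintype.card {v : V // v ≠ r} ∧ NoEven ends T) :=
  ⟨card_of_isSpanningTree ends r T, fun h => isSpanningTree_of_card ends r T h.1 h.2⟩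

end Groth.Agent.Lib.Helper31.LT
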