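import Mathlib

set_option autoImplicit false
set_option linter.unusedSectionVars false

namespace Groth.Agent.Lib.Helper31.MT

open Matrix Finset

variable {m n R : Type*} [Fintype m] [DecidableEq m] [Fintype n] [DecidableEq n] [CommRing R]

/-- symmetrised Cauchy–Binet for `N W Nᵀ` -/
theorem det_mul_diag_mul_transpose (N : Matrix m n R) (w : n → R) :
    (N * diagonal w * Nᵀ).det * (Fintype.card m).factorial =
      ∑ f : m → n, (∏ i, w (f i)) * (N.submatrix id f).det ^ 2 := by
  -- step 1: expansion over functions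
  have h1 : (N * diagonal w * Nᵀ).det =
      ∑ f : m → n, (∏ i, w (f i)) * (∏ i, N i (f i)) * (N.submatrix id f).det := by
    rw [Matrix.det_apply']
    have hentry : ∀ i j, (N * diagonal w * Nᵀ) i j = ∑ k, N i k * w k * N j k := by
      intro i j
      simp [Matrix.mul_apply, Matrix.diagonal_apply, Matrix.transpose_apply]
    simp_rw [hentry]
    simp_rw [Finset.prod_univ_sum, Fintype.piFinset_univ, Finset.mul_sum]
    rw [Finset.sum_comm]
    refine Finset.sum_congr rfl fun f _ => ?_
    rw [Matrix.det_apply', Finset.mul_sum]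
    refine Finset.sum_congr rfl fun σ _ => ?_
    simp only [Matrix.submatrix_apply, id_eq]
    rw [Finset.prod_mul_distrib, Finset.prod_mul_distrib]
    ring
  -- step 2: symmetrisation
  have h2 : ∀ τ : Equiv.Perm m,
      ∑ f : m → n, (∏ i, w (f i)) * (∏ i, N i (f i)) * (N.submatrix id f).det =
      ∑ f : m → n, (∏ i, w (f i)) * (N.submatrix id f).det *
        ((Equiv.Perm.sign τ : ℤ) * ∏ j, N (τ⁻¹ j) (f j)) := by
    intro τ
    rw [← Equiv.sum_comp (Equiv.arrowCongr τ (Equiv.refl n)).symm]
    refine Finset.sum_congr rfl fun f _ => ?_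
    have e1 : ((Equiv.arrowCongr τ (Equiv.refl n)).symm f) = f ∘ τ := by
      funext i; simp [Equiv.arrowCongr]
    rw [e1]
    have e2 : ∏ i, w ((f ∘ τ) i) = ∏ i, w (f i) := Equiv.prod_comp τ (fun i => w (f i))
    have e3 : ∏ i, N i ((f ∘ τ) i) = ∏ j, N (τ⁻¹ j) (f j) := by
      rw [← Equiv.prod_comp τ (fun j => N (τ⁻¹ j) (f j))]
      simp
    have e4 : (N.submatrix id (f ∘ τ)).det = (Equiv.Perm.sign τ : ℤ) * (N.submatrix id f).det := by
      have : N.submatrix id (f ∘ τ) = (N.submatrix id f).submatrix id τ := by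
        ext i j; simp
      rw [this, Matrix.det_permute']

    rw [e2, e3, e4]
    push_cast
    ring
  have h3 : ∀ f : m → n, ∑ τ : Equiv.Perm m, ((Equiv.Perm.sign τ : ℤ) : R) * ∏ j, N (τ⁻¹ j) (f j) =
      (N.submatrix id f).det := by
    intro f
    rw [Matrix.det_apply']
    rw [← Equiv.sum_comp (Equiv.inv (Equiv.Perm m))]
    refine Finset.sum_congr rfl fun τ _ => ?_
    simp [Equiv.Perm.sign_inv]
  calc (N * diagonal w * Nᵀ).det * (Fintype.card m).factorial
      = ∑ τ : Equiv.Perm m, (N * diagonal w * Nᵀ).det := by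
        rw [Finset.sum_const, Finset.card_univ, Fintype.card_perm, nsmul_eq_mul, mul_comm]
    _ = ∑ τ : Equiv.Perm m, ∑ f : m → n, (∏ i, w (f i)) * (N.submatrix id f).det *
          (((Equiv.Perm.sign τ : ℤ) : R) * ∏ j, N (τ⁻¹ j) (f j)) := by
        refine Finset.sum_congr rfl fun τ _ => ?_
        rw [h1]
        exact_mod_cast h2 τ
    _ = ∑ f : m → n, (∏ i, w (f i)) * (N.submatrix id f).det ^ 2 := by
        rw [Finset.sum_comm]
        refine Finset.sum_congr rfl fun f _ => ?_
        rw [← Finset.mul_sum, h3 f]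
        ring

end Groth.Agent.Lib.Helper31.MT
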