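import Mathlib
import Groth.Agent.Lib.Helper31.MatTree1

set_option autoImplicit false
set_option linter.unusedSectionVars false

namespace Groth.Agent.Lib.Helper31.MT

open Matrix Finset

variable {m n R : Type*} [Fintype m] [DecidableEq m] [Fintype n] [DecidableEq n] [CommRing R]

/-- injective maps with prescribed image correspond to bijections onto the image -/
noncomputable def injEquiv (S : Finset n) :
    {f : m → n // Function.Injective f ∧ Finset.image f univ = S} ≃ (m ≃ S) where
  toFun f := Equiv.ofBijective
    (fun i => ⟨f.1 i, (Finset.ext_iff.mp f.2.2 (f.1 i)).mp (mem_image_of_mem f.1 (mem_univ i))⟩)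
    ⟨fun i j h => f.2.1 (by simpa using h), fun s => by
      have h0 : s.1 ∈ Finset.image f.1 univ := (Finset.ext_iff.mp f.2.2 s.1).mpr s.2
      rw [mem_image] at h0
      obtain ⟨i, -, hi⟩ := h0
      exact ⟨i, Subtype.ext hi⟩⟩
  invFun e := ⟨fun i => (e i).1, fun i j h => e.injective (Subtype.ext h), by
    ext x
    simp only [mem_image, mem_univ, true_and]
    constructor
    · rintro ⟨i, rfl⟩
      exact (e i).2
    · intro hx
      exact ⟨e.symm ⟨x, hx⟩, by simp⟩⟩
  left_inv f := by
    apply Subtype.ext
    rfl
  right_inv e := by
    ext i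
    rfl

theorem card_inj_image (S : Finset n) :
    Fintype.card {f : m → n // Function.Injective f ∧ Finset.image f univ = S} =
      if S.card = Fintype.card m then (Fintype.card m).factorial else 0 := by
  split_ifs with h
  · rw [Fintype.card_congr (injEquiv S)]
    have e : m ≃ S := Fintype.equivOfCardEq (by rw [Fintype.card_coe, h])
    exact Fintype.card_equiv e
  · rw [Fintype.card_eq_zero_iff]
    refine ⟨fun f => h ?_⟩
    rw [← f.2.2, Finset.card_image_of_injective _ f.2.1, Finset.card_univ]

/-- grouping injective functions by image -/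
theorem sum_inj_by_image (w : n → R) (P : Finset n → Prop) [DecidablePred P] :
    ∑ f : m → n, (if Function.Injective f ∧ P (Finset.image f univ) then ∏ i, w (f i) else 0) =
      (Fintype.card m).factorial *
        ∑ S ∈ (univ : Finset (Finset n)).filter (fun S => S.card = Fintype.card m ∧ P S),
          ∏ e ∈ S, w e := by
  classical
  rw [← Finset.sum_fiberwise (univ : Finset (m → n)) (fun f => Finset.image f univ)]
  rw [Finset.sum_filter, Finset.mul_sum]
  refine Finset.sum_congr rfl fun S _ => ?_
  have h1 : ∀ f ∈ (univ : Finset (m → n)).filter (fun f => Finset.image f univ = S),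
      (if Function.Injective f ∧ P (Finset.image f univ) then ∏ i, w (f i) else 0) =
      (if Function.Injective f ∧ Finset.image f univ = S then (if P S then ∏ e ∈ S, w e else 0)
        else 0) := by
    intro f hf
    have hfS := (Finset.mem_filter.mp hf).2
    by_cases hinj : Function.Injective f
    · by_cases hP : P S
      · rw [if_pos ⟨hinj, hfS ▸ hP⟩, if_pos ⟨hinj, hfS⟩, if_pos hP, ← hfS,
          Finset.prod_image (fun i _ j _ h => hinj h)]
      · rw [if_neg (fun h => hP (hfS ▸ h.2)), if_pos ⟨hinj, hfS⟩, if_neg hP]
    · rw [if_neg (fun h => hinj h.1), if_neg (fun h => hinj h.1)]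
  rw [Finset.sum_congr rfl h1, Finset.sum_filter]
  have h2 : ∀ f : m → n, (if Finset.image f univ = S then
      (if Function.Injective f ∧ Finset.image f univ = S then (if P S then ∏ e ∈ S, w e else 0)
        else 0) else 0) =
      (if Function.Injective f ∧ Finset.image f univ = S then (if P S then ∏ e ∈ S, w e else 0)
        else 0) := by
    intro f
    by_cases h : Finset.image f univ = S
    · rw [if_pos h]
    · rw [if_neg h, if_neg (fun h' => h h'.2)]
  rw [Finset.sum_congr rfl (fun f _ => h2 f), ← Finset.sum_filter, Finset.sum_const,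
    ← Fintype.card_subtype, card_inj_image]
  by_cases hc : S.card = Fintype.card m
  · by_cases hP : P S
    · simp [hc, hP]
    · simp [hc, hP]
  · simp [hc]

end Groth.Agent.Lib.Helper31.MT
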