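import Mathlib
import Groth.Agent.Lib.Helper31.MatTree1
import Groth.Agent.Lib.Helper31.MatTree2

set_option autoImplicit false
set_option linter.unusedSectionVars false

namespace Groth.Agent.Lib.Helper31.MT

open Matrix Finset

variable {m n : Type*} [Fintype m] [DecidableEq m] [Fintype n] [DecidableEq n]

/-- weighted matrix-tree (abstract form): if all maximal minors of `N` are `0, ±1`, with the
nonzero ones indexed by the sets satisfying `P`, then `det (N W Nᵀ)` is the sum over those sets. -/
theorem det_eq_sum_of_unimodular (N : Matrix m n ℤ) (w : n → ℤ) (P : Finset n → Prop)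
    [DecidablePred P]
    (h : ∀ f : m → n, (N.submatrix id f).det ^ 2 =
      if Function.Injective f ∧ P (Finset.image f univ) then 1 else 0) :
    (N * diagonal w * Nᵀ).det =
      ∑ S ∈ (univ : Finset (Finset n)).filter (fun S => S.card = Fintype.card m ∧ P S),
          ∏ e ∈ S, w e := by
  have h1 := det_mul_diag_mul_transpose N w
  have h2 : ∑ f : m → n, (∏ i, w (f i)) * (N.submatrix id f).det ^ 2 =
      ∑ f : m → n, (if Function.Injective f ∧ P (Finset.image f univ) then ∏ i, w (f i) else 0) := by
    refine Finset.sum_congr rfl fun f _ => ?_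
    rw [h f]
    split_ifs <;> simp
  rw [h2, sum_inj_by_image] at h1
  have hne : ((Fintype.card m).factorial : ℤ) ≠ 0 := by
    exact_mod_cast (Nat.factorial_pos _).ne'
  rw [mul_comm] at h1
  exact mul_left_cancel₀ hne h1

end Groth.Agent.Lib.Helper31.MT
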