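import Mathlib
import Groth.Prelude.Def_W4c2conddiscmodels
import Groth.Agent.Lib.Helper31.LabGraphCore3
import Groth.Agent.Lib.Helper31.LabTree2
import Groth.Agent.Lib.Helper31.MatTree3

set_option autoImplicit false
set_option linter.unusedSectionVars false
universe u

namespace Groth.Agent.Lib.Helper31.LT

open LabGraph Groth.Agent.Lib.Helper31.LG Matrix

variable {V E : Type u} [Fintype V] [Fintype E] [DecidableEq V] [DecidableEq E]
  (ends : E → V × V)

theorem sum_mul_endCount (S : Finset E) (φ : V → ℤ) :
    ∑ v : V, φ v * (endCount ends S v : ℤ) = ∑ e ∈ S, (φ (ends e).1 + φ (ends e).2) := by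
  unfold endCount
  push_cast
  simp_rw [Finset.mul_sum]
  rw [Finset.sum_comm]
  refine Finset.sum_congr rfl fun e _ => ?_
  simp_rw [mul_add, Finset.sum_add_distrib, mul_ite, mul_one, mul_zero]
  rw [Finset.sum_ite_eq, Finset.sum_ite_eq]
  simp

/-- the coboundary of any potential sums to an even number over an even edge set -/
theorem even_sum_cob (S : Finset E) (hS : IsEvenSet ends S) (φ : V → ℤ) :
    Even (∑ e ∈ S, cob ends φ e) := by
  have h1 : ∑ e ∈ S, cob ends φ e =
      ∑ v : V, φ v * (endCount ends S v : ℤ) - 2 * ∑ e ∈ S, φ (ends e).1 := by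
    rw [sum_mul_endCount, Finset.mul_sum, ← Finset.sum_sub_distrib]
    refine Finset.sum_congr rfl fun e _ => ?_
    unfold cob; ring
  rw [h1]
  refine Even.sub ?_ (even_two_mul _)
  refine Finset.even_sum _ fun v _ => ?_
  exact Even.mul_left (by exact_mod_cast hS v) _

theorem closed_of_reach (P : V → Prop) (hP : ∀ e : E, P (ends e).1 ↔ P (ends e).2) {v w : V}
    (h : Relation.ReflTransGen (Adj ends) v w) : P v → P w := by
  induction h with
  | refl => exact id
  | tail _ hbc ih =>
    intro hv
    obtain ⟨e, he⟩ := hbc
    have := hP e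
    rcases he with he | he <;> simp only [he] at this
    · exact this.mp (ih hv)
    · exact this.mpr (ih hv)

/-- in a connected graph every forest extends to a spanning tree -/
theorem exists_spanningTree_extending (hG : LabGraph.Connected ends) (F : Finset E)
    (hF : NoEven ends F) : ∃ T : Finset E, F ⊆ T ∧ IsSpanningTree ends T := by
  classical
  have hne : (Finset.univ.filter fun T : Finset E => F ⊆ T ∧ NoEven ends T).Nonempty :=
    ⟨F, by simp [hF]⟩
  obtain ⟨T, hT, hmax⟩ := Finset.exists_max_image _ Finset.card hne
  rw [Finset.mem_filter] at hT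
  obtain ⟨-, hFT, hTNE⟩ := hT
  refine ⟨T, hFT, ?_, (forest_iff ends T).mpr hTNE⟩
  obtain ⟨⟨r⟩, hconn⟩ := hG
  have hreach : ∀ v : V, Relation.ReflTransGen (Adj (fun e : T => ends e.1)) r v := by
    by_contra hcon
    push Not at hcon
    obtain ⟨v₀, hv₀⟩ := hcon
    set P : V → Prop := fun v => Relation.ReflTransGen (Adj (fun e : T => ends e.1)) r v with hP
    have hexit : ∃ e : E, ¬ (P (ends e).1 ↔ P (ends e).2) := by
      by_contra hno
      push Not at hno
      exact hv₀ (closed_of_reach ends P hno (hconn r v₀) Relation.ReflTransGen.refl)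
    obtain ⟨e, he⟩ := hexit
    have heT : e ∉ T := by
      intro heT
      apply he
      constructor
      · intro h; exact h.tail ⟨⟨e, heT⟩, Or.inl rfl⟩
      · intro h; exact h.tail ⟨⟨e, heT⟩, Or.inr rfl⟩
    set φ : V → ℤ := fun v => if P v then 0 else 1 with hφ
    have hcobT : ∀ e' ∈ T, cob ends φ e' = 0 := by
      intro e' he'
      have hiff : P (ends e').1 ↔ P (ends e').2 := by
        constructor
        · intro h; exact h.tail ⟨⟨e', he'⟩, Or.inl rfl⟩
        · intro h; exact h.tail ⟨⟨e', he'⟩, Or.inr rfl⟩
      unfold cob
      simp only [hφ, hiff, sub_self]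
    have hcobe : ¬ Even (cob ends φ e) := by
      unfold cob
      simp only [hφ]
      by_cases h1 : P (ends e).1 <;> by_cases h2 : P (ends e).2
      · exact absurd (iff_of_true h1 h2) he
      · simp [h1, h2]
      · simp [h1, h2]
      · exact absurd (iff_of_false h1 h2) he
    have hins : NoEven ends (insert e T) := by
      intro S hS hSne hSev
      by_cases heS : e ∈ S
      · have h1 := even_sum_cob ends S hSev φ
        rw [← Finset.add_sum_erase S _ heS] at h1
        have h2 : ∑ x ∈ S.erase e, cob ends φ x = 0 := by
          refine Finset.sum_eq_zero fun x hx => ?_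
          have hxS := Finset.mem_of_mem_erase hx
          have hxe := Finset.ne_of_mem_erase hx
          rcases Finset.mem_insert.mp (hS hxS) with h | h
          · exact absurd h hxe
          · exact hcobT x h
        rw [h2, add_zero] at h1
        exact hcobe h1
      · refine hTNE S ?_ hSne hSev
        intro x hx
        rcases Finset.mem_insert.mp (hS hx) with h | h
        · subst h; exact absurd hx heS
        · exact h
    have h3 := hmax (insert e T) (by
      rw [Finset.mem_filter]
      exact ⟨Finset.mem_univ _, hFT.trans (Finset.subset_insert e T), hins⟩)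
    rw [Finset.card_insert_of_notMem heT] at h3
    omega
  exact ⟨⟨r⟩, fun v w => (reach_symm _ (hreach v)).trans (hreach w)⟩

theorem exists_spanningTree (hG : LabGraph.Connected ends) :
    ∃ T : Finset E, IsSpanningTree ends T := by
  obtain ⟨T, -, hT⟩ := exists_spanningTree_extending ends hG ∅ (by
    intro S hS hne
    rw [Finset.subset_empty] at hS
    subst hS
    exact absurd hne Finset.not_nonempty_empty)
  exact ⟨T, hT⟩

variable (r : V)

open scoped Classical in
/-- weighted matrix-tree theorem -/
theorem det_lap (w : E → ℤ) :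
    (inc ends r * diagonal w * (inc ends r)ᵀ).det =
      ∑ T ∈ Finset.univ.powerset.filter (fun T : Finset E => IsSpanningTree ends T),
        ∏ e ∈ T, w e := by
  rw [MT.det_eq_sum_of_unimodular (inc ends r) w (NoEven ends) (det_sq ends r),
    Finset.powerset_univ]
  refine Finset.sum_congr ?_ fun _ _ => rfl
  ext T
  simp only [Finset.mem_filter, Finset.mem_univ, true_and]
  exact (isSpanningTree_iff ends r T).symm

end Groth.Agent.Lib.Helper31.LT
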