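import Mathlib
import Groth.Prelude.Def_W4c2conddiscmodels
import Groth.Agent.Lib.Helper31.LabGraphCore3
import Groth.Agent.Lib.Helper31.LabTree3

set_option autoImplicit false
set_option linter.unusedSectionVars false
universe u

namespace Groth.Agent.Lib.Helper31.LT

open LabGraph Groth.Agent.Lib.Helper31.LG Matrix

variable {V E : Type u} [Fintype V] [Fintype E] [DecidableEq V] [DecidableEq E]
  (ends : E → V × V)

theorem endCount_ne_zero_iff (C : Finset E) (v : V) :
    endCount ends C v ≠ 0 ↔ ∃ e ∈ C, (ends e).1 = v ∨ (ends e).2 = v := by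
  unfold endCount
  rw [Ne, Finset.sum_eq_zero_iff]
  push Not
  constructor
  · rintro ⟨e, he, h⟩
    refine ⟨e, he, ?_⟩
    by_contra hcon
    push Not at hcon
    simp [hcon.1, hcon.2] at h
  · rintro ⟨e, he, h⟩
    refine ⟨e, he, ?_⟩
    rcases h with h | h <;> simp [h]

theorem S14804 (hG : LabGraph.Connected ends) (v : V) :
    (∃ C : Finset E, LabGraph.IsCircuit ends C ∧ LabGraph.endCount ends C v ≠ 0) ↔
      ∃ T : Finset E, LabGraph.IsSpanningTree ends T ∧
        ∃ e : E, e ∉ T ∧ ((ends e).1 = v ∨ (ends e).2 = v) := by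
  classical
  constructor
  · rintro ⟨C, hC, hv⟩
    obtain ⟨e, heC, hev⟩ := (endCount_ne_zero_iff ends C v).mp hv
    have hNE : NoEven ends (C.erase e) := by
      intro S hS hne hev'
      obtain ⟨x, hx⟩ := hC.2.2 S (Finset.ssubset_of_subset_of_ssubset hS (Finset.erase_ssubset heC)) hne
      exact hx (hev' x)
    obtain ⟨T, hCT, hT⟩ := exists_spanningTree_extending ends hG _ hNE
    refine ⟨T, hT, e, ?_, hev⟩
    intro heT
    refine (forest_iff ends T).mp hT.2 C ?_ hC.1 hC.2.1
    intro x hx
    by_cases hxe : x = e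
    · subst hxe; exact heT
    · exact hCT (Finset.mem_erase.mpr ⟨hxe, hx⟩)
  · rintro ⟨T, hT, e, heT, hev⟩
    obtain ⟨⟨r⟩, -⟩ := hG
    have hcard := (card_of_isSpanningTree ends r T hT)
    have hnot : ¬ NoEven ends (insert e T) := by
      intro hNE
      have := card_le_of_surjective ℤ (cobLin ends r (insert e T))
        (cobLin_surjective ends r _ hNE)
      rw [Fintype.card_coe, Finset.card_insert_of_notMem heT, hcard.1] at this
      omega
    unfold NoEven at hnot
    push Not at hnot
    obtain ⟨S, hS, hne, hSev⟩ := hnot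
    obtain ⟨C, hCS, hC⟩ := exists_circuit_subset ends S hne hSev
    refine ⟨C, hC, (endCount_ne_zero_iff ends C v).mpr ⟨e, ?_, hev⟩⟩
    by_contra heC
    refine hcard.2 C ?_ hC.1 hC.2.1
    intro x hx
    rcases Finset.mem_insert.mp (hS (hCS hx)) with h | h
    · subst h; exact absurd hx heC
    · exact h

end Groth.Agent.Lib.Helper31.LT
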