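import Mathlib
import Groth.Prelude.Def_W4c2conddiscmodels
import Groth.Agent.Lib.Helper31.LabGraphCore3
import Groth.Agent.Lib.Helper31.LabTree3

set_option autoImplicit false
set_option linter.unusedSectionVars false
universe u

namespace Groth.Agent.Lib.Helper31.LT

open LabGraph Groth.Agent.Lib.Helper31.LG Matrix

variable {V E : Type u} [Fintype V] [Fintype E] [DecidableEq V] [DecidableEq E]
  (ends : E → V × V)

/-! ### basic facts on `mfMatrix` (after helper7's `Contract.lean`) -/

theorem sum_edgeMult (g : V → ℤ) (v : V) :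
    ∑ u ∈ Finset.univ.erase v, g u * (edgeMult ends v u : ℤ) =
      ∑ e : E, ((if (ends e).1 = v ∧ (ends e).2 ≠ v then g (ends e).2 else 0) +
        (if (ends e).2 = v ∧ (ends e).1 ≠ v then g (ends e).1 else 0)) := by
  unfold edgeMult
  have h1 : ∀ u ∈ Finset.univ.erase v, g u * ((Finset.univ.filter fun e : E =>
      ends e = (v, u) ∨ ends e = (u, v)).card : ℤ) =
      ∑ e : E, (if ends e = (v, u) ∨ ends e = (u, v) then g u else 0) := by
    intro u _
    rw [Finset.card_filter]
    push_cast
    rw [Finset.mul_sum]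
    refine Finset.sum_congr rfl fun e _ => ?_
    split_ifs <;> simp
  rw [Finset.sum_congr rfl h1, Finset.sum_comm]
  refine Finset.sum_congr rfl fun e _ => ?_
  have h2 : ∀ u ∈ Finset.univ.erase v, (if ends e = (v, u) ∨ ends e = (u, v) then g u else 0) =
      (if (ends e).2 = u then (if (ends e).1 = v ∧ (ends e).2 ≠ v then g (ends e).2 else 0) else 0) +
      (if (ends e).1 = u then (if (ends e).2 = v ∧ (ends e).1 ≠ v then g (ends e).1 else 0) else 0) := by
    intro u hu
    have huv : u ≠ v := (Finset.mem_erase.mp hu).1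
    rcases h : ends e with ⟨a, b⟩
    simp only [Prod.mk.injEq]
    by_cases h1 : a = v <;> by_cases h2 : b = v <;> by_cases h3 : a = u <;> by_cases h4 : b = u <;>
      simp_all
  rw [Finset.sum_congr rfl h2, Finset.sum_add_distrib]
  congr 1
  · by_cases hc : (ends e).1 = v ∧ (ends e).2 ≠ v
    · rw [Finset.sum_ite_eq]
      simp [hc]
    · simp [hc]
  · by_cases hc : (ends e).2 = v ∧ (ends e).1 ≠ v
    · rw [Finset.sum_ite_eq]
      simp [hc]
    · simp [hc]

theorem edgeMult_comm (v w : V) : edgeMult ends v w = edgeMult ends w v := by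
  unfold edgeMult
  congr 1
  ext e
  simp only [Finset.mem_filter, Finset.mem_univ, true_and]
  tauto

theorem mfMatrix_symm (β : V → ℤ) (v w : V) :
    mfMatrix ends β v w = mfMatrix ends β w v := by
  by_cases h : v = w
  · subst h; rfl
  · unfold mfMatrix
    rw [if_neg h, if_neg (Ne.symm h), edgeMult_comm]

theorem mfMatrix_diag_mul (β : V → ℤ) (hβ : IsMultFn ends β) (v : V) :
    β v * mfMatrix ends β v v = -(∑ u ∈ Finset.univ.erase v, β u * (edgeMult ends v u : ℤ)) := by
  unfold mfMatrix
  rw [if_pos rfl]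
  exact Int.mul_ediv_cancel' ((dvd_neg).mpr (hβ v).2)

theorem mul_mulVec (β : V → ℤ) (hβ : IsMultFn ends β) (z : V → ℤ) (v : V) :
    β v * (Matrix.mulVec (mfMatrix ends β) z) v =
      ∑ u ∈ Finset.univ.erase v, (β v * z u - β u * z v) * (edgeMult ends v u : ℤ) := by
  unfold Matrix.mulVec dotProduct
  rw [← Finset.add_sum_erase Finset.univ _ (Finset.mem_univ v), mul_add, ← mul_assoc,
    mfMatrix_diag_mul ends β hβ v]
  have h1 : ∀ u ∈ Finset.univ.erase v, mfMatrix ends β v u * z u = (edgeMult ends v u : ℤ) * z u := by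
    intro u hu
    unfold mfMatrix
    rw [if_neg (Ne.symm (Finset.mem_erase.mp hu).1)]
  rw [Finset.sum_congr rfl h1, Finset.mul_sum, neg_mul, Finset.sum_mul, ← Finset.sum_neg_distrib,
    ← Finset.sum_add_distrib]
  refine Finset.sum_congr rfl fun u _ => ?_
  ring

theorem mul_mulVec_edges (β : V → ℤ) (hβ : IsMultFn ends β) (z : V → ℤ) (v : V) :
    β v * (Matrix.mulVec (mfMatrix ends β) z) v =
      ∑ e : E, ((if (ends e).1 = v then β (ends e).1 * z (ends e).2 - β (ends e).2 * z (ends e).1 else 0) +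
        (if (ends e).2 = v then β (ends e).2 * z (ends e).1 - β (ends e).1 * z (ends e).2 else 0)) := by
  rw [mul_mulVec ends β hβ, sum_edgeMult ends (fun u => β v * z u - β u * z v) v]
  refine Finset.sum_congr rfl fun e _ => ?_
  by_cases h1 : (ends e).1 = v <;> by_cases h2 : (ends e).2 = v <;> simp [h1, h2]

theorem mulVec_beta (β : V → ℤ) (hβ : IsMultFn ends β) :
    Matrix.mulVec (mfMatrix ends β) β = 0 := by
  funext v
  have h := mul_mulVec ends β hβ β v
  have h0 : ∑ u ∈ Finset.univ.erase v, (β v * β u - β u * β v) * (edgeMult ends v u : ℤ) = 0 :=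
    Finset.sum_eq_zero fun u _ => by ring
  rw [h0] at h
  have hpos := (hβ v).1
  rcases mul_eq_zero.mp h with h | h
  · omega
  · simpa using h

/-! ### the weighted Laplacian and `mfMatrix` -/

variable (r : V)

/-- the reduced `mfMatrix` -/
def redA (β : V → ℤ) : Matrix {v : V // v ≠ r} {v : V // v ≠ r} ℤ :=
  (mfMatrix ends β).submatrix Subtype.val Subtype.val

/-- edge weights -/
def wt (β : V → ℤ) (e : E) : ℤ := β (ends e).1 * β (ends e).2

theorem sum_mul_ext (g : V → ℤ) (ψ : {v : V // v ≠ r} → ℤ) :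
    ∑ u : V, g u * ext r ψ u = ∑ u : {v : V // v ≠ r}, g u.1 * ψ u := by
  have h1 : ∑ u : {v : V // v ≠ r}, g u.1 * ψ u =
      ∑ u : {v : V // v ≠ r}, (fun v => g v * ext r ψ v) u.1 := by
    refine Finset.sum_congr rfl fun u _ => ?_
    simp only [ext_coe]
  rw [h1, ← Finset.sum_subtype (Finset.univ.filter (fun v : V => v ≠ r)) (by simp)
    (fun v => g v * ext r ψ v), Finset.sum_filter]
  refine Finset.sum_congr rfl fun v _ => ?_
  by_cases hv : v = r
  · subst hv; simp [ext_root]
  · simp [hv]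

theorem lap_mulVec (β : V → ℤ) (hβ : IsMultFn ends β) (ψ : {v : V // v ≠ r} → ℤ) :
    (inc ends r * diagonal (wt ends β) * (inc ends r)ᵀ) *ᵥ ψ =
      (-(diagonal (fun v : {v : V // v ≠ r} => β v.1) * redA ends r β *
        diagonal (fun v : {v : V // v ≠ r} => β v.1))) *ᵥ ψ := by
  funext v
  rw [neg_mulVec, ← mulVec_mulVec, ← mulVec_mulVec, ← mulVec_mulVec, ← mulVec_mulVec]
  simp only [Pi.neg_apply]
  rw [mulVec_diagonal]
  -- left side
  have hL : (inc ends r *ᵥ (diagonal (wt ends β) *ᵥ ((inc ends r)ᵀ *ᵥ ψ))) v =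
      ∑ e, inc ends r v e * (wt ends β e * cob ends (ext r ψ) e) := by
    simp only [Matrix.mulVec, dotProduct]
    refine Finset.sum_congr rfl fun e _ => ?_
    congr 1
    have := mulVec_diagonal (wt ends β) ((inc ends r)ᵀ *ᵥ ψ) e
    simp only [Matrix.mulVec, dotProduct] at this
    rw [this]
    congr 1
    simp only [Matrix.transpose_apply]
    exact sum_inc_mul ends r ψ e
  rw [hL]
  -- right side
  set z : V → ℤ := fun u => β u * ext r ψ u with hz
  have hR : (redA ends r β *ᵥ (diagonal (fun v : {v : V // v ≠ r} => β v.1) *ᵥ ψ)) v =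
      (mfMatrix ends β *ᵥ z) v.1 := by
    simp only [Matrix.mulVec, dotProduct, redA, Matrix.submatrix_apply]
    have h1 := sum_mul_ext r (fun u => mfMatrix ends β v.1 u * β u) ψ
    simp only [hz]
    rw [← Finset.sum_congr rfl (fun u _ => mul_assoc (mfMatrix ends β v.1 u) (β u) (ext r ψ u)), h1]
    refine Finset.sum_congr rfl fun u _ => ?_
    have := mulVec_diagonal (fun v : {v : V // v ≠ r} => β v.1) ψ u
    simp only [Matrix.mulVec, dotProduct] at this
    rw [this]; ring
  rw [hR, mul_mulVec_edges ends β hβ z v.1, ← Finset.sum_neg_distrib]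
  refine Finset.sum_congr rfl fun e _ => ?_
  unfold inc wt cob
  simp only [hz]
  split_ifs <;> ring

theorem lap_eq (β : V → ℤ) (hβ : IsMultFn ends β) :
    inc ends r * diagonal (wt ends β) * (inc ends r)ᵀ =
      -(diagonal (fun v : {v : V // v ≠ r} => β v.1) * redA ends r β *
        diagonal (fun v : {v : V // v ≠ r} => β v.1)) :=
  Matrix.mulVec_injective (funext fun ψ => lap_mulVec ends r β hβ ψ)

theorem det_lap_eq (β : V → ℤ) (hβ : IsMultFn ends β) :
    (inc ends r * diagonal (wt ends β) * (inc ends r)ᵀ).det =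
      (-1) ^ Fintype.card {v : V // v ≠ r} * ((∏ v : {v : V // v ≠ r}, β v.1) ^ 2 *
        (redA ends r β).det) := by
  rw [lap_eq ends r β hβ, Matrix.det_neg, Matrix.det_mul, Matrix.det_mul, Matrix.det_diagonal]
  ring

end Groth.Agent.Lib.Helper31.LT
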