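import Mathlib

set_option autoImplicit false
set_option linter.unusedSectionVars false

namespace Groth.Agent.Lib.Helper31.LT

open Matrix

/-- subgroups of `ℤ` are principal -/
theorem int_subgroup_principal (H : AddSubgroup ℤ) : ∃ s : ℤ, ∀ x, x ∈ H ↔ s ∣ x := by
  obtain ⟨s, hs⟩ := (IsPrincipalIdealRing.principal (AddSubgroup.toIntSubmodule H)).principal
  refine ⟨s, fun x => ?_⟩
  have : x ∈ AddSubgroup.toIntSubmodule H ↔ x ∈ H := Iff.rfl
  rw [← this, hs]
  exact Ideal.mem_span_singleton

/-- index of the range of an injective integer matrix -/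
theorem index_range_mulVec {ι : Type*} [Fintype ι] [DecidableEq ι] (A : Matrix ι ι ℤ)
    (hA : A.det ≠ 0) :
    (LinearMap.range A.mulVecLin).toAddSubgroup.index = A.det.natAbs := by
  have hinj : Function.Injective A.mulVecLin := by
    have := Matrix.mulVec_injective_of_det_ne_zero hA
    exact this
  set N := LinearMap.range A.mulVecLin with hN
  let e : (ι → ℤ) ≃ₗ[ℤ] N := LinearEquiv.ofInjective A.mulVecLin hinj
  have h1 := Submodule.natAbs_det_equiv N e.toAddEquiv
  have h2 : N.subtype ∘ₗ AddMonoidHom.toIntLinearMap ((e.toAddEquiv : (ι → ℤ) ≃+ N) : (ι → ℤ) →+ N) =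
      A.mulVecLin := by
    apply LinearMap.ext
    intro x
    rfl
  rw [h2] at h1
  rw [← Matrix.toLin'_apply', LinearMap.det_toLin'] at h1
  rw [h1]
  rfl

/-- relative index of a subgroup in its sum with a cyclic group -/
theorem relIndex_sup_zmultiples {G : Type*} [AddCommGroup G] (H : AddSubgroup G) (a : G) :
    H.relIndex (H ⊔ AddSubgroup.zmultiples a) = (H.comap (zmultiplesHom G a)).index := by
  rw [AddSubgroup.relIndex_sup_left, AddSubgroup.index_comap, AddSubgroup.range_zmultiplesHom]

end Groth.Agent.Lib.Helper31.LT
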