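import Mathlib
import Groth.Prelude.Def_W4c2conddiscmodels
import Groth.Agent.Lib.Helper31.LabTree4
import Groth.Agent.Lib.Helper31.LabTree5a

set_option autoImplicit false
set_option linter.unusedSectionVars false
universe u

namespace Groth.Agent.Lib.Helper31.LT

open LabGraph Groth.Agent.Lib.Helper31.LG Matrix

variable {V E : Type u} [Fintype V] [Fintype E] [DecidableEq V] [DecidableEq E]
  (ends : E → V × V) (r : V) (β : V → ℤ)

theorem betaHom_mulVec (hβ : IsMultFn ends β) (z : V → ℤ) :
    betaHom β (Matrix.mulVec (mfMatrix ends β) z) = 0 := by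
  unfold betaHom
  rw [Fintype.linearCombination_apply]
  simp only [smul_eq_mul]
  have h1 : ∀ v : V, (Matrix.mulVec (mfMatrix ends β) z) v * β v =
      ∑ e : E, ((if (ends e).1 = v then β (ends e).1 * z (ends e).2 - β (ends e).2 * z (ends e).1 else 0) +
        (if (ends e).2 = v then β (ends e).2 * z (ends e).1 - β (ends e).1 * z (ends e).2 else 0)) := by
    intro v
    rw [mul_comm, mul_mulVec_edges ends β hβ]
  rw [Finset.sum_congr rfl (fun v _ => h1 v), Finset.sum_comm]
  apply Finset.sum_eq_zero
  intro e _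
  rw [Finset.sum_add_distrib, Finset.sum_ite_eq, Finset.sum_ite_eq]
  simp

/-- restriction to the non-root vertices -/
def resLin : (V → ℤ) →ₗ[ℤ] ({v : V // v ≠ r} → ℤ) := LinearMap.funLeft ℤ ℤ Subtype.val

theorem resLin_apply (x : V → ℤ) (v : {v : V // v ≠ r}) : resLin r x v = x v.1 := rfl

/-- extension with a prescribed root value -/
def dext (t : ℤ) (ψ : {v : V // v ≠ r} → ℤ) : V → ℤ := fun v => if h : v = r then t else ψ ⟨v, h⟩

theorem dext_root (t : ℤ) (ψ : {v : V // v ≠ r} → ℤ) : dext r t ψ r = t := by simp [dext]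

theorem res_dext (t : ℤ) (ψ : {v : V // v ≠ r} → ℤ) : resLin r (dext r t ψ) = ψ := by
  funext v
  simp [resLin_apply, dext, v.2]

theorem sum_split (g : V → ℤ) : ∑ u, g u = g r + ∑ u : {v : V // v ≠ r}, g u.1 := by
  rw [← Finset.add_sum_erase Finset.univ g (Finset.mem_univ r)]
  congr 1
  exact Finset.sum_subtype (Finset.univ.erase r) (by simp) g

/-- the root column of `mfMatrix`, restricted to the non-root rows -/
def colR : {v : V // v ≠ r} → ℤ := fun v => mfMatrix ends β v.1 r

theorem res_mulVec (x : V → ℤ) :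
    resLin r (mfMatrix ends β *ᵥ x) =
      redA ends r β *ᵥ resLin r x + x r • colR ends r β := by
  funext v
  simp only [resLin_apply, Pi.add_apply, Pi.smul_apply, smul_eq_mul, Matrix.mulVec, dotProduct,
    redA, Matrix.submatrix_apply, colR]
  rw [sum_split r (fun u => mfMatrix ends β v.1 u * x u)]
  ring

theorem betaHom_split (x : V → ℤ) :
    betaHom β x = x r * β r + ∑ v : {v : V // v ≠ r}, x v.1 * β v.1 := by
  unfold betaHom
  rw [Fintype.linearCombination_apply]
  simp only [smul_eq_mul]
  exact sum_split r (fun u => x u * β u)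

theorem beta_colR (hβ : IsMultFn ends β) :
    β r • colR ends r β = -(redA ends r β *ᵥ fun v => β v.1) := by
  have h := res_mulVec ends r β β
  rw [mulVec_beta ends β hβ, map_zero] at h
  have h2 : resLin r β = fun v => β v.1 := rfl
  rw [h2] at h
  exact eq_neg_of_add_eq_zero_right h.symm

/-- the subgroup `{t | β r ∣ t β v for all v}` of `ℤ` -/
def Tset : AddSubgroup ℤ where
  carrier := {t | ∀ v : {v : V // v ≠ r}, β r ∣ t * β v.1}
  zero_mem' := by intro v; simp
  add_mem' := by
    intro a b ha hb v
    rw [add_mul]; exact dvd_add (ha v) (hb v)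
  neg_mem' := by
    intro a ha v
    rw [neg_mul]; exact (dvd_neg).mpr (ha v)

theorem mem_Tset (t : ℤ) : t ∈ Tset r β ↔ ∀ v : {v : V // v ≠ r}, β r ∣ t * β v.1 := Iff.rfl

/-- (b) -/
theorem comap_colR (hβ : IsMultFn ends β) (hdet : (redA ends r β).det ≠ 0) :
    (LinearMap.range (redA ends r β).mulVecLin).toAddSubgroup.comap
      (zmultiplesHom _ (colR ends r β)) = Tset r β := by
  have hinj := Matrix.mulVec_injective_of_det_ne_zero hdet
  have hr0 : β r ≠ 0 := (hβ r).1.ne'
  ext t
  rw [AddSubgroup.mem_comap, mem_Tset]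
  simp only [zmultiplesHom_apply, Submodule.mem_toAddSubgroup, LinearMap.mem_range,
    Matrix.mulVecLin_apply]
  constructor
  · rintro ⟨ψ, hψ⟩ v
    have h1 : redA ends r β *ᵥ (β r • ψ) = redA ends r β *ᵥ (-(t • fun v : {v : V // v ≠ r} => β v.1)) := by
      rw [Matrix.mulVec_smul, hψ, Matrix.mulVec_neg, Matrix.mulVec_smul, ← smul_neg,
        ← beta_colR ends r β hβ, smul_comm]
    have h2 := congrFun (hinj h1) v
    simp only [Pi.smul_apply, Pi.neg_apply, smul_eq_mul] at h2
    exact ⟨-ψ v, by rw [mul_neg, h2]; ring⟩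
  · intro h
    choose c hc using h
    refine ⟨fun v => -c v, ?_⟩
    have h1 : β r • (redA ends r β *ᵥ fun v => -c v) = β r • (t • colR ends r β) := by
      rw [← Matrix.mulVec_smul, smul_comm, beta_colR ends r β hβ, smul_neg, ← Matrix.mulVec_smul,
        ← Matrix.mulVec_neg]
      congr 1
      funext v
      simp only [Pi.smul_apply, Pi.neg_apply, smul_eq_mul, hc v]
      ring
    funext v
    have h2 := congrFun h1 v
    simp only [Pi.smul_apply, smul_eq_mul] at h2
    have := mul_left_cancel₀ hr0 h2
    simpa using this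

/-- the form `y ↦ Σ y v β v` on the non-root lattice -/
def sigma : ({v : V // v ≠ r} → ℤ) →+ ℤ :=
  (Fintype.linearCombination ℤ (fun v : {v : V // v ≠ r} => β v.1)).toAddMonoidHom

theorem sigma_apply (y : {v : V // v ≠ r} → ℤ) : sigma r β y = ∑ v, y v * β v.1 := by
  unfold sigma
  simp [Fintype.linearCombination_apply]

/-- (c) -/
theorem index_comap_sigma :
    ((AddSubgroup.zmultiples (β r)).comap (sigma r β)).index = (Tset r β).index := by
  classical
  rw [AddSubgroup.index_comap]
  obtain ⟨s, hs⟩ := int_subgroup_principal (sigma r β).range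
  have hrange : (sigma r β).range = (zmultiplesHom ℤ s).range := by
    rw [AddSubgroup.range_zmultiplesHom]
    ext x
    rw [hs, Int.mem_zmultiples_iff]
  rw [hrange, ← AddSubgroup.index_comap]
  congr 1
  ext t
  rw [AddSubgroup.mem_comap, mem_Tset, Int.mem_zmultiples_iff]
  simp only [zmultiplesHom_apply, smul_eq_mul]
  constructor
  · intro h v
    have hv : s ∣ β v.1 := by
      rw [← hs]
      refine ⟨Pi.single v 1, ?_⟩
      rw [sigma_apply, Finset.sum_eq_single v]
      · simp
      · intro b _ hb; simp [Pi.single_apply, hb]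
      · intro h; exact absurd (Finset.mem_univ _) h
    exact h.trans (mul_dvd_mul_left t hv)
  · intro h
    obtain ⟨y, hy⟩ := (hs s).mpr dvd_rfl
    rw [← hy, sigma_apply, Finset.mul_sum]
    refine Finset.dvd_sum fun v _ => ?_
    rw [mul_left_comm]
    exact Dvd.dvd.mul_left (h v) _

end Groth.Agent.Lib.Helper31.LT
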