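import Mathlib
import Groth.Prelude.Def_W4c2conddiscmodels
import Groth.Agent.Lib.Helper31.LabTree5b

set_option autoImplicit false
set_option linter.unusedSectionVars false
universe u

namespace Groth.Agent.Lib.Helper31.LT

open LabGraph Groth.Agent.Lib.Helper31.LG Matrix

variable {V E : Type u} [Fintype V] [Fintype E] [DecidableEq V] [DecidableEq E]
  (ends : E → V × V) (r : V) (β : V → ℤ)

/-- (d) -/
theorem Tset_eq (hβ : IsMultFn ends β) :
    Tset r β = AddSubgroup.zmultiples (β r / Finset.univ.gcd β) := by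
  have hm : Finset.univ.gcd β ∣ β r := Finset.gcd_dvd (Finset.mem_univ r)
  have hr0 : β r ≠ 0 := (hβ r).1.ne'
  have hm0 : Finset.univ.gcd β ≠ 0 := by
    intro h0; rw [h0, zero_dvd_iff] at hm; exact hr0 hm
  have hq : β r = β r / Finset.univ.gcd β * Finset.univ.gcd β := (Int.ediv_mul_cancel hm).symm
  ext t
  rw [mem_Tset, Int.mem_zmultiples_iff]
  have h1 : (∀ v : {v : V // v ≠ r}, β r ∣ t * β v.1) ↔ ∀ v ∈ (Finset.univ : Finset V), β r ∣ t * β v := by
    constructor
    · intro h v _
      by_cases hv : v = r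
      · subst hv; exact Dvd.intro_left t rfl
      · exact h ⟨v, hv⟩
    · intro h v; exact h v.1 (Finset.mem_univ _)
  rw [h1, ← Finset.dvd_gcd_iff, Finset.gcd_mul_left,
    ((normalize_associated t).mul_right (Finset.univ.gcd β)).dvd_iff_dvd_right]
  conv_lhs => rw [hq]
  exact mul_dvd_mul_iff_right hm0

theorem index_Tset (hβ : IsMultFn ends β) :
    (Tset r β).index = (β r / Finset.univ.gcd β).natAbs := by
  rw [Tset_eq ends r β hβ, Int.index_zmultiples]

/-- (C) the order of the component group in terms of the reduced determinant -/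
theorem card_compGrp_mul (hβ : IsMultFn ends β) (hdet : (redA ends r β).det ≠ 0) :
    Nat.card (CompGrp ends β) * (Tset r β).index ^ 2 = (redA ends r β).det.natAbs := by
  set K := LinearMap.ker (betaHom β) with hK
  set Jf := LinearMap.range (Matrix.mulVecLin (mfMatrix ends β)) with hJf
  set JK := Jf.comap K.subtype with hJK
  set J' := (LinearMap.range (redA ends r β).mulVecLin).toAddSubgroup with hJ'
  let i : K →+ ({v : V // v ≠ r} → ℤ) := ((resLin r).comp K.subtype).toAddMonoidHom
  have hi_apply : ∀ x : K, i x = resLin r x.1 := fun x => rfl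
  have hi : Function.Injective i := by
    intro x y hxy
    apply Subtype.ext
    have hx : betaHom β x.1 = 0 := LinearMap.mem_ker.mp x.2
    have hy : betaHom β y.1 = 0 := LinearMap.mem_ker.mp y.2
    rw [betaHom_split r] at hx hy
    have hres : ∀ v : {v : V // v ≠ r}, x.1 v.1 = y.1 v.1 := fun v => by
      have := congrFun hxy v
      simpa [hi_apply, resLin_apply] using this
    have hsum : ∑ v : {v : V // v ≠ r}, x.1 v.1 * β v.1 = ∑ v : {v : V // v ≠ r}, y.1 v.1 * β v.1 :=
      Finset.sum_congr rfl fun v _ => by rw [hres v]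
    have hr : x.1 r * β r = y.1 r * β r := by linarith
    have hr' : x.1 r = y.1 r := mul_right_cancel₀ (hβ r).1.ne' hr
    funext v
    by_cases hv : v = r
    · subst hv; exact hr'
    · exact hres ⟨v, hv⟩
  have h1 : Nat.card (CompGrp ends β) = JK.toAddSubgroup.index := rfl
  have h2 := AddSubgroup.index_map_of_injective (H := JK.toAddSubgroup) hi
  have h3 : JK.toAddSubgroup.map i = J' ⊔ AddSubgroup.zmultiples (colR ends r β) := by
    ext y
    constructor
    · intro hy
      obtain ⟨x, hx, rfl⟩ := AddSubgroup.mem_map.mp hy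
      have hx' : x.1 ∈ Jf := hx
      obtain ⟨z, hz⟩ := hx'
      rw [hi_apply, ← hz, Matrix.mulVecLin_apply, res_mulVec]
      refine AddSubgroup.mem_sup.mpr ⟨_, ⟨resLin r z, rfl⟩, _, ?_, rfl⟩
      exact AddSubgroup.mem_zmultiples_iff.mpr ⟨z r, rfl⟩
    · intro hy
      obtain ⟨a, ha, b, hb, rfl⟩ := AddSubgroup.mem_sup.mp hy
      obtain ⟨ψ, hψ⟩ := ha
      obtain ⟨t, ht⟩ := AddSubgroup.mem_zmultiples_iff.mp hb
      refine AddSubgroup.mem_map.mpr ⟨⟨mfMatrix ends β *ᵥ dext r t ψ, ?_⟩, ?_, ?_⟩
      · exact LinearMap.mem_ker.mpr (betaHom_mulVec ends β hβ _)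
      · exact ⟨dext r t ψ, rfl⟩
      · rw [hi_apply, res_mulVec, res_dext, dext_root, ← hψ, ← ht]
        rfl
  have h4 : i.range = (AddSubgroup.zmultiples (β r)).comap (sigma r β) := by
    ext y
    rw [AddSubgroup.mem_comap, Int.mem_zmultiples_iff, sigma_apply]
    constructor
    · rintro ⟨x, rfl⟩
      have hx : betaHom β x.1 = 0 := LinearMap.mem_ker.mp x.2
      rw [betaHom_split r] at hx
      refine ⟨-x.1 r, ?_⟩
      have : ∑ v : {v : V // v ≠ r}, i x v * β v.1 = ∑ v : {v : V // v ≠ r}, x.1 v.1 * β v.1 :=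
        Finset.sum_congr rfl fun v _ => by rw [hi_apply, resLin_apply]
      rw [this]; linarith
    · rintro ⟨c, hc⟩
      refine ⟨⟨dext r (-c) y, ?_⟩, ?_⟩
      · refine LinearMap.mem_ker.mpr ?_
        rw [betaHom_split r, dext_root]
        have : ∑ v : {v : V // v ≠ r}, dext r (-c) y v.1 * β v.1 = ∑ v : {v : V // v ≠ r}, y v * β v.1 :=
          Finset.sum_congr rfl fun v _ => by
            have := congrFun (res_dext r (-c) y) v
            rw [resLin_apply] at this
            rw [this]
        rw [this, hc]; ring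
      · rw [hi_apply]; exact res_dext r (-c) y
  have h5 : J'.index = (redA ends r β).det.natAbs := index_range_mulVec _ hdet
  have h6 : J'.relIndex (J' ⊔ AddSubgroup.zmultiples (colR ends r β)) = (Tset r β).index := by
    rw [relIndex_sup_zmultiples, comap_colR ends r β hβ hdet]
  have h7 := AddSubgroup.relIndex_mul_index
    (le_sup_left : J' ≤ J' ⊔ AddSubgroup.zmultiples (colR ends r β))
  rw [h3, h4, index_comap_sigma] at h2
  rw [h6, h2, h5] at h7
  rw [h1, ← h7]; ring

end Groth.Agent.Lib.Helper31.LT
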