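import Mathlib
import Groth.Prelude.Def_W4c2conddiscmodels
import Groth.Agent.Lib.Helper31.LabTree5c

set_option autoImplicit false
set_option linter.unusedSectionVars false
universe u

namespace Groth.Agent.Lib.Helper31.LT

open LabGraph Groth.Agent.Lib.Helper31.LG Matrix

variable {V E : Type u} [Fintype V] [Fintype E] [DecidableEq V] [DecidableEq E]
  (ends : E → V × V)

theorem prod_wt (β : V → ℤ) (T : Finset E) :
    ∏ e ∈ T, wt ends β e = ∏ v : V, β v ^ endCount ends T v := by
  unfold endCount wt
  simp_rw [← Finset.prod_pow_eq_pow_sum, pow_add]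
  rw [Finset.prod_comm]
  refine Finset.prod_congr rfl fun e _ => ?_
  rw [Finset.prod_mul_distrib, Finset.prod_pow_boole, Finset.prod_pow_boole]
  simp

theorem noEven_no_loop (T : Finset E) (hT : NoEven ends T) (e : E) (he : e ∈ T) :
    (ends e).1 ≠ (ends e).2 := by
  intro h
  obtain ⟨φ, hφ⟩ := exists_potential ends _ T rfl hT (fun _ => 1)
  have := hφ e he
  unfold cob at this
  rw [h] at this
  simp at this

theorem noEven_no_parallel (T : Finset E) (hT : NoEven ends T) (e e' : E) (he : e ∈ T)
    (he' : e' ∈ T) (h : ends e = ends e' ∨ ends e = ((ends e').2, (ends e').1)) : e = e' := by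
  by_contra hne
  obtain ⟨φ, hφ⟩ := exists_potential ends _ T rfl hT (fun x => if x = e then 1 else 0)
  have h1 := hφ e he
  have h2 := hφ e' he'
  rw [if_pos rfl] at h1
  rw [if_neg (Ne.symm hne)] at h2
  unfold cob at h1 h2
  rcases h with h | h
  · rw [h] at h1; omega
  · rw [h] at h1; simp only at h1; omega

theorem endCount_eq_nbrCount (T : Finset E) (hT : NoEven ends T) (v : V) :
    endCount ends T v = nbrCount ends T v := by
  classical
  have h1 : endCount ends T v =
      (T.filter fun e => (ends e).1 = v ∨ (ends e).2 = v).card := by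
    unfold endCount
    rw [Finset.card_filter]
    refine Finset.sum_congr rfl fun e he => ?_
    have hl := noEven_no_loop ends T hT e he
    by_cases h1 : (ends e).1 = v <;> by_cases h2 : (ends e).2 = v
    · exact absurd (h1.trans h2.symm) hl
    · simp [h1, h2]
    · simp [h1, h2]
    · simp [h1, h2]
  rw [h1]
  unfold nbrCount
  refine Finset.card_bij (fun e _ => if (ends e).1 = v then (ends e).2 else (ends e).1) ?_ ?_ ?_
  · intro e he
    rw [Finset.mem_filter] at he
    obtain ⟨heT, hev⟩ := he
    have hl := noEven_no_loop ends T hT e heT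
    rw [Finset.mem_filter]
    refine ⟨Finset.mem_univ _, ?_, e, heT, ?_⟩
    · by_cases h1 : (ends e).1 = v
      · rw [if_pos h1]; rw [← h1]; exact Ne.symm hl
      · rw [if_neg h1]; exact h1
    · by_cases h1 : (ends e).1 = v
      · rw [if_pos h1]; left; rw [← h1]
      · rw [if_neg h1]
        have h2 : (ends e).2 = v := hev.resolve_left h1
        right; rw [← h2]
  · intro e he e' he' heq
    rw [Finset.mem_filter] at he he'
    obtain ⟨heT, hev⟩ := he
    obtain ⟨heT', hev'⟩ := he'
    have hl := noEven_no_loop ends T hT e heT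
    have hl' := noEven_no_loop ends T hT e' heT'
    apply noEven_no_parallel ends T hT e e' heT heT'
    by_cases h1 : (ends e).1 = v <;> by_cases h1' : (ends e').1 = v
    · rw [if_pos h1, if_pos h1'] at heq
      left; exact Prod.ext (h1.trans h1'.symm) heq
    · rw [if_pos h1, if_neg h1'] at heq
      have h2' : (ends e').2 = v := hev'.resolve_left h1'
      right; exact Prod.ext (h1.trans h2'.symm) heq
    · rw [if_neg h1, if_pos h1'] at heq
      have h2 : (ends e).2 = v := hev.resolve_left h1
      right; exact Prod.ext heq (h2.trans h1'.symm)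
    · rw [if_neg h1, if_neg h1'] at heq
      have h2 : (ends e).2 = v := hev.resolve_left h1
      have h2' : (ends e').2 = v := hev'.resolve_left h1'
      left; exact Prod.ext heq (h2.trans h2'.symm)
  · intro w hw
    rw [Finset.mem_filter] at hw
    obtain ⟨-, hwv, e, heT, he⟩ := hw
    refine ⟨e, ?_, ?_⟩
    · rw [Finset.mem_filter]
      refine ⟨heT, ?_⟩
      rcases he with he | he <;> simp [he]
    · rcases he with he | he
      · simp [he]
      · simp [he, hwv]

end Groth.Agent.Lib.Helper31.LT
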