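import Mathlib
import Groth.Prelude.Def_W4c2conddiscmodels
import Groth.Agent.Lib.Helper31.LabTree6

set_option autoImplicit false
set_option linter.unusedSectionVars false
universe u

namespace Groth.Agent.Lib.Helper31.LT

open LabGraph Groth.Agent.Lib.Helper31.LG Matrix

variable {V E : Type u} [Fintype V] [Fintype E] [DecidableEq V] [DecidableEq E]
  (ends : E → V × V)

theorem prod_split (r : V) (g : V → ℚ) : ∏ u, g u = g r * ∏ u : {v : V // v ≠ r}, g u.1 := by
  rw [← Finset.mul_prod_erase Finset.univ g (Finset.mem_univ r)]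
  congr 1
  exact Finset.prod_subtype (Finset.univ.erase r) (by simp) g

open scoped Classical in
theorem S14803 (β : V → ℤ) (hβ : LabGraph.IsMultFn ends β) (hG : LabGraph.Connected ends) :
    (Nat.card (LabGraph.CompGrp ends β) : ℚ) =
      ((Finset.univ.gcd β : ℤ) : ℚ) ^ 2 *
        ∑ T ∈ Finset.univ.powerset.filter (fun T : Finset E => LabGraph.IsSpanningTree ends T),
          ∏ v : V, ((β v : ℚ) ^ ((LabGraph.nbrCount ends T v : ℤ) - 2)) := by
  obtain ⟨r⟩ := hG.1
  set m : ℤ := Finset.univ.gcd β with hm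
  set S : ℤ := ∑ T ∈ Finset.univ.powerset.filter (fun T : Finset E => IsSpanningTree ends T),
    ∏ e ∈ T, wt ends β e with hS
  set P : ℤ := ∏ v : {v : V // v ≠ r}, β v.1 with hP
  have h1 : (inc ends r * diagonal (wt ends β) * (inc ends r)ᵀ).det = S :=
    det_lap ends r (wt ends β)
  have h2 := det_lap_eq ends r β hβ
  have hwpos : ∀ e, 0 < wt ends β e := fun e => mul_pos (hβ _).1 (hβ _).1
  have hSpos : 0 < S := by
    obtain ⟨T₀, hT₀⟩ := exists_spanningTree ends hG
    refine Finset.sum_pos (fun T _ => Finset.prod_pos fun e _ => hwpos e) ⟨T₀, ?_⟩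
    rw [Finset.mem_filter]
    exact ⟨Finset.mem_powerset.mpr (Finset.subset_univ _), hT₀⟩
  have hdet : (redA ends r β).det ≠ 0 := by
    intro h0
    rw [h1, h0] at h2
    simp at h2
    exact hSpos.ne' h2
  have h3 := card_compGrp_mul ends r β hβ hdet
  rw [index_Tset ends r β hβ] at h3
  have hSabs : S = P ^ 2 * |(redA ends r β).det| := by
    have := congrArg abs (h1.symm.trans h2)
    rw [abs_of_pos hSpos, abs_mul, abs_mul, abs_pow, abs_neg, abs_one, one_pow, one_mul,
      abs_pow, sq_abs] at this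
    exact this
  have hmr : m ∣ β r := Finset.gcd_dvd (Finset.mem_univ r)
  have hr0 : β r ≠ 0 := (hβ r).1.ne'
  have hm0 : m ≠ 0 := by
    intro h0; rw [h0, zero_dvd_iff] at hmr; exact hr0 hmr
  -- cast everything to ℚ
  have hβq : ∀ v, (β v : ℚ) ≠ 0 := fun v => by exact_mod_cast (hβ v).1.ne'
  have hPq : (P : ℚ) ≠ 0 := by
    rw [hP]; push_cast
    exact Finset.prod_ne_zero_iff.mpr fun v _ => hβq v.1
  have hmq : (m : ℚ) ≠ 0 := by exact_mod_cast hm0
  have E1 : (Nat.card (CompGrp ends β) : ℚ) * ((β r : ℚ) / (m : ℚ)) ^ 2 =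
      ((|(redA ends r β).det| : ℤ) : ℚ) := by
    have h3' : ((Nat.card (CompGrp ends β) : ℤ)) * (((β r / m).natAbs : ℤ)) ^ 2 =
        |(redA ends r β).det| := by
      rw [← Int.natCast_natAbs (redA ends r β).det, ← h3]
      push_cast; ring
    rw [Int.natAbs_sq] at h3'
    have h4 : ((β r / m : ℤ) : ℚ) = (β r : ℚ) / (m : ℚ) := Int.cast_div hmr hmq
    rw [← h4]
    exact_mod_cast h3'
  have E2 : (S : ℚ) = (P : ℚ) ^ 2 * ((|(redA ends r β).det| : ℤ) : ℚ) := by
    exact_mod_cast hSabs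
  -- rewrite the sum
  have hsum : ∑ T ∈ Finset.univ.powerset.filter (fun T : Finset E => IsSpanningTree ends T),
      ∏ v : V, ((β v : ℚ) ^ ((nbrCount ends T v : ℤ) - 2)) =
      (S : ℚ) / (∏ v : V, (β v : ℚ)) ^ 2 := by
    rw [hS]
    push_cast
    rw [Finset.sum_div]
    refine Finset.sum_congr rfl fun T hT => ?_
    rw [Finset.mem_filter] at hT
    have hNE : NoEven ends T := (forest_iff ends T).mp hT.2.2
    have hw := prod_wt ends β T
    have hw' : ∏ e ∈ T, ((wt ends β e : ℤ) : ℚ) = ∏ v : V, (β v : ℚ) ^ endCount ends T v := by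
      exact_mod_cast hw
    rw [hw', ← Finset.prod_pow, ← Finset.prod_div_distrib]
    refine Finset.prod_congr rfl fun v _ => ?_
    rw [← endCount_eq_nbrCount ends T hNE v, zpow_sub₀ (hβq v), zpow_natCast]
    norm_cast
  rw [hsum, prod_split r (fun v => (β v : ℚ)), E2, ← E1]
  have hPq' : (∏ u : {v : V // v ≠ r}, (β u.1 : ℚ)) = (P : ℚ) := by
    rw [hP]; push_cast; rfl
  rw [hPq']
  field_simp

end Groth.Agent.Lib.Helper31.LT
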