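import Mathlib
import Groth.Prelude.Def_W4c2conddiscmodels
import Groth.Agent.Lib.Helper31.LabTree3

set_option autoImplicit false
set_option linter.unusedSectionVars false
universe u w

namespace Groth.Agent.Lib.Helper31.LA

open LabGraph Groth.Agent.Lib.Helper31.LG Groth.Agent.Lib.Helper31.LT Matrix

/-! ### integer matrices acting on vectors with entries in an abelian group -/

section zmul
variable {m n k : Type*} [Fintype m] [Fintype n] [Fintype k] {A : Type w} [AddCommGroup A]

/-- action of an integer matrix on `A`-valued vectors -/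
def zmulVec (M : Matrix m n ℤ) (x : n → A) : m → A := fun i => ∑ j, M i j • x j

theorem zmulVec_mul (M : Matrix m n ℤ) (N : Matrix n k ℤ) (x : k → A) :
    zmulVec (M * N) x = zmulVec M (zmulVec N x) := by
  funext i
  unfold zmulVec
  simp_rw [Matrix.mul_apply, Finset.sum_smul, Finset.smul_sum, mul_smul]
  rw [Finset.sum_comm]

theorem zmulVec_one [DecidableEq n] (x : n → A) : zmulVec (1 : Matrix n n ℤ) x = x := by
  funext i
  unfold zmulVec
  simp_rw [Matrix.one_apply, ite_smul, one_smul, zero_smul]
  rw [Finset.sum_ite_eq]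
  simp

theorem zmulVec_add (M : Matrix m n ℤ) (x y : n → A) :
    zmulVec M (x + y) = zmulVec M x + zmulVec M y := by
  funext i
  unfold zmulVec
  simp only [Pi.add_apply, smul_add, Finset.sum_add_distrib]

theorem zmulVec_zero (M : Matrix m n ℤ) : zmulVec M (0 : n → A) = 0 := by
  funext i
  unfold zmulVec
  simp

end zmul

variable {V E : Type u} [Fintype V] [Fintype E] [DecidableEq V] [DecidableEq E]
  (ends : E → V × V) {A : Type w} [AddCommGroup A]

/-- full incidence matrix -/
def incF : Matrix V E ℤ := fun v e =>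
  (if (ends e).2 = v then 1 else 0) - (if (ends e).1 = v then 1 else 0)

/-- boundary with coefficients in `A` -/
def bdA (γ : E → A) (v : V) : A :=
  ∑ e, ((if (ends e).2 = v then γ e else 0) - (if (ends e).1 = v then γ e else 0))

theorem bdA_eq (γ : E → A) : bdA ends γ = zmulVec (incF ends) γ := by
  funext v
  unfold bdA zmulVec incF
  refine Finset.sum_congr rfl fun e _ => ?_
  split_ifs <;> simp

theorem sum_bdA (γ : E → A) : ∑ v, bdA ends γ v = 0 := by
  unfold bdA
  rw [Finset.sum_comm]
  refine Finset.sum_eq_zero fun e _ => ?_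
  rw [Finset.sum_sub_distrib, Finset.sum_ite_eq, Finset.sum_ite_eq]
  simp

theorem bdA_add (γ γ' : E → A) : bdA ends (γ + γ') = bdA ends γ + bdA ends γ' := by
  rw [bdA_eq, bdA_eq, bdA_eq, zmulVec_add]

theorem bdA_zero : bdA ends (0 : E → A) = 0 := by
  rw [bdA_eq, zmulVec_zero]

theorem bdA_neg (γ : E → A) : bdA ends (-γ) = -bdA ends γ := by
  have h := bdA_add ends γ (-γ)
  rw [add_neg_cancel, bdA_zero] at h
  exact eq_neg_of_add_eq_zero_right h.symm

theorem bdA_sub (γ γ' : E → A) : bdA ends (γ - γ') = bdA ends γ - bdA ends γ' := by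
  rw [sub_eq_add_neg, bdA_add, bdA_neg, sub_eq_add_neg]

/-- push a vector indexed by `ι` to the edges along `f` -/
def pushE {ι : Type*} [Fintype ι] (f : ι → E) (y : ι → A) : E → A :=
  fun e => ∑ i, if f i = e then y i else 0

theorem pushE_apply_of_injective {ι : Type*} [Fintype ι] (f : ι → E) (hf : Function.Injective f)
    (y : ι → A) (i : ι) : pushE f y (f i) = y i := by
  classical
  unfold pushE
  rw [Finset.sum_eq_single i]
  · simp
  · intro j _ hj
    rw [if_neg (fun h => hj (hf h))]
  · intro h; exact absurd (Finset.mem_univ _) h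

theorem pushE_apply_of_not_range {ι : Type*} [Fintype ι] (f : ι → E) (y : ι → A) (e : E)
    (he : ∀ i, f i ≠ e) : pushE f y e = 0 := by
  unfold pushE
  exact Finset.sum_eq_zero fun i _ => by rw [if_neg (he i)]

theorem pushE_add {ι : Type*} [Fintype ι] (f : ι → E) (y y' : ι → A) :
    pushE f (y + y') = pushE f y + pushE f y' := by
  funext e
  unfold pushE
  simp only [Pi.add_apply]
  rw [← Finset.sum_add_distrib]
  refine Finset.sum_congr rfl fun i _ => ?_
  split_ifs <;> simp

theorem bdA_pushE {ι : Type*} [Fintype ι] (f : ι → E) (y : ι → A) (v : V) :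
    bdA ends (pushE f y) v = ∑ i, incF ends v (f i) • y i := by
  rw [bdA_eq]
  unfold zmulVec pushE
  simp_rw [Finset.smul_sum]
  rw [Finset.sum_comm]
  refine Finset.sum_congr rfl fun i _ => ?_
  simp_rw [smul_ite, smul_zero]
  rw [Finset.sum_ite_eq]
  simp

end Groth.Agent.Lib.Helper31.LA
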