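import Mathlib
import Groth.Prelude.Def_W4c2conddiscmodels
import Groth.Agent.Lib.Helper31.LabTreeA1

set_option autoImplicit false
set_option linter.unusedSectionVars false
universe u w

namespace Groth.Agent.Lib.Helper31.LA

open LabGraph Groth.Agent.Lib.Helper31.LG Groth.Agent.Lib.Helper31.LT Matrix

variable {V E : Type u} [Fintype V] [Fintype E] [DecidableEq V] [DecidableEq E]
  (ends : E → V × V) {A : Type w} [AddCommGroup A]

/-- spanning tree inside an allowed edge set spanning a connected subgraph -/
theorem exists_spanningTree_within (Ω : Finset E)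
    (hΩ : LabGraph.Connected (V := V) (fun e : Ω => ends e.1)) :
    ∃ T : Finset E, T ⊆ Ω ∧ IsSpanningTree ends T := by
  classical
  have hne : (Finset.univ.filter fun T : Finset E => T ⊆ Ω ∧ NoEven ends T).Nonempty :=
    ⟨∅, by
      simp only [Finset.mem_filter, Finset.mem_univ, Finset.empty_subset, true_and]
      intro S hS hne
      rw [Finset.subset_empty] at hS
      subst hS
      exact absurd hne Finset.not_nonempty_empty⟩
  obtain ⟨T, hT, hmax⟩ := Finset.exists_max_image _ Finset.card hne
  rw [Finset.mem_filter] at hT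
  obtain ⟨-, hTΩ, hTNE⟩ := hT
  refine ⟨T, hTΩ, ?_, (forest_iff ends T).mpr hTNE⟩
  obtain ⟨⟨r⟩, hconn⟩ := hΩ
  have hreach : ∀ v : V, Relation.ReflTransGen (Adj (fun e : T => ends e.1)) r v := by
    by_contra hcon
    push Not at hcon
    obtain ⟨v₀, hv₀⟩ := hcon
    set P : V → Prop := fun v => Relation.ReflTransGen (Adj (fun e : T => ends e.1)) r v with hP
    have hexit : ∃ e : Ω, ¬ (P (ends e.1).1 ↔ P (ends e.1).2) := by
      by_contra hno
      push Not at hno
      exact hv₀ (closed_of_reach (fun e : Ω => ends e.1) P hno (hconn r v₀)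
        Relation.ReflTransGen.refl)
    obtain ⟨⟨e, heΩ⟩, he⟩ := hexit
    simp only at he
    have heT : e ∉ T := by
      intro heT
      apply he
      constructor
      · intro h; exact h.tail ⟨⟨e, heT⟩, Or.inl rfl⟩
      · intro h; exact h.tail ⟨⟨e, heT⟩, Or.inr rfl⟩
    set φ : V → ℤ := fun v => if P v then 0 else 1 with hφ
    have hcobT : ∀ e' ∈ T, cob ends φ e' = 0 := by
      intro e' he'
      have hiff : P (ends e').1 ↔ P (ends e').2 := by
        constructor
        · intro h; exact h.tail ⟨⟨e', he'⟩, Or.inl rfl⟩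
        · intro h; exact h.tail ⟨⟨e', he'⟩, Or.inr rfl⟩
      unfold cob
      simp only [hφ, hiff, sub_self]
    have hcobe : ¬ Even (cob ends φ e) := by
      unfold cob
      simp only [hφ]
      by_cases h1 : P (ends e).1 <;> by_cases h2 : P (ends e).2
      · exact absurd (iff_of_true h1 h2) he
      · simp [h1, h2]
      · simp [h1, h2]
      · exact absurd (iff_of_false h1 h2) he
    have hins : NoEven ends (insert e T) := by
      intro S hS hSne hSev
      by_cases heS : e ∈ S
      · have h1 := even_sum_cob ends S hSev φ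
        rw [← Finset.add_sum_erase S _ heS] at h1
        have h2 : ∑ x ∈ S.erase e, cob ends φ x = 0 := by
          refine Finset.sum_eq_zero fun x hx => ?_
          have hxS := Finset.mem_of_mem_erase hx
          have hxe := Finset.ne_of_mem_erase hx
          rcases Finset.mem_insert.mp (hS hxS) with h | h
          · exact absurd h hxe
          · exact hcobT x h
        rw [h2, add_zero] at h1
        exact hcobe h1
      · refine hTNE S ?_ hSne hSev
        intro x hx
        rcases Finset.mem_insert.mp (hS hx) with h | h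
        · subst h; exact absurd hx heS
        · exact h
    have h3 := hmax (insert e T) (by
      rw [Finset.mem_filter]
      refine ⟨Finset.mem_univ _, ?_, hins⟩
      intro x hx
      rcases Finset.mem_insert.mp hx with h | h
      · subst h; exact heΩ
      · exact hTΩ h)
    rw [Finset.card_insert_of_notMem heT] at h3
    omega
  exact ⟨⟨r⟩, fun v w => (reach_symm _ (hreach v)).trans (hreach w)⟩

variable (r : V)

/-- a spanning tree enumerated by the non-root vertices, with the integral inverse of its minor -/
structure TreeData where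
  f : {v : V // v ≠ r} → E
  inj : Function.Injective f
  B : Matrix {v : V // v ≠ r} {v : V // v ≠ r} ℤ
  mulB : (inc ends r).submatrix id f * B = 1
  Bmul : B * (inc ends r).submatrix id f = 1

theorem exists_treeData (T : Finset E) (hT : IsSpanningTree ends T) :
    ∃ D : TreeData ends r, Finset.image D.f Finset.univ = T := by
  classical
  obtain ⟨hc, hNE⟩ := card_of_isSpanningTree ends r T hT
  have e : {v : V // v ≠ r} ≃ T := Fintype.equivOfCardEq (by rw [Fintype.card_coe, hc])
  set f : {v : V // v ≠ r} → E := fun i => (e i).1 with hf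
  have hinj : Function.Injective f := fun i j h => e.injective (Subtype.ext h)
  have himg : Finset.image f Finset.univ = T := by
    ext x
    simp only [Finset.mem_image, Finset.mem_univ, true_and, hf]
    constructor
    · rintro ⟨i, rfl⟩; exact (e i).2
    · intro hx; exact ⟨e.symm ⟨x, hx⟩, by simp⟩
  have hdet := det_sq ends r f
  rw [if_pos ⟨hinj, himg ▸ hNE⟩] at hdet
  have hunit : IsUnit ((inc ends r).submatrix id f).det := by
    apply IsUnit.of_mul_eq_one ((inc ends r).submatrix id f).det
    rw [← sq]; exact hdet
  exact ⟨⟨f, hinj, ((inc ends r).submatrix id f)⁻¹, Matrix.mul_nonsing_inv _ hunit,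
    Matrix.nonsing_inv_mul _ hunit⟩, himg⟩

variable {ends r}

/-- restriction to the non-root vertices -/
def resV (x : V → A) : {v : V // v ≠ r} → A := fun v => x v.1

theorem eq_of_resV (x x' : V → A) (hsum : ∑ v, x v = ∑ v, x' v)
    (hres : resV (r := r) x = resV x') : x = x' := by
  have h1 : ∀ v, v ≠ r → x v = x' v := fun v hv => congrFun hres ⟨v, hv⟩
  have h2 : x r = x' r := by
    rw [← Finset.add_sum_erase Finset.univ x (Finset.mem_univ r),
      ← Finset.add_sum_erase Finset.univ x' (Finset.mem_univ r)] at hsum
    have h3 : ∑ v ∈ Finset.univ.erase r, x v = ∑ v ∈ Finset.univ.erase r, x' v :=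
      Finset.sum_congr rfl fun v hv => h1 v (Finset.ne_of_mem_erase hv)
    rw [h3] at hsum
    exact add_right_cancel hsum
  funext v
  by_cases hv : v = r
  · subst hv; exact h2
  · exact h1 v hv

namespace TreeData

variable (D : TreeData ends r)

theorem resV_bdA_pushE (y : {v : V // v ≠ r} → A) :
    resV (r := r) (bdA ends (pushE D.f y)) = zmulVec ((inc ends r).submatrix id D.f) y := by
  funext u
  unfold resV
  rw [bdA_pushE]
  rfl

/-- solving `∂γ = a'` on the tree -/
def solve (a' : V → A) : E → A := pushE D.f (zmulVec D.B (resV a'))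

theorem bdA_solve (a' : V → A) (h0 : ∑ v, a' v = 0) : bdA ends (D.solve a') = a' := by
  apply eq_of_resV (r := r)
  · rw [sum_bdA, h0]
  · unfold solve
    rw [resV_bdA_pushE, ← zmulVec_mul, D.mulB, zmulVec_one]

theorem solve_add (a' a'' : V → A) : D.solve (a' + a'') = D.solve a' + D.solve a'' := by
  unfold solve
  have : resV (r := r) (a' + a'') = resV a' + resV a'' := rfl
  rw [this, zmulVec_add, pushE_add]

theorem solve_apply_not_range (a' : V → A) (e : E) (he : ∀ i, D.f i ≠ e) : D.solve a' e = 0 :=
  pushE_apply_of_not_range D.f _ e he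

/-- completion of an edge vector to a cycle by modifying it on the tree only -/
def Z (γ₀ : E → A) : E → A := γ₀ - D.solve (bdA ends γ₀)

theorem bdA_Z (γ₀ : E → A) : bdA ends (D.Z γ₀) = 0 := by
  unfold Z
  rw [bdA_sub, D.bdA_solve _ (sum_bdA ends γ₀), sub_self]

theorem Z_add (γ₀ γ₁ : E → A) : D.Z (γ₀ + γ₁) = D.Z γ₀ + D.Z γ₁ := by
  unfold Z
  rw [bdA_add, solve_add]
  abel

theorem Z_apply_not_range (γ₀ : E → A) (e : E) (he : ∀ i, D.f i ≠ e) : D.Z γ₀ e = γ₀ e := by
  unfold Z
  rw [Pi.sub_apply, D.solve_apply_not_range _ e he, sub_zero]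

/-- a cycle supported on the tree vanishes -/
theorem eq_zero_of_cycle (γ : E → A) (hcyc : bdA ends γ = 0)
    (hsupp : ∀ e, (∀ i, D.f i ≠ e) → γ e = 0) : γ = 0 := by
  classical
  set y : {v : V // v ≠ r} → A := fun i => γ (D.f i) with hy
  have hγ : γ = pushE D.f y := by
    funext e
    by_cases he : ∃ i, D.f i = e
    · obtain ⟨i, rfl⟩ := he
      rw [pushE_apply_of_injective D.f D.inj]
    · push Not at he
      rw [hsupp e he, pushE_apply_of_not_range D.f y e he]
  have h1 : zmulVec ((inc ends r).submatrix id D.f) y = 0 := by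
    rw [← resV_bdA_pushE, ← hγ, hcyc]; rfl
  have h2 : y = 0 := by
    rw [← zmulVec_one y, ← D.Bmul, zmulVec_mul, h1, zmulVec_zero]
  rw [hγ, h2]
  funext e
  unfold pushE
  simp

end TreeData

end Groth.Agent.Lib.Helper31.LA
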