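import Mathlib
import Groth.Prelude.Def_W4c2conddiscmodels
import Groth.Agent.Lib.Helper31.LabTreeA2

set_option autoImplicit false
set_option linter.unusedSectionVars false
universe u w

namespace Groth.Agent.Lib.Helper31.LA

open LabGraph Groth.Agent.Lib.Helper31.LG Groth.Agent.Lib.Helper31.LT Matrix

variable {V E : Type u} [Fintype V] [Fintype E] [DecidableEq V] [DecidableEq E]
  (ends : E → V × V) (A : Type w) [AddCommGroup A]

/-- (I) in a connected graph every sum-zero vertex vector is a boundary -/
theorem exists_bdA_eq (hG : LabGraph.Connected ends) (a' : V → A) (h0 : ∑ v, a' v = 0) :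
    ∃ γ : E → A, bdA ends γ = a' := by
  obtain ⟨r⟩ := hG.1
  obtain ⟨T, hT⟩ := exists_spanningTree ends hG
  obtain ⟨D, -⟩ := exists_treeData ends r T hT
  exact ⟨D.solve a', D.bdA_solve a' h0⟩

/-- (II) an edge whose deletion leaves the graph connected carries a split family of cycles -/
theorem exists_cycle_hom (e₀ : E)
    (hdel : LabGraph.Connected (V := V) (fun e : (Finset.univ.erase e₀ : Finset E) => ends e.1)) :
    ∃ φ : A →+ (E → A), (∀ a, bdA ends (φ a) = 0) ∧ ∀ a, φ a e₀ = a := by
  classical
  obtain ⟨r⟩ := hdel.1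
  obtain ⟨T, hTΩ, hT⟩ := exists_spanningTree_within ends _ hdel
  obtain ⟨D, hD⟩ := exists_treeData ends r T hT
  have he₀ : ∀ i, D.f i ≠ e₀ := by
    intro i h
    have : D.f i ∈ T := hD ▸ Finset.mem_image_of_mem D.f (Finset.mem_univ i)
    exact (Finset.mem_erase.mp (hTΩ this)).1 h
  refine ⟨AddMonoidHom.mk' (fun a => D.Z (Pi.single e₀ a)) (fun a b => ?_), fun a => ?_, fun a => ?_⟩
  · rw [Pi.single_add, D.Z_add]
  · exact D.bdA_Z _
  · simp only [AddMonoidHom.mk'_apply]
    rw [D.Z_apply_not_range _ e₀ he₀, Pi.single_eq_same]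

/-- (III) the cycle group with coefficients in `A` is `A^n`, `n` the cyclomatic number -/
theorem exists_cycle_iso (hG : LabGraph.Connected ends) (n : ℕ)
    (hn : Fintype.card E + 1 = Fintype.card V + n) :
    ∃ F : (Fin n → A) →+ (E → A), Function.Injective F ∧
      Set.range F = {γ : E → A | bdA ends γ = 0} := by
  classical
  obtain ⟨r⟩ := hG.1
  obtain ⟨T, hT⟩ := exists_spanningTree ends hG
  obtain ⟨D, hD⟩ := exists_treeData ends r T hT
  have hcT := (card_of_isSpanningTree ends r T hT).1
  have hrange : ∀ e, (∃ i, D.f i = e) ↔ e ∈ T := by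
    intro e
    rw [← hD]
    simp
  have hcard : Fintype.card (Fin n) = Fintype.card {e : E // e ∉ T} := by
    rw [Fintype.card_fin, Fintype.card_subtype_compl, Fintype.card_coe, hcT,
      Fintype.card_subtype_compl, Fintype.card_subtype_eq]
    have : 0 < Fintype.card V := Fintype.card_pos_iff.mpr ⟨r⟩
    have hle : T.card ≤ Fintype.card E := by
      rw [← Finset.card_univ]; exact Finset.card_le_card (Finset.subset_univ _)
    rw [hcT, Fintype.card_subtype_compl, Fintype.card_subtype_eq] at hle
    omega
  let g : Fin n ≃ {e : E // e ∉ T} := Fintype.equivOfCardEq hcard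
  set g' : Fin n → E := fun j => (g j).1 with hg'
  have hg'inj : Function.Injective g' := fun i j h => g.injective (Subtype.ext h)
  have hg'not : ∀ j, ∀ i, D.f i ≠ g' j := by
    intro j i h
    exact (g j).2 ((hrange _).mp ⟨i, h⟩)
  have hFval : ∀ y : Fin n → A, ∀ j, D.Z (pushE g' y) (g' j) = y j := by
    intro y j
    rw [D.Z_apply_not_range _ _ (hg'not j), pushE_apply_of_injective g' hg'inj]
  refine ⟨AddMonoidHom.mk' (fun y => D.Z (pushE g' y)) (fun y y' => ?_), ?_, ?_⟩
  · rw [pushE_add, D.Z_add]
  · intro y y' h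
    simp only [AddMonoidHom.mk'_apply] at h
    funext j
    rw [← hFval y j, ← hFval y' j, h]
  · ext γ
    simp only [Set.mem_range, AddMonoidHom.mk'_apply, Set.mem_ofPred_eq]
    constructor
    · rintro ⟨y, rfl⟩
      exact D.bdA_Z _
    · intro hγ
      refine ⟨fun j => γ (g' j), ?_⟩
      have h0 : γ - D.Z (pushE g' fun j => γ (g' j)) = 0 := by
        apply D.eq_zero_of_cycle
        · rw [bdA_sub, hγ, D.bdA_Z, sub_self]
        · intro e he
          have heT : e ∉ T := fun h => by
            obtain ⟨i, hi⟩ := (hrange e).mpr h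
            exact he i hi
          obtain ⟨j, hj⟩ := g.surjective ⟨e, heT⟩
          have hje : g' j = e := by rw [hg']; simp only; rw [hj]
          rw [Pi.sub_apply, ← hje, hFval, sub_self]
      exact (sub_eq_zero.mp h0).symm

end Groth.Agent.Lib.Helper31.LA
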