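import Mathlib
import Groth.Prelude.Def_W4c2conddiscmodels
import Groth.Agent.Lib.Helper31.LabTreeA3

set_option autoImplicit false
set_option linter.unusedSectionVars false
universe u w

namespace Groth.Agent.Lib.Helper31.LA

open LabGraph Groth.Agent.Lib.Helper31.LG Groth.Agent.Lib.Helper31.LT Matrix

variable {V : Type u} [Fintype V] [DecidableEq V] (G : SimpleGraph V) [DecidableRel G.Adj]
  (c : V → Bool)

/-- edges oriented from the `true` colour class to the `false` one -/
abbrev BEdge : Type u := {p : V × V // G.Adj p.1 p.2 ∧ c p.1 = true}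

/-- endpoint map -/
def bEnds : BEdge G c → V × V := Subtype.val

/-- the underlying unordered edge -/
def toSym (p : BEdge G c) : Sym2 V := s(p.1.1, p.1.2)

variable {G c}

theorem snd_false (hbip : ∀ v w : V, G.Adj v w → c v ≠ c w) (p : BEdge G c) : c p.1.2 = false := by
  have h1 := hbip _ _ p.2.1
  rw [p.2.2] at h1
  cases h : c p.1.2
  · rfl
  · exact absurd h.symm h1

theorem toSym_injective (hbip : ∀ v w : V, G.Adj v w → c v ≠ c w) :
    Function.Injective (toSym G c) := by
  intro p q h
  unfold toSym at h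
  rw [Sym2.eq_iff] at h
  rcases h with ⟨h1, h2⟩ | ⟨h1, h2⟩
  · exact Subtype.ext (Prod.ext h1 h2)
  · exfalso
    have := snd_false hbip q
    rw [← h1, p.2.2] at this
    exact Bool.noConfusion this

theorem toSym_mem (p : BEdge G c) : toSym G c p ∈ G.edgeSet := p.2.1

theorem exists_bEdge_of_adj (hbip : ∀ v w : V, G.Adj v w → c v ≠ c w) {a b : V} (hab : G.Adj a b) :
    ∃ p : BEdge G c, (bEnds G c p = (a, b) ∨ bEnds G c p = (b, a)) ∧ toSym G c p = s(a, b) := by
  cases ha : c a
  · have hb : c b = true := by
      have := hbip a b hab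
      rw [ha] at this
      cases hb : c b
      · exact absurd hb.symm this
      · rfl
    exact ⟨⟨(b, a), hab.symm, hb⟩, Or.inr rfl, Sym2.eq_swap⟩
  · exact ⟨⟨(a, b), hab, ha⟩, Or.inl rfl, rfl⟩

theorem exists_toSym_eq (hbip : ∀ v w : V, G.Adj v w → c v ≠ c w) (e : Sym2 V)
    (he : e ∈ G.edgeSet) : ∃ p : BEdge G c, toSym G c p = e := by
  induction e using Sym2.ind with
  | _ a b =>
    obtain ⟨p, -, hp⟩ := exists_bEdge_of_adj hbip (show G.Adj a b from he)
    exact ⟨p, hp⟩

theorem connected_bEnds (hbip : ∀ v w : V, G.Adj v w → c v ≠ c w) (hconn : G.Connected) :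
    LabGraph.Connected (bEnds G c) := by
  refine ⟨hconn.nonempty, fun v w => ?_⟩
  have h := (SimpleGraph.reachable_iff_reflTransGen v w).mp (hconn.preconnected v w)
  refine Relation.ReflTransGen.mono ?_ v w h
  intro a b hab
  obtain ⟨p, hp, -⟩ := exists_bEdge_of_adj hbip hab
  exact ⟨p, hp⟩

variable {A : Type w} [AddCommGroup A]

/-- transport of an oriented edge vector to a function on `Sym2 V` -/
def symPush (γ : BEdge G c → A) : Sym2 V → A := fun s => ∑ p, if toSym G c p = s then γ p else 0

theorem symPush_toSym (hbip : ∀ v w : V, G.Adj v w → c v ≠ c w) (γ : BEdge G c → A)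
    (p : BEdge G c) : symPush γ (toSym G c p) = γ p := by
  classical
  unfold symPush
  rw [Finset.sum_eq_single p]
  · simp
  · intro q _ hq
    rw [if_neg (fun h => hq (toSym_injective hbip h))]
  · intro h; exact absurd (Finset.mem_univ _) h

theorem symPush_of_not_mem (γ : BEdge G c → A) (e : Sym2 V) (he : e ∉ G.edgeSet) :
    symPush γ e = 0 := by
  unfold symPush
  refine Finset.sum_eq_zero fun p _ => ?_
  rw [if_neg]
  intro h
  exact he (h ▸ toSym_mem p)

theorem symPush_add (γ γ' : BEdge G c → A) : symPush (γ + γ') = symPush γ + symPush γ' := by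
  funext e
  unfold symPush
  simp only [Pi.add_apply]
  rw [← Finset.sum_add_distrib]
  refine Finset.sum_congr rfl fun i _ => ?_
  split_ifs <;> simp

/-- `symPush` as an additive map -/
def symPushHom : (BEdge G c → A) →+ (Sym2 V → A) :=
  AddMonoidHom.mk' symPush symPush_add

theorem symPush_injective (hbip : ∀ v w : V, G.Adj v w → c v ≠ c w) :
    Function.Injective (symPush (G := G) (c := c) (A := A)) := by
  intro γ γ' h
  funext p
  rw [← symPush_toSym hbip γ p, ← symPush_toSym hbip γ' p, h]

/-- vertex sums of `symPush γ` are, up to the sign of the colour, the boundary of `γ` -/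
theorem sum_incidence_symPush (hbip : ∀ v w : V, G.Adj v w → c v ≠ c w) (γ : BEdge G c → A)
    (v : V) :
    ∑ e ∈ G.incidenceFinset v, symPush γ e =
      if c v = true then -bdA (bEnds G c) γ v else bdA (bEnds G c) γ v := by
  classical
  have h1 : ∑ e ∈ G.incidenceFinset v, symPush γ e =
      ∑ p : BEdge G c, if (p.1.1 = v ∨ p.1.2 = v) then γ p else 0 := by
    unfold symPush
    rw [Finset.sum_comm]
    refine Finset.sum_congr rfl fun p _ => ?_
    rw [Finset.sum_ite_eq]
    have : toSym G c p ∈ G.incidenceFinset v ↔ (p.1.1 = v ∨ p.1.2 = v) := by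
      rw [SimpleGraph.mem_incidenceFinset]
      unfold toSym
      rw [SimpleGraph.mk'_mem_incidenceSet_iff]
      constructor
      · rintro ⟨-, h | h⟩
        · exact Or.inl h.symm
        · exact Or.inr h.symm
      · rintro (h | h)
        · exact ⟨p.2.1, Or.inl h.symm⟩
        · exact ⟨p.2.1, Or.inr h.symm⟩
    by_cases hm : toSym G c p ∈ G.incidenceFinset v
    · rw [if_pos hm, if_pos (this.mp hm)]
    · rw [if_neg hm, if_neg (fun h => hm (this.mpr h))]
  rw [h1]
  unfold bdA bEnds
  by_cases hv : c v = true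
  · rw [if_pos hv, ← Finset.sum_neg_distrib]
    refine Finset.sum_congr rfl fun p _ => ?_
    have h2 : p.1.2 ≠ v := by
      intro h
      have := snd_false hbip p
      rw [h, hv] at this
      exact Bool.noConfusion this
    by_cases h1 : p.1.1 = v <;> simp [h1, h2]
  · rw [if_neg hv]
    refine Finset.sum_congr rfl fun p _ => ?_
    have h1 : p.1.1 ≠ v := by
      intro h
      exact hv (h ▸ p.2.2)
    by_cases h2 : p.1.2 = v <;> simp [h1, h2]

end Groth.Agent.Lib.Helper31.LA
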