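import Mathlib
import Groth.Prelude.Def_W4c2conddiscmodels
import Groth.Agent.Lib.Helper31.LabTreeA4

set_option autoImplicit false
set_option linter.unusedSectionVars false
universe u v

namespace Groth.Agent.Lib.Helper31.LA

open LabGraph Groth.Agent.Lib.Helper31.LG Groth.Agent.Lib.Helper31.LT Matrix

theorem S13409 {V : Type u} [Fintype V] [DecidableEq V]
    (G : SimpleGraph V) [DecidableRel G.Adj] (hconn : G.Connected) (c : V → Bool)
    (hbip : ∀ v w : V, G.Adj v w → c v ≠ c w) (A : Type v) [AddCommGroup A] (a : V → A)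
    (hsum : ∑ v ∈ Finset.univ.filter (fun v => c v = true), a v =
      ∑ v ∈ Finset.univ.filter (fun v => c v = false), a v) :
    ∃ x : Sym2 V → A, ∀ v : V, ∑ e ∈ G.incidenceFinset v, x e = a v := by
  classical
  set a' : V → A := fun v => if c v = true then -a v else a v with ha'
  have h0 : ∑ v, a' v = 0 := by
    rw [← Finset.sum_filter_add_sum_filter_not Finset.univ (fun v => c v = true)]
    have h1 : ∑ v ∈ Finset.univ.filter (fun v => c v = true), a' v =
        -∑ v ∈ Finset.univ.filter (fun v => c v = true), a v := by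
      rw [← Finset.sum_neg_distrib]
      refine Finset.sum_congr rfl fun v hv => ?_
      simp only [ha', if_pos (Finset.mem_filter.mp hv).2]
    have h2 : ∑ v ∈ Finset.univ.filter (fun v => ¬ c v = true), a' v =
        ∑ v ∈ Finset.univ.filter (fun v => c v = false), a v := by
      have hfilt : Finset.univ.filter (fun v => ¬ c v = true) =
          Finset.univ.filter (fun v => c v = false) := by
        ext v; simp
      rw [hfilt]
      refine Finset.sum_congr rfl fun v hv => ?_
      have : c v = false := (Finset.mem_filter.mp hv).2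
      simp only [ha', this]
      simp
    rw [h1, h2, hsum]
    exact neg_add_cancel _
  obtain ⟨γ, hγ⟩ := exists_bdA_eq (bEnds G c) A (connected_bEnds hbip hconn) a' h0
  refine ⟨symPush γ, fun v => ?_⟩
  rw [sum_incidence_symPush hbip, hγ]
  by_cases hv : c v = true
  · simp [ha', hv]
  · simp [ha', hv]

theorem connected_erase {V : Type u} [Fintype V] [DecidableEq V]
    (G : SimpleGraph V) [DecidableRel G.Adj] (c : V → Bool)
    (hbip : ∀ v w : V, G.Adj v w → c v ≠ c w) (e₀ : Sym2 V)
    (hdel : (G.deleteEdges {e₀}).Connected) (p₀ : BEdge G c) (hp₀ : toSym G c p₀ = e₀) :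
    LabGraph.Connected (V := V)
      (fun e : (Finset.univ.erase p₀ : Finset (BEdge G c)) => bEnds G c e.1) := by
  refine ⟨hdel.nonempty, fun v w => ?_⟩
  have h := (SimpleGraph.reachable_iff_reflTransGen v w).mp (hdel.preconnected v w)
  refine Relation.ReflTransGen.mono ?_ v w h
  intro a b hab
  rw [SimpleGraph.deleteEdges_adj] at hab
  obtain ⟨p, hp, hps⟩ := exists_bEdge_of_adj hbip hab.1
  have hne : p ≠ p₀ := by
    rintro rfl
    apply hab.2
    rw [← hps, hp₀]
    exact Set.mem_singleton _
  exact ⟨⟨p, Finset.mem_erase.mpr ⟨hne, Finset.mem_univ _⟩⟩, hp⟩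

theorem S13410 {V : Type u} [Fintype V]
    [DecidableEq V] (G : SimpleGraph V) [DecidableRel G.Adj] (hconn : G.Connected) (c : V → Bool)
    (hbip : ∀ v w : V, G.Adj v w → c v ≠ c w) (A : Type v) [AddCommGroup A] (e₀ : Sym2 V)
    (he₀ : e₀ ∈ G.edgeSet) (hdel : (G.deleteEdges {e₀}).Connected) :
    ∃ φ : A →+ (Sym2 V → A),
      (∀ a : A, (∀ e : Sym2 V, e ∉ G.edgeSet → φ a e = 0) ∧
        ∀ v : V, ∑ e ∈ G.incidenceFinset v, φ a e = 0) ∧
      ∀ a : A, φ a e₀ = a := by
  classical
  obtain ⟨p₀, hp₀⟩ := exists_toSym_eq hbip e₀ he₀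
  obtain ⟨φ', hφ'1, hφ'2⟩ := exists_cycle_hom (bEnds G c) A p₀
    (connected_erase G c hbip e₀ hdel p₀ hp₀)
  refine ⟨(symPushHom (G := G) (c := c) (A := A)).comp φ', fun a => ⟨fun e he => ?_, fun v => ?_⟩,
    fun a => ?_⟩
  · exact symPush_of_not_mem _ e he
  · have : ((symPushHom (G := G) (c := c) (A := A)).comp φ') a = symPush (φ' a) := rfl
    rw [this, sum_incidence_symPush hbip, hφ'1 a]
    simp
  · have : ((symPushHom (G := G) (c := c) (A := A)).comp φ') a = symPush (φ' a) := rfl
    rw [this, ← hp₀, symPush_toSym hbip, hφ'2]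

theorem card_bEdge {V : Type u} [Fintype V] [DecidableEq V]
    (G : SimpleGraph V) [DecidableRel G.Adj] (c : V → Bool)
    (hbip : ∀ v w : V, G.Adj v w → c v ≠ c w) :
    Fintype.card (BEdge G c) = G.edgeFinset.card := by
  rw [SimpleGraph.edgeFinset_card]
  refine Fintype.card_congr (Equiv.ofBijective (fun p => ⟨toSym G c p, toSym_mem p⟩) ⟨?_, ?_⟩)
  · intro p q h
    exact toSym_injective hbip (congrArg Subtype.val h)
  · rintro ⟨e, he⟩
    obtain ⟨p, hp⟩ := exists_toSym_eq hbip e he
    exact ⟨p, Subtype.ext hp⟩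

theorem S13411 {V : Type u} [Fintype V]
    [DecidableEq V] (G : SimpleGraph V) [DecidableRel G.Adj] (hconn : G.Connected) (c : V → Bool)
    (hbip : ∀ v w : V, G.Adj v w → c v ≠ c w) (A : Type v) [AddCommGroup A] (n : ℕ)
    (hn : G.edgeFinset.card + 1 = Fintype.card V + n) :
    ∃ f : (Fin n → A) →+ (Sym2 V → A), Function.Injective f ∧
      Set.range f = {x : Sym2 V → A | (∀ e : Sym2 V, e ∉ G.edgeSet → x e = 0) ∧
        ∀ v : V, ∑ e ∈ G.incidenceFinset v, x e = 0} := by
  classical
  obtain ⟨F', hF'inj, hF'range⟩ := exists_cycle_iso (bEnds G c) A (connected_bEnds hbip hconn) n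
    (by rw [card_bEdge G c hbip]; exact hn)
  have happ : ∀ y, ((symPushHom (G := G) (c := c) (A := A)).comp F') y = symPush (F' y) :=
    fun y => rfl
  refine ⟨(symPushHom (G := G) (c := c) (A := A)).comp F', ?_, ?_⟩
  · intro y y' h
    rw [happ, happ] at h
    exact hF'inj (symPush_injective hbip h)
  · ext x
    simp only [Set.mem_range, Set.mem_ofPred_eq]
    constructor
    · rintro ⟨y, rfl⟩
      rw [happ]
      refine ⟨fun e he => symPush_of_not_mem _ e he, fun v => ?_⟩
      have hcyc : bdA (bEnds G c) (F' y) = 0 := by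
        have : F' y ∈ Set.range F' := ⟨y, rfl⟩
        rw [hF'range] at this
        exact this
      rw [sum_incidence_symPush hbip, hcyc]
      simp
    · rintro ⟨hx0, hxv⟩
      set γ : BEdge G c → A := fun p => x (toSym G c p) with hγ
      have hxγ : symPush γ = x := by
        funext e
        by_cases he : e ∈ G.edgeSet
        · obtain ⟨p, rfl⟩ := exists_toSym_eq hbip e he
          rw [symPush_toSym hbip]
        · rw [symPush_of_not_mem _ e he, hx0 e he]
      have hcyc : bdA (bEnds G c) γ = 0 := by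
        funext v
        have := hxv v
        rw [← hxγ, sum_incidence_symPush hbip] at this
        by_cases hv : c v = true
        · rw [if_pos hv] at this
          exact neg_eq_zero.mp this
        · rw [if_neg hv] at this
          exact this
      have hmem : γ ∈ Set.range F' := by rw [hF'range]; exact hcyc
      obtain ⟨y, hy⟩ := hmem
      exact ⟨y, by rw [happ, hy, hxγ]⟩

end Groth.Agent.Lib.Helper31.LA
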