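import Mathlib

/-!
# Leading monomial criterion for a subspace to be everything (helper31)
-/

set_option autoImplicit false
set_option linter.unusedSectionVars false

universe u

open MvPolynomial

namespace Groth.Agent.Lib.Helper31.LeadMon

variable {k : Type u} [Field k] {σ : Type*} (mo : MonomialOrder σ)

/-- the span of the monomials with exponents in `E` -/
noncomputable def monSpan (k : Type u) [Field k] {σ : Type*} (E : Set (σ →₀ ℕ)) :
    Submodule k (MvPolynomial σ k) :=
  Submodule.span k {f | ∃ e ∈ E, f = monomial e 1}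

theorem support_subset_of_mem_monSpan (E : Set (σ →₀ ℕ)) (f : MvPolynomial σ k)
    (hf : f ∈ monSpan k E) : (f.support : Set (σ →₀ ℕ)) ⊆ E := by
  classical
  unfold monSpan at hf
  induction hf using Submodule.span_induction with
  | mem x hx =>
    obtain ⟨e, he, rfl⟩ := hx
    intro d hd
    rw [Finset.mem_coe, support_monomial] at hd
    simp only [one_ne_zero, if_false, Finset.mem_singleton] at hd
    rw [hd]; exact he
  | zero => simp
  | add x y _ _ hx hy =>
    intro d hd
    have := MvPolynomial.support_add hd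
    rw [Finset.mem_union] at this
    rcases this with h | h
    · exact hx h
    · exact hy h
  | smul c x _ hx =>
    intro d hd
    exact hx (MvPolynomial.support_smul hd)

theorem reduce_lt (f p : MvPolynomial σ k) (hp : p ≠ 0)
    (hdeg : mo.degree p = mo.degree f) :
    f - (mo.leadingCoeff f / mo.leadingCoeff p) • p = 0 ∨
      mo.toSyn (mo.degree (f - (mo.leadingCoeff f / mo.leadingCoeff p) • p)) <
        mo.toSyn (mo.degree f) := by
  set g := f - (mo.leadingCoeff f / mo.leadingCoeff p) • p with hg
  by_cases hg0 : g = 0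
  · exact Or.inl hg0
  right
  have hlc : mo.leadingCoeff p ≠ 0 := mo.leadingCoeff_ne_zero_iff.mpr hp
  have hle : mo.toSyn (mo.degree g) ≤ mo.toSyn (mo.degree f) := by
    apply le_trans mo.degree_sub_le
    rw [sup_le_iff]
    refine ⟨le_rfl, ?_⟩
    apply le_trans mo.degree_smul_le
    rw [hdeg]
  rcases lt_or_eq_of_le hle with h | h
  · exact h
  exfalso
  have h' : mo.degree g = mo.degree f := mo.toSyn.injective h
  have hc : g.coeff (mo.degree f) = 0 := by
    rw [hg, coeff_sub, coeff_smul, smul_eq_mul]
    have h1 : p.coeff (mo.degree f) = mo.leadingCoeff p := by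
      rw [← hdeg]; rfl
    have h2 : f.coeff (mo.degree f) = mo.leadingCoeff f := rfl
    rw [h1, h2, div_mul_cancel₀ _ hlc, sub_self]
  rw [← h'] at hc
  exact hg0 (mo.leadingCoeff_eq_zero_iff.mp hc)

/-- a subspace of `monSpan E` containing, for each `e ∈ E`, a nonzero element with leading
monomial `e`, is all of `monSpan E` -/
theorem monSpan_le (E : Set (σ →₀ ℕ)) (P : Submodule k (MvPolynomial σ k))
    (hPT : P ≤ monSpan k E)
    (hlead : ∀ e ∈ E, ∃ p ∈ P, p ≠ 0 ∧ mo.degree p = e) : monSpan k E ≤ P := by
  intro f hf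
  induction' h : mo.toSyn (mo.degree f) using WellFoundedLT.induction with s ih generalizing f
  by_cases hf0 : f = 0
  · rw [hf0]; exact P.zero_mem
  have hsupp := support_subset_of_mem_monSpan E f hf
  have hdegE : mo.degree f ∈ E := hsupp (Finset.mem_coe.mpr (mo.degree_mem_support hf0))
  obtain ⟨p, hpP, hp0, hpdeg⟩ := hlead _ hdegE
  set g := f - (mo.leadingCoeff f / mo.leadingCoeff p) • p with hg
  have hgT : g ∈ monSpan k E :=
    Submodule.sub_mem _ hf (Submodule.smul_mem _ _ (hPT hpP))
  have hfg : f = g + (mo.leadingCoeff f / mo.leadingCoeff p) • p := by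
    rw [hg]; ring
  rcases reduce_lt mo f p hp0 hpdeg with h0 | hlt
  · have hg0 : g = 0 := h0
    rw [hfg, hg0, zero_add]
    exact P.smul_mem _ hpP
  · have hgP : g ∈ P := ih _ (h ▸ hlt) hgT rfl
    rw [hfg]
    exact P.add_mem hgP (P.smul_mem _ hpP)

end Groth.Agent.Lib.Helper31.LeadMon
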