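import Mathlib
import Groth.Agent.Lib.Helper31.LeadMon

/-!
# The c-generation criterion on the Cox ring of F₁ (helper31, S17658)
-/

set_option autoImplicit false
set_option linter.unusedSectionVars false

universe u

open MvPolynomial

namespace Groth.Agent.Lib.Helper31.LeadMon

variable {k : Type u} [Field k]

/-- exponents of bidegree `(a, b)` -/
def E (a b : ℕ) : Set (Fin 4 →₀ ℕ) := {e | e 2 + e 3 = a ∧ e 0 + e 1 = b + e 2}

theorem span_eq_monSpan (a b : ℕ) :
    Submodule.span k {f : MvPolynomial (Fin 4) k | ∃ e : Fin 4 →₀ ℕ, e 2 + e 3 = a ∧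
      e 0 + e 1 = b + e 2 ∧ f = MvPolynomial.monomial e 1} = monSpan k (E a b) := by
  unfold monSpan
  congr 1
  ext f
  constructor
  · rintro ⟨e, h1, h2, h3⟩
    exact ⟨e, ⟨h1, h2⟩, h3⟩
  · rintro ⟨e, ⟨h1, h2⟩, h3⟩
    exact ⟨e, h1, h2, h3⟩

theorem monSpan_mul_le (a b c : ℕ) :
    monSpan k (E a b) * monSpan k (E 0 c) ≤ monSpan k (E a (b + c)) := by
  unfold monSpan
  rw [Submodule.span_mul_span, Submodule.span_le]
  rintro _ ⟨x, ⟨e1, he1, rfl⟩, y, ⟨e2, he2, rfl⟩, rfl⟩
  apply Submodule.subset_span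
  refine ⟨e1 + e2, ?_, ?_⟩
  · obtain ⟨h1, h2⟩ := he1
    obtain ⟨h3, h4⟩ := he2
    constructor
    · simp only [Finsupp.add_apply]; omega
    · simp only [Finsupp.add_apply]; omega
  · simp [monomial_mul]

theorem fin4_ext (e e' : Fin 4 →₀ ℕ) (h0 : e 0 = e' 0) (h1 : e 1 = e' 1) (h2 : e 2 = e' 2)
    (h3 : e 3 = e' 3) : e = e' := by
  ext x
  fin_cases x
  · exact h0
  · exact h1
  · exact h2
  · exact h3

theorem main (mo : MonomialOrder (Fin 4)) (a b c : ℕ) (W : Submodule k (MvPolynomial (Fin 4) k))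
    (hW : W ≤ monSpan k (E a b))
    (h₁ : ∀ i j : ℕ, i ≤ a → j * (c + 1) < b + i → ∃ w ∈ W, w ≠ 0 ∧
      mo.degree w = Finsupp.single 0 (b + i - j * (c + 1)) + Finsupp.single 1 (j * (c + 1)) +
        Finsupp.single 2 i + Finsupp.single 3 (a - i))
    (h₂ : ∀ i : ℕ, i ≤ a → ∃ w ∈ W, w ≠ 0 ∧
      mo.degree w = Finsupp.single 1 (b + i) + Finsupp.single 2 i + Finsupp.single 3 (a - i)) :
    W * monSpan k (E 0 c) = monSpan k (E a (b + c)) := by
  classical
  have hle : W * monSpan k (E 0 c) ≤ monSpan k (E a (b + c)) :=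
    le_trans (mul_le_mul' hW le_rfl) (monSpan_mul_le a b c)
  apply le_antisymm hle
  apply monSpan_le mo _ _ hle
  intro e he
  obtain ⟨he1, he2⟩ := he
  set i := e 2 with hi
  have hia : i ≤ a := by omega
  set j := e 1 / (c + 1) with hj
  set r := e 1 % (c + 1) with hr
  have hjr : e 1 = j * (c + 1) + r := by
    rw [hj, hr, mul_comm]; exact (Nat.div_add_mod _ _).symm
  have hrc : r ≤ c := Nat.lt_succ_iff.mp (Nat.mod_lt (e 1) (Nat.succ_pos c))
  by_cases hcase : j * (c + 1) < b + i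
  · obtain ⟨w, hwW, hw0, hwdeg⟩ := h₁ i j hia hcase
    let e'' : Fin 4 →₀ ℕ := Finsupp.single 0 (c - r) + Finsupp.single 1 r
    have he'' : e'' ∈ E 0 c := by
      constructor
      · simp [e'']
      · simp [e'']; omega
    refine ⟨w * monomial e'' 1, ?_, ?_, ?_⟩
    · apply Submodule.mul_mem_mul hwW
      exact Submodule.subset_span ⟨e'', he'', rfl⟩
    · exact mul_ne_zero hw0 (by simp)
    · rw [mo.degree_mul hw0 (by simp), hwdeg, mo.degree_monomial, if_neg one_ne_zero]
      apply fin4_ext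
      · simp [e'']; omega
      · simp [e'']; omega
      · simp [e'']; omega
      · simp [e'']; omega
  · push Not at hcase
    obtain ⟨w, hwW, hw0, hwdeg⟩ := h₂ i hia
    let e'' : Fin 4 →₀ ℕ := Finsupp.single 0 (e 0) + Finsupp.single 1 (e 1 - (b + i))
    have he'' : e'' ∈ E 0 c := by
      constructor
      · simp [e'']
      · simp [e'']; omega
    refine ⟨w * monomial e'' 1, ?_, ?_, ?_⟩
    · apply Submodule.mul_mem_mul hwW
      exact Submodule.subset_span ⟨e'', he'', rfl⟩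
    · exact mul_ne_zero hw0 (by simp)
    · rw [mo.degree_mul hw0 (by simp), hwdeg, mo.degree_monomial, if_neg one_ne_zero]
      apply fin4_ext
      · simp [e'']
      · simp [e'']; omega
      · simp [e'']; omega
      · simp [e'']; omega

end Groth.Agent.Lib.Helper31.LeadMon
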