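import Mathlib

set_option autoImplicit false
set_option linter.unusedSectionVars false

namespace Groth.Agent.Lib.Helper31.LexCone

open RootPairing

variable {ι M N : Type*} [AddCommGroup M] [AddCommGroup N]
    (P : RootPairing ι ℤ M N) [Finite ι] (b : P.Base)

/-- height on the root lattice -/
noncomputable def ht : P.rootSpan ℤ →+ ℤ where
  toFun x := ∑ j, b.toWeightBasisInt.repr x j
  map_zero' := by simp
  map_add' x y := by simp [Finset.sum_add_distrib]

/-- lexicographic coordinates: height first, then basis coordinates -/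
noncomputable def v : P.rootSpan ℤ →+ Lex (Fin (b.support.card + 1) → ℤ) where
  toFun x := toLex (Fin.cons (ht P b x)
    (fun m => b.toWeightBasisInt.repr x (b.support.equivFin.symm m)))
  map_zero' := by
    apply congrArg toLex
    funext m
    refine Fin.cases ?_ (fun m => ?_) m <;> simp
  map_add' x y := by
    rw [← toLex_add]
    apply congrArg toLex
    funext m
    refine Fin.cases ?_ (fun m => ?_) m <;> simp

lemma v_zero (x : P.rootSpan ℤ) : (v P b x) 0 = ht P b x := rfl

lemma v_succ (x : P.rootSpan ℤ) (m : Fin b.support.card) :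
    (v P b x) m.succ = b.toWeightBasisInt.repr x (b.support.equivFin.symm m) := rfl

lemma v_injective : Function.Injective (v P b) := by
  rw [injective_iff_map_eq_zero]
  intro x hx
  apply b.toWeightBasisInt.repr.injective
  rw [map_zero]
  ext j
  have := congrFun hx (b.support.equivFin j).succ
  rw [v_succ] at this
  have h0 : (0 : Lex (Fin (b.support.card + 1) → ℤ)) (b.support.equivFin j).succ = 0 := rfl
  rw [h0] at this
  simpa using this

lemma v_pos_of_ht_pos (x : P.rootSpan ℤ) (h : 0 < ht P b x) : 0 < v P b x :=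
  ⟨0, fun j hj => absurd hj (Fin.not_lt_zero j), h⟩

lemma ht_nonneg_of_v_pos (x : P.rootSpan ℤ) (h : 0 < v P b x) : 0 ≤ ht P b x := by
  have := Pi.apply_le_of_toLex (x := (0 : Fin (b.support.card + 1) → ℤ))
    (y := ofLex (v P b x)) (i := 0) h.le (fun j hj => absurd hj (Fin.not_lt_zero j))
  exact this

lemma toWeightBasisInt_eq (j : b.support) : b.toWeightBasisInt j = P.rootSpanMem ℤ j :=
  Subtype.ext (b.coe_toWeightBasisInt_apply j)

lemma ht_root (i : ι) : ht P b (P.rootSpanMem ℤ i) = b.height i := by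
  classical
  set x := P.rootSpanMem ℤ i with hx
  have h1 : P.root i = ∑ j ∈ b.support,
      (fun j : ι => if h : j ∈ b.support then b.toWeightBasisInt.repr x ⟨j, h⟩ else 0) j •
        P.root j := by
    have h2 := congrArg (Subtype.val) (b.toWeightBasisInt.sum_repr x)
    rw [AddSubmonoidClass.coe_finsetSum] at h2
    rw [← Finset.sum_coe_sort]
    have : (x : M) = P.root i := rfl
    rw [← this, ← h2]
    refine Finset.sum_congr rfl fun j _ => ?_
    simp
  rw [RootPairing.Base.height_eq_sum h1, ← Finset.sum_coe_sort]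
  simp [ht]

lemma phi_eq_ht (φ : P.rootSpan ℤ →+ ℤ)
    (hφ : ∀ j ∈ b.support, φ (P.rootSpanMem ℤ j) = 1) (x : P.rootSpan ℤ) :
    φ x = ht P b x := by
  conv_lhs => rw [← b.toWeightBasisInt.sum_repr x]
  rw [map_sum]
  simp only [ht]
  change _ = ∑ j, b.toWeightBasisInt.repr x j
  refine Finset.sum_congr rfl fun j _ => ?_
  rw [map_zsmul, toWeightBasisInt_eq, hφ j j.2]
  simp

theorem main :
    ∃ C : Set ↥(Submodule.span ℤ (Set.range P.root)),
      0 ∉ C ∧ (∀ x ∈ C, ∀ y ∈ C, x + y ∈ C) ∧ (∀ x, x ≠ 0 → (x ∈ C ∨ -x ∈ C)) ∧ (∀ x ∈ C, -x ∉ C) ∧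
      (∀ i : ι, (⟨P.root i, Submodule.subset_span (Set.mem_range_self i)⟩ : ↥(Submodule.span ℤ (Set.range P.root))) ∈ C ↔
        b.IsPos i) ∧
      ∀ φ : ↥(Submodule.span ℤ (Set.range P.root)) →+ ℤ,
        (∀ j ∈ b.support, φ ⟨P.root j, Submodule.subset_span (Set.mem_range_self j)⟩ = 1) →
        ∀ x y : ↥(Submodule.span ℤ (Set.range P.root)), y - x ∈ C → φ x ≤ φ y := by
  refine ⟨{x | 0 < v P b x}, ?_, ?_, ?_, ?_, ?_, ?_⟩
  · simp only [Set.mem_ofPred_eq, map_zero]
    exact lt_irrefl _
  · intro x hx y hy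
    simp only [Set.mem_ofPred_eq, map_add] at hx hy ⊢
    exact add_pos hx hy
  · intro x hx
    have hv : v P b x ≠ 0 := fun h => hx (v_injective P b (by rw [h, map_zero]))
    rcases lt_or_gt_of_ne hv with h | h
    · right
      simp only [Set.mem_ofPred_eq, map_neg]
      exact neg_pos.mpr h
    · left
      exact h
  · intro x hx hx'
    simp only [Set.mem_ofPred_eq, map_neg] at hx hx'
    exact lt_asymm hx (neg_pos.mp hx')
  · intro i
    constructor
    · intro h
      have h1 := ht_nonneg_of_v_pos P b _ h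
      rw [show (⟨P.root i, Submodule.subset_span (Set.mem_range_self i)⟩ :
        ↥(Submodule.span ℤ (Set.range P.root))) = P.rootSpanMem ℤ i from rfl, ht_root] at h1
      exact b.isPos_iff'.mpr h1
    · intro h
      apply v_pos_of_ht_pos
      rw [show (⟨P.root i, Submodule.subset_span (Set.mem_range_self i)⟩ :
        ↥(Submodule.span ℤ (Set.range P.root))) = P.rootSpanMem ℤ i from rfl, ht_root]
      exact h
  · intro φ hφ x y hxy
    have h1 := ht_nonneg_of_v_pos P b _ hxy
    rw [← phi_eq_ht P b φ hφ, map_sub] at h1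
    linarith

end Groth.Agent.Lib.Helper31.LexCone
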