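import Mathlib

/-!
# Highest weight vectors in a simple Lie algebra with a Chevalley-type basis (helper31)

For a nonzero vector `x` of weight `μ` killed by all `e i`, the `f`-span of `x` is an ideal, hence
everything, so that all weights of `L` are of the form `μ - ∑ n i • α i`.
-/

set_option autoImplicit false
set_option linter.unusedSectionVars false

universe u v w

open LieAlgebra LieModule

namespace Groth.Agent.Lib.Helper31.LieHW

variable {ι : Type u} {K : Type v} {L : Type w} [Fintype ι] [Field K] [CharZero K]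
    [IsAlgClosed K] [LieRing L] [LieAlgebra K L] [FiniteDimensional K L]
    {H : LieSubalgebra K L} [H.IsCartanSubalgebra] (b : LieAlgebra.Basis ι H)

/-- the smallest subspace containing `x` and stable under all `ad (f i)` -/
def fSpan (x : L) : Submodule K L :=
  sInf {S | x ∈ S ∧ ∀ i, ∀ v ∈ S, ⁅b.f i, v⁆ ∈ S}

theorem mem_fSpan (x : L) : x ∈ fSpan b x := by
  unfold fSpan
  rw [Submodule.mem_sInf]
  intro S hS
  exact hS.1

theorem lie_f_mem_fSpan (x : L) (i : ι) (v : L) (hv : v ∈ fSpan b x) : ⁅b.f i, v⁆ ∈ fSpan b x := by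
  unfold fSpan at hv ⊢
  rw [Submodule.mem_sInf] at hv ⊢
  intro S hS
  exact hS.2 i v (hv S hS)

theorem fSpan_le (x : L) (T : Submodule K L) (hx : x ∈ T)
    (hT : ∀ i, ∀ v ∈ T, ⁅b.f i, v⁆ ∈ T) : fSpan b x ≤ T :=
  sInf_le ⟨hx, hT⟩

theorem h_mem (i : ι) : b.h i ∈ H := (b.h' i).2

theorem lie_h_f (i : ι) (h : L) (hh : h ∈ H) : ⁅h, b.f i⁆ = -(b.baseSupp i ⟨h, hh⟩ • b.f i) := by
  have := b.baseSupp_apply_smul_f i ⟨h, hh⟩
  rw [this, neg_neg]
  rfl

theorem lie_h_e (i : ι) (h : L) (hh : h ∈ H) : ⁅h, b.e i⁆ = b.baseSupp i ⟨h, hh⟩ • b.e i := by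
  have := b.baseSupp_apply_smul_e i ⟨h, hh⟩
  rw [this]
  rfl

/-- stability of `fSpan` under `e j` and `H` for a primitive weight vector -/
theorem fSpan_stable (x : L) (μ : Module.Dual K H)
    (hx : ∀ h : H, ⁅(h : L), x⁆ = μ h • x) (he : ∀ i, ⁅b.e i, x⁆ = 0) :
    ∀ v ∈ fSpan b x, (∀ j, ⁅b.e j, v⁆ ∈ fSpan b x) ∧ (∀ h ∈ H, ⁅h, v⁆ ∈ fSpan b x) := by
  classical
  let T : Submodule K L :=
    { carrier := {v | v ∈ fSpan b x ∧ (∀ j, ⁅b.e j, v⁆ ∈ fSpan b x) ∧
        (∀ h ∈ H, ⁅h, v⁆ ∈ fSpan b x)}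
      add_mem' := by
        rintro v w ⟨hv1, hv2, hv3⟩ ⟨hw1, hw2, hw3⟩
        refine ⟨Submodule.add_mem _ hv1 hw1, fun j => ?_, fun h hh => ?_⟩
        · rw [lie_add]; exact Submodule.add_mem _ (hv2 j) (hw2 j)
        · rw [lie_add]; exact Submodule.add_mem _ (hv3 h hh) (hw3 h hh)
      zero_mem' := by
        refine ⟨Submodule.zero_mem _, fun j => ?_, fun h hh => ?_⟩
        · rw [lie_zero]; exact Submodule.zero_mem _
        · rw [lie_zero]; exact Submodule.zero_mem _
      smul_mem' := by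
        rintro c v ⟨hv1, hv2, hv3⟩
        refine ⟨Submodule.smul_mem _ c hv1, fun j => ?_, fun h hh => ?_⟩
        · rw [lie_smul]; exact Submodule.smul_mem _ c (hv2 j)
        · rw [lie_smul]; exact Submodule.smul_mem _ c (hv3 h hh) }
  have hxT : x ∈ T := by
    refine ⟨mem_fSpan b x, fun j => ?_, fun h hh => ?_⟩
    · rw [he j]; exact Submodule.zero_mem _
    · have := hx ⟨h, hh⟩
      simp only at this
      rw [this]
      exact Submodule.smul_mem _ _ (mem_fSpan b x)
  have hT : ∀ i, ∀ v ∈ T, ⁅b.f i, v⁆ ∈ T := by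
    rintro i v ⟨hv1, hv2, hv3⟩
    refine ⟨lie_f_mem_fSpan b x i v hv1, fun j => ?_, fun h hh => ?_⟩
    · rw [leibniz_lie]
      apply Submodule.add_mem
      · by_cases hji : j = i
        · subst hji
          rw [(b.sl2 j).lie_e_f]
          exact hv3 _ (h_mem b j)
        · rw [b.lie_e_f_ne j i hji, zero_lie]
          exact Submodule.zero_mem _
      · exact lie_f_mem_fSpan b x i _ (hv2 j)
    · rw [leibniz_lie]
      apply Submodule.add_mem
      · rw [lie_h_f b i h hh, neg_lie, smul_lie]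
        exact Submodule.neg_mem _ (Submodule.smul_mem _ _ (lie_f_mem_fSpan b x i v hv1))
      · exact lie_f_mem_fSpan b x i _ (hv3 h hh)
  intro v hv
  exact (fSpan_le b x T hxT hT hv).2

/-- the normaliser-type subalgebra of a subspace -/
def stab (V : Submodule K L) : LieSubalgebra K L :=
  { carrier := {y | ∀ v ∈ V, ⁅y, v⁆ ∈ V}
    add_mem' := by
      intro y z hy hz v hv
      rw [add_lie]; exact V.add_mem (hy v hv) (hz v hv)
    zero_mem' := by
      intro v _
      rw [zero_lie]; exact V.zero_mem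
    smul_mem' := by
      intro c y hy v hv
      rw [smul_lie]; exact V.smul_mem c (hy v hv)
    lie_mem' := by
      intro y z hy hz v hv
      rw [lie_lie]
      exact V.sub_mem (hy _ (hz v hv)) (hz _ (hy v hv)) }

theorem mem_stab (V : Submodule K L) (y : L) : y ∈ stab V ↔ ∀ v ∈ V, ⁅y, v⁆ ∈ V := Iff.rfl

/-- `fSpan` of a primitive weight vector is stable under all of `L` -/
theorem fSpan_ideal (x : L) (μ : Module.Dual K H)
    (hx : ∀ h : H, ⁅(h : L), x⁆ = μ h • x) (he : ∀ i, ⁅b.e i, x⁆ = 0) :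
    ∀ y : L, ∀ v ∈ fSpan b x, ⁅y, v⁆ ∈ fSpan b x := by
  have hle : LieSubalgebra.lieSpan K L (Set.range b.e ∪ Set.range b.f) ≤ stab (fSpan b x) := by
    rw [LieSubalgebra.lieSpan_le]
    rintro y (⟨i, rfl⟩ | ⟨i, rfl⟩)
    · intro v hv
      exact (fSpan_stable b x μ hx he v hv).1 i
    · intro v hv
      exact lie_f_mem_fSpan b x i v hv
  rw [b.span_ef] at hle
  intro y
  exact hle (LieSubalgebra.mem_top y)

variable [LieAlgebra.IsSimple K L]

theorem fSpan_eq_top (x : L) (hx0 : x ≠ 0) (μ : Module.Dual K H)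
    (hx : ∀ h : H, ⁅(h : L), x⁆ = μ h • x) (he : ∀ i, ⁅b.e i, x⁆ = 0) :
    fSpan b x = ⊤ := by
  let I : LieIdeal K L :=
    { fSpan b x with
      lie_mem := by
        intro y v hv
        exact fSpan_ideal b x μ hx he y v hv }
  have hI : (I : Submodule K L) = fSpan b x := rfl
  rcases LieAlgebra.IsSimple.eq_bot_or_eq_top I with h | h
  · exfalso
    apply hx0
    have : x ∈ I := mem_fSpan b x
    rw [h] at this
    exact (LieSubmodule.mem_bot x).mp this
  · rw [← hI, h]
    rfl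


omit [IsSimple K L] in
theorem f_mem_rootSpace (i : ι) : b.f i ∈ rootSpace H (-⇑(b.baseSupp i)) := by
  rw [LieModule.mem_genWeightSpace]
  rintro ⟨z, hz⟩
  refine ⟨1, ?_⟩
  rw [pow_one, LinearMap.sub_apply, LinearMap.smul_apply, Module.End.one_apply]
  change ⁅z, b.f i⁆ - _ = 0
  rw [lie_h_f b i z hz]
  simp

omit [IsSimple K L] in
theorem e_mem_rootSpace (i : ι) : b.e i ∈ rootSpace H (⇑(b.baseSupp i)) := by
  rw [LieModule.mem_genWeightSpace]
  rintro ⟨z, hz⟩
  refine ⟨1, ?_⟩
  rw [pow_one, LinearMap.sub_apply, LinearMap.smul_apply, Module.End.one_apply]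
  change ⁅z, b.e i⁆ - _ = 0
  rw [lie_h_e b i z hz]
  simp

/-- the weight `μ - ∑ n i • α i` as a function -/
noncomputable def wt (μ : Module.Dual K H) (n : ι → ℕ) : Module.Dual K H :=
  μ - ∑ i, n i • b.baseSupp i

omit [IsSimple K L] in
theorem fSpan_le_iSup (x : L) (μ : Module.Dual K H) (hxμ : x ∈ rootSpace H ⇑μ) :
    fSpan b x ≤ ⨆ n : ι → ℕ, (rootSpace H (⇑(wt b μ n)) : Submodule K L) := by
  classical
  apply fSpan_le
  · apply Submodule.mem_iSup_of_mem (0 : ι → ℕ)
    have : wt b μ 0 = μ := by simp [wt]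
    rw [this]
    exact hxμ
  · intro i v hv
    induction hv using Submodule.iSup_induction' with
    | mem n v hv =>
      apply Submodule.mem_iSup_of_mem (n + Pi.single i 1)
      have h1 := lie_mem_genWeightSpace_of_mem_genWeightSpace (f_mem_rootSpace b i) hv
      have h2 : -⇑(b.baseSupp i) + ⇑(wt b μ n) = ⇑(wt b μ (n + Pi.single i 1)) := by
        ext h
        simp only [wt, Pi.add_apply, Pi.neg_apply, LinearMap.sub_apply, LinearMap.sum_apply,
          LinearMap.add_apply, LinearMap.smul_apply, add_smul, Finset.sum_add_distrib]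
        have : ∑ k, (Pi.single i 1 : ι → ℕ) k • (b.baseSupp k) h = (b.baseSupp i) h := by
          rw [Finset.sum_eq_single i]
          · simp
          · intro k _ hk
            simp [Pi.single_apply, hk]
          · intro h; exact absurd (Finset.mem_univ i) h
        rw [this]
        ring
      rw [← h2]
      exact h1
    | zero => simp
    | add v w _ _ hv hw =>
      rw [lie_add]
      exact Submodule.add_mem _ hv hw

/-- **all weights lie below the weight of a primitive vector** -/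
theorem exists_eq_wt (x : L) (hx0 : x ≠ 0) (μ : Module.Dual K H) (hxμ : x ∈ rootSpace H ⇑μ)
    (he : ∀ i, ⁅b.e i, x⁆ = 0) (χ : H → K) (hχ : rootSpace H χ ≠ ⊥) :
    ∃ n : ι → ℕ, χ = ⇑(wt b μ n) := by
  have hx : ∀ h : H, ⁅(h : L), x⁆ = μ h • x := fun h =>
    LieAlgebra.IsKilling.lie_eq_smul_of_mem_rootSpace hxμ h
  have htop := fSpan_eq_top b x hx0 μ hx he
  have hle := fSpan_le_iSup b x μ hxμ
  rw [htop] at hle
  have hs : ⨆ α ∈ Set.range (fun n : ι → ℕ => (⇑(wt b μ n) : H → K)), rootSpace H α = ⊤ := by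
    rw [iSup_range]
    rw [← LieSubmodule.toSubmodule_inj, LieSubmodule.iSup_toSubmodule,
      LieSubmodule.top_toSubmodule]
    exact top_le_iff.mp hle
  have := (LieModule.iSupIndep_genWeightSpace K H L).mem_of_biSup_eq_top hs hχ
  obtain ⟨n, hn⟩ := this
  exact ⟨n, hn.symm⟩

end Groth.Agent.Lib.Helper31.LieHW
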