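import Mathlib
import Groth.Agent.Lib.Helper31.Lie1

/-!
# The highest root: uniqueness, weights below it, root strings at the top (helper31)
-/

set_option autoImplicit false
set_option linter.unusedSectionVars false

universe u v w

open LieAlgebra LieModule LieAlgebra.IsKilling

namespace Groth.Agent.Lib.Helper31.LieHW

variable {ι : Type u} {K : Type v} {L : Type w} [Fintype ι] [Field K] [CharZero K]
    [IsAlgClosed K] [LieRing L] [LieAlgebra K L] [FiniteDimensional K L]
    {H : LieSubalgebra K L} [H.IsCartanSubalgebra] (b : LieAlgebra.Basis ι H)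

/-- injectivity of integer combinations of simple roots -/
theorem zcomb_injective (n m : ι → ℤ)
    (h : ∑ i, (n i : K) • b.baseSupp i = ∑ i, (m i : K) • b.baseSupp i) : n = m := by
  have hli := b.linearIndependent_baseSupp
  rw [Fintype.linearIndependent_iff] at hli
  have h0 : ∑ i, ((n i : K) - (m i : K)) • b.baseSupp i = 0 := by
    rw [Finset.sum_congr rfl (fun i _ => sub_smul (n i : K) (m i : K) (b.baseSupp i)),
      Finset.sum_sub_distrib, h, sub_self]
  funext i
  have := hli _ h0 i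
  have h2 : ((n i : ℤ) : K) = ((m i : ℤ) : K) := sub_eq_zero.mp this
  exact_mod_cast h2

theorem wt_eq (μ : Module.Dual K H) (n : ι → ℕ) :
    wt b μ n = μ - ∑ i, ((n i : ℤ) : K) • b.baseSupp i := by
  unfold wt
  congr 1
  apply Finset.sum_congr rfl
  intro i _
  rw [Int.cast_natCast, Nat.cast_smul_eq_nsmul]

theorem wt_injective (μ : Module.Dual K H) (n m : ι → ℕ) (h : wt b μ n = wt b μ m) : n = m := by
  rw [wt_eq, wt_eq] at h
  have h' := sub_right_injective h
  have := zcomb_injective b (fun i => (n i : ℤ)) (fun i => (m i : ℤ)) h'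
  funext i
  exact_mod_cast congrFun this i

theorem wt_zero (μ : Module.Dual K H) : wt b μ 0 = μ := by simp [wt]

theorem wt_add (μ : Module.Dual K H) (n m : ι → ℕ) : wt b μ (n + m) = wt b (wt b μ n) m := by
  simp only [wt, Pi.add_apply, add_smul, Finset.sum_add_distrib]
  abel

theorem wt_single (μ : Module.Dual K H) (i : ι) [DecidableEq ι] :
    wt b μ (Pi.single i 1) = μ - b.baseSupp i := by
  unfold wt
  congr 1
  rw [Finset.sum_eq_single i]
  · simp
  · intro k _ hk
    simp [Pi.single_apply, hk]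
  · intro h; exact absurd (Finset.mem_univ i) h

variable [LieAlgebra.IsSimple K L]

section Rho

variable (ρ : Module.Dual K H) (hρ : rootSpace H ρ ≠ ⊥)
  (htop : ∀ i, rootSpace H (ρ + b.baseSupp i) = ⊥)

include hρ htop

/-- a highest weight vector -/
theorem exists_hwv : ∃ y : L, y ≠ 0 ∧ y ∈ rootSpace H ρ ∧ ∀ i, ⁅b.e i, y⁆ = 0 := by
  have hρ' := hρ
  rw [Ne, LieSubmodule.eq_bot_iff] at hρ'
  push Not at hρ'
  obtain ⟨y, hy, hy0⟩ := hρ'
  refine ⟨y, hy0, hy, fun i => ?_⟩
  have h1 := lie_mem_genWeightSpace_of_mem_genWeightSpace (e_mem_rootSpace b i) hy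
  have h2 : (⇑(b.baseSupp i) + ⇑ρ : H → K) = ⇑ρ + ⇑(b.baseSupp i) := add_comm _ _
  rw [h2] at h1
  have h4 : ⁅b.e i, y⁆ ∈ rootSpace H (⇑ρ + ⇑(b.baseSupp i)) := h1
  rw [htop i] at h4
  exact (LieSubmodule.mem_bot _).mp h4

/-- every weight of `L` lies below `ρ` -/
theorem exists_eq_wt_rho (χ : H → K) (hχ : rootSpace H χ ≠ ⊥) :
    ∃ n : ι → ℕ, χ = ⇑(wt b ρ n) := by
  obtain ⟨y, hy0, hy, hye⟩ := exists_hwv b ρ hρ htop
  exact exists_eq_wt b y hy0 ρ hy hye χ hχ

/-- a nonzero primitive weight vector has weight `ρ` -/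
theorem primitive_weight (x : L) (hx0 : x ≠ 0) (n : ι → ℕ) (hx : x ∈ rootSpace H ⇑(wt b ρ n))
    (he : ∀ i, ⁅b.e i, x⁆ = 0) : n = 0 := by
  obtain ⟨m, hm⟩ := exists_eq_wt b x hx0 (wt b ρ n) hx he ρ hρ
  have h1 : ρ = wt b (wt b ρ n) m := by
    apply LinearMap.ext
    intro h
    exact congrFun hm h
  rw [← wt_add] at h1
  have h2 : wt b ρ 0 = wt b ρ (n + m) := by rw [wt_zero]; exact h1
  have h3 := wt_injective b ρ _ _ h2
  funext i
  have := congrFun h3 i
  simp only [Pi.zero_apply, Pi.add_apply] at this ⊢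
  omega

end Rho

/-- root strings through a weight in a simple direction -/
theorem chain (χ : Weight K H L) (i : ι) : ∃ top bot : ℕ,
    χ (b.h' i) = (bot : K) - (top : K) ∧
    ∀ n : ℤ, rootSpace H (n • ⇑(b.baseSupp i) + ⇑χ) ≠ ⊥ ↔ n ≤ top ∧ -n ≤ bot := by
  let α : Weight K H L := (b.baseSupp' i).1
  have hα : α.IsNonZero := H.isNonZero_coe_root (b.baseSupp' i)
  refine ⟨chainTopCoeff α χ, chainBotCoeff α χ, ?_, fun n => ?_⟩
  · have h1 := apply_coroot_eq_cast α χ
    have h2 : coroot α = b.h' i := b.coroot_eq_h' i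
    rw [h2] at h1
    rw [h1]
    push_cast
    ring
  · exact rootSpace_zsmul_add_ne_bot_iff α χ hα n

/-- function-level version of `chain` -/
theorem chain' (χ : Module.Dual K H) (hχ : rootSpace H χ ≠ ⊥) (i : ι) : ∃ top bot : ℕ,
    χ (b.h' i) = (bot : K) - (top : K) ∧
    ∀ n : ℤ, rootSpace H ⇑(χ + (n : K) • b.baseSupp i) ≠ ⊥ ↔ n ≤ top ∧ -n ≤ bot := by
  obtain ⟨top, bot, h1, h2⟩ := chain b (⟨⇑χ, hχ⟩ : Weight K H L) i
  refine ⟨top, bot, h1, fun n => ?_⟩
  rw [← h2 n]
  have : (⇑(χ + (n : K) • b.baseSupp i) : H → K) = n • ⇑(b.baseSupp i) + ⇑χ := by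
    ext h
    simp [add_comm]
  rw [this]
  rfl

end Groth.Agent.Lib.Helper31.LieHW
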