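import Mathlib
import Groth.Agent.Lib.Helper31.Lie2

/-!
# Root strings at the highest root, and descent of weight vectors in Borel-stable subspaces
(helper31)
-/

set_option autoImplicit false
set_option linter.unusedSectionVars false

universe u v w

open LieAlgebra LieModule LieAlgebra.IsKilling

namespace Groth.Agent.Lib.Helper31.LieHW

variable {ι : Type u} {K : Type v} {L : Type w} [Fintype ι] [Field K] [CharZero K]
    [IsAlgClosed K] [LieRing L] [LieAlgebra K L] [FiniteDimensional K L]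
    {H : LieSubalgebra K L} [H.IsCartanSubalgebra] (b : LieAlgebra.Basis ι H)
    [LieAlgebra.IsSimple K L]

theorem A_diag (i : ι) : b.A i i = 2 := by
  have _i : IsAddTorsionFree L := .of_isTorsionFree K L
  exact b.A_diag_eq_two i

omit [IsSimple K L] in
theorem e_ne_zero (i : ι) : b.e i ≠ 0 := (b.sl2 i).e_ne_zero

/-- if `χ + α i` is not a weight, the string below `χ` has length `χ (h i)` -/
theorem chain_top (χ : Module.Dual K H) (hχ : rootSpace H χ ≠ ⊥) (i : ι)
    (hnext : rootSpace H ⇑(χ + b.baseSupp i) = ⊥) :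
    ∃ m : ℕ, χ (b.h' i) = (m : K) ∧
      ∀ k : ℕ, rootSpace H ⇑(χ - (k : K) • b.baseSupp i) ≠ ⊥ ↔ k ≤ m := by
  obtain ⟨top, bot, h1, h2⟩ := chain' b χ hχ i
  have htop0 : top = 0 := by
    have h3 := h2 1
    have : (χ + ((1 : ℤ) : K) • b.baseSupp i) = χ + b.baseSupp i := by simp
    rw [this] at h3
    have h4 : ¬ ((1 : ℤ) ≤ top ∧ -(1 : ℤ) ≤ bot) := fun h => (h3.mpr h) hnext
    by_contra hne
    apply h4
    constructor <;> omega
  subst htop0
  refine ⟨bot, by rw [h1]; simp, fun k => ?_⟩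
  have h3 := h2 (-(k : ℤ))
  have : (χ + ((-(k : ℤ) : ℤ) : K) • b.baseSupp i) = χ - (k : K) • b.baseSupp i := by
    push_cast
    module
  rw [this] at h3
  rw [h3]
  constructor
  · rintro ⟨_, h⟩; omega
  · intro h; constructor <;> omega

/-- if `χ + 2 α i` is not a weight then `χ (h i) ≥ -1` -/
theorem chain_top2 (χ : Module.Dual K H) (hχ : rootSpace H χ ≠ ⊥) (i : ι)
    (hnext : rootSpace H ⇑(χ + (2 : K) • b.baseSupp i) = ⊥) :
    ∃ m : ℤ, χ (b.h' i) = (m : K) ∧ -1 ≤ m := by
  obtain ⟨top, bot, h1, h2⟩ := chain' b χ hχ i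
  have htop1 : top ≤ 1 := by
    have h3 := h2 2
    have : (χ + ((2 : ℤ) : K) • b.baseSupp i) = χ + (2 : K) • b.baseSupp i := by simp
    rw [this] at h3
    have h4 : ¬ ((2 : ℤ) ≤ top ∧ -(2 : ℤ) ≤ bot) := fun h => (h3.mpr h) hnext
    by_contra hne
    apply h4
    constructor <;> omega
  refine ⟨(bot : ℤ) - top, by rw [h1]; push_cast; ring, by omega⟩

section Top

variable (ρ : Module.Dual K H) (hρ : rootSpace H ρ ≠ ⊥)
  (htop : ∀ i, rootSpace H (ρ + b.baseSupp i) = ⊥)
  (j : ι) (hN : ∀ i, ρ (b.h' i) ≠ 0 ↔ i = j) (hj : ρ (b.h' j) = 1)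

include hρ htop hN hj

/-- `ρ - α i` is not a weight for `i ≠ j` -/
theorem sub_not_weight (i : ι) (hi : i ≠ j) : rootSpace H ⇑(ρ - b.baseSupp i) = ⊥ := by
  obtain ⟨m, hm, hk⟩ := chain_top b ρ hρ i (htop i)
  have h0 : ρ (b.h' i) = 0 := by
    by_contra h
    exact hi ((hN i).mp h)
  have hm0 : m = 0 := by
    rw [h0] at hm
    exact_mod_cast hm.symm
  have := (hk 1).not
  rw [hm0] at this
  simp only [Nat.cast_one, one_smul, ne_eq, not_not] at this
  exact this.mpr (by omega)

/-- `ρ - α j` is a weight, `ρ - 2 α j` is not -/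
theorem sub_j_weight : rootSpace H ⇑(ρ - b.baseSupp j) ≠ ⊥ := by
  obtain ⟨m, hm, hk⟩ := chain_top b ρ hρ j (htop j)
  have hm1 : m = 1 := by
    rw [hj] at hm
    exact_mod_cast hm.symm
  have := (hk 1).mpr (by omega)
  simpa using this

theorem sub_two_j_not_weight : rootSpace H ⇑(ρ - b.baseSupp j - b.baseSupp j) = ⊥ := by
  obtain ⟨m, hm, hk⟩ := chain_top b ρ hρ j (htop j)
  have hm1 : m = 1 := by
    rw [hj] at hm
    exact_mod_cast hm.symm
  have := (hk 2).not
  rw [hm1] at this
  have h2 : ρ - ((2 : ℕ) : K) • b.baseSupp j = ρ - b.baseSupp j - b.baseSupp j := by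
    push_cast
    rw [two_smul]
    abel
  rw [h2] at this
  simp only [ne_eq, not_not] at this
  exact this.mpr (by omega)

/-- if `ρ - α j - α i` is a weight with `i ≠ j` then `A i j ≠ 0` -/
theorem A_ne_zero_of_weight (i : ι) (hi : i ≠ j)
    (hw : rootSpace H ⇑(ρ - b.baseSupp j - b.baseSupp i) ≠ ⊥) : b.A i j ≠ 0 := by
  have hnext : rootSpace H ⇑(ρ - b.baseSupp j - b.baseSupp i + b.baseSupp j) = ⊥ := by
    have : ρ - b.baseSupp j - b.baseSupp i + b.baseSupp j = ρ - b.baseSupp i := by abel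
    rw [this]
    exact sub_not_weight b ρ hρ htop j hN hj i hi
  obtain ⟨m, hm, -⟩ := chain_top b _ hw j hnext
  intro hA
  simp only [LinearMap.sub_apply, hj, b.baseSupp_apply_h', A_diag, hA] at hm
  have : (-1 : ℤ) = (m : ℤ) := by
    have h' : ((-1 : ℤ) : K) = ((m : ℤ) : K) := by
      push_cast
      push_cast at hm
      linear_combination hm
    exact_mod_cast h'
  omega

theorem rho_ne_zero : (⇑ρ : H → K) ≠ 0 := by
  intro h
  have := congrFun h (b.h' j)
  rw [hj] at this
  simp at this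

theorem rho_sub_ne_zero : (⇑(ρ - b.baseSupp j) : H → K) ≠ 0 := by
  intro h
  have := congrFun h (b.h' j)
  simp only [LinearMap.sub_apply, hj, b.baseSupp_apply_h', A_diag, Pi.zero_apply] at this
  norm_num at this

theorem rho_sub_sub_ne_zero (i : ι) (hi : i ≠ j) :
    (⇑(ρ - b.baseSupp j - b.baseSupp i) : H → K) ≠ 0 := by
  intro h
  have hρeq : ρ = b.baseSupp j + b.baseSupp i := by
    apply LinearMap.ext
    intro x
    have := congrFun h x
    simp only [LinearMap.sub_apply, Pi.zero_apply] at this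
    simp only [LinearMap.add_apply]
    linear_combination this
  have hαj : rootSpace H ⇑(b.baseSupp j) ≠ ⊥ := by
    intro h0
    have := e_mem_rootSpace b j
    rw [h0] at this
    exact e_ne_zero b j ((LieSubmodule.mem_bot _).mp this)
  have hnext : rootSpace H ⇑(b.baseSupp j + (2 : K) • b.baseSupp i) = ⊥ := by
    have : b.baseSupp j + (2 : K) • b.baseSupp i = ρ + b.baseSupp i := by
      rw [hρeq, two_smul]; abel
    rw [this]
    exact htop i
  obtain ⟨m, hm, hm1⟩ := chain_top2 b _ hαj i hnext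
  have h0 : ρ (b.h' i) = 0 := by
    by_contra h
    exact hi ((hN i).mp h)
  rw [hρeq] at h0
  simp only [LinearMap.add_apply, b.baseSupp_apply_h', A_diag] at h0 hm
  have : ((b.A j i : ℤ) : K) = ((-2 : ℤ) : K) := by
    push_cast
    linear_combination h0
  have h2 : b.A j i = -2 := by exact_mod_cast this
  rw [h2] at hm
  have h3 : ((-2 : ℤ) : K) = ((m : ℤ) : K) := hm
  have h4 : (-2 : ℤ) = m := by exact_mod_cast h3
  omega

end Top

end Groth.Agent.Lib.Helper31.LieHW
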