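import Mathlib
import Groth.Agent.Lib.Helper31.Lie3

/-!
# Descent of weight vectors in Borel-stable subspaces (helper31)
-/

set_option autoImplicit false
set_option linter.unusedSectionVars false

universe u v w

open LieAlgebra LieModule LieAlgebra.IsKilling

namespace Groth.Agent.Lib.Helper31.LieHW

variable {ι : Type u} {K : Type v} {L : Type w} [Fintype ι] [Field K] [CharZero K]
    [IsAlgClosed K] [LieRing L] [LieAlgebra K L] [FiniteDimensional K L]
    {H : LieSubalgebra K L} [H.IsCartanSubalgebra] (b : LieAlgebra.Basis ι H)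
    [LieAlgebra.IsSimple K L]

/-- a one-dimensional root space containing a nonzero vector of `W` lies in `W` -/
theorem rootSpace_le_of_mem (χ : H → K) (hχ0 : χ ≠ 0) (x : L) (hx0 : x ≠ 0)
    (hx : x ∈ rootSpace H χ) (W : Submodule K L) (hxW : x ∈ W) :
    (rootSpace H χ : Submodule K L) ≤ W := by
  have hne : rootSpace H χ ≠ ⊥ := by
    intro h
    rw [h] at hx
    exact hx0 ((LieSubmodule.mem_bot _).mp hx)
  let χW : Weight K H L := ⟨χ, hne⟩
  have hnz : χW.IsNonZero := fun h => hχ0 h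
  have h1 : Module.finrank K (rootSpace H χ) = 1 := finrank_rootSpace_eq_one χW hnz
  have h2 := (finrank_eq_one_iff_of_nonzero' (⟨x, hx⟩ : rootSpace H χ)
    (by intro h; exact hx0 (congrArg Subtype.val h))).mp h1
  intro y hy
  obtain ⟨c, hc⟩ := h2 ⟨y, hy⟩
  have : y = c • x := by
    have := congrArg Subtype.val hc
    exact this.symm
  rw [this]
  exact W.smul_mem c hxW

theorem finrank_rootSpace (χ : H → K) (hχ0 : χ ≠ 0) (hne : rootSpace H χ ≠ ⊥) :
    Module.finrank K (rootSpace H χ : Submodule K L) = 1 := by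
  let χW : Weight K H L := ⟨χ, hne⟩
  have hnz : χW.IsNonZero := fun h => hχ0 h
  exact finrank_rootSpace_eq_one χW hnz

theorem disjoint_rootSpace (χ₁ χ₂ : H → K) (h : χ₁ ≠ χ₂) :
    Disjoint (rootSpace H χ₁ : Submodule K L) (rootSpace H χ₂ : Submodule K L) := by
  have := (LieModule.iSupIndep_genWeightSpace K H L).pairwiseDisjoint h
  rw [Function.onFun] at this
  exact (LieSubmodule.disjoint_toSubmodule).mpr this

theorem disjoint_rootSpace_sup (χ₁ χ₂ χ₃ : H → K) (h13 : χ₁ ≠ χ₃) (h23 : χ₂ ≠ χ₃) :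
    Disjoint ((rootSpace H χ₁ : Submodule K L) ⊔ (rootSpace H χ₂ : Submodule K L))
      (rootSpace H χ₃ : Submodule K L) := by
  have h := (LieModule.iSupIndep_genWeightSpace K H L) χ₃
  have hle : rootSpace H χ₁ ⊔ rootSpace H χ₂ ≤ ⨆ j, ⨆ (_ : j ≠ χ₃), genWeightSpace L j := by
    apply sup_le
    · exact le_iSup₂_of_le χ₁ h13 le_rfl
    · exact le_iSup₂_of_le χ₂ h23 le_rfl
  have h2 := (h.mono_right hle).symm
  have := (LieSubmodule.disjoint_toSubmodule).mpr h2
  rwa [LieSubmodule.sup_toSubmodule] at this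

theorem finrank_sup_two (χ₁ χ₂ : H → K) (h : χ₁ ≠ χ₂)
    (h1 : Module.finrank K (rootSpace H χ₁ : Submodule K L) = 1)
    (h2 : Module.finrank K (rootSpace H χ₂ : Submodule K L) = 1) :
    Module.finrank K ((rootSpace H χ₁ : Submodule K L) ⊔ (rootSpace H χ₂ : Submodule K L) :
      Submodule K L) = 2 := by
  have := Submodule.finrank_sup_add_finrank_inf_eq (rootSpace H χ₁ : Submodule K L)
    (rootSpace H χ₂ : Submodule K L)
  rw [(disjoint_rootSpace χ₁ χ₂ h).eq_bot, finrank_bot, h1, h2] at this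
  omega

theorem finrank_sup_three (χ₁ χ₂ χ₃ : H → K) (h12 : χ₁ ≠ χ₂) (h13 : χ₁ ≠ χ₃) (h23 : χ₂ ≠ χ₃)
    (h1 : Module.finrank K (rootSpace H χ₁ : Submodule K L) = 1)
    (h2 : Module.finrank K (rootSpace H χ₂ : Submodule K L) = 1)
    (h3 : Module.finrank K (rootSpace H χ₃ : Submodule K L) = 1) :
    Module.finrank K ((rootSpace H χ₁ : Submodule K L) ⊔ (rootSpace H χ₂ : Submodule K L) ⊔
      (rootSpace H χ₃ : Submodule K L) : Submodule K L) = 3 := by
  have := Submodule.finrank_sup_add_finrank_inf_eq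
    ((rootSpace H χ₁ : Submodule K L) ⊔ (rootSpace H χ₂ : Submodule K L))
    (rootSpace H χ₃ : Submodule K L)
  rw [(disjoint_rootSpace_sup χ₁ χ₂ χ₃ h13 h23).eq_bot, finrank_bot,
    finrank_sup_two χ₁ χ₂ h12 h1 h2, h3] at this
  omega

section Rho

variable (ρ : Module.Dual K H) (hρ : rootSpace H ρ ≠ ⊥)
  (htop : ∀ i, rootSpace H (ρ + b.baseSupp i) = ⊥)

include hρ htop

/-- the step up: a nonzero weight vector of depth `n ≠ 0` is moved by some `e i` with `n i ≥ 1` -/
theorem step [DecidableEq ι] (n : ι → ℕ) (hn : n ≠ 0) (x : L) (hx0 : x ≠ 0)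
    (hx : x ∈ rootSpace H ⇑(wt b ρ n)) :
    ∃ i, 1 ≤ n i ∧ ⁅b.e i, x⁆ ≠ 0 ∧ ⁅b.e i, x⁆ ∈ rootSpace H ⇑(wt b ρ (n - Pi.single i 1)) := by
  by_contra hcon
  push Not at hcon
  have hall : ∀ i, ⁅b.e i, x⁆ = 0 := by
    intro i
    by_contra hne
    have h1 := lie_mem_genWeightSpace_of_mem_genWeightSpace (e_mem_rootSpace b i) hx
    have hne' : rootSpace H (⇑(b.baseSupp i) + ⇑(wt b ρ n)) ≠ ⊥ := by
      intro h0
      have h1' : ⁅b.e i, x⁆ ∈ rootSpace H (⇑(b.baseSupp i) + ⇑(wt b ρ n)) := h1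
      rw [h0] at h1'
      exact hne ((LieSubmodule.mem_bot _).mp h1')
    obtain ⟨m, hm⟩ := exists_eq_wt_rho b ρ hρ htop _ hne'
    -- compare coefficients
    have hm' : b.baseSupp i + wt b ρ n = wt b ρ m := by
      apply LinearMap.ext
      intro h
      exact congrFun hm h
    have hnm : n = m + Pi.single i 1 := by
      apply wt_injective b ρ
      rw [wt_add, ← hm', wt_single]
      abel
    have hni : 1 ≤ n i := by
      rw [hnm]; simp
    have hmn : m = n - Pi.single i 1 := by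
      rw [hnm]; simp
    apply hcon i hni hne
    have h1' : ⁅b.e i, x⁆ ∈ rootSpace H (⇑(b.baseSupp i) + ⇑(wt b ρ n)) := h1
    rw [hm, hmn] at h1'
    exact h1'
  exact hn (primitive_weight b ρ hρ htop x hx0 n hx hall)

/-- depth of an exponent vector -/
def depth (n : ι → ℕ) : ℕ := ∑ i, n i

omit hρ htop in
theorem depth_sub_single [DecidableEq ι] (n : ι → ℕ) (i : ι) (hi : 1 ≤ n i) :
    depth (n - Pi.single i 1) + 1 = depth n := by
  unfold depth
  have h1 : ∑ k, (n - Pi.single i 1 : ι → ℕ) k = ∑ k, n k - 1 := by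
    have : ∀ k, (n - Pi.single i 1 : ι → ℕ) k = n k - (Pi.single i 1 : ι → ℕ) k := fun k => rfl
    simp only [this]
    rw [Finset.sum_tsub_distrib]
    · simp
    · intro k _
      by_cases hk : k = i
      · subst hk; simpa using hi
      · simp [Pi.single_apply, hk]
  rw [h1]
  have : 1 ≤ ∑ k, n k := le_trans hi (Finset.single_le_sum (f := n) (fun _ _ => Nat.zero_le _)
    (Finset.mem_univ i))
  omega

/-- descent: from a weight vector of depth `≥ d` in a subspace stable under the `e i`, get one of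
depth exactly `d` -/
theorem descent (W : Submodule K L) (hW : ∀ i, ∀ w ∈ W, ⁅b.e i, w⁆ ∈ W) (d : ℕ) :
    ∀ (N : ℕ) (n : ι → ℕ), depth n = d + N → ∀ x : L, x ≠ 0 → x ∈ W →
      x ∈ rootSpace H ⇑(wt b ρ n) →
      ∃ (m : ι → ℕ) (y : L), depth m = d ∧ y ≠ 0 ∧ y ∈ W ∧ y ∈ rootSpace H ⇑(wt b ρ m) := by
  classical
  intro N
  induction N with
  | zero =>
    intro n hn x hx0 hxW hx
    exact ⟨n, x, by simpa using hn, hx0, hxW, hx⟩
  | succ N ih =>
    intro n hn x hx0 hxW hx
    have hn0 : n ≠ 0 := by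
      intro h
      rw [h] at hn
      simp [depth] at hn
    obtain ⟨i, hi, hne, hmem⟩ := step b ρ hρ htop n hn0 x hx0 hx
    have hd := depth_sub_single n i hi
    exact ih (n - Pi.single i 1) (by omega) _ hne (hW i x hxW) hmem

omit hρ htop in
theorem depth_eq_zero (n : ι → ℕ) (h : depth n = 0) : n = 0 := by
  unfold depth at h
  funext i
  have := (Finset.sum_eq_zero_iff.mp h) i (Finset.mem_univ i)
  simpa using this

omit hρ htop in
theorem depth_eq_one [DecidableEq ι] (n : ι → ℕ) (h : depth n = 1) : ∃ i, n = Pi.single i 1 := by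
  have hne : n ≠ 0 := by
    intro h0; rw [h0] at h; simp [depth] at h
  obtain ⟨i, hi⟩ : ∃ i, n i ≠ 0 := by
    by_contra hcon
    push Not at hcon
    exact hne (funext hcon)
  have hd := depth_sub_single n i (Nat.one_le_iff_ne_zero.mpr hi)
  have h0 : n - Pi.single i 1 = 0 := depth_eq_zero _ (by omega)
  refine ⟨i, ?_⟩
  funext k
  have := congrFun h0 k
  simp only [Pi.sub_apply, Pi.zero_apply] at this
  by_cases hk : k = i
  · subst hk
    simp only [Pi.single_eq_same] at this ⊢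
    omega
  · simp only [Pi.single_apply, hk, if_false] at this ⊢
    omega

end Rho

end Groth.Agent.Lib.Helper31.LieHW
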