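import Mathlib
import Groth.Agent.Lib.Helper31.Lie4

/-!
# Borel-stable subspaces of small dimension in a simple Lie algebra (helper31)
-/

set_option autoImplicit false
set_option linter.unusedSectionVars false

universe u v w

open LieAlgebra LieModule LieAlgebra.IsKilling

namespace Groth.Agent.Lib.Helper31.LieHW

variable {ι : Type u} {K : Type v} {L : Type w} [Fintype ι] [Field K] [CharZero K]
    [IsAlgClosed K] [LieRing L] [LieAlgebra K L] [FiniteDimensional K L]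
    {H : LieSubalgebra K L} [H.IsCartanSubalgebra] (b : LieAlgebra.Basis ι H)
    [LieAlgebra.IsSimple K L]

omit [IsSimple K L] in
theorem e_mem_borelUpper (i : ι) : b.e i ∈ (b.borelUpper : Submodule K L) := by
  show b.e i ∈ LieSubalgebra.lieSpan K L (Set.range b.e)
  exact LieSubalgebra.subset_lieSpan (Set.mem_range_self i)

omit [IsSimple K L] in
/-- a subspace stable under `H`: a weight vector outside a union of root spaces -/
theorem exists_weight_vector (W : Submodule K L) (hWH : ∀ h ∈ H, ∀ w ∈ W, ⁅h, w⁆ ∈ W)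
    (S : Set (H → K)) (U : Submodule K L) (hU : ∀ χ ∈ S, (rootSpace H χ : Submodule K L) ≤ U)
    (hWU : ¬ W ≤ U) :
    ∃ χ : H → K, χ ∉ S ∧ ∃ x : L, x ≠ 0 ∧ x ∈ W ∧ x ∈ rootSpace H χ := by
  by_contra hcon
  push Not at hcon
  apply hWU
  let WH : LieSubmodule K H L :=
    { W with
      lie_mem := by
        intro h w hw
        exact hWH h.1 h.2 w hw }
  have hWH' : (WH : Submodule K L) = W := rfl
  have h1 : WH = ⨆ χ : Weight K H L, WH ⊓ genWeightSpace L χ :=
    LieModule.eq_iSup_inf_genWeightSpace K H L WH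
  have h2 : (WH : Submodule K L) =
      ⨆ χ : Weight K H L, ((WH ⊓ genWeightSpace L χ : LieSubmodule K H L) : Submodule K L) := by
    have := congrArg (fun N : LieSubmodule K H L => (N : Submodule K L)) h1
    simp only [LieSubmodule.iSup_toSubmodule] at this
    exact this
  rw [← hWH', h2]
  apply iSup_le
  intro χ
  by_cases hχ : (⇑χ : H → K) ∈ S
  · rw [LieSubmodule.inf_toSubmodule]
    exact le_trans inf_le_right (hU _ hχ)
  · intro x hx
    rw [LieSubmodule.inf_toSubmodule] at hx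
    by_contra hxU
    have hx0 : x ≠ 0 := by
      intro h0
      rw [h0] at hxU
      exact hxU U.zero_mem
    exact hcon _ hχ x hx0 hx.1 hx.2

section Rho

variable (ρ : Module.Dual K H) (hρ : rootSpace H ρ ≠ ⊥)
  (htop : ∀ i, rootSpace H (ρ + b.baseSupp i) = ⊥)
  (j : ι) (hN : ∀ i, ρ (b.h' i) ≠ 0 ↔ i = j) (hj : ρ (b.h' j) = 1)

include hρ htop hN hj

/-- a nonzero subspace stable under `H` and the `e i` contains the highest root space -/
theorem rho_le (W : Submodule K L) (hWH : ∀ h ∈ H, ∀ w ∈ W, ⁅h, w⁆ ∈ W)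
    (hWe : ∀ i, ∀ w ∈ W, ⁅b.e i, w⁆ ∈ W) (hW0 : W ≠ ⊥) :
    (rootSpace H ρ : Submodule K L) ≤ W := by
  classical
  have hWU : ¬ W ≤ ⊥ := fun h => hW0 (le_bot_iff.mp h)
  obtain ⟨χ, -, x, hx0, hxW, hx⟩ := exists_weight_vector W hWH ∅ ⊥ (by simp) hWU
  have hne : rootSpace H χ ≠ ⊥ := by
    intro h
    rw [h] at hx
    exact hx0 ((LieSubmodule.mem_bot _).mp hx)
  obtain ⟨n, hn⟩ := exists_eq_wt_rho b ρ hρ htop χ hne
  rw [hn] at hx
  obtain ⟨m, y, hm, hy0, hyW, hy⟩ := descent b ρ hρ htop W hWe 0 (depth n) n (by simp) x hx0 hxW hx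
  have hm0 := depth_eq_zero m hm
  rw [hm0, wt_zero] at hy
  exact rootSpace_le_of_mem ⇑ρ (rho_ne_zero b ρ hρ htop j hN hj) y hy0 hy W hyW

/-- if moreover `W` is not inside the highest root space, it contains the root space of
`ρ - α j` -/
theorem rho_sub_le (W : Submodule K L) (hWH : ∀ h ∈ H, ∀ w ∈ W, ⁅h, w⁆ ∈ W)
    (hWe : ∀ i, ∀ w ∈ W, ⁅b.e i, w⁆ ∈ W) (hW1 : ¬ W ≤ (rootSpace H ρ : Submodule K L)) :
    (rootSpace H ⇑(ρ - b.baseSupp j) : Submodule K L) ≤ W := by
  classical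
  obtain ⟨χ, hχS, x, hx0, hxW, hx⟩ := exists_weight_vector W hWH {⇑ρ} _
    (by intro χ hχ; rw [Set.mem_singleton_iff] at hχ; rw [hχ]) hW1
  have hne : rootSpace H χ ≠ ⊥ := by
    intro h
    rw [h] at hx
    exact hx0 ((LieSubmodule.mem_bot _).mp hx)
  obtain ⟨n, hn⟩ := exists_eq_wt_rho b ρ hρ htop χ hne
  have hn0 : n ≠ 0 := by
    intro h0
    apply hχS
    rw [hn, h0, wt_zero]
    rfl
  have hd : 1 ≤ depth n := by
    by_contra hlt
    exact hn0 (depth_eq_zero n (by omega))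
  rw [hn] at hx
  obtain ⟨m, y, hm, hy0, hyW, hy⟩ := descent b ρ hρ htop W hWe 1 (depth n - 1) n (by omega)
    x hx0 hxW hx
  obtain ⟨i, hi⟩ := depth_eq_one m hm
  rw [hi, wt_single] at hy
  have hij : i = j := by
    by_contra hne'
    have := sub_not_weight b ρ hρ htop j hN hj i hne'
    rw [this] at hy
    exact hy0 ((LieSubmodule.mem_bot _).mp hy)
  subst hij
  exact rootSpace_le_of_mem _ (rho_sub_ne_zero b ρ hρ htop i hN hj) y hy0 hy W hyW

omit hN hj in
theorem wt_ne (n m : ι → ℕ) (h : n ≠ m) : (⇑(wt b ρ n) : H → K) ≠ ⇑(wt b ρ m) := by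
  intro heq
  apply h
  apply wt_injective b ρ
  apply LinearMap.ext
  intro x
  exact congrFun heq x

theorem finrank_rho : Module.finrank K (rootSpace H ⇑ρ : Submodule K L) = 1 :=
  finrank_rootSpace _ (rho_ne_zero b ρ hρ htop j hN hj) hρ

theorem finrank_rho_sub :
    Module.finrank K (rootSpace H ⇑(ρ - b.baseSupp j) : Submodule K L) = 1 :=
  finrank_rootSpace _ (rho_sub_ne_zero b ρ hρ htop j hN hj) (sub_j_weight b ρ hρ htop j hN hj)

theorem rho_ne_rho_sub : (⇑ρ : H → K) ≠ ⇑(ρ - b.baseSupp j) := by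
  classical
  have := wt_ne b ρ hρ htop 0 (Pi.single j 1) (by
    intro h
    have := congrFun h j
    simp at this)
  rwa [wt_zero, wt_single] at this

theorem finrank_U2 : Module.finrank K ((rootSpace H ⇑ρ : Submodule K L) ⊔
    (rootSpace H ⇑(ρ - b.baseSupp j) : Submodule K L) : Submodule K L) = 2 :=
  finrank_sup_two _ _ (rho_ne_rho_sub b ρ hρ htop j hN hj) (finrank_rho b ρ hρ htop j hN hj)
    (finrank_rho_sub b ρ hρ htop j hN hj)

/-- **two-dimensional Borel-stable subspaces** (forward direction) -/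
theorem dim_two (W : Submodule K L) (hWH : ∀ h ∈ H, ∀ w ∈ W, ⁅h, w⁆ ∈ W)
    (hWe : ∀ i, ∀ w ∈ W, ⁅b.e i, w⁆ ∈ W) (hdim : Module.finrank K W = 2) :
    W = (rootSpace H ⇑ρ : Submodule K L) ⊔ (rootSpace H ⇑(ρ - b.baseSupp j) : Submodule K L) := by
  have hW0 : W ≠ ⊥ := by
    intro h
    rw [h, finrank_bot] at hdim
    omega
  have hW1 : ¬ W ≤ (rootSpace H ρ : Submodule K L) := by
    intro hle
    have := Submodule.finrank_mono hle
    rw [finrank_rho b ρ hρ htop j hN hj, hdim] at this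
    omega
  have h1 := rho_le b ρ hρ htop j hN hj W hWH hWe hW0
  have h2 := rho_sub_le b ρ hρ htop j hN hj W hWH hWe hW1
  symm
  apply Submodule.eq_of_le_of_finrank_le (sup_le h1 h2)
  rw [finrank_U2 b ρ hρ htop j hN hj, hdim]

omit hN hj in
/-- if `e i` moves a weight vector of depth `n`, then `n i ≥ 1` -/
theorem one_le_of_lie_e_ne_zero [DecidableEq ι] (n : ι → ℕ) (x : L)
    (hx : x ∈ rootSpace H ⇑(wt b ρ n)) (i : ι) (hne : ⁅b.e i, x⁆ ≠ 0) :
    1 ≤ n i ∧ ⁅b.e i, x⁆ ∈ rootSpace H ⇑(wt b ρ (n - Pi.single i 1)) := by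
  have h1 := lie_mem_genWeightSpace_of_mem_genWeightSpace (e_mem_rootSpace b i) hx
  have hne' : rootSpace H (⇑(b.baseSupp i) + ⇑(wt b ρ n)) ≠ ⊥ := by
    intro h0
    have h1' : ⁅b.e i, x⁆ ∈ rootSpace H (⇑(b.baseSupp i) + ⇑(wt b ρ n)) := h1
    rw [h0] at h1'
    exact hne ((LieSubmodule.mem_bot _).mp h1')
  obtain ⟨m, hm⟩ := exists_eq_wt_rho b ρ hρ htop _ hne'
  have hm' : b.baseSupp i + wt b ρ n = wt b ρ m := by
    apply LinearMap.ext
    intro h
    exact congrFun hm h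
  have hnm : n = m + Pi.single i 1 := by
    apply wt_injective b ρ
    rw [wt_add, ← hm', wt_single]
    abel
  have hni : 1 ≤ n i := by
    rw [hnm]; simp
  have hmn : m = n - Pi.single i 1 := by
    rw [hnm]; simp
  refine ⟨hni, ?_⟩
  have h1' : ⁅b.e i, x⁆ ∈ rootSpace H (⇑(b.baseSupp i) + ⇑(wt b ρ n)) := h1
  rw [hm, hmn] at h1'
  exact h1'

omit hN hj in
theorem lie_e_eq_zero [DecidableEq ι] (n : ι → ℕ) (x : L)
    (hx : x ∈ rootSpace H ⇑(wt b ρ n)) (i : ι) (hni : n i = 0) : ⁅b.e i, x⁆ = 0 := by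
  by_contra hne
  have := (one_le_of_lie_e_ne_zero b ρ hρ htop n x hx i hne).1
  omega

/-- the converse: the sum of the two top root spaces is Borel-stable of dimension two -/
theorem U2_stable (x : L) (hx : x ∈ H.toSubmodule ⊔ (b.borelUpper : Submodule K L)) (w : L)
    (hw : w ∈ (rootSpace H ⇑ρ : Submodule K L) ⊔
      (rootSpace H ⇑(ρ - b.baseSupp j) : Submodule K L)) :
    ⁅x, w⁆ ∈ (rootSpace H ⇑ρ : Submodule K L) ⊔
      (rootSpace H ⇑(ρ - b.baseSupp j) : Submodule K L) := by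
  classical
  set U : Submodule K L := (rootSpace H ⇑ρ : Submodule K L) ⊔
      (rootSpace H ⇑(ρ - b.baseSupp j) : Submodule K L) with hU
  have hUH : ∀ h ∈ H, ∀ w ∈ U, ⁅h, w⁆ ∈ U := by
    intro h hh w hw
    obtain ⟨w1, hw1, w2, hw2, rfl⟩ := Submodule.mem_sup.mp hw
    rw [lie_add]
    apply U.add_mem
    · exact Submodule.mem_sup_left ((rootSpace H ⇑ρ).lie_mem (x := ⟨h, hh⟩) hw1)
    · exact Submodule.mem_sup_right
        ((rootSpace H ⇑(ρ - b.baseSupp j)).lie_mem (x := ⟨h, hh⟩) hw2)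
  have hUe : ∀ i, b.e i ∈ stab U := by
    intro i w hw
    obtain ⟨w1, hw1, w2, hw2, rfl⟩ := Submodule.mem_sup.mp hw
    rw [lie_add]
    apply U.add_mem
    · have hw1' : w1 ∈ rootSpace H ⇑(wt b ρ 0) := by rw [wt_zero]; exact hw1
      rw [lie_e_eq_zero b ρ hρ htop 0 w1 hw1' i rfl]
      exact U.zero_mem
    · have hw2' : w2 ∈ rootSpace H ⇑(wt b ρ (Pi.single j 1)) := by rw [wt_single]; exact hw2
      by_cases hij : i = j
      · subst hij
        by_cases hne : ⁅b.e i, w2⁆ = 0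
        · rw [hne]; exact U.zero_mem
        · have := (one_le_of_lie_e_ne_zero b ρ hρ htop _ w2 hw2' i hne).2
          rw [tsub_self, wt_zero] at this
          exact Submodule.mem_sup_left this
      · rw [lie_e_eq_zero b ρ hρ htop _ w2 hw2' i (by simp [Pi.single_apply, hij])]
        exact U.zero_mem
  have hle : LieSubalgebra.lieSpan K L (Set.range b.e) ≤ stab U := by
    rw [LieSubalgebra.lieSpan_le]
    rintro y ⟨i, rfl⟩
    exact hUe i
  obtain ⟨h, hh, y, hy, rfl⟩ := Submodule.mem_sup.mp hx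
  rw [add_lie]
  apply U.add_mem
  · exact hUH h hh w hw
  · have hy' : y ∈ LieSubalgebra.lieSpan K L (Set.range b.e) := hy
    exact hle hy' w hw

end Rho

end Groth.Agent.Lib.Helper31.LieHW
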