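import Mathlib
import Groth.Agent.Lib.Helper31.Lie5

/-!
# Three-dimensional Borel-stable subspaces (helper31)
-/

set_option autoImplicit false
set_option linter.unusedSectionVars false

universe u v w

open LieAlgebra LieModule LieAlgebra.IsKilling

namespace Groth.Agent.Lib.Helper31.LieHW

variable {ι : Type u} {K : Type v} {L : Type w} [Fintype ι] [Field K] [CharZero K]
    [IsAlgClosed K] [LieRing L] [LieAlgebra K L] [FiniteDimensional K L]
    {H : LieSubalgebra K L} [H.IsCartanSubalgebra] (b : LieAlgebra.Basis ι H)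
    [LieAlgebra.IsSimple K L]

section Rho

variable (ρ : Module.Dual K H) (hρ : rootSpace H ρ ≠ ⊥)
  (htop : ∀ i, rootSpace H (ρ + b.baseSupp i) = ⊥)
  (j : ι) (hN : ∀ i, ρ (b.h' i) ≠ 0 ↔ i = j) (hj : ρ (b.h' j) = 1)

theorem wt_two [DecidableEq ι] (i : ι) :
    wt b ρ (Pi.single j 1 + Pi.single i 1) = ρ - b.baseSupp j - b.baseSupp i := by
  rw [wt_add, wt_single, wt_single]

include hρ htop hN hj

/-- the set-up of the third root space -/
theorem third (W : Submodule K L) (hWH : ∀ h ∈ H, ∀ w ∈ W, ⁅h, w⁆ ∈ W)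
    (hWe : ∀ i, ∀ w ∈ W, ⁅b.e i, w⁆ ∈ W)
    (hW2 : ¬ W ≤ (rootSpace H ⇑ρ : Submodule K L) ⊔
      (rootSpace H ⇑(ρ - b.baseSupp j) : Submodule K L)) :
    ∃ i, i ≠ j ∧ b.A i j ≠ 0 ∧ rootSpace H ⇑(ρ - b.baseSupp j - b.baseSupp i) ≠ ⊥ ∧
      (rootSpace H ⇑(ρ - b.baseSupp j - b.baseSupp i) : Submodule K L) ≤ W := by
  classical
  obtain ⟨χ, hχS, x, hx0, hxW, hx⟩ := exists_weight_vector W hWH {⇑ρ, ⇑(ρ - b.baseSupp j)} _
    (by
      intro χ hχ
      rcases hχ with h | h
      · rw [h]; exact le_sup_left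
      · rw [Set.mem_singleton_iff] at h
        rw [h]; exact le_sup_right) hW2
  have hne : rootSpace H χ ≠ ⊥ := by
    intro h
    rw [h] at hx
    exact hx0 ((LieSubmodule.mem_bot _).mp hx)
  obtain ⟨n, hn⟩ := exists_eq_wt_rho b ρ hρ htop χ hne
  rw [hn] at hx
  have hn0 : n ≠ 0 := by
    intro h0
    apply hχS
    left
    rw [hn, h0, wt_zero]
  have hn1 : n ≠ Pi.single j 1 := by
    intro h0
    apply hχS
    right
    rw [Set.mem_singleton_iff, hn, h0, wt_single]
  have hd : 2 ≤ depth n := by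
    by_contra hlt
    have h01 : depth n = 0 ∨ depth n = 1 := by omega
    rcases h01 with h | h
    · exact hn0 (depth_eq_zero n h)
    · obtain ⟨i', hi'⟩ := depth_eq_one n h
      have hij : i' = j := by
        by_contra hne'
        have := sub_not_weight b ρ hρ htop j hN hj i' hne'
        rw [hi', wt_single, this] at hx
        exact hx0 ((LieSubmodule.mem_bot _).mp hx)
      rw [hij] at hi'
      exact hn1 hi'
  obtain ⟨m, y, hm, hy0, hyW, hy⟩ := descent b ρ hρ htop W hWe 2 (depth n - 2) n (by omega)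
    x hx0 hxW hx
  have hm0 : m ≠ 0 := by
    intro h0
    rw [h0] at hm
    simp [depth] at hm
  obtain ⟨i, hi, hz0, hz⟩ := step b ρ hρ htop m hm0 y hy0 hy
  have hd1 := depth_sub_single m i hi
  obtain ⟨c, hc⟩ := depth_eq_one (m - Pi.single i 1) (by omega)
  have hcj : c = j := by
    by_contra hne'
    have := sub_not_weight b ρ hρ htop j hN hj c hne'
    rw [hc, wt_single, this] at hz
    exact hz0 ((LieSubmodule.mem_bot _).mp hz)
  subst hcj
  have hm2 : m = Pi.single c 1 + Pi.single i 1 := by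
    funext k
    have := congrFun hc k
    simp only [Pi.sub_apply, Pi.add_apply] at this ⊢
    by_cases hk : k = i
    · subst hk
      simp only [Pi.single_eq_same] at this ⊢
      omega
    · simp only [Pi.single_apply, hk, if_false] at this ⊢
      omega
  rw [hm2, wt_two] at hy
  have hic : i ≠ c := by
    intro h
    subst h
    have := sub_two_j_not_weight b ρ hρ htop i hN hj
    rw [this] at hy
    exact hy0 ((LieSubmodule.mem_bot _).mp hy)
  have hne3 : rootSpace H ⇑(ρ - b.baseSupp c - b.baseSupp i) ≠ ⊥ := by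
    intro h
    rw [h] at hy
    exact hy0 ((LieSubmodule.mem_bot _).mp hy)
  refine ⟨i, hic, A_ne_zero_of_weight b ρ hρ htop c hN hj i hic hne3, hne3, ?_⟩
  exact rootSpace_le_of_mem _ (rho_sub_sub_ne_zero b ρ hρ htop c hN hj i hic) y hy0 hy W hyW

theorem finrank_U3 (i : ι) (hi : i ≠ j)
    (hne3 : rootSpace H ⇑(ρ - b.baseSupp j - b.baseSupp i) ≠ ⊥) :
    Module.finrank K ((rootSpace H ⇑ρ : Submodule K L) ⊔
      (rootSpace H ⇑(ρ - b.baseSupp j) : Submodule K L) ⊔
      (rootSpace H ⇑(ρ - b.baseSupp j - b.baseSupp i) : Submodule K L) : Submodule K L) = 3 := by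
  classical
  have h13 : (⇑ρ : H → K) ≠ ⇑(ρ - b.baseSupp j - b.baseSupp i) := by
    have := wt_ne b ρ hρ htop 0 (Pi.single j 1 + Pi.single i 1) (by
      intro h
      have := congrFun h j
      simp only [Pi.zero_apply, Pi.add_apply, Pi.single_eq_same] at this
      omega)
    rwa [wt_zero, wt_two] at this
  have h23 : (⇑(ρ - b.baseSupp j) : H → K) ≠ ⇑(ρ - b.baseSupp j - b.baseSupp i) := by
    have := wt_ne b ρ hρ htop (Pi.single j 1) (Pi.single j 1 + Pi.single i 1) (by
      intro h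
      have := congrFun h i
      simp [Pi.single_apply, hi] at this)
    rwa [wt_single, wt_two] at this
  exact finrank_sup_three _ _ _ (rho_ne_rho_sub b ρ hρ htop j hN hj) h13 h23
    (finrank_rho b ρ hρ htop j hN hj) (finrank_rho_sub b ρ hρ htop j hN hj)
    (finrank_rootSpace _ (rho_sub_sub_ne_zero b ρ hρ htop j hN hj i hi) hne3)

/-- **three-dimensional Borel-stable subspaces** -/
theorem dim_three (W : Submodule K L) (hWH : ∀ h ∈ H, ∀ w ∈ W, ⁅h, w⁆ ∈ W)
    (hWe : ∀ i, ∀ w ∈ W, ⁅b.e i, w⁆ ∈ W) (hdim : Module.finrank K W = 3) :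
    (rootSpace H ⇑ρ : Submodule K L) ⊔ (rootSpace H ⇑(ρ - b.baseSupp j) : Submodule K L) ≤ W ∧
    ∃ i, i ≠ j ∧ b.A i j ≠ 0 ∧ rootSpace H ⇑(ρ - b.baseSupp j - b.baseSupp i) ≠ ⊥ ∧
      W = (rootSpace H ⇑ρ : Submodule K L) ⊔ (rootSpace H ⇑(ρ - b.baseSupp j) : Submodule K L) ⊔
        (rootSpace H ⇑(ρ - b.baseSupp j - b.baseSupp i) : Submodule K L) := by
  have hW0 : W ≠ ⊥ := by
    intro h
    rw [h, finrank_bot] at hdim
    omega
  have hW1 : ¬ W ≤ (rootSpace H ρ : Submodule K L) := by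
    intro hle
    have := Submodule.finrank_mono hle
    rw [finrank_rho b ρ hρ htop j hN hj, hdim] at this
    omega
  have hW2 : ¬ W ≤ (rootSpace H ⇑ρ : Submodule K L) ⊔
      (rootSpace H ⇑(ρ - b.baseSupp j) : Submodule K L) := by
    intro hle
    have := Submodule.finrank_mono hle
    rw [finrank_U2 b ρ hρ htop j hN hj, hdim] at this
    omega
  have h1 := rho_le b ρ hρ htop j hN hj W hWH hWe hW0
  have h2 := rho_sub_le b ρ hρ htop j hN hj W hWH hWe hW1
  refine ⟨sup_le h1 h2, ?_⟩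
  obtain ⟨i, hi, hA, hne3, hle3⟩ := third b ρ hρ htop j hN hj W hWH hWe hW2
  refine ⟨i, hi, hA, hne3, ?_⟩
  symm
  apply Submodule.eq_of_le_of_finrank_le (sup_le (sup_le h1 h2) hle3)
  rw [finrank_U3 b ρ hρ htop j hN hj i hi hne3, hdim]

end Rho

end Groth.Agent.Lib.Helper31.LieHW
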