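import Mathlib

/-!
# A quadratic form with at most one nonzero diagonal polar value is a multiple of a square
(helper31)
-/

set_option autoImplicit false
set_option linter.unusedSectionVars false

universe u v

open QuadraticMap

namespace Groth.Agent.Lib.Helper31.QuadL

variable {K : Type u} [Field K] [CharZero K] {V : Type v} [AddCommGroup V] [Module K V]

theorem q_eq (q : QuadraticForm K V) (u v w : V) (s t r : K) :
    q (s • u + t • v + r • w) = s ^ 2 * q u + t ^ 2 * q v + r ^ 2 * q w +
      s * t * polar q u v + s * r * polar q u w + t * r * polar q v w := by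
  have h1 : ∀ x y : V, q (x + y) = q x + q y + polar q x y := by
    intro x y
    unfold polar
    ring
  rw [h1, h1, polar_add_left, QuadraticMap.map_smul, QuadraticMap.map_smul, QuadraticMap.map_smul,
    polar_smul_left, polar_smul_right, polar_smul_left, polar_smul_right, polar_smul_left,
    polar_smul_right]
  simp only [smul_eq_mul]
  ring

theorem two_q (q : QuadraticForm K V) (x : V) : polar q x x = 2 * q x := by
  have := polar_self q x
  simpa using this

theorem main (q : QuadraticForm K V) (u v w : V)
    (hspan : ∀ z : V, ∃ s t r : K, z = s • u + t • v + r • w)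
    (huv : polar q u v ≠ 0 → polar q v v ≠ 0 → False)
    (huw : polar q u w ≠ 0 → polar q v w ≠ 0 → False)
    (hvw : polar q v w ≠ 0 → polar q w w ≠ 0 → False)
    (huu_vv : polar q u u ≠ 0 → polar q v v ≠ 0 → False)
    (huu_ww : polar q u u ≠ 0 → polar q w w ≠ 0 → False)
    (hvv_ww : polar q v v ≠ 0 → polar q w w ≠ 0 → False)
    (a cj a' ci : K) (ha : a ≠ 0) (ha' : a' ≠ 0)
    (hej1 : 2 * a * polar q u v = cj * polar q v v)
    (hej2 : a * polar q u w = cj * polar q v w)
    (hei : 2 * a' * polar q v w = ci * polar q w w) :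
    ∃ (ℓ : Module.Dual K V) (c : K), ∀ z : V, q z = c * ℓ z ^ 2 := by
  have h2 : (2 : K) ≠ 0 := two_ne_zero
  have Buv : polar q u v = 0 := by
    by_contra h
    apply huv h
    intro h0
    rw [h0, mul_zero] at hej1
    exact h ((mul_eq_zero.mp hej1).resolve_left (mul_ne_zero h2 ha))
  have Bvw : polar q v w = 0 := by
    by_contra h
    apply hvw h
    intro h0
    rw [h0, mul_zero] at hei
    exact h ((mul_eq_zero.mp hei).resolve_left (mul_ne_zero h2 ha'))
  have Buw : polar q u w = 0 := by
    by_contra h
    apply huw h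
    intro h0
    rw [h0, mul_zero] at hej2
    exact h ((mul_eq_zero.mp hej2).resolve_left ha)
  have hq : ∀ s t r : K, q (s • u + t • v + r • w) = s ^ 2 * q u + t ^ 2 * q v + r ^ 2 * q w := by
    intro s t r
    rw [q_eq, Buv, Buw, Bvw]
    ring
  have hB : ∀ x : V, q x = polar q x x / 2 := by
    intro x
    rw [two_q]
    field_simp
  by_cases hu : polar q u u ≠ 0
  · have hv : polar q v v = 0 := by
      by_contra h; exact huu_vv hu h
    have hw : polar q w w = 0 := by
      by_contra h; exact huu_ww hu h
    refine ⟨polarBilin q u, (2 * polar q u u)⁻¹, fun z => ?_⟩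
    obtain ⟨s, t, r, rfl⟩ := hspan z
    rw [hq, hB u, hB v, hB w, hv, hw]
    simp only [polarBilin_apply_apply, polar_add_right, polar_smul_right, Buv, Buw, smul_eq_mul]
    field_simp
    ring
  push Not at hu
  by_cases hv : polar q v v ≠ 0
  · have hw : polar q w w = 0 := by
      by_contra h; exact hvv_ww hv h
    refine ⟨polarBilin q v, (2 * polar q v v)⁻¹, fun z => ?_⟩
    obtain ⟨s, t, r, rfl⟩ := hspan z
    have Bvu : polar q v u = 0 := by rw [polar_comm]; exact Buv
    rw [hq, hB u, hB v, hB w, hu, hw]
    simp only [polarBilin_apply_apply, polar_add_right, polar_smul_right, Bvu, Bvw, smul_eq_mul]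
    field_simp
    ring
  push Not at hv
  by_cases hw : polar q w w ≠ 0
  · refine ⟨polarBilin q w, (2 * polar q w w)⁻¹, fun z => ?_⟩
    obtain ⟨s, t, r, rfl⟩ := hspan z
    have Bwu : polar q w u = 0 := by rw [polar_comm]; exact Buw
    have Bwv : polar q w v = 0 := by rw [polar_comm]; exact Bvw
    rw [hq, hB u, hB v, hB w, hu, hv]
    simp only [polarBilin_apply_apply, polar_add_right, polar_smul_right, Bwu, Bwv, smul_eq_mul]
    field_simp
    ring
  push Not at hw
  refine ⟨0, 0, fun z => ?_⟩
  obtain ⟨s, t, r, rfl⟩ := hspan z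
  rw [hq, hB u, hB v, hB w, hu, hv, hw]
  simp

end Groth.Agent.Lib.Helper31.QuadL
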