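import Mathlib
import Groth.Agent.Lib.Helper31.Lie6
import Groth.Agent.Lib.Helper31.QuadL

/-!
# Borel-semi-invariant conics in three-dimensional Borel-stable subspaces (helper31)
-/

set_option autoImplicit false
set_option linter.unusedSectionVars false

universe u v w

open LieAlgebra LieModule LieAlgebra.IsKilling QuadraticMap

namespace Groth.Agent.Lib.Helper31.LieHW

variable {ι : Type u} {K : Type v} {L : Type w} [Fintype ι] [Field K] [CharZero K]
    [IsAlgClosed K] [LieRing L] [LieAlgebra K L] [FiniteDimensional K L]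
    {H : LieSubalgebra K L} [H.IsCartanSubalgebra] (b : LieAlgebra.Basis ι H)
    [LieAlgebra.IsSimple K L]

omit [IsSimple K L] [IsAlgClosed K] [CharZero K] [Fintype ι] [FiniteDimensional K L]
  [H.IsCartanSubalgebra] in
/-- the polarised form of semi-invariance -/
theorem polarised (W : Submodule K L) (q : QuadraticForm K W) (x : L)
    (hxW : ∀ w ∈ W, ⁅x, w⁆ ∈ W) (c : K)
    (hc : ∀ w : W, polar q ⟨⁅x, (w : L)⁆, hxW w w.2⟩ w = c * q w) (w1 w2 : W) :
    polar q ⟨⁅x, (w1 : L)⁆, hxW w1 w1.2⟩ w2 + polar q ⟨⁅x, (w2 : L)⁆, hxW w2 w2.2⟩ w1 =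
      c * polar q w1 w2 := by
  have h12 := hc (w1 + w2)
  have hadd : (⟨⁅x, ((w1 + w2 : W) : L)⁆, hxW _ (w1 + w2).2⟩ : W) =
      ⟨⁅x, (w1 : L)⁆, hxW w1 w1.2⟩ + ⟨⁅x, (w2 : L)⁆, hxW w2 w2.2⟩ := by
    apply Subtype.ext
    simp [lie_add]
  rw [hadd, polar_add_left, polar_add_right, polar_add_right, hc w1, hc w2] at h12
  have hq12 : q (w1 + w2) = q w1 + q w2 + polar q w1 w2 := by
    unfold polar; ring
  rw [hq12] at h12
  linear_combination h12

section Rho

variable (ρ : Module.Dual K H) (hρ : rootSpace H ρ ≠ ⊥)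
  (htop : ∀ i, rootSpace H (ρ + b.baseSupp i) = ⊥)
  (j : ι) (hN : ∀ i, ρ (b.h' i) ≠ 0 ↔ i = j) (hj : ρ (b.h' j) = 1)

omit [Fintype ι] in
/-- `H`-relations: two nonvanishing polar values force equal weight sums -/
theorem weight_sum_eq (W : Submodule K L) (q : QuadraticForm K W)
    (hWH : ∀ h ∈ H, ∀ w ∈ W, ⁅h, w⁆ ∈ W)
    (hq : ∀ (h : L) (hh : h ∈ H), ∃ c : K, ∀ w : W,
      polar q ⟨⁅h, (w : L)⁆, hWH h hh w w.2⟩ w = c * q w)
    (μ1 μ2 ν1 ν2 : Module.Dual K H) (x1 x2 y1 y2 : W)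
    (hx1 : (x1 : L) ∈ rootSpace H ⇑μ1) (hx2 : (x2 : L) ∈ rootSpace H ⇑μ2)
    (hy1 : (y1 : L) ∈ rootSpace H ⇑ν1) (hy2 : (y2 : L) ∈ rootSpace H ⇑ν2)
    (hx : polar q x1 x2 ≠ 0) (hy : polar q y1 y2 ≠ 0) : μ1 + μ2 = ν1 + ν2 := by
  apply LinearMap.ext
  intro h
  obtain ⟨c, hc⟩ := hq h.1 h.2
  have key : ∀ (μ μ' : Module.Dual K H) (z z' : W), (z : L) ∈ rootSpace H ⇑μ →
      (z' : L) ∈ rootSpace H ⇑μ' → polar q z z' ≠ 0 → μ h + μ' h = c := by
    intro μ μ' z z' hz hz' hne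
    have hP := polarised W q h.1 (hWH h.1 h.2) c hc z z'
    have e1 : (⟨⁅(h : L), (z : L)⁆, hWH h.1 h.2 z z.2⟩ : W) = μ h • z := by
      apply Subtype.ext
      have := lie_eq_smul_of_mem_rootSpace hz h
      simpa using this
    have e2 : (⟨⁅(h : L), (z' : L)⁆, hWH h.1 h.2 z' z'.2⟩ : W) = μ' h • z' := by
      apply Subtype.ext
      have := lie_eq_smul_of_mem_rootSpace hz' h
      simpa using this
    rw [e1, e2, polar_smul_left, polar_smul_left, polar_comm q z' z] at hP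
    simp only [smul_eq_mul] at hP
    have : (μ h + μ' h - c) * polar q z z' = 0 := by linear_combination hP
    rcases mul_eq_zero.mp this with h0 | h0
    · linear_combination h0
    · exact absurd h0 hne
  rw [LinearMap.add_apply, LinearMap.add_apply, key μ1 μ2 x1 x2 hx1 hx2 hx,
    key ν1 ν2 y1 y2 hy1 hy2 hy]

include hρ htop hN hj

/-- **only double lines**: a Borel-semi-invariant quadratic form on a three-dimensional
Borel-stable subspace is a multiple of a square -/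
theorem conic (W : Submodule K L) (hdim : Module.finrank K W = 3)
    (hst : ∀ x ∈ H.toSubmodule ⊔ (b.borelUpper : Submodule K L), ∀ w ∈ W, ⁅x, w⁆ ∈ W)
    (q : QuadraticForm K W)
    (hq : ∀ (x : L) (hx : x ∈ H.toSubmodule ⊔ (b.borelUpper : Submodule K L)), ∃ c : K,
      ∀ w : W, polar q ⟨⁅x, (w : L)⁆, hst x hx w w.property⟩ w = c * q w) :
    ∃ (ℓ : Module.Dual K W) (c : K), ∀ w : W, q w = c * ℓ w ^ 2 := by
  classical
  have hWH : ∀ h ∈ H, ∀ w ∈ W, ⁅h, w⁆ ∈ W := fun h hh w hw =>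
    hst h (Submodule.mem_sup_left hh) w hw
  have heB : ∀ i, b.e i ∈ H.toSubmodule ⊔ (b.borelUpper : Submodule K L) := fun i =>
    Submodule.mem_sup_right (e_mem_borelUpper b i)
  have hWe : ∀ i, ∀ w ∈ W, ⁅b.e i, w⁆ ∈ W := fun i w hw => hst _ (heB i) w hw
  obtain ⟨hU2, i, hi, hA, hne3, hWeq⟩ := dim_three b ρ hρ htop j hN hj W hWH hWe hdim
  -- basis vectors
  have hρ' := hρ
  rw [Ne, LieSubmodule.eq_bot_iff] at hρ'
  push Not at hρ'
  obtain ⟨u, hu, hu0⟩ := hρ'
  have h2 := sub_j_weight b ρ hρ htop j hN hj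
  rw [Ne, LieSubmodule.eq_bot_iff] at h2
  push Not at h2
  obtain ⟨v, hv, hv0⟩ := h2
  have h3 := hne3
  rw [Ne, LieSubmodule.eq_bot_iff] at h3
  push Not at h3
  obtain ⟨w, hw, hw0⟩ := h3
  have huW : u ∈ W := hU2 (Submodule.mem_sup_left hu)
  have hvW : v ∈ W := hU2 (Submodule.mem_sup_right hv)
  have hwW : w ∈ W := by rw [hWeq]; exact Submodule.mem_sup_right hw
  -- weights in `wt` form
  have hu' : u ∈ rootSpace H ⇑(wt b ρ 0) := by rw [wt_zero]; exact hu
  have hv' : v ∈ rootSpace H ⇑(wt b ρ (Pi.single j 1)) := by rw [wt_single]; exact hv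
  have hw' : w ∈ rootSpace H ⇑(wt b ρ (Pi.single j 1 + Pi.single i 1)) := by
    rw [wt_two]; exact hw
  -- spanning
  have hline : ∀ (χ : H → K) (hχ0 : χ ≠ 0) (x : L), x ≠ 0 → x ∈ rootSpace H χ →
      ∀ y ∈ rootSpace H χ, ∃ c : K, y = c • x := by
    intro χ hχ0 x hx0 hx y hy
    have hle := rootSpace_le_of_mem χ hχ0 x hx0 hx (Submodule.span K {x})
      (Submodule.mem_span_singleton_self x)
    obtain ⟨c, hc⟩ := Submodule.mem_span_singleton.mp (hle hy)
    exact ⟨c, hc.symm⟩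
  have hspan : ∀ z : W, ∃ s t r : K, z = s • (⟨u, huW⟩ : W) + t • ⟨v, hvW⟩ + r • ⟨w, hwW⟩ := by
    intro z
    have hz0 := z.2
    have hz : (z : L) ∈ (rootSpace H ⇑ρ).toSubmodule ⊔ (rootSpace H ⇑(ρ - b.baseSupp j)).toSubmodule ⊔
        (rootSpace H ⇑(ρ - b.baseSupp j - b.baseSupp i)).toSubmodule := by
      rw [← hWeq]; exact hz0
    obtain ⟨z12, hz12, z3, hz3, hzz⟩ := Submodule.mem_sup.mp hz
    obtain ⟨z1, hz1, z2, hz2, rfl⟩ := Submodule.mem_sup.mp hz12
    obtain ⟨s, rfl⟩ := hline _ (rho_ne_zero b ρ hρ htop j hN hj) u hu0 hu z1 hz1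
    obtain ⟨t, rfl⟩ := hline _ (rho_sub_ne_zero b ρ hρ htop j hN hj) v hv0 hv z2 hz2
    obtain ⟨r, rfl⟩ := hline _ (rho_sub_sub_ne_zero b ρ hρ htop j hN hj i hi) w hw0 hw z3 hz3
    refine ⟨s, t, r, ?_⟩
    apply Subtype.ext
    rw [← hzz]
    simp
  -- brackets
  have F1 : ∀ k, ⁅b.e k, u⁆ = 0 := fun k => lie_e_eq_zero b ρ hρ htop 0 u hu' k rfl
  have F3 : ⁅b.e i, v⁆ = 0 := lie_e_eq_zero b ρ hρ htop _ v hv' i (by simp [Pi.single_apply, hi])
  have F4 : ⁅b.e j, w⁆ = 0 := by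
    by_contra hne
    have := (one_le_of_lie_e_ne_zero b ρ hρ htop _ w hw' j hne).2
    have hsub : (Pi.single j 1 + Pi.single i 1 - Pi.single j 1 : ι → ℕ) = Pi.single i 1 := by
      funext k; simp
    rw [hsub, wt_single, sub_not_weight b ρ hρ htop j hN hj i hi] at this
    exact hne ((LieSubmodule.mem_bot _).mp this)
  obtain ⟨a, ha0, F2⟩ : ∃ a : K, a ≠ 0 ∧ ⁅b.e j, v⁆ = a • u := by
    obtain ⟨k, hk, hne, hmem⟩ := step b ρ hρ htop (Pi.single j 1) (by
      intro h; have := congrFun h j; simp at this) v hv0 hv'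
    have hkj : k = j := by
      by_contra hkj
      simp [Pi.single_apply, hkj] at hk
    subst hkj
    rw [tsub_self, wt_zero] at hmem
    obtain ⟨a, ha⟩ := hline _ (rho_ne_zero b ρ hρ htop k hN hj) u hu0 hu _ hmem
    refine ⟨a, ?_, ha⟩
    intro h0
    rw [h0, zero_smul] at ha
    exact hne ha
  obtain ⟨a', ha'0, F5⟩ : ∃ a' : K, a' ≠ 0 ∧ ⁅b.e i, w⁆ = a' • v := by
    obtain ⟨k, hk, hne, hmem⟩ := step b ρ hρ htop (Pi.single j 1 + Pi.single i 1) (by
      intro h; have := congrFun h j; simp at this) w hw0 hw'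
    have hki : k = i := by
      by_contra hki
      by_cases hkj : k = j
      · subst hkj; exact hne F4
      · simp [Pi.single_apply, hki, hkj] at hk
    subst hki
    have hsub : (Pi.single j 1 + Pi.single k 1 - Pi.single k 1 : ι → ℕ) = Pi.single j 1 := by
      funext l; simp
    rw [hsub, wt_single] at hmem
    obtain ⟨a', ha'⟩ := hline _ (rho_sub_ne_zero b ρ hρ htop j hN hj) v hv0 hv _ hmem
    refine ⟨a', ?_, ha'⟩
    intro h0
    rw [h0, zero_smul] at ha'
    exact hne ha'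
  -- the H-relations
  have hqH : ∀ (h : L) (hh : h ∈ H), ∃ c : K, ∀ z : W,
      polar q ⟨⁅h, (z : L)⁆, hWH h hh z z.2⟩ z = c * q z := fun h hh =>
    hq h (Submodule.mem_sup_left hh)
  set uW : W := ⟨u, huW⟩ with huWdef
  set vW : W := ⟨v, hvW⟩ with hvWdef
  set wW : W := ⟨w, hwW⟩ with hwWdef
  have hsum := weight_sum_eq W q hWH hqH
  have n01 : (0 : ι → ℕ) ≠ Pi.single j 1 := by
    intro h; have := congrFun h j; simp at this
  have n02 : (0 : ι → ℕ) ≠ Pi.single j 1 + Pi.single i 1 := by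
    intro h; have := congrFun h j
    simp only [Pi.zero_apply, Pi.add_apply, Pi.single_eq_same] at this
    omega
  have n12 : (Pi.single j 1 : ι → ℕ) ≠ Pi.single j 1 + Pi.single i 1 := by
    intro h; have := congrFun h i
    simp [Pi.single_apply, hi] at this
  have two_cancel : ∀ μ ν : Module.Dual K H, μ + μ = ν + ν → μ = ν := by
    intro μ ν h
    have : (2 : K) • μ = (2 : K) • ν := by rw [two_smul, two_smul, h]
    exact smul_right_injective _ (two_ne_zero) this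
  have d01 : wt b ρ 0 ≠ wt b ρ (Pi.single j 1) := fun h => n01 (wt_injective b ρ _ _ h)
  have d02 : wt b ρ 0 ≠ wt b ρ (Pi.single j 1 + Pi.single i 1) :=
    fun h => n02 (wt_injective b ρ _ _ h)
  have d12 : wt b ρ (Pi.single j 1) ≠ wt b ρ (Pi.single j 1 + Pi.single i 1) :=
    fun h => n12 (wt_injective b ρ _ _ h)
  -- the e-relations
  obtain ⟨cj, hcj⟩ := hq (b.e j) (heB j)
  obtain ⟨ci, hci⟩ := hq (b.e i) (heB i)
  have Pj := polarised W q (b.e j) (hWe j) cj hcj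
  have Pi' := polarised W q (b.e i) (hWe i) ci hci
  have ejv : (⟨⁅b.e j, (vW : L)⁆, hWe j vW vW.2⟩ : W) = a • uW := by
    apply Subtype.ext; simpa using F2
  have ejw : (⟨⁅b.e j, (wW : L)⁆, hWe j wW wW.2⟩ : W) = 0 := by
    apply Subtype.ext; simpa using F4
  have eiw : (⟨⁅b.e i, (wW : L)⁆, hWe i wW wW.2⟩ : W) = a' • vW := by
    apply Subtype.ext; simpa using F5
  have hej1 : 2 * a * polar q uW vW = cj * polar q vW vW := by
    have := Pj vW vW
    rw [ejv, polar_smul_left] at this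
    simp only [smul_eq_mul] at this
    linear_combination this
  have hej2 : a * polar q uW wW = cj * polar q vW wW := by
    have := Pj vW wW
    rw [ejv, ejw, polar_smul_left] at this
    simp only [smul_eq_mul, polar_zero_left, add_zero] at this
    linear_combination this
  have hei : 2 * a' * polar q vW wW = ci * polar q wW wW := by
    have := Pi' wW wW
    rw [eiw, polar_smul_left] at this
    simp only [smul_eq_mul] at this
    linear_combination this
  refine Groth.Agent.Lib.Helper31.QuadL.main q uW vW wW hspan ?_ ?_ ?_ ?_ ?_ ?_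
    a cj a' ci ha0 ha'0 hej1 hej2 hei
  · intro h1 h2
    have := hsum _ _ _ _ uW vW vW vW hu' hv' hv' hv' h1 h2
    exact d01 (add_right_cancel this)
  · intro h1 h2
    have := hsum _ _ _ _ uW wW vW wW hu' hw' hv' hw' h1 h2
    exact d01 (add_right_cancel this)
  · intro h1 h2
    have := hsum _ _ _ _ vW wW wW wW hv' hw' hw' hw' h1 h2
    exact d12 (add_right_cancel this)
  · intro h1 h2
    exact d01 (two_cancel _ _ (hsum _ _ _ _ uW uW vW vW hu' hu' hv' hv' h1 h2))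
  · intro h1 h2
    exact d02 (two_cancel _ _ (hsum _ _ _ _ uW uW wW wW hu' hu' hw' hw' h1 h2))
  · intro h1 h2
    exact d12 (two_cancel _ _ (hsum _ _ _ _ vW vW wW wW hv' hv' hw' hw' h1 h2))

end Rho

end Groth.Agent.Lib.Helper31.LieHW
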