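import Mathlib

/-!
# Rado's theorem for submodular rank functions and partition into independent sets

* `rado`: if `ρ` is a monotone submodular function on finsets with `ρ ∅ = 0` and a family of
  finsets `A i` satisfies `|J| ≤ ρ (⋃_{i∈J} A i)` for all `J`, then there is a transversal `f`
  with `|ι| ≤ ρ (image f)`.
* `exists_coloring`: Rado–Horn / Edmonds partition: if `|J| ≤ k * ρ J` for all `J`, the ground
  set can be `k`-coloured with every colour class independent (`ρ = card`).
-/

namespace Groth.Agent.Lib.Helper31.MU

open Finset

section Rado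

variable {ι E : Type*} [Fintype ι] [DecidableEq ι] [DecidableEq E]

theorem rado (ρ : Finset E → ℕ) (hmono : ∀ S T, S ⊆ T → ρ S ≤ ρ T)
    (hsub : ∀ S T, ρ (S ∪ T) + ρ (S ∩ T) ≤ ρ S + ρ T) (hempty : ρ ∅ = 0) :
    ∀ (n : ℕ) (A : ι → Finset E), ∑ i, (A i).card = n →
      (∀ J : Finset ι, J.card ≤ ρ (J.biUnion A)) →
      ∃ f : ι → E, (∀ i, f i ∈ A i) ∧ Fintype.card ι ≤ ρ (univ.image f) := by
  intro n
  induction n using Nat.strong_induction_on with
  | _ n ih =>
    intro A hn h
    have hne : ∀ i, (A i).Nonempty := by
      intro i
      by_contra hi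
      rw [Finset.not_nonempty_iff_eq_empty] at hi
      have := h {i}
      rw [Finset.singleton_biUnion, hi, hempty] at this
      simp at this
    by_cases hall : ∀ i, (A i).card ≤ 1
    · -- all singletons
      choose f hf using hne
      refine ⟨f, hf, ?_⟩
      have hAi : ∀ i, A i = {f i} := by
        intro i
        have h1 : (A i).card = 1 := le_antisymm (hall i) (Finset.card_pos.mpr ⟨f i, hf i⟩)
        obtain ⟨a, ha⟩ := Finset.card_eq_one.mp h1
        have := hf i
        rw [ha, Finset.mem_singleton] at this
        rw [ha, this]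
      have : univ.image f = univ.biUnion A := by
        ext a
        simp only [Finset.mem_image, Finset.mem_univ, true_and, Finset.mem_biUnion]
        constructor
        · rintro ⟨i, rfl⟩; exact ⟨i, hf i⟩
        · rintro ⟨i, hi⟩
          rw [hAi i, Finset.mem_singleton] at hi
          exact ⟨i, hi.symm⟩
      rw [this]
      simpa using h univ
    · push Not at hall
      obtain ⟨i0, hi0⟩ := hall
      obtain ⟨x, hx, y, hy, hxy⟩ := Finset.one_lt_card.mp hi0
      -- the two reduced families
      have key : ∀ z ∈ A i0, (∀ J : Finset ι, J.card ≤ ρ (J.biUnion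
          (Function.update A i0 ((A i0).erase z)))) →
          ∃ f : ι → E, (∀ i, f i ∈ A i) ∧ Fintype.card ι ≤ ρ (univ.image f) := by
        intro z hz hz'
        have hlt : ∑ i, (Function.update A i0 ((A i0).erase z) i).card < n := by
          rw [← hn]
          apply Finset.sum_lt_sum
          · intro i _
            by_cases hi : i = i0
            · subst hi; rw [Function.update_self]
              exact Finset.card_le_card (Finset.erase_subset _ _)
            · rw [Function.update_of_ne hi]
          · refine ⟨i0, Finset.mem_univ _, ?_⟩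
            rw [Function.update_self]
            exact Finset.card_erase_lt_of_mem hz
        obtain ⟨f, hf, hf'⟩ := ih _ hlt _ rfl hz'
        refine ⟨f, fun i => ?_, hf'⟩
        have := hf i
        by_cases hi : i = i0
        · subst hi; rw [Function.update_self] at this
          exact Finset.mem_of_mem_erase this
        · rwa [Function.update_of_ne hi] at this
      by_contra hcon
      have hX : ¬ ∀ J : Finset ι, J.card ≤ ρ (J.biUnion
          (Function.update A i0 ((A i0).erase x))) := fun h' => hcon (key x hx h')
      have hY : ¬ ∀ J : Finset ι, J.card ≤ ρ (J.biUnion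
          (Function.update A i0 ((A i0).erase y))) := fun h' => hcon (key y hy h')
      push Not at hX hY
      obtain ⟨J, hJ⟩ := hX
      obtain ⟨K, hK⟩ := hY
      -- i0 ∈ J and i0 ∈ K
      have hmemaux : ∀ (z : E) (J : Finset ι),
          ρ (J.biUnion (Function.update A i0 ((A i0).erase z))) < J.card → i0 ∈ J := by
        intro z J hJ
        by_contra hi0J
        have : J.biUnion (Function.update A i0 ((A i0).erase z)) = J.biUnion A := by
          apply Finset.biUnion_congr rfl
          intro i hi
          rw [Function.update_of_ne]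
          rintro rfl; exact hi0J hi
        rw [this] at hJ
        exact absurd (h J) (not_le.mpr hJ)
      have hi0J := hmemaux x J hJ
      have hi0K := hmemaux y K hK
      set S := J.biUnion (Function.update A i0 ((A i0).erase x)) with hS
      set T := K.biUnion (Function.update A i0 ((A i0).erase y)) with hT
      set J' := J.erase i0 with hJ'
      set K' := K.erase i0 with hK'
      have hJc : J.card = J'.card + 1 := (Finset.card_erase_add_one hi0J).symm
      have hKc : K.card = K'.card + 1 := (Finset.card_erase_add_one hi0K).symm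
      have hsubS : ∀ i ∈ J', A i ⊆ S := by
        intro i hi a ha
        rw [hS, Finset.mem_biUnion]
        refine ⟨i, Finset.mem_of_mem_erase hi, ?_⟩
        rw [Function.update_of_ne (Finset.ne_of_mem_erase hi)]
        exact ha
      have hsubT : ∀ i ∈ K', A i ⊆ T := by
        intro i hi a ha
        rw [hT, Finset.mem_biUnion]
        refine ⟨i, Finset.mem_of_mem_erase hi, ?_⟩
        rw [Function.update_of_ne (Finset.ne_of_mem_erase hi)]
        exact ha
      have ha : (insert i0 (J' ∪ K')).biUnion A ⊆ S ∪ T := by
        intro a ha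
        rw [Finset.mem_biUnion] at ha
        obtain ⟨i, hi, hai⟩ := ha
        rw [Finset.mem_insert] at hi
        rcases hi with rfl | hi
        · by_cases hax : a = x
          · apply Finset.mem_union_right
            rw [hT, Finset.mem_biUnion]
            refine ⟨i, hi0K, ?_⟩
            rw [Function.update_self, Finset.mem_erase]
            exact ⟨by rw [hax]; exact hxy, hai⟩
          · apply Finset.mem_union_left
            rw [hS, Finset.mem_biUnion]
            refine ⟨i, hi0J, ?_⟩
            rw [Function.update_self, Finset.mem_erase]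
            exact ⟨hax, hai⟩
        · rcases Finset.mem_union.mp hi with hi | hi
          · exact Finset.mem_union_left _ (hsubS i hi hai)
          · exact Finset.mem_union_right _ (hsubT i hi hai)
      have hb : (J' ∩ K').biUnion A ⊆ S ∩ T := by
        intro a ha
        rw [Finset.mem_biUnion] at ha
        obtain ⟨i, hi, hai⟩ := ha
        rw [Finset.mem_inter] at hi
        exact Finset.mem_inter.mpr ⟨hsubS i hi.1 hai, hsubT i hi.2 hai⟩
      have h1 : (J' ∪ K').card + 1 ≤ ρ (S ∪ T) := by
        have hnot : i0 ∉ J' ∪ K' := by
          rw [Finset.mem_union, hJ', hK']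
          rintro (h' | h') <;> exact Finset.notMem_erase _ _ h'
        have := h (insert i0 (J' ∪ K'))
        rw [Finset.card_insert_of_notMem hnot] at this
        exact this.trans (hmono _ _ ha)
      have h2 : (J' ∩ K').card ≤ ρ (S ∩ T) := (h _).trans (hmono _ _ hb)
      have h3 := hsub S T
      have h4 := Finset.card_union_add_card_inter J' K'
      omega

end Rado

section Coloring

variable {I : Type*} [Fintype I] [DecidableEq I]

theorem exists_coloring (ρ : Finset I → ℕ) (hmono : ∀ S T, S ⊆ T → ρ S ≤ ρ T)
    (hsub : ∀ S T, ρ (S ∪ T) + ρ (S ∩ T) ≤ ρ S + ρ T) (hcard : ∀ S, ρ S ≤ S.card)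
    (k : ℕ) (h : ∀ J : Finset I, J.card ≤ k * ρ J) :
    ∃ col : I → Fin k, ∀ c, ρ (univ.filter (fun i => col i = c))
      = (univ.filter (fun i => col i = c)).card := by
  classical
  set ρ' : Finset (I × Fin k) → ℕ := fun S => ∑ c : Fin k, ρ (univ.filter (fun i => (i, c) ∈ S))
    with hρ'
  have hempty : ρ ∅ = 0 := by have := hcard ∅; simpa using this
  have hmono' : ∀ S T, S ⊆ T → ρ' S ≤ ρ' T := by
    intro S T hST
    apply Finset.sum_le_sum
    intro c _
    apply hmono
    intro i hi
    rw [Finset.mem_filter] at hi ⊢
    exact ⟨hi.1, hST hi.2⟩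
  have hsub' : ∀ S T, ρ' (S ∪ T) + ρ' (S ∩ T) ≤ ρ' S + ρ' T := by
    intro S T
    simp only [hρ']
    rw [← Finset.sum_add_distrib, ← Finset.sum_add_distrib]
    apply Finset.sum_le_sum
    intro c _
    have h1 : univ.filter (fun i => (i, c) ∈ S ∪ T)
        = univ.filter (fun i => (i, c) ∈ S) ∪ univ.filter (fun i => (i, c) ∈ T) := by
      ext i; simp
    have h2 : univ.filter (fun i => (i, c) ∈ S ∩ T)
        = univ.filter (fun i => (i, c) ∈ S) ∩ univ.filter (fun i => (i, c) ∈ T) := by
      ext i; simp
    rw [h1, h2]
    exact hsub _ _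
  have hempty' : ρ' ∅ = 0 := by
    simp [hρ', hempty]
  set A : I → Finset (I × Fin k) := fun i => univ.image (fun c => (i, c)) with hA
  have hcond : ∀ J : Finset I, J.card ≤ ρ' (J.biUnion A) := by
    intro J
    have : ∀ c : Fin k, univ.filter (fun i => (i, c) ∈ J.biUnion A) = J := by
      intro c
      ext i
      simp only [Finset.mem_filter, Finset.mem_univ, true_and, Finset.mem_biUnion, hA,
        Finset.mem_image, Prod.mk.injEq]
      constructor
      · rintro ⟨j, hj, c', hc'⟩; rw [← hc'.1]; exact hj
      · intro hi; exact ⟨i, hi, c, rfl, rfl⟩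
    simp only [hρ', this, Finset.sum_const, Finset.card_univ, Fintype.card_fin, smul_eq_mul]
    exact h J
  obtain ⟨f, hf, hf'⟩ := rado ρ' hmono' hsub' hempty' _ A rfl hcond
  have hf1 : ∀ i, (f i).1 = i := by
    intro i
    have := hf i
    simp only [hA, Finset.mem_image, Finset.mem_univ, true_and] at this
    obtain ⟨c, hc⟩ := this
    rw [← hc]
  refine ⟨fun i => (f i).2, ?_⟩
  have hfil : ∀ c : Fin k, univ.filter (fun i => (i, c) ∈ univ.image f)
      = univ.filter (fun i => (f i).2 = c) := by
    intro c
    ext i
    simp only [Finset.mem_filter, Finset.mem_univ, true_and, Finset.mem_image]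
    constructor
    · rintro ⟨j, hj⟩
      have : j = i := by rw [← hf1 j, hj]
      subst this; rw [hj]
    · intro hi
      exact ⟨i, Prod.ext (hf1 i) hi⟩
  have hsum : ∑ c : Fin k, (univ.filter (fun i => (f i).2 = c)).card = Fintype.card I := by
    rw [← Finset.card_univ]
    exact (Finset.card_eq_sum_card_fiberwise (f := fun i => (f i).2) (s := univ) (t := univ)
      (fun i _ => Finset.mem_univ _)).symm
  have hle : ∀ c ∈ (univ : Finset (Fin k)), ρ (univ.filter (fun i => (f i).2 = c))
      ≤ (univ.filter (fun i => (f i).2 = c)).card := fun c _ => hcard _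
  have hge : ∑ c : Fin k, (univ.filter (fun i => (f i).2 = c)).card
      ≤ ∑ c : Fin k, ρ (univ.filter (fun i => (f i).2 = c)) := by
    rw [hsum]
    simp only [hρ', hfil] at hf'
    exact hf'
  have heq := (Finset.sum_eq_sum_iff_of_le hle).mp (le_antisymm (Finset.sum_le_sum hle) hge)
  intro c
  exact heq c (Finset.mem_univ c)

end Coloring

end Groth.Agent.Lib.Helper31.MU
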