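import Mathlib

/-!
# The linear rank function on finite index sets, and a double counting lemma
-/

namespace Groth.Agent.Lib.Helper31.MU

open Finset Module

section Rank

variable (K : Type*) {V : Type*} [Field K] [AddCommGroup V] [Module K V] {I : Type*}

/-- rank of the vectors `y i`, `i ∈ T`. -/
noncomputable def rk (y : I → V) (T : Finset I) : ℕ :=
  finrank K (Submodule.span K (y '' (T : Set I)))

instance (y : I → V) (T : Finset I) :
    FiniteDimensional K (Submodule.span K (y '' (T : Set I))) :=
  FiniteDimensional.span_of_finite K (Set.Finite.image _ T.finite_toSet)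

theorem rk_mono (y : I → V) (S T : Finset I) (h : S ⊆ T) : rk K y S ≤ rk K y T := by
  unfold rk
  apply Submodule.finrank_mono
  apply Submodule.span_mono
  exact Set.image_mono (by exact_mod_cast h)

theorem rk_sub [DecidableEq I] (y : I → V) (S T : Finset I) :
    rk K y (S ∪ T) + rk K y (S ∩ T) ≤ rk K y S + rk K y T := by
  unfold rk
  have h1 : Submodule.span K (y '' ((S ∪ T : Finset I) : Set I))
      = Submodule.span K (y '' (S : Set I)) ⊔ Submodule.span K (y '' (T : Set I)) := by
    rw [Finset.coe_union, Set.image_union, Submodule.span_union]
  have h2 : Submodule.span K (y '' ((S ∩ T : Finset I) : Set I))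
      ≤ Submodule.span K (y '' (S : Set I)) ⊓ Submodule.span K (y '' (T : Set I)) := by
    apply le_inf
    · apply Submodule.span_mono
      apply Set.image_mono
      rw [Finset.coe_inter]; exact Set.inter_subset_left
    · apply Submodule.span_mono
      apply Set.image_mono
      rw [Finset.coe_inter]; exact Set.inter_subset_right
  rw [h1, ← Submodule.finrank_sup_add_finrank_inf_eq (Submodule.span K (y '' (S : Set I)))
    (Submodule.span K (y '' (T : Set I)))]
  exact Nat.add_le_add_left (Submodule.finrank_mono h2) _

theorem rk_le_card [DecidableEq V] (y : I → V) (T : Finset I) : rk K y T ≤ T.card := by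
  unfold rk
  have : y '' (T : Set I) = ((T.image y : Finset V) : Set V) := by
    rw [Finset.coe_image]
  rw [this]
  exact (finrank_span_finset_le_card (R := K) (T.image y)).trans Finset.card_image_le

theorem rk_le_finrank [FiniteDimensional K V] (y : I → V) (T : Finset I) :
    rk K y T ≤ finrank K V := Submodule.finrank_le _

theorem linearIndependent_of_rk_eq (y : I → V) (T : Finset I) (h : rk K y T = T.card) :
    LinearIndependent K (fun i : T => y i) := by
  rw [linearIndependent_iff_card_eq_finrank_span]
  have : Set.range (fun i : T => y i) = y '' (T : Set I) := by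
    ext v
    simp
  rw [Set.finrank, this, Fintype.card_coe]
  exact h.symm

end Rank

section Count

variable {J : Type*} [DecidableEq J]

theorem sum_card_filter_mem (P : Multiset (Finset J)) (A : Finset J) :
    ∑ j ∈ A, Multiset.card (P.filter (fun S => j ∈ S))
      = (P.map (fun S => (S ∩ A).card)).sum := by
  induction P using Multiset.induction_on with
  | empty => simp
  | cons S P ih =>
    rw [Multiset.map_cons, Multiset.sum_cons, ← ih]
    have : ∀ j, Multiset.card ((S ::ₘ P).filter (fun S => j ∈ S))
        = (if j ∈ S then 1 else 0) + Multiset.card (P.filter (fun S => j ∈ S)) := by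
      intro j
      by_cases hj : j ∈ S
      · rw [Multiset.filter_cons_of_pos (p := fun S => j ∈ S) P hj, Multiset.card_cons, if_pos hj, add_comm]
      · rw [Multiset.filter_cons_of_neg (p := fun S => j ∈ S) P hj, if_neg hj, zero_add]
    simp only [this, Finset.sum_add_distrib]
    congr 1
    rw [Finset.sum_ite, Finset.sum_const_zero, add_zero, Finset.sum_const, smul_eq_mul, mul_one]
    congr 1
    ext j
    simp only [Finset.mem_filter, Finset.mem_inter]
    tauto

end Count

end Groth.Agent.Lib.Helper31.MU
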