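import Mathlib
import Groth.Agent.Lib.Helper31.MU1
import Groth.Agent.Lib.Helper31.MU2

/-!
# Stable point configurations and monomials in determinants (S12552)
-/

namespace Groth.Agent.Lib.Helper31.MU

open Finset Module

universe u
variable (K : Type u) [Field K] (V : Type u) [AddCommGroup V] [Module K V] [FiniteDimensional K V]

theorem stable_of_monomials (m : ℕ) (x : Fin (m + 1) → V)
    (N N₀ : ℕ) (hN₀ : 0 < N₀) (hNN : N₀ ≤ N)
    (hP : ∀ i : Fin (m + 1), ∃ P : Multiset (Finset (Fin (m + 1))), P ≠ 0 ∧
      (∀ S ∈ P, S.card = Module.finrank K V ∧ LinearIndependent K (fun j : S => x j)) ∧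
      ∀ j : Fin (m + 1),
        Multiset.card (P.filter (fun S => j ∈ S)) = if j = i then N - N₀ else N)
    (L : Submodule K V) (hL0 : L ≠ ⊥) (hL1 : L ≠ ⊤) :
    Set.ncard {i : Fin (m + 1) | x i ∈ L} * Module.finrank K V
      < Module.finrank K L * (m + 1) := by
  classical
  set AL : Finset (Fin (m + 1)) := univ.filter (fun j => x j ∈ L) with hAL
  have hnc : Set.ncard {i : Fin (m + 1) | x i ∈ L} = AL.card := by
    rw [← Set.ncard_coe_finset AL]
    congr 1
    ext j
    simp [hAL]
  rw [hnc]
  set n := finrank K V with hn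
  set l := finrank K L with hl
  have hl1 : 1 ≤ l := by
    rw [Nat.one_le_iff_ne_zero, hl, Ne, Submodule.finrank_eq_zero]
    exact hL0
  have hln : l < n := Submodule.finrank_lt hL1
  have key : ∀ S : Finset (Fin (m + 1)), LinearIndependent K (fun j : S => x j) →
      (S ∩ AL).card ≤ l := by
    intro S hS
    have hmem : ∀ j : (S ∩ AL : Finset (Fin (m + 1))), x j ∈ L := fun j =>
      (Finset.mem_filter.mp (Finset.mem_inter.mp j.2).2).2
    have hmemS : ∀ j : (S ∩ AL : Finset (Fin (m + 1))), (j : Fin (m + 1)) ∈ S := fun j =>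
      (Finset.mem_inter.mp j.2).1
    have h1 : LinearIndependent K (fun j : (S ∩ AL : Finset (Fin (m + 1))) => x j) := by
      have := hS.comp (fun j : (S ∩ AL : Finset (Fin (m + 1))) => (⟨j, hmemS j⟩ : S))
        (fun a b hab => Subtype.ext (by simpa using congrArg (fun z : S => (z : Fin (m + 1))) hab))
      exact this
    have h2 : LinearIndependent K
        (fun j : (S ∩ AL : Finset (Fin (m + 1))) => (⟨x j, hmem j⟩ : L)) := by
      apply LinearIndependent.of_comp L.subtype
      exact h1
    have := h2.fintype_card_le_finrank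
    rwa [Fintype.card_coe] at this
  by_cases hall : ∀ j, x j ∈ L
  · exfalso
    obtain ⟨P, hP0, hPS, -⟩ := hP 0
    obtain ⟨S, hS⟩ := Multiset.exists_mem_of_ne_zero hP0
    have h1 := key S (hPS S hS).2
    have h2 : S ∩ AL = S := by
      apply Finset.inter_eq_left.mpr
      intro j _
      rw [hAL, Finset.mem_filter]
      exact ⟨Finset.mem_univ _, hall j⟩
    rw [h2, (hPS S hS).1] at h1
    omega
  · push Not at hall
    obtain ⟨i, hi⟩ := hall
    obtain ⟨P, hP0, hPS, hPc⟩ := hP i
    have hiAL : i ∉ AL := by
      rw [hAL, Finset.mem_filter]; exact fun h => hi h.2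
    have h1 : AL.card * N ≤ Multiset.card P * l := by
      have e1 := sum_card_filter_mem P AL
      have e2 : ∑ j ∈ AL, Multiset.card (P.filter (fun S => j ∈ S)) = AL.card * N := by
        rw [Finset.sum_congr rfl (fun j hj => by
          rw [hPc j, if_neg (by rintro rfl; exact hiAL hj)]), Finset.sum_const, smul_eq_mul]
      have e3 : (P.map (fun S => (S ∩ AL).card)).sum ≤ Multiset.card P * l := by
        have := Multiset.sum_le_card_nsmul (P.map (fun S => (S ∩ AL).card)) l (by
          intro a ha
          rw [Multiset.mem_map] at ha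
          obtain ⟨S, hS, rfl⟩ := ha
          exact key S (hPS S hS).2)
        rwa [Multiset.card_map, smul_eq_mul] at this
      omega
    have h2 : Multiset.card P * n + N₀ = (m + 1) * N := by
      have e1 := sum_card_filter_mem P univ
      have e2 : (P.map (fun S => (S ∩ univ).card)).sum = Multiset.card P * n := by
        have : P.map (fun S => (S ∩ univ).card) = P.map (fun _ => n) := by
          apply Multiset.map_congr rfl
          intro S hS
          rw [Finset.inter_univ, (hPS S hS).1]
        rw [this, Multiset.map_const', Multiset.sum_replicate, smul_eq_mul]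
      have e3 : ∑ j ∈ (univ : Finset (Fin (m + 1))),
          Multiset.card (P.filter (fun S => j ∈ S)) + N₀ = (m + 1) * N := by
        rw [Finset.sum_congr rfl (fun j _ => hPc j)]
        have : ∀ j : Fin (m + 1), (if j = i then N - N₀ else N)
            = N - (if j = i then N₀ else 0) := by
          intro j; split_ifs <;> simp
        rw [Finset.sum_congr rfl (fun j _ => this j)]
        have hsum : ∑ j : Fin (m + 1), (N - if j = i then N₀ else 0)
            + ∑ j : Fin (m + 1), (if j = i then N₀ else 0) = ∑ j : Fin (m + 1), N := by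
          rw [← Finset.sum_add_distrib]
          apply Finset.sum_congr rfl
          intro j _
          split_ifs <;> omega
        rw [Finset.sum_ite_eq' univ i (fun _ => N₀), if_pos (Finset.mem_univ _)] at hsum
        rw [hsum, Finset.sum_const, Finset.card_univ, Fintype.card_fin, smul_eq_mul]
      omega
    have hNpos : 0 < N := lt_of_lt_of_le hN₀ hNN
    have h3 : AL.card * n * N < l * (m + 1) * N := by
      have e1 : AL.card * n * N ≤ l * (Multiset.card P * n) := by
        calc AL.card * n * N = (AL.card * N) * n := by ring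
          _ ≤ (Multiset.card P * l) * n := Nat.mul_le_mul_right _ h1
          _ = l * (Multiset.card P * n) := by ring
      have e2 : l * (Multiset.card P * n) + l * N₀ = l * (m + 1) * N := by
        rw [← Nat.mul_add, h2]; ring
      have e3 : 1 ≤ l * N₀ := Nat.one_le_iff_ne_zero.mpr (by positivity)
      omega
    exact Nat.lt_of_mul_lt_mul_right h3

theorem monomials_of_stable (m : ℕ) (x : Fin (m + 1) → V) (hx : ∀ i, x i ≠ 0)
    (hst : ∀ L : Submodule K V, L ≠ ⊥ → L ≠ ⊤ →
      Set.ncard {i : Fin (m + 1) | x i ∈ L} * Module.finrank K V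
        < Module.finrank K L * (m + 1)) :
    ∃ N N₀ : ℕ, 0 < N₀ ∧ N₀ ≤ N ∧
      ∀ i : Fin (m + 1), ∃ P : Multiset (Finset (Fin (m + 1))), P ≠ 0 ∧
        (∀ S ∈ P, S.card = Module.finrank K V ∧ LinearIndependent K (fun j : S => x j)) ∧
        ∀ j : Fin (m + 1),
          Multiset.card (P.filter (fun S => j ∈ S)) = if j = i then N - N₀ else N := by
  classical
  set n := finrank K V with hn
  have hn0 : 0 < n := Module.finrank_pos_iff_exists_ne_zero.mpr ⟨x 0, hx 0⟩
  refine ⟨2 * n ^ 2, n, hn0, by nlinarith, fun i => ?_⟩
  set N := 2 * n ^ 2 with hN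
  have hnN : n ≤ N := by nlinarith
  set v : Fin (m + 1) → ℕ := fun j => if j = i then N - n else N with hv
  have hvN : ∀ j, v j ≤ N := by
    intro j; simp only [hv]; split_ifs <;> omega
  set k := 2 * (m + 1) * n - 1 with hk
  have hk1 : k + 1 = 2 * (m + 1) * n := by
    have : 1 ≤ 2 * (m + 1) * n := Nat.one_le_iff_ne_zero.mpr (by positivity)
    omega
  have hk0 : 1 ≤ k := by
    have : 2 ≤ 2 * (m + 1) * n := by nlinarith
    omega
  set y : (Σ j : Fin (m + 1), Fin (v j)) → V := fun p => x p.1 with hy
  have hsumv : ∑ j, v j + n = (m + 1) * N := by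
    have hsum : ∑ j : Fin (m + 1), v j
        + ∑ j : Fin (m + 1), (if j = i then n else 0) = ∑ j : Fin (m + 1), N := by
      rw [← Finset.sum_add_distrib]
      apply Finset.sum_congr rfl
      intro j _
      simp only [hv]
      split_ifs <;> omega
    rw [Finset.sum_ite_eq' univ i (fun _ => n), if_pos (Finset.mem_univ _)] at hsum
    rw [hsum, Finset.sum_const, Finset.card_univ, Fintype.card_fin, smul_eq_mul]
  have hcardI : Fintype.card (Σ j : Fin (m + 1), Fin (v j)) = n * k := by
    rw [Fintype.card_sigma]
    simp only [Fintype.card_fin]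
    have : n * k + n = (m + 1) * N := by
      calc n * k + n = n * (k + 1) := by ring
        _ = (m + 1) * N := by rw [hk1, hN]; ring
    omega
  -- the Rado-Horn condition
  have hcond : ∀ J : Finset (Σ j : Fin (m + 1), Fin (v j)), J.card ≤ k * rk K y J := by
    intro J
    set A := J.image Sigma.fst with hA
    have hyA : y '' (J : Set (Σ j : Fin (m + 1), Fin (v j))) = x '' (A : Set (Fin (m + 1))) := by
      rw [hA, Finset.coe_image, Set.image_image]
    set L := Submodule.span K (x '' (A : Set (Fin (m + 1)))) with hL
    have hrk : rk K y J = finrank K L := by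
      rw [rk, hyA]
    have hJA : J.card ≤ A.card * N := by
      have h1 : J ⊆ A.sigma (fun j => (univ : Finset (Fin (v j)))) := by
        intro p hp
        rw [Finset.mem_sigma]
        exact ⟨Finset.mem_image_of_mem _ hp, Finset.mem_univ _⟩
      have h2 := Finset.card_le_card h1
      rw [Finset.card_sigma] at h2
      have h3 : ∑ j ∈ A, (univ : Finset (Fin (v j))).card ≤ ∑ j ∈ A, N := by
        apply Finset.sum_le_sum
        intro j _
        rw [Finset.card_univ, Fintype.card_fin]
        exact hvN j
      rw [Finset.sum_const, smul_eq_mul] at h3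
      omega
    have hAL : ∀ j ∈ A, x j ∈ L := fun j hj =>
      Submodule.subset_span (Set.mem_image_of_mem _ (by exact_mod_cast hj))
    rw [hrk]
    by_cases hL0 : L = ⊥
    · have : A = ∅ := by
        rw [Finset.eq_empty_iff_forall_notMem]
        intro j hj
        have := hAL j hj
        rw [hL0, Submodule.mem_bot] at this
        exact hx j this
      rw [this] at hJA
      simp at hJA
      simp [hJA]
    by_cases hL1 : L = ⊤
    · rw [hL1, finrank_top, ← hn]
      calc J.card ≤ Fintype.card (Σ j : Fin (m + 1), Fin (v j)) := Finset.card_le_univ _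
        _ = k * n := by rw [hcardI]; ring
    · have h1 := hst L hL0 hL1
      have h2 : A.card ≤ Set.ncard {i : Fin (m + 1) | x i ∈ L} := by
        rw [← Set.ncard_coe_finset A]
        apply Set.ncard_le_ncard _ (Set.toFinite _)
        intro j hj
        exact hAL j (by exact_mod_cast hj)
      have hl : finrank K L ≤ n := Submodule.finrank_le L
      set l := finrank K L
      set a := A.card
      have h3 : a * n + 1 ≤ l * (m + 1) := by
        have := Nat.mul_le_mul_right n h2
        omega
      have h4 : a * N + l ≤ (k + 1) * l := by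
        rw [hk1, hN]
        nlinarith [Nat.mul_le_mul_left (2 * n) h3]
      have h5 : (k + 1) * l = k * l + l := by ring
      omega
  obtain ⟨col, hcol⟩ := exists_coloring (rk K y) (rk_mono K y) (rk_sub K y) (rk_le_card K y) k hcond
  set Ic : Fin k → Finset (Σ j : Fin (m + 1), Fin (v j)) := fun c =>
    univ.filter (fun p => col p = c) with hIc
  have hsum : ∑ c : Fin k, (Ic c).card = n * k := by
    rw [← hcardI, ← Finset.card_univ]
    exact (Finset.card_eq_sum_card_fiberwise (f := col) (s := univ) (t := univ)
      (fun i _ => Finset.mem_univ _)).symm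
  have hle : ∀ c ∈ (univ : Finset (Fin k)), (Ic c).card ≤ n := by
    intro c _
    rw [← hcol c]
    exact rk_le_finrank K y _
  have hcardIc : ∀ c, (Ic c).card = n := by
    have h1 : ∑ c : Fin k, (Ic c).card = ∑ c : Fin k, n := by
      rw [hsum, Finset.sum_const, Finset.card_univ, Fintype.card_fin, smul_eq_mul, mul_comm]
    have := (Finset.sum_eq_sum_iff_of_le hle).mp h1
    exact fun c => this c (Finset.mem_univ c)
  have hli : ∀ c, LinearIndependent K (fun p : Ic c => y p) := fun c =>
    linearIndependent_of_rk_eq K y (Ic c) (hcol c)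
  have hinj : ∀ c, Set.InjOn (Sigma.fst : (Σ j : Fin (m + 1), Fin (v j)) → Fin (m + 1))
      (Ic c : Set (Σ j : Fin (m + 1), Fin (v j))) := by
    intro c p hp q hq hpq
    have h1 : y p = y q := by simp only [hy, hpq]
    have := (hli c).injective (a₁ := ⟨p, hp⟩) (a₂ := ⟨q, hq⟩) h1
    exact congrArg Subtype.val this
  set Sset : Fin k → Finset (Fin (m + 1)) := fun c => (Ic c).image Sigma.fst with hSset
  have hScard : ∀ c, (Sset c).card = n := by
    intro c
    rw [hSset, Finset.card_image_of_injOn (hinj c), hcardIc c]
  have hSli : ∀ c, LinearIndependent K (fun j : Sset c => x j) := by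
    intro c
    apply linearIndependent_of_rk_eq K x (Sset c)
    have hset : x '' ((Sset c : Finset (Fin (m + 1))) : Set (Fin (m + 1)))
        = y '' ((Ic c : Finset _) : Set (Σ j : Fin (m + 1), Fin (v j))) := by
      simp only [hSset, Finset.coe_image, Set.image_image]
      rfl
    rw [hScard c, ← hcardIc c, ← hcol c, rk, rk, hset]
  refine ⟨(univ : Finset (Fin k)).val.map Sset, ?_, ?_, ?_⟩
  · intro h0
    rw [Multiset.map_eq_zero, Finset.val_eq_zero] at h0
    have : (⟨0, by omega⟩ : Fin k) ∈ (univ : Finset (Fin k)) := Finset.mem_univ _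
    rw [h0] at this
    exact absurd this (Finset.notMem_empty _)
  · intro S hS
    rw [Multiset.mem_map] at hS
    obtain ⟨c, -, rfl⟩ := hS
    exact ⟨hScard c, hSli c⟩
  · intro j
    rw [Multiset.filter_map, Multiset.card_map]
    have h1 : Multiset.card (Multiset.filter ((fun S => j ∈ S) ∘ Sset) (univ : Finset (Fin k)).val)
        = (univ.filter (fun c => j ∈ Sset c)).card := rfl
    rw [h1]
    have h2 : univ.filter (fun c => j ∈ Sset c)
        = univ.image (fun t : Fin (v j) => col ⟨j, t⟩) := by
      ext c
      simp only [Finset.mem_filter, Finset.mem_univ, true_and, Finset.mem_image, hSset, hIc]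
      constructor
      · rintro ⟨⟨j', t⟩, hp, hj'⟩
        have hj'' : j' = j := hj'
        subst hj''
        exact ⟨t, hp⟩
      · rintro ⟨t, ht⟩
        exact ⟨⟨j, t⟩, ht, rfl⟩
    have h3 : Function.Injective (fun t : Fin (v j) => col ⟨j, t⟩) := by
      intro t t' htt
      have hp : (⟨j, t⟩ : Σ j : Fin (m + 1), Fin (v j)) ∈ (Ic (col ⟨j, t⟩) : Set _) := by
        simp [hIc]
      have hq : (⟨j, t'⟩ : Σ j : Fin (m + 1), Fin (v j)) ∈ (Ic (col ⟨j, t⟩) : Set _) := by
        simp only [hIc, Finset.coe_filter, Finset.mem_univ, true_and, Set.mem_ofPred_eq]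
        exact htt.symm
      have := hinj (col ⟨j, t⟩) hp hq rfl
      simpa using this
    rw [h2, Finset.card_image_of_injective _ h3, Finset.card_univ, Fintype.card_fin]

end Groth.Agent.Lib.Helper31.MU
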