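import Mathlib
import Groth.Prelude.Def_GSzMilK

set_option autoImplicit false
universe u v w

namespace Groth.Agent.Lib.Helper31.MK

open MilK

variable {F : Type u} [Field F]

theorem symbol_def {n : ℕ} (x : Fin n → Fˣ) :
    symbol x = mk F n (PiTensorProduct.tprod ℤ (Additive.ofMul ∘ x)) := rfl

theorem symbol_update_mul {n : ℕ} (x : Fin n → Fˣ) (i : Fin n) (a b : Fˣ) :
    symbol (Function.update x i (a * b)) =
      symbol (Function.update x i a) + symbol (Function.update x i b) := by
  simp only [symbol_def, Function.comp_update, ofMul_mul]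
  rw [MultilinearMap.map_update_add, map_add]

theorem symbol_update_one {n : ℕ} (x : Fin n → Fˣ) (i : Fin n) :
    symbol (Function.update x i 1) = 0 := by
  have h := symbol_update_mul x i 1 1
  rw [mul_one] at h
  exact left_eq_add.mp h

theorem symbol_update_inv {n : ℕ} (x : Fin n → Fˣ) (i : Fin n) (a : Fˣ) :
    symbol (Function.update x i a⁻¹) = -symbol (Function.update x i a) := by
  have h := symbol_update_mul x i a a⁻¹
  rw [mul_inv_cancel, symbol_update_one] at h
  exact eq_neg_of_add_eq_zero_right h.symm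

theorem symbol_update_pow {n : ℕ} (x : Fin n → Fˣ) (i : Fin n) (a : Fˣ) (k : ℕ) :
    symbol (Function.update x i (a ^ k)) = k • symbol (Function.update x i a) := by
  induction k with
  | zero => rw [pow_zero, symbol_update_one, zero_smul]
  | succ k ih => rw [pow_succ, symbol_update_mul, ih, succ_nsmul]

theorem symbol_update_zpow {n : ℕ} (x : Fin n → Fˣ) (i : Fin n) (a : Fˣ) (k : ℤ) :
    symbol (Function.update x i (a ^ k)) = k • symbol (Function.update x i a) := by
  cases k with
  | ofNat k => simp [symbol_update_pow]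
  | negSucc k =>
    rw [zpow_negSucc, symbol_update_inv, symbol_update_pow, negSucc_zsmul]

theorem closure_symbol_eq_top (n : ℕ) :
    AddSubgroup.closure (Set.range (symbol : (Fin n → Fˣ) → K F n)) = ⊤ := by
  have key : ∀ t : T F n, mk F n t ∈
      AddSubgroup.closure (Set.range (symbol : (Fin n → Fˣ) → K F n)) := by
    intro t
    induction t using PiTensorProduct.induction_on with
    | smul_tprod r f =>
      have h1 : mk F n (r • PiTensorProduct.tprod ℤ f) = r • mk F n (PiTensorProduct.tprod ℤ f) :=
        map_zsmul (mk F n) r _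
      rw [h1]
      refine AddSubgroup.zsmul_mem _ (AddSubgroup.subset_closure ?_) r
      exact ⟨fun i => (f i).toMul, rfl⟩
    | add x y hx hy =>
      rw [map_add]
      exact AddSubgroup.add_mem _ hx hy
  rw [eq_top_iff]
  intro z _
  obtain ⟨t, rfl⟩ := mk_surjective F n z
  exact key t

theorem induction_on {n : ℕ} {motive : K F n → Prop} (z : K F n)
    (zero : motive 0) (symbol : ∀ x : Fin n → Fˣ, motive (symbol x))
    (add : ∀ a b, motive a → motive b → motive (a + b))
    (neg : ∀ a, motive a → motive (-a)) : motive z := by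
  have hz : z ∈ AddSubgroup.closure (Set.range (MilK.symbol : (Fin n → Fˣ) → K F n)) := by
    rw [closure_symbol_eq_top]; trivial
  induction hz using AddSubgroup.closure_induction with
  | mem x hx =>
    obtain ⟨y, rfl⟩ := hx
    exact symbol y
  | zero => exact zero
  | add x y _ _ hx hy => exact add x y hx hy
  | neg x _ hx => exact neg x hx

theorem hom_ext {n : ℕ} {M : Type w} [AddCommGroup M] {f g : K F n →+ M}
    (h : ∀ x : Fin n → Fˣ, f (symbol x) = g (symbol x)) : f = g := by
  ext z
  induction z using induction_on with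
  | zero => rw [map_zero, map_zero]
  | symbol x => exact h x
  | add a b ha hb => rw [map_add, map_add, ha, hb]
  | neg a ha => rw [map_neg, map_neg, ha]

theorem symbol_eq_zero_of_eq_one {n : ℕ} (x : Fin n → Fˣ) (i : Fin n) (h : x i = 1) :
    symbol x = 0 := by
  have := symbol_update_one x i
  rwa [← h, Function.update_eq_self] at this

/-! ### Abstract Steinberg pairings -/

section Pairing

variable {M : Type w} [AddCommGroup M] (B : Fˣ → Fˣ → M)
  (hl : ∀ a a' b, B (a * a') b = B a b + B a' b)
  (hr : ∀ a b b', B a (b * b') = B a b + B a b')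
  (hs : ∀ a b : Fˣ, (a : F) + (b : F) = 1 → B a b = 0)

include hl in
theorem pairing_one_left (b : Fˣ) : B 1 b = 0 := by
  have h := hl 1 1 b
  rw [mul_one] at h
  exact left_eq_add.mp h

include hr in
theorem pairing_one_right (a : Fˣ) : B a 1 = 0 := by
  have h := hr a 1 1
  rw [mul_one] at h
  exact left_eq_add.mp h

include hl in
theorem pairing_inv_left (a b : Fˣ) : B a⁻¹ b = -B a b := by
  have h := hl a a⁻¹ b
  rw [mul_inv_cancel, pairing_one_left B hl] at h
  exact eq_neg_of_add_eq_zero_right h.symm

include hr in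
theorem pairing_inv_right (a b : Fˣ) : B a b⁻¹ = -B a b := by
  have h := hr a b b⁻¹
  rw [mul_inv_cancel, pairing_one_right B hr] at h
  exact eq_neg_of_add_eq_zero_right h.symm

include hl in
theorem pairing_pow_left (a b : Fˣ) (k : ℕ) : B (a ^ k) b = k • B a b := by
  induction k with
  | zero => rw [pow_zero, pairing_one_left B hl, zero_smul]
  | succ k ih => rw [pow_succ, hl, ih, succ_nsmul]

include hr in
theorem pairing_pow_right (a b : Fˣ) (k : ℕ) : B a (b ^ k) = k • B a b := by
  induction k with
  | zero => rw [pow_zero, pairing_one_right B hr, zero_smul]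
  | succ k ih => rw [pow_succ, hr, ih, succ_nsmul]

include hl in
theorem pairing_zpow_left (a b : Fˣ) (k : ℤ) : B (a ^ k) b = k • B a b := by
  cases k with
  | ofNat k => simp [pairing_pow_left B hl]
  | negSucc k =>
    rw [zpow_negSucc, pairing_inv_left B hl, pairing_pow_left B hl, negSucc_zsmul]

include hr in
theorem pairing_zpow_right (a b : Fˣ) (k : ℤ) : B a (b ^ k) = k • B a b := by
  cases k with
  | ofNat k => simp [pairing_pow_right B hr]
  | negSucc k =>
    rw [zpow_negSucc, pairing_inv_right B hr, pairing_pow_right B hr, negSucc_zsmul]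

include hl hr hs in
theorem pairing_neg_self (a : Fˣ) : B a (-a) = 0 := by
  by_cases ha : a = 1
  · subst ha
    exact pairing_one_left B hl _
  have h1 : (1 : F) - (a : F) ≠ 0 := by
    intro h
    apply ha
    ext
    rw [Units.val_one]
    exact (sub_eq_zero.mp h).symm
  have h2 : (1 : F) - ((a⁻¹ : Fˣ) : F) ≠ 0 := by
    intro h
    apply ha
    have h3 : ((a⁻¹ : Fˣ) : F) = 1 := (sub_eq_zero.mp h).symm
    have h4 : a⁻¹ = 1 := by ext; rw [h3, Units.val_one]
    exact inv_eq_one.mp h4
  set p : Fˣ := Units.mk0 _ h1 with hp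
  set q : Fˣ := Units.mk0 _ h2 with hq
  have hpq : -a = p * q⁻¹ := by
    rw [eq_mul_inv_iff_mul_eq]
    ext
    simp only [Units.val_mul, Units.val_neg, hp, hq, Units.val_mk0, Units.val_inv_eq_inv_val]
    field_simp
    ring
  have e1 : B a p = 0 := hs a p (by simp [hp])
  have e2 : B a⁻¹ q = 0 := hs a⁻¹ q (by simp [hq])
  rw [hpq, hr, pairing_inv_right B hr, e1, zero_add, ← pairing_inv_left B hl, e2]

include hl hr hs in
theorem pairing_swap (a b : Fˣ) : B a b = -B b a := by
  have h := pairing_neg_self B hl hr hs (a * b)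
  have e : -(a * b) = (-a) * b := by rw [neg_mul]
  rw [hl] at h
  have e1 : B a (-(a * b)) = B a (-a) + B a b := by rw [e, hr]
  have e2 : B b (-(a * b)) = B b a + B b (-b) := by
    have : -(a * b) = a * (-b) := by rw [mul_neg]
    rw [this, hr]
  rw [e1, e2, pairing_neg_self B hl hr hs a, pairing_neg_self B hl hr hs b, zero_add, add_zero] at h
  exact eq_neg_of_add_eq_zero_left h

include hl hr hs in
theorem pairing_self (a : Fˣ) : B a a = B a (-1) := by
  have e : B a a = B a ((-1) * (-a)) := by rw [neg_mul_neg, one_mul]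
  rw [e, hr, pairing_neg_self B hl hr hs, add_zero]

end Pairing

/-! ### Relations between symbols at two positions -/

theorem symbol_eq_zero_of_add_eq_one {n : ℕ} (x : Fin n → Fˣ) (i j : Fin n) (hij : i ≠ j)
    (h : (x i : F) + (x j : F) = 1) : symbol x = 0 := by
  apply symbol_eq_zero_of_isSteinberg
  rcases lt_or_gt_of_ne hij with h1 | h1
  · exact ⟨i, j, h1, h⟩
  · exact ⟨j, i, h1, by rw [add_comm]; exact h⟩

/-- The two-position pairing obtained from a tuple. -/
noncomputable def pair {n : ℕ} (x : Fin n → Fˣ) (i j : Fin n) (a b : Fˣ) : K F n :=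
  symbol (Function.update (Function.update x i a) j b)

theorem pair_mul_left {n : ℕ} (x : Fin n → Fˣ) (i j : Fin n) (hij : i ≠ j) (a a' b : Fˣ) :
    pair x i j (a * a') b = pair x i j a b + pair x i j a' b := by
  unfold pair
  rw [Function.update_comm hij (a * a') b x, symbol_update_mul,
    Function.update_comm hij a b x, Function.update_comm hij a' b x]

theorem pair_mul_right {n : ℕ} (x : Fin n → Fˣ) (i j : Fin n) (a b b' : Fˣ) :
    pair x i j a (b * b') = pair x i j a b + pair x i j a b' := by
  unfold pair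
  rw [symbol_update_mul]

theorem pair_steinberg {n : ℕ} (x : Fin n → Fˣ) (i j : Fin n) (hij : i ≠ j) (a b : Fˣ)
    (h : (a : F) + (b : F) = 1) : pair x i j a b = 0 := by
  unfold pair
  apply symbol_eq_zero_of_add_eq_one _ i j hij
  rw [Function.update_self, Function.update_of_ne hij, Function.update_self]
  exact h

theorem pair_self_eq {n : ℕ} (x : Fin n → Fˣ) (i j : Fin n) :
    pair x i j (x i) (x j) = symbol x := by
  unfold pair
  rw [Function.update_eq_self, Function.update_eq_self]

theorem symbol_eq_zero_of_eq_neg {n : ℕ} (x : Fin n → Fˣ) (i j : Fin n) (hij : i ≠ j)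
    (h : x j = -x i) : symbol x = 0 := by
  rw [← pair_self_eq x i j, h]
  exact pairing_neg_self (pair x i j) (pair_mul_left x i j hij) (pair_mul_right x i j)
    (pair_steinberg x i j hij) (x i)

theorem symbol_comp_swap {n : ℕ} (x : Fin n → Fˣ) (i j : Fin n) (hij : i ≠ j) :
    symbol (x ∘ Equiv.swap i j) = -symbol x := by
  have h1 : x ∘ Equiv.swap i j = Function.update (Function.update x i (x j)) j (x i) := by
    funext k
    simp only [Function.comp, Function.update_apply, Equiv.swap_apply_def]
    split_ifs <;> simp_all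
  rw [h1, ← pair_self_eq x i j]
  exact pairing_swap (pair x i j) (pair_mul_left x i j hij) (pair_mul_right x i j)
    (pair_steinberg x i j hij) (x j) (x i)

theorem symbol_eq_of_eq {n : ℕ} (x : Fin n → Fˣ) (i j : Fin n) (hij : i ≠ j)
    (h : x i = x j) : symbol x = symbol (Function.update x j (-1)) := by
  have h1 := pairing_self (pair x i j) (pair_mul_left x i j hij) (pair_mul_right x i j)
    (pair_steinberg x i j hij) (x i)
  have h2 : pair x i j (x i) (x i) = symbol x := by
    conv_lhs => rw [h]
    rw [← h]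
    conv_lhs => arg 5; rw [h]
    exact pair_self_eq x i j
  rw [← h2, h1]
  unfold pair
  rw [Function.update_eq_self]

/-! ### Symbols in degrees one and two -/

theorem sym1_mul (a b : Fˣ) : (symbol ![a * b] : K F 1) = symbol ![a] + symbol ![b] := by
  have h := symbol_update_mul (![1] : Fin 1 → Fˣ) 0 a b
  have e : ∀ c : Fˣ, Function.update (![1] : Fin 1 → Fˣ) 0 c = ![c] := by
    intro c
    funext i
    fin_cases i
    simp
  rwa [e, e, e] at h

theorem sym1_one : (symbol ![(1 : Fˣ)] : K F 1) = 0 :=
  symbol_eq_zero_of_eq_one _ 0 (by simp)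

theorem sym1_inv (a : Fˣ) : (symbol ![a⁻¹] : K F 1) = -symbol ![a] := by
  have h := sym1_mul a a⁻¹
  rw [mul_inv_cancel, sym1_one] at h
  exact eq_neg_of_add_eq_zero_right h.symm

theorem sym1_pow (a : Fˣ) (k : ℕ) : (symbol ![a ^ k] : K F 1) = k • symbol ![a] := by
  induction k with
  | zero => rw [pow_zero, sym1_one, zero_smul]
  | succ k ih => rw [pow_succ, sym1_mul, ih, succ_nsmul]

theorem sym1_zpow (a : Fˣ) (k : ℤ) : (symbol ![a ^ k] : K F 1) = k • symbol ![a] := by
  cases k with
  | ofNat k => simp [sym1_pow]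
  | negSucc k => rw [zpow_negSucc, sym1_inv, sym1_pow, negSucc_zsmul]

theorem sym2_mul_left (a a' b : Fˣ) :
    (symbol ![a * a', b] : K F 2) = symbol ![a, b] + symbol ![a', b] := by
  have h := symbol_update_mul (![1, b] : Fin 2 → Fˣ) 0 a a'
  have e : ∀ c : Fˣ, Function.update (![1, b] : Fin 2 → Fˣ) 0 c = ![c, b] := by
    intro c
    funext i
    fin_cases i <;> simp
  rwa [e, e, e] at h

theorem sym2_mul_right (a b b' : Fˣ) :
    (symbol ![a, b * b'] : K F 2) = symbol ![a, b] + symbol ![a, b'] := by
  have h := symbol_update_mul (![a, 1] : Fin 2 → Fˣ) 1 b b'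
  have e : ∀ c : Fˣ, Function.update (![a, 1] : Fin 2 → Fˣ) 1 c = ![a, c] := by
    intro c
    funext i
    fin_cases i <;> simp
  rwa [e, e, e] at h

theorem sym2_steinberg (a b : Fˣ) (h : (a : F) + (b : F) = 1) : (symbol ![a, b] : K F 2) = 0 :=
  symbol_eq_zero_of_add_eq_one _ 0 1 (by simp) (by simpa using h)

theorem symbol_comp_perm {n : ℕ} (σ : Equiv.Perm (Fin n)) (x : Fin n → Fˣ) :
    symbol (x ∘ σ) = ((Equiv.Perm.sign σ : ℤˣ) : ℤ) • symbol x := by
  induction σ using Equiv.Perm.swap_induction_on generalizing x with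
  | one => simp
  | swap_mul f a b hab ih =>
    have h1 : x ∘ ⇑(Equiv.swap a b * f) = (x ∘ Equiv.swap a b) ∘ f := by
      funext k
      simp
    rw [h1, ih, symbol_comp_swap x a b hab, Equiv.Perm.sign_mul, Equiv.Perm.sign_swap hab]
    simp

end Groth.Agent.Lib.Helper31.MK
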