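import Mathlib
import Groth.Prelude.Def_GSzMilK
import Groth.Agent.Lib.Helper31.MilnorKBasic

set_option autoImplicit false
universe u v w

namespace Groth.Agent.Lib.Helper31.MK

open MilK

variable {F : Type u} [Field F]

/-- Left multiplication by the degree-one symbol `{a}`, landing in degree `n + 1`. -/
noncomputable def consMap (a : Fˣ) (n : ℕ) : K F n →+ K F (n + 1) :=
  (cast F (Nat.add_comm 1 n)).toAddMonoidHom.comp (mul F 1 n (symbol ![a]))

theorem consMap_apply (a : Fˣ) (n : ℕ) (z : K F n) :
    consMap a n z = cast F (Nat.add_comm 1 n) (mul F 1 n (symbol ![a]) z) := rfl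

theorem append_singleton_comp_cast {α : Type*} (a : α) {n : ℕ} (y : Fin n → α) :
    (Fin.append ![a] y) ∘ Fin.cast (Nat.add_comm 1 n).symm = Fin.cons a y := by
  funext i
  simp only [Function.comp_apply]
  induction i using Fin.cases with
  | zero =>
    have : Fin.cast (Nat.add_comm 1 n).symm (0 : Fin (n + 1)) = Fin.castAdd n (0 : Fin 1) := by
      apply Fin.ext; simp
    rw [this, Fin.append_left]
    rfl
  | succ i =>
    have : Fin.cast (Nat.add_comm 1 n).symm i.succ = Fin.natAdd 1 i := by
      apply Fin.ext; simp [Nat.add_comm]
    rw [this, Fin.append_right, Fin.cons_succ]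

@[simp]
theorem consMap_symbol (a : Fˣ) {n : ℕ} (y : Fin n → Fˣ) :
    consMap a n (symbol y) = symbol (Fin.cons a y) := by
  rw [consMap_apply, mul_symbol_symbol, cast_symbol, append_singleton_comp_cast]

theorem consMap_mul (a b : Fˣ) (n : ℕ) (z : K F n) :
    consMap (a * b) n z = consMap a n z + consMap b n z := by
  induction z using induction_on with
  | zero => simp
  | symbol y =>
    rw [consMap_symbol, consMap_symbol, consMap_symbol]
    have h := symbol_update_mul (Fin.cons a y : Fin (n + 1) → Fˣ) 0 a b
    rwa [Fin.update_cons_zero, Fin.update_cons_zero, Fin.update_cons_zero] at h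
  | add x y hx hy => rw [map_add, map_add, map_add, hx, hy]; abel
  | neg x hx => rw [map_neg, map_neg, map_neg, hx]; abel

theorem consMap_one (n : ℕ) (z : K F n) : consMap (1 : Fˣ) n z = 0 := by
  have h := consMap_mul (1 : Fˣ) 1 n z
  rw [mul_one] at h
  exact left_eq_add.mp h

theorem consMap_inv (a : Fˣ) (n : ℕ) (z : K F n) : consMap a⁻¹ n z = -consMap a n z := by
  have h := consMap_mul a a⁻¹ n z
  rw [mul_inv_cancel, consMap_one] at h
  exact eq_neg_of_add_eq_zero_right h.symm

theorem consMap_neg_one_two (n : ℕ) (z : K F n) :
    consMap (-1 : Fˣ) n z + consMap (-1 : Fˣ) n z = 0 := by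
  rw [← consMap_mul, neg_mul_neg, one_mul, consMap_one]

theorem consMap_consMap_steinberg (a b : Fˣ) (h : (a : F) + (b : F) = 1) (n : ℕ) (z : K F n) :
    consMap a (n + 1) (consMap b n z) = 0 := by
  induction z using induction_on with
  | zero => simp
  | symbol y =>
    rw [consMap_symbol, consMap_symbol]
    exact symbol_eq_zero_of_add_eq_one _ 0 1 (by simp) (by simpa using h)
  | add x y hx hy => rw [map_add, map_add, hx, hy, add_zero]
  | neg x hx => rw [map_neg, map_neg, hx, neg_zero]

theorem consMap_consMap_neg_self (a : Fˣ) (n : ℕ) (z : K F n) :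
    consMap a (n + 1) (consMap (-a) n z) = 0 := by
  induction z using induction_on with
  | zero => simp
  | symbol y =>
    rw [consMap_symbol, consMap_symbol]
    exact symbol_eq_zero_of_eq_neg _ 0 1 (by simp) (by simp)
  | add x y hx hy => rw [map_add, map_add, hx, hy, add_zero]
  | neg x hx => rw [map_neg, map_neg, hx, neg_zero]

theorem consMap_consMap_swap (a b : Fˣ) (n : ℕ) (z : K F n) :
    consMap a (n + 1) (consMap b n z) = -consMap b (n + 1) (consMap a n z) := by
  induction z using induction_on with
  | zero => simp
  | symbol y =>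
    rw [consMap_symbol, consMap_symbol, consMap_symbol, consMap_symbol]
    have h := symbol_comp_swap (Fin.cons b (Fin.cons a y) : Fin (n + 1 + 1) → Fˣ) 0 1 (by simp)
    rw [← h]
    congr 1
    funext i
    induction i using Fin.cases with
    | zero => simp
    | succ i =>
      induction i using Fin.cases with
      | zero => simp
      | succ i =>
        have h1 : (Equiv.swap (0 : Fin (n + 1 + 1)) 1) i.succ.succ = i.succ.succ := by
          apply Equiv.swap_apply_of_ne_of_ne
          · exact Fin.succ_ne_zero _
          · intro h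
            have := congrArg Fin.val h
            simp at this
        simp only [Function.comp_apply, h1, Fin.cons_succ]
  | add x y hx hy => rw [map_add, map_add, map_add, map_add, hx, hy]; abel
  | neg x hx => rw [map_neg, map_neg, map_neg, map_neg, hx]

theorem consMap_consMap_self (a : Fˣ) (n : ℕ) (z : K F n) :
    consMap a (n + 1) (consMap a n z) = consMap a (n + 1) (consMap (-1) n z) := by
  have h : a = (-1) * (-a) := by rw [neg_mul_neg, one_mul]
  have h1 : consMap a n z = consMap (-1) n z + consMap (-a) n z := by
    conv_lhs => rw [h]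
    exact consMap_mul _ _ _ _
  conv_lhs => rw [h1]
  rw [map_add, consMap_consMap_neg_self, add_zero]

end Groth.Agent.Lib.Helper31.MK
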