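import Mathlib
import Groth.Prelude.Def_GSzMilK
import Groth.Agent.Lib.Helper31.MilnorKBasic

set_option autoImplicit false
universe u v w

namespace Groth.Agent.Lib.Helper31.MK

open MilK

/-! ### Generation by symbols with entries in a generating set -/

section Gen

variable {F : Type u} [Field F]

theorem mem_of_forall_symbol_mem {n : ℕ} (H : AddSubgroup (K F n)) (G : Set Fˣ)
    (hG : Subgroup.closure G = ⊤)
    (h : ∀ x : Fin n → Fˣ, (∀ i, x i ∈ G) → symbol x ∈ H) (z : K F n) : z ∈ H := by
  have key : ∀ j : ℕ, ∀ x : Fin n → Fˣ, (∀ i : Fin n, j ≤ i.val → x i ∈ G) → symbol x ∈ H := by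
    intro j
    induction j with
    | zero => intro x hx; exact h x (fun i => hx i (Nat.zero_le _))
    | succ j ih =>
      intro x hx
      by_cases hj : j < n
      · have hmem : x ⟨j, hj⟩ ∈ Subgroup.closure G := by rw [hG]; trivial
        have hp : ∀ a : Fˣ, a ∈ Subgroup.closure G →
            symbol (Function.update x ⟨j, hj⟩ a) ∈ H := by
          intro a ha
          induction ha using Subgroup.closure_induction with
          | mem a ha =>
            apply ih
            intro i hi
            by_cases hij : i = ⟨j, hj⟩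
            · subst hij
              rw [Function.update_self]
              exact ha
            · rw [Function.update_of_ne hij]
              apply hx
              have : (i : ℕ) ≠ j := fun h' => hij (Fin.ext h')
              omega
          | one => rw [symbol_update_one]; exact H.zero_mem
          | mul a b _ _ ha hb => rw [symbol_update_mul]; exact H.add_mem ha hb
          | inv a _ ha => rw [symbol_update_inv]; exact H.neg_mem ha
        have := hp _ hmem
        rwa [Function.update_eq_self] at this
      · apply ih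
        intro i hi
        exact absurd i.isLt (by omega)
  have hall : ∀ x : Fin n → Fˣ, symbol x ∈ H := fun x =>
    key n x (fun i hi => absurd i.isLt (by omega))
  induction z using induction_on with
  | zero => exact H.zero_mem
  | symbol x => exact hall x
  | add a b ha hb => exact H.add_mem ha hb
  | neg a ha => exact H.neg_mem ha

end Gen

/-! ### Discrete valuation rings -/

section DVR

variable {A : Type u} [CommRing A] [IsDomain A] [IsDiscreteValuationRing A]
  {L : Type v} [Field L] [Algebra A L] [IsFractionRing A L]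

theorem exists_zpow_mul_unit (ϖ : A) (hϖ : Irreducible ϖ) (x : Lˣ) :
    ∃ (k : ℤ) (u : Aˣ), x = unitFrac A L ϖ hϖ.ne_zero ^ k * unitToFrac A L u := by
  obtain ⟨k, u, h⟩ := IsDiscreteValuationRing.exists_units_eq_smul_zpow_of_irreducible
    (K := L) hϖ x.ne_zero
  refine ⟨k, u, ?_⟩
  ext
  rw [h, Units.val_mul, Units.val_zpow_eq_zpow_val, coe_unitFrac, Units.smul_def,
    Algebra.smul_def, mul_comm]
  rfl

theorem closure_generators_eq_top (ϖ : A) (hϖ : Irreducible ϖ) :
    Subgroup.closure ({unitFrac A L ϖ hϖ.ne_zero} ∪ Set.range (unitToFrac A L) : Set Lˣ) = ⊤ := by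
  rw [eq_top_iff]
  intro x _
  obtain ⟨k, u, rfl⟩ := exists_zpow_mul_unit (L := L) ϖ hϖ x
  refine Subgroup.mul_mem _ (Subgroup.zpow_mem _ (Subgroup.subset_closure ?_) k)
    (Subgroup.subset_closure ?_)
  · exact Or.inl rfl
  · exact Or.inr ⟨u, rfl⟩

/-- The subgroup generated by symbols `{ϖ, u₁, …, uₙ}` and `{u₀, …, uₙ}`. -/
def genSet (A : Type u) [CommRing A] [IsDomain A] [IsDiscreteValuationRing A]
    (L : Type v) [Field L] [Algebra A L] [IsFractionRing A L]
    (ϖ : A) (hϖ : Irreducible ϖ) (n : ℕ) : Set (K L (n + 1)) :=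
  {z | ∃ u : Fin n → Aˣ,
      z = symbol (Fin.cons (unitFrac A L ϖ hϖ.ne_zero) fun i => unitToFrac A L (u i))} ∪
    {z | ∃ u : Fin (n + 1) → Aˣ, z = symbol (fun i => unitToFrac A L (u i))}

theorem symbol_units_mem (ϖ : A) (hϖ : Irreducible ϖ) {n : ℕ} (x : Fin (n + 1) → Lˣ)
    (hx : ∀ i, x i ∈ Set.range (unitToFrac A L)) :
    symbol x ∈ AddSubgroup.closure (genSet A L ϖ hϖ n) := by
  choose u hu using hx
  apply AddSubgroup.subset_closure
  refine Or.inr ⟨u, ?_⟩
  congr 1
  funext i
  exact (hu i).symm

theorem symbol_one_pi_mem (ϖ : A) (hϖ : Irreducible ϖ) {n : ℕ} (x : Fin (n + 1) → Lˣ)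
    (j : Fin (n + 1)) (hj : x j = unitFrac A L ϖ hϖ.ne_zero)
    (hx : ∀ i, i ≠ j → x i ∈ Set.range (unitToFrac A L)) :
    symbol x ∈ AddSubgroup.closure (genSet A L ϖ hϖ n) := by
  have h0 : ∀ y : Fin (n + 1) → Lˣ, y 0 = unitFrac A L ϖ hϖ.ne_zero →
      (∀ i, i ≠ 0 → y i ∈ Set.range (unitToFrac A L)) →
      symbol y ∈ AddSubgroup.closure (genSet A L ϖ hϖ n) := by
    intro y hy0 hy
    have hy' : ∀ i : Fin n, y i.succ ∈ Set.range (unitToFrac A L) :=
      fun i => hy _ (Fin.succ_ne_zero i)
    choose u hu using hy'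
    apply AddSubgroup.subset_closure
    refine Or.inl ⟨u, ?_⟩
    congr 1
    funext i
    induction i using Fin.cases with
    | zero => rw [Fin.cons_zero, hy0]
    | succ i => rw [Fin.cons_succ, hu]
  by_cases hj0 : j = 0
  · subst hj0
    exact h0 x hj hx
  · have hswap := symbol_comp_swap x 0 j (Ne.symm hj0)
    have hmem : symbol (x ∘ Equiv.swap 0 j) ∈ AddSubgroup.closure (genSet A L ϖ hϖ n) := by
      apply h0
      · simp [hj]
      · intro i hi
        simp only [Function.comp_apply]
        apply hx
        intro h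
        apply hi
        have := congrArg (Equiv.swap 0 j) h
        simpa using this
    have : symbol x = -symbol (x ∘ Equiv.swap 0 j) := by rw [hswap, neg_neg]
    rw [this]
    exact AddSubgroup.neg_mem _ hmem

theorem symbol_gen_mem (ϖ : A) (hϖ : Irreducible ϖ) {n : ℕ} (s : Finset (Fin (n + 1))) :
    ∀ x : Fin (n + 1) → Lˣ,
      (∀ i, x i ∈ ({unitFrac A L ϖ hϖ.ne_zero} ∪ Set.range (unitToFrac A L) : Set Lˣ)) →
      (∀ i, x i = unitFrac A L ϖ hϖ.ne_zero → i ∈ s) →
      symbol x ∈ AddSubgroup.closure (genSet A L ϖ hϖ n) := by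
  classical
  induction s using Finset.induction_on with
  | empty =>
    intro x hx hs
    apply symbol_units_mem
    intro i
    rcases hx i with h | h
    · exact absurd (hs i h) (Finset.notMem_empty i)
    · exact h
  | insert j s' hj ih =>
    intro x hx hs
    by_cases hxj : x j = unitFrac A L ϖ hϖ.ne_zero
    · by_cases hex : ∃ i, i ≠ j ∧ x i = unitFrac A L ϖ hϖ.ne_zero
      · obtain ⟨i, hij, hxi⟩ := hex
        rw [symbol_eq_of_eq x i j hij (by rw [hxi, hxj])]
        apply ih
        · intro l
          by_cases hl : l = j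
          · subst hl
            rw [Function.update_self]
            refine Or.inr ⟨-1, ?_⟩
            ext
            simp [unitToFrac]
          · rw [Function.update_of_ne hl]
            exact hx l
        · intro l hl
          by_cases hlj : l = j
          · subst hlj
            rw [Function.update_self] at hl
            exfalso
            have h1 : ((-1 : Lˣ) : L) = algebraMap A L ϖ := by rw [hl]; rfl
            have h2 : algebraMap A L (-1) = algebraMap A L ϖ := by
              rw [map_neg, map_one]
              simpa using h1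
            have h3 : (-1 : A) = ϖ := IsFractionRing.injective A L h2
            exact hϖ.not_isUnit (h3 ▸ isUnit_one.neg)
          · rw [Function.update_of_ne hlj] at hl
            have := hs l hl
            rw [Finset.mem_insert] at this
            exact this.resolve_left hlj
      · push Not at hex
        apply symbol_one_pi_mem ϖ hϖ x j hxj
        intro i hi
        rcases hx i with h | h
        · exact absurd h (hex i hi)
        · exact h
    · apply ih x hx
      intro i hi
      have := hs i hi
      rw [Finset.mem_insert] at this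
      rcases this with h | h
      · subst h
        exact absurd hi hxj
      · exact h

theorem closure_genSet_eq_top (ϖ : A) (hϖ : Irreducible ϖ) (n : ℕ) :
    AddSubgroup.closure (genSet A L ϖ hϖ n) = ⊤ := by
  rw [eq_top_iff]
  intro z _
  apply mem_of_forall_symbol_mem _ _ (closure_generators_eq_top (L := L) ϖ hϖ)
  intro x hx
  exact symbol_gen_mem ϖ hϖ Finset.univ x hx (fun i _ => Finset.mem_univ i)

theorem hom_ext_dvr (ϖ : A) (hϖ : Irreducible ϖ) {n : ℕ} {M : Type w} [AddCommGroup M]
    {f g : K L (n + 1) →+ M}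
    (h1 : ∀ u : Fin n → Aˣ,
      f (symbol (Fin.cons (unitFrac A L ϖ hϖ.ne_zero) fun i => unitToFrac A L (u i))) =
        g (symbol (Fin.cons (unitFrac A L ϖ hϖ.ne_zero) fun i => unitToFrac A L (u i))))
    (h2 : ∀ u : Fin (n + 1) → Aˣ,
      f (symbol (fun i => unitToFrac A L (u i))) = g (symbol (fun i => unitToFrac A L (u i)))) :
    f = g := by
  ext z
  have hz : z ∈ AddSubgroup.closure (genSet A L ϖ hϖ n) := by
    rw [closure_genSet_eq_top]; trivial
  induction hz using AddSubgroup.closure_induction with
  | mem x hx =>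
    rcases hx with ⟨u, rfl⟩ | ⟨u, rfl⟩
    · exact h1 u
    · exact h2 u
  | zero => rw [map_zero, map_zero]
  | add x y _ _ hx hy => rw [map_add, map_add, hx, hy]
  | neg x _ hx => rw [map_neg, map_neg, hx]

theorem irreducible_neg {ϖ : A} (hϖ : Irreducible ϖ) : Irreducible (-ϖ) := by
  have := (irreducible_mul_units (-1 : Aˣ)).mpr hϖ
  simpa using this

theorem unitFrac_neg {ϖ : A} (hϖ : Irreducible ϖ) :
    unitFrac A L (-ϖ) (irreducible_neg hϖ).ne_zero = -unitFrac A L ϖ hϖ.ne_zero := by
  ext
  simp

/-- The tame symbol kills symbols of units. -/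
theorem tame_units_eq_zero {n : ℕ} (d : K L (n + 1) →+ K (IsLocalRing.ResidueField A) n)
    (hd : IsTameSymbol A L n d) (u : Fin (n + 1) → Aˣ) :
    d (symbol (fun i => unitToFrac A L (u i))) = 0 := by
  obtain ⟨ϖ, hϖ⟩ := IsDiscreteValuationRing.exists_irreducible A
  have hϖ' : Irreducible (ϖ * (u 0 : A)) := (irreducible_mul_units (u 0)).mpr hϖ
  have e1 := hd ϖ hϖ (fun i => u i.succ)
  have e2 := hd (ϖ * (u 0 : A)) hϖ' (fun i => u i.succ)
  have hfac : unitFrac A L (ϖ * (u 0 : A)) hϖ'.ne_zero =
      unitFrac A L ϖ hϖ.ne_zero * unitToFrac A L (u 0) := by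
    ext
    simp [unitToFrac, map_mul]
  have hsplit : symbol (Fin.cons (unitFrac A L (ϖ * (u 0 : A)) hϖ'.ne_zero)
        fun i => unitToFrac A L (u i.succ)) =
      symbol (Fin.cons (unitFrac A L ϖ hϖ.ne_zero) fun i => unitToFrac A L (u i.succ)) +
        symbol (fun i => unitToFrac A L (u i)) := by
    have h3 := symbol_update_mul
      (Fin.cons (unitFrac A L ϖ hϖ.ne_zero) fun i => unitToFrac A L (u i.succ) : Fin (n + 1) → Lˣ)
      0 (unitFrac A L ϖ hϖ.ne_zero) (unitToFrac A L (u 0))
    rw [Fin.update_cons_zero, Fin.update_cons_zero, Fin.update_cons_zero, ← hfac] at h3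
    rw [h3]
    congr 2
    funext i
    induction i using Fin.cases with
    | zero => rw [Fin.cons_zero]
    | succ i => rw [Fin.cons_succ]
  rw [hsplit, map_add, e1] at e2
  exact left_eq_add.mp e2.symm |>.symm ▸ rfl

end DVR

end Groth.Agent.Lib.Helper31.MK
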