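import Mathlib

/-!
# Projective modules over a ring `A` with `A/J` simple Artinian: cancellation of `End`
-/

set_option autoImplicit false
set_option linter.unusedSectionVars false
set_option linter.unusedVariables false

namespace Groth.Agent.Lib.Helper31.Mor

variable {A : Type*} [Ring A]

section Nak

variable {P Q : Type*} [AddCommGroup P] [Module A P] [AddCommGroup Q] [Module A Q]

/-- Nakayama: a map which is surjective modulo the radical is surjective. -/
lemma surjective_of_mod [Module.Finite A P] (f : Q →ₗ[A] P)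
    (h : ∀ p : P, ∃ q : Q, p - f q ∈ (Ring.jacobson A • ⊤ : Submodule A P)) :
    Function.Surjective f := by
  set N := LinearMap.range f with hN
  have hfg : (⊤ : Submodule A (P ⧸ N)).FG := Module.Finite.fg_top
  have hle : (⊤ : Submodule A (P ⧸ N)) ≤ Ring.jacobson A • ⊤ := by
    intro x _
    obtain ⟨p, rfl⟩ := Submodule.Quotient.mk_surjective N x
    obtain ⟨q, hq⟩ := h p
    have h1 : Submodule.Quotient.mk (p := N) p = Submodule.Quotient.mk (p := N) (p - f q) := by
      rw [Submodule.Quotient.mk_sub]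
      have : Submodule.Quotient.mk (p := N) (f q) = 0 :=
        (Submodule.Quotient.mk_eq_zero N).mpr ⟨q, rfl⟩
      rw [this, sub_zero]
    rw [h1]
    have h2 : (Ring.jacobson A • ⊤ : Submodule A P).map N.mkQ ≤ Ring.jacobson A • ⊤ := by
      rw [Submodule.map_smul'']
      exact Submodule.smul_mono le_rfl le_top
    exact h2 ⟨_, hq, rfl⟩
  have hbot := Submodule.FG.eq_bot_of_le_jacobson_smul hfg hle
  have hsub : Subsingleton (P ⧸ N) := by
    rw [← Submodule.subsingleton_iff A, ← subsingleton_iff_bot_eq_top]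
    exact hbot.symm
  have : N = ⊤ := Submodule.Quotient.subsingleton_iff.mp hsub
  rw [← LinearMap.range_eq_top]
  exact this

end Nak

section Chain

variable {P Q : Type*} [AddCommGroup P] [Module A P] [AddCommGroup Q] [Module A Q]

/-- The chain argument: a split surjection `Q → P` together with a ring isomorphism of endomorphism
rings forces injectivity, provided `Q / JQ` is Artinian. -/
theorem injective_of_surjective [Module.Finite A Q]
    [IsArtinian A (Q ⧸ (Ring.jacobson A • ⊤ : Submodule A Q))]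
    (f : Q →ₗ[A] P) (g : P →ₗ[A] Q) (hfg : f ∘ₗ g = LinearMap.id)
    (e : Module.End A P ≃+* Module.End A Q) : Function.Injective f := by
  set J := Ring.jacobson A with hJ
  -- the non-unital endomorphism φ of End Q
  let φ : Module.End A Q → Module.End A Q := fun a => g ∘ₗ (e.symm a) ∘ₗ f
  have φ_mul : ∀ a c, φ (a * c) = φ a * φ c := by
    intro a c
    show g ∘ₗ (e.symm (a * c)) ∘ₗ f = (g ∘ₗ (e.symm a) ∘ₗ f) * (g ∘ₗ (e.symm c) ∘ₗ f)
    rw [map_mul]
    ext q
    simp only [LinearMap.coe_comp, Function.comp_apply, Module.End.mul_apply]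
    have : f (g ((e.symm c) (f q))) = (e.symm c) (f q) := LinearMap.congr_fun hfg _
    rw [this]
  have φ_sub : ∀ a c, φ (a - c) = φ a - φ c := by
    intro a c
    show g ∘ₗ (e.symm (a - c)) ∘ₗ f = (g ∘ₗ (e.symm a) ∘ₗ f) - (g ∘ₗ (e.symm c) ∘ₗ f)
    rw [map_sub]
    ext q
    simp
  have φ_inj : Function.Injective φ := by
    intro a c hac
    have h1 : f ∘ₗ (φ a) ∘ₗ g = f ∘ₗ (φ c) ∘ₗ g := by rw [hac]
    have h2 : ∀ a, f ∘ₗ (φ a) ∘ₗ g = e.symm a := by
      intro a
      ext p
      simp only [φ, LinearMap.coe_comp, Function.comp_apply]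
      have h3 : f (g p) = p := LinearMap.congr_fun hfg p
      rw [h3]
      exact LinearMap.congr_fun hfg _
    rw [h2, h2] at h1
    exact e.symm.injective h1
  let ε : ℕ → Module.End A Q := fun k => φ^[k] 1
  have ε_succ : ∀ k, ε (k + 1) = φ (ε k) := fun k => Function.iterate_succ_apply' φ k 1
  have ε_zero : ε 0 = 1 := rfl
  have ε_idem : ∀ k, ε k * ε k = ε k := by
    intro k
    induction k with
    | zero => rw [ε_zero, mul_one]
    | succ k ih => rw [ε_succ, ← φ_mul, ih]
  have ε_mul : ∀ k, ε k * ε (k + 1) = ε (k + 1) ∧ ε (k + 1) * ε k = ε (k + 1) := by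
    intro k
    induction k with
    | zero => rw [ε_zero, one_mul, mul_one]; exact ⟨rfl, rfl⟩
    | succ k ih =>
      have e1 : ε (k + 1) = φ (ε k) := ε_succ k
      have e2 : ε (k + 1 + 1) = φ (ε (k + 1)) := ε_succ (k + 1)
      constructor
      · have : ε (k + 1) * ε (k + 1 + 1) = φ (ε k * ε (k + 1)) := by
          rw [φ_mul, ← e2, ← e1]
        rw [this, ih.1, ← e2]
      · have : ε (k + 1 + 1) * ε (k + 1) = φ (ε (k + 1) * ε k) := by
          rw [φ_mul, ← e2, ← e1]
        rw [this, ih.2, ← e2]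
  -- the chain
  let Rk : ℕ → Submodule A (Q ⧸ (J • ⊤ : Submodule A Q)) :=
    fun k => (LinearMap.range (ε k)).map (J • ⊤ : Submodule A Q).mkQ
  have Rk_anti : Antitone Rk := by
    apply antitone_nat_of_succ_le
    intro k
    apply Submodule.map_mono
    rintro _ ⟨q, rfl⟩
    refine ⟨ε (k + 1) q, ?_⟩
    exact LinearMap.congr_fun (ε_mul k).1 q
  obtain ⟨k, hk⟩ := IsArtinian.monotone_stabilizes
    (⟨fun k => OrderDual.toDual (Rk k), fun a c hac => Rk_anti hac⟩ :
      ℕ →o (Submodule A (Q ⧸ (J • ⊤ : Submodule A Q)))ᵒᵈ)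
  have hkk : Rk k = Rk (k + 1) := hk (k + 1) (Nat.le_succ k)
  -- δ_k = 0
  set δ := ε k - ε (k + 1) with hδ
  have δε : δ * ε k = δ := by
    rw [hδ, sub_mul, ε_idem, (ε_mul k).2]
  have δε' : δ * ε (k + 1) = 0 := by
    rw [hδ, sub_mul, (ε_mul k).1, ε_idem, sub_self]
  have hrange : LinearMap.range δ ≤ J • LinearMap.range δ := by
    rintro _ ⟨q, rfl⟩
    have h1 : (J • ⊤ : Submodule A Q).mkQ (ε k q) ∈ Rk (k + 1) := by
      rw [← hkk]
      exact ⟨ε k q, ⟨q, rfl⟩, rfl⟩
    obtain ⟨_, ⟨q', rfl⟩, hq'⟩ := h1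
    have h2 : ε k q - ε (k + 1) q' ∈ (J • ⊤ : Submodule A Q) := by
      rw [← Submodule.Quotient.mk_eq_zero, Submodule.Quotient.mk_sub]
      have : (J • ⊤ : Submodule A Q).mkQ (ε (k + 1) q') = (J • ⊤ : Submodule A Q).mkQ (ε k q) := hq'
      simp only [Submodule.mkQ_apply] at this
      rw [this, sub_self]
    have h3 : δ (ε k q - ε (k + 1) q') = δ q := by
      rw [map_sub]
      have e1 : δ (ε k q) = (δ * ε k) q := rfl
      have e2 : δ (ε (k + 1) q') = (δ * ε (k + 1)) q' := rfl
      rw [e1, e2, δε, δε', LinearMap.zero_apply, sub_zero]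
    rw [← h3]
    have h4 : (J • ⊤ : Submodule A Q).map δ ≤ J • LinearMap.range δ := by
      rw [Submodule.map_smul'', Submodule.map_top]
    exact h4 ⟨_, h2, rfl⟩
  have hfgδ : (LinearMap.range δ).FG := by
    rw [LinearMap.range_eq_map]
    exact Submodule.FG.map _ Module.Finite.fg_top
  have hδ0 : LinearMap.range δ = ⊥ := Submodule.FG.eq_bot_of_le_jacobson_smul hfgδ hrange
  have hδ00 : δ = 0 := LinearMap.range_eq_bot.mp hδ0
  have hεeq : ε k = ε (k + 1) := sub_eq_zero.mp hδ00
  -- hence ε 0 = ε 1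
  have h01 : ε 0 = ε 1 := by
    have : φ^[k] (ε 0) = φ^[k] (ε 1) := by
      have e1 : φ^[k] (ε 0) = ε k := rfl
      have e2 : φ^[k] (ε 1) = ε (k + 1) := by
        show φ^[k] (φ^[1] 1) = φ^[k + 1] 1
        rw [← Function.iterate_add_apply]
      rw [e1, e2, hεeq]
    exact (φ_inj.iterate k) this
  have hgf : g ∘ₗ f = LinearMap.id := by
    have h1 : ε 1 = g ∘ₗ f := by
      show φ 1 = g ∘ₗ f
      show g ∘ₗ (e.symm 1) ∘ₗ f = g ∘ₗ f
      rw [map_one]
      rfl
    rw [← h1, ← h01]
    rfl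
  intro q q' hqq
  have := congrArg g hqq
  have h1 : g (f q) = q := LinearMap.congr_fun hgf q
  have h2 : g (f q') = q' := LinearMap.congr_fun hgf q'
  rw [h1, h2] at this
  exact this

end Chain

end Groth.Agent.Lib.Helper31.Mor
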