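import Groth.Agent.Lib.Helper31.Mor1

/-!
# Projective modules over a ring `A` with `A/J` simple Artinian: totality and the main theorem
-/

set_option autoImplicit false
set_option linter.unusedSectionVars false
set_option linter.unusedVariables false

namespace Groth.Agent.Lib.Helper31.Mor

universe u v w

section SS

variable {R : Type u} [Ring R] [IsSimpleRing R] [IsArtinianRing R]

lemma isIsotypicOfType_simple (hiso : IsIsotypic R R) [IsSemisimpleRing R]
    (S₀ : Submodule R R) [IsSimpleModule R S₀]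
    (M : Type v) [AddCommGroup M] [Module R M] : IsIsotypicOfType R M S₀ := by
  intro m hm
  obtain ⟨I, ⟨e⟩⟩ := IsSemisimpleRing.exists_linearEquiv_ideal_of_isSimpleModule R m
  have := IsSimpleModule.congr e.symm
  exact ⟨e.trans (hiso S₀ I).some⟩

/-- Over a simple Artinian ring, finitely generated modules are totally ordered by
"admits a surjection onto". -/
theorem exists_surjective_or (V : Type v) (W : Type w) [AddCommGroup V] [Module R V]
    [AddCommGroup W] [Module R W] [Module.Finite R V] [Module.Finite R W] :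
    (∃ f : W →ₗ[R] V, Function.Surjective f) ∨ (∃ f : V →ₗ[R] W, Function.Surjective f) := by
  obtain ⟨hss, hiso, hnt⟩ := isSimpleRing_isArtinianRing_iff.mp
    ⟨(inferInstance : IsSimpleRing R), (inferInstance : IsArtinianRing R)⟩
  obtain ⟨S₀, hS₀⟩ := IsAtomic.exists_atom (Submodule R R)
  rw [← isSimpleModule_iff_isAtom] at hS₀
  obtain ⟨n, ⟨eV⟩⟩ := (isIsotypicOfType_simple hiso S₀ V).linearEquiv_fun
  obtain ⟨m, ⟨eW⟩⟩ := (isIsotypicOfType_simple hiso S₀ W).linearEquiv_fun
  rcases le_total n m with h | h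
  · left
    refine ⟨eV.symm.toLinearMap ∘ₗ (LinearMap.funLeft R S₀ (Fin.castLE h)) ∘ₗ eW.toLinearMap, ?_⟩
    rw [LinearMap.coe_comp, LinearMap.coe_comp]
    exact eV.symm.surjective.comp
      ((LinearMap.funLeft_surjective_of_injective R S₀ _ (Fin.castLE_injective h)).comp
        eW.surjective)
  · right
    refine ⟨eW.symm.toLinearMap ∘ₗ (LinearMap.funLeft R S₀ (Fin.castLE h)) ∘ₗ eV.toLinearMap, ?_⟩
    rw [LinearMap.coe_comp, LinearMap.coe_comp]
    exact eW.symm.surjective.comp
      ((LinearMap.funLeft_surjective_of_injective R S₀ _ (Fin.castLE_injective h)).comp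
        eV.surjective)

end SS

section Main

variable {A : Type u} [Ring A]

local notation "J" => Ring.jacobson A

variable {P : Type v} {Q : Type w} [AddCommGroup P] [Module A P] [AddCommGroup Q] [Module A Q]

/-- restrict an `A ⧸ J`-linear map between the reductions to an `A`-linear one. -/
def restrictA
    (φ : (Q ⧸ (J • ⊤ : Submodule A Q)) →ₗ[A ⧸ J] (P ⧸ (J • ⊤ : Submodule A P))) :
    (Q ⧸ (J • ⊤ : Submodule A Q)) →ₗ[A] (P ⧸ (J • ⊤ : Submodule A P)) where
  toFun := φ
  map_add' := φ.map_add
  map_smul' := by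
    intro a x
    have h1 : a • x = (Ideal.Quotient.mk J a) • x := rfl
    rw [h1, φ.map_smul]
    rfl

lemma finite_red [Module.Finite A P] : Module.Finite (A ⧸ J) (P ⧸ (J • ⊤ : Submodule A P)) :=
  Module.Finite.of_surjective
    (Module.isTorsionBySet_quotient_ideal_smul P J).semilinearMap Function.surjective_id

lemma isArtinian_red [IsSimpleRing (A ⧸ J)] [IsArtinianRing (A ⧸ J)] [Module.Finite A P] :
    IsArtinian A (P ⧸ (J • ⊤ : Submodule A P)) := by
  have h1 : IsSemisimpleModule (A ⧸ J) (P ⧸ (J • ⊤ : Submodule A P)) := inferInstance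
  have h2 : IsSemisimpleModule A (P ⧸ (J • ⊤ : Submodule A P)) :=
    (Module.isTorsionBySet_quotient_ideal_smul P J).isSemisimpleModule_iff.mp h1
  infer_instance

/-- From a surjection between the reductions, a bijection. -/
theorem bijective_of_surjective_red [IsSimpleRing (A ⧸ J)] [IsArtinianRing (A ⧸ J)]
    [Module.Finite A P] [Module.Projective A P] [Module.Finite A Q] [Module.Projective A Q]
    (e : Module.End A P ≃+* Module.End A Q)
    (φ : (Q ⧸ (J • ⊤ : Submodule A Q)) →ₗ[A] (P ⧸ (J • ⊤ : Submodule A P)))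
    (hφ : Function.Surjective φ) : Nonempty (Q ≃ₗ[A] P) := by
  obtain ⟨h, hh⟩ := Module.projective_lifting_property (J • ⊤ : Submodule A P).mkQ
    (φ ∘ₗ (J • ⊤ : Submodule A Q).mkQ) (Submodule.mkQ_surjective _)
  have hsurj : Function.Surjective h := by
    apply surjective_of_mod
    intro p
    obtain ⟨y, hy⟩ := hφ ((J • ⊤ : Submodule A P).mkQ p)
    obtain ⟨q, rfl⟩ := Submodule.mkQ_surjective _ y
    refine ⟨q, ?_⟩
    rw [← Submodule.Quotient.mk_eq_zero, Submodule.Quotient.mk_sub, sub_eq_zero]
    have := LinearMap.congr_fun hh q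
    simp only [LinearMap.coe_comp, Function.comp_apply] at this
    rw [← Submodule.mkQ_apply, ← Submodule.mkQ_apply, this, hy]
  obtain ⟨g, hg⟩ := Module.projective_lifting_property h LinearMap.id hsurj
  have := isArtinian_red (A := A) (P := Q)
  have hinj := injective_of_surjective h g hg e
  exact ⟨LinearEquiv.ofBijective h ⟨hinj, hsurj⟩⟩

theorem main [IsSimpleRing (A ⧸ J)] [IsArtinianRing (A ⧸ J)]
    [Module.Finite A P] [Module.Projective A P] [Module.Finite A Q] [Module.Projective A Q]
    (e : Module.End A P ≃+* Module.End A Q) : Nonempty (P ≃ₗ[A] Q) := by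
  have := finite_red (A := A) (P := P)
  have := finite_red (A := A) (P := Q)
  rcases exists_surjective_or (R := A ⧸ J) (P ⧸ (J • ⊤ : Submodule A P))
    (Q ⧸ (J • ⊤ : Submodule A Q)) with ⟨φ, hφ⟩ | ⟨φ, hφ⟩
  · obtain ⟨E⟩ := bijective_of_surjective_red e (restrictA φ) hφ
    exact ⟨E.symm⟩
  · exact bijective_of_surjective_red e.symm (restrictA φ) hφ

end Main

end Groth.Agent.Lib.Helper31.Mor
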