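import Mathlib
import Groth.Prelude.Def_SGA3x
import Groth.Agent.Lib.Helper78.FpqcDescent
import Groth.Agent.Lib.Helper14.QuotStGeom
import Groth.Agent.Lib.Helper5.GmFlat

set_option autoImplicit false
universe u
open CategoryTheory CategoryTheory.Limits AlgebraicGeometry MonObj

namespace Groth.Agent.Lib.Helper31.MultTypeFlat

open Groth.Agent.Lib.Helper78.FpqcCov

theorem flat_diag (M : Type) [AddCommGroup M] : Flat (Red.diag (ULift.{u} ℤ) M).hom := by
  change Flat (Spec.map (CommRingCat.ofHom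
    (algebraMap (ULift.{u} ℤ) (MonoidAlgebra (ULift.{u} ℤ) (Multiplicative M)))))
  rw [HasRingHomProperty.Spec_iff (P := @Flat)]
  rw [CommRingCat.hom_ofHom, RingHom.flat_algebraMap_iff]
  infer_instance

theorem lfp_diag (M : Type) [AddCommGroup M] (hM : AddGroup.FG M) :
    LocallyOfFinitePresentation (Red.diag (ULift.{u} ℤ) M).hom := by
  haveI : IsNoetherianRing (ULift.{u} ℤ) := Groth.Agent.Lib.Helper5.GmFlat.isNoetherianRing_uliftInt
  haveI : AddMonoid.FG M := AddGroup.fg_iff_addMonoid_fg.mp hM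
  haveI : Algebra.FiniteType (ULift.{u} ℤ) (MonoidAlgebra (ULift.{u} ℤ) (Multiplicative M)) :=
    inferInstance
  haveI : Algebra.FinitePresentation (ULift.{u} ℤ)
      (MonoidAlgebra (ULift.{u} ℤ) (Multiplicative M)) :=
    Algebra.FinitePresentation.of_finiteType.mp inferInstance
  change LocallyOfFinitePresentation (Spec.map (CommRingCat.ofHom
    (algebraMap (ULift.{u} ℤ) (MonoidAlgebra (ULift.{u} ℤ) (Multiplicative M)))))
  rw [HasRingHomProperty.Spec_iff (P := @LocallyOfFinitePresentation)]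
  rw [CommRingCat.hom_ofHom, RingHom.finitePresentation_algebraMap]
  infer_instance

set_option backward.isDefEq.respectTransparency false in
theorem prop_of_isMultTypeFT (P : MorphismProperty Scheme.{u}) [IsZariskiLocalAtTarget P]
    [P.IsStableUnderBaseChange]
    (hP : P.DescendsAlong (@Surjective ⊓ @Flat ⊓ @QuasiCompact : MorphismProperty Scheme.{u}))
    (hbase : ∀ (M : Type) [AddCommGroup M], AddGroup.FG M → P (Red.diag (ULift.{u} ℤ) M).hom)
    {S : Scheme.{u}} (H : Over S) [GrpObj H] (hH : SGA3x.IsMultTypeFT H) : P H.hom := by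
  obtain ⟨S', f, hfl, hsurj, hqc, hloc⟩ := hH
  have hf1 : IsFpqc1 f := isFpqc1_of_data f hsurj hfl hqc
  refine hf1.descends P hP H.hom ?_
  choose U hsU M inst hfg heG using hloc
  have hU : iSup U = ⊤ := by
    rw [eq_top_iff]
    intro x _
    exact TopologicalSpace.Opens.mem_iSup.mpr ⟨x, hsU x⟩
  rw [IsZariskiLocalAtTarget.iff_of_iSup_eq_top (P := P) U hU]
  intro s'
  obtain ⟨eG⟩ := heG s'
  have key : P (pullback.snd H.hom ((U s').ι ≫ f)) := by
    let e : Red.bc ((U s').ι ≫ f) H ≅ Red.DS (U s' : Scheme.{u}) (M s') :=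
      (Grp.forget (Over (U s' : Scheme.{u}))).mapIso eG
    have hw : e.hom.left ≫ (Red.DS (U s' : Scheme.{u}) (M s')).hom =
        (Red.bc ((U s').ι ≫ f) H).hom := Over.w e.hom
    have hDS : P (Red.DS (U s' : Scheme.{u}) (M s')).hom := by
      change P (pullback.snd _ _)
      exact P.pullback_snd _ _ (hbase (M s') (hfg s'))
    haveI : IsIso e.hom.left := inferInstanceAs (IsIso ((Over.forget _).map e.hom))
    change P (Red.bc ((U s').ι ≫ f) H).hom
    rw [← hw]
    exact (P.cancel_left_of_respectsIso _ _).mpr hDS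
  let h' := pullback.snd H.hom f
  have sq1 : IsPullback (h' ⁻¹ᵁ U s').ι (h' ∣_ U s') h' (U s').ι :=
    (isPullback_morphismRestrict h' (U s')).flip
  have sq2 : IsPullback (pullback.fst H.hom f) h' H.hom f := IsPullback.of_hasPullback _ _
  have sq12 := sq1.paste_horiz sq2
  have e1 : h' ∣_ U s' = sq12.isoPullback.hom ≫ pullback.snd H.hom ((U s').ι ≫ f) :=
    (sq12.isoPullback_hom_snd).symm
  change P (h' ∣_ U s')
  rw [e1]
  exact (P.cancel_left_of_respectsIso _ _).mpr key

theorem flat_lfp_of_isMultTypeFT {S : Scheme.{u}} (H : Over S) [GrpObj H]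
    (hH : SGA3x.IsMultTypeFT H) : Flat H.hom ∧ LocallyOfFinitePresentation H.hom := by
  refine ⟨?_, ?_⟩
  · exact prop_of_isMultTypeFT @Flat Groth.Agent.Lib.Helper14.QuotStGeom.flat_descendsAlong_fpqc
      (fun M _ _ => flat_diag M) H hH
  · exact prop_of_isMultTypeFT @LocallyOfFinitePresentation inferInstance
      (fun M _ hM => lfp_diag M hM) H hH

end Groth.Agent.Lib.Helper31.MultTypeFlat
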