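import Mathlib
import Groth.Agent.S5763

namespace Groth.Agent.Lib.Helper31.NN1

open MvPolynomial

universe u

/-- kernel argument: injectivity of a lift. -/
theorem lift_injective (A : Type u) [CommRing A] [IsDomain A] [IsDiscreteValuationRing A]
    (B : Type u) [CommRing B] [Algebra A B] [Module.Flat A B] (d : ℕ)
    (φ : MvPolynomial (Fin d) A →ₐ[A] B)
    (g : MvPolynomial (Fin d) (A ⧸ IsLocalRing.maximalIdeal A) →+*
      B ⧸ Ideal.map (algebraMap A B) (IsLocalRing.maximalIdeal A))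
    (hg : Function.Injective g)
    (hcomm : ∀ P : MvPolynomial (Fin d) A,
      g (MvPolynomial.map (Ideal.Quotient.mk (IsLocalRing.maximalIdeal A)) P) =
        Ideal.Quotient.mk _ (φ P)) :
    Function.Injective φ := by
  obtain ⟨t, ht⟩ := IsDiscreteValuationRing.exists_irreducible A
  have hm : IsLocalRing.maximalIdeal A = Ideal.span {t} := ht.maximalIdeal_eq
  have ht0 : t ≠ 0 := ht.ne_zero
  have hreg : IsSMulRegular B t :=
    Module.Flat.isSMulRegular_of_nonZeroDivisors (mem_nonZeroDivisors_of_ne_zero ht0)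
  -- step: P ∈ ker ⇒ P = C t * P' with P' ∈ ker
  have step : ∀ P : MvPolynomial (Fin d) A, φ P = 0 →
      ∃ P' : MvPolynomial (Fin d) A, P = C t * P' ∧ φ P' = 0 := by
    intro P hP
    have h1 : MvPolynomial.map (Ideal.Quotient.mk (IsLocalRing.maximalIdeal A)) P = 0 := by
      apply hg
      rw [hcomm, hP, map_zero, map_zero]
    have h2 : C t ∣ P := by
      rw [C_dvd_iff_map_hom_eq_zero (Ideal.Quotient.mk (IsLocalRing.maximalIdeal A)) t ?_ P]
      · exact h1
      · intro r'
        rw [Ideal.Quotient.eq_zero_iff_mem, hm, Ideal.mem_span_singleton]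
    obtain ⟨P', rfl⟩ := h2
    refine ⟨P', rfl, ?_⟩
    rw [map_mul, ← algebraMap_eq, AlgHom.commutes, ← Algebra.smul_def] at hP
    exact hreg (by simpa using hP)
  have iter : ∀ n : ℕ, ∀ P : MvPolynomial (Fin d) A, φ P = 0 →
      ∃ P' : MvPolynomial (Fin d) A, P = C (t ^ n) * P' ∧ φ P' = 0 := by
    intro n
    induction n with
    | zero => intro P hP; exact ⟨P, by simp, hP⟩
    | succ n ih =>
      intro P hP
      obtain ⟨P1, h1, h1'⟩ := ih P hP
      obtain ⟨P2, h2, h2'⟩ := step P1 h1'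
      refine ⟨P2, ?_, h2'⟩
      rw [h1, h2, pow_succ, C_mul]; ring
  rw [injective_iff_map_eq_zero]
  intro P hP
  ext m
  rw [coeff_zero]
  have hmem : coeff m P ∈ (⨅ n : ℕ, IsLocalRing.maximalIdeal A ^ n) := by
    rw [Ideal.mem_iInf]
    intro n
    obtain ⟨P', h1, -⟩ := iter n P hP
    rw [h1, coeff_C_mul, hm, Ideal.span_singleton_pow]
    exact Ideal.mem_span_singleton.2 (Dvd.intro _ rfl)
  rw [Ideal.iInf_pow_eq_bot_of_isLocalRing _ (IsLocalRing.maximalIdeal.isMaximal A).ne_top] at hmem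
  exact hmem

end Groth.Agent.Lib.Helper31.NN1
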