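import Mathlib
import Groth.Agent.S5763
import Groth.Agent.Lib.Helper31.NN1

namespace Groth.Agent.Lib.Helper31.NN2

open MvPolynomial

universe u

set_option linter.style.haveILetI false

theorem main (A : Type u) [CommRing A]
    [IsDomain A] [IsDiscreteValuationRing A] (B : Type u) [CommRing B] [Algebra A B] [Module.Flat A B]
    (d : ℕ) [Algebra.FiniteType A (B ⧸ Ideal.map (algebraMap A B) (IsLocalRing.maximalIdeal A))]
    (hd : ringKrullDim (B ⧸ Ideal.map (algebraMap A B) (IsLocalRing.maximalIdeal A)) = d) :
    ∃ φ : MvPolynomial (Fin d) A →ₐ[A] B, Function.Injective φ ∧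
      (Function.Injective (MvPolynomial.eval₂Hom
          (Ideal.quotientMap (Ideal.map (algebraMap A B) (IsLocalRing.maximalIdeal A)) (algebraMap A B)
            Ideal.le_comap_map)
          (fun i => Ideal.Quotient.mk (Ideal.map (algebraMap A B) (IsLocalRing.maximalIdeal A))
            (φ (MvPolynomial.X i)))) ∧
        (MvPolynomial.eval₂Hom
          (Ideal.quotientMap (Ideal.map (algebraMap A B) (IsLocalRing.maximalIdeal A)) (algebraMap A B)
            Ideal.le_comap_map)
          (fun i => Ideal.Quotient.mk (Ideal.map (algebraMap A B) (IsLocalRing.maximalIdeal A))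
            (φ (MvPolynomial.X i)))).Finite) := by
  classical
  letI : Field (A ⧸ IsLocalRing.maximalIdeal A) := Ideal.Quotient.field _
  obtain ⟨q, hq⟩ : ∃ q : A ⧸ IsLocalRing.maximalIdeal A →+*
      B ⧸ Ideal.map (algebraMap A B) (IsLocalRing.maximalIdeal A),
      q = Ideal.quotientMap (Ideal.map (algebraMap A B) (IsLocalRing.maximalIdeal A)) (algebraMap A B)
            Ideal.le_comap_map := ⟨_, rfl⟩
  rw [← hq]
  letI : Algebra (A ⧸ IsLocalRing.maximalIdeal A)
      (B ⧸ Ideal.map (algebraMap A B) (IsLocalRing.maximalIdeal A)) := q.toAlgebra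
  haveI : IsScalarTower A (A ⧸ IsLocalRing.maximalIdeal A)
      (B ⧸ Ideal.map (algebraMap A B) (IsLocalRing.maximalIdeal A)) :=
    IsScalarTower.of_algebraMap_eq (fun a => by
      rw [RingHom.algebraMap_toAlgebra, hq]
      simp [Ideal.quotientMap_mk])
  haveI : Algebra.FiniteType (A ⧸ IsLocalRing.maximalIdeal A)
      (B ⧸ Ideal.map (algebraMap A B) (IsLocalRing.maximalIdeal A)) :=
    Algebra.FiniteType.of_restrictScalars_finiteType A _ _
  haveI : Nontrivial (B ⧸ Ideal.map (algebraMap A B) (IsLocalRing.maximalIdeal A)) := by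
    by_contra h
    rw [not_nontrivial_iff_subsingleton] at h
    have := ringKrullDim_eq_bot_of_subsingleton
      (R := B ⧸ Ideal.map (algebraMap A B) (IsLocalRing.maximalIdeal A))
    rw [hd] at this
    exact absurd this (by simp)
  obtain ⟨s, g, hginj, hgfin⟩ := exists_finite_inj_algHom_of_fg (A ⧸ IsLocalRing.maximalIdeal A)
    (B ⧸ Ideal.map (algebraMap A B) (IsLocalRing.maximalIdeal A))
  have hs : s = d := by
    letI := g.toRingHom.toAlgebra
    haveI : Module.Finite (MvPolynomial (Fin s) (A ⧸ IsLocalRing.maximalIdeal A))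
        (B ⧸ Ideal.map (algebraMap A B) (IsLocalRing.maximalIdeal A)) := hgfin
    have h1 := (Groth.Agent.S5763.result (MvPolynomial (Fin s) (A ⧸ IsLocalRing.maximalIdeal A))
      (B ⧸ Ideal.map (algebraMap A B) (IsLocalRing.maximalIdeal A))).2 hginj
    rw [hd, MvPolynomial.ringKrullDim_of_isNoetherianRing, ringKrullDim_eq_zero_of_field, zero_add,
      Nat.card_fin] at h1
    exact_mod_cast h1.symm
  subst hs
  choose b hb using fun i => Ideal.Quotient.mk_surjective (g (X i))
  have hge : MvPolynomial.eval₂Hom q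
      (fun i => Ideal.Quotient.mk (Ideal.map (algebraMap A B) (IsLocalRing.maximalIdeal A))
        ((aeval b : MvPolynomial (Fin s) A →ₐ[A] B) (MvPolynomial.X i))) = g.toRingHom := by
    apply MvPolynomial.ringHom_ext
    · intro r
      simp only [eval₂Hom_C, AlgHom.toRingHom_eq_coe, RingHom.coe_coe]
      rw [← algebraMap_eq, AlgHom.commutes, RingHom.algebraMap_toAlgebra]
    · intro i
      simp [hb]
  refine ⟨aeval b, ?_, ?_, ?_⟩
  · apply NN1.lift_injective A B s (aeval b) g.toRingHom hginj
    intro P
    have : (g.toRingHom.comp (MvPolynomial.map (Ideal.Quotient.mk (IsLocalRing.maximalIdeal A)))) =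
        (Ideal.Quotient.mk (Ideal.map (algebraMap A B) (IsLocalRing.maximalIdeal A))).comp
          ((aeval b : MvPolynomial (Fin s) A →ₐ[A] B) : MvPolynomial (Fin s) A →+* B) := by
      apply MvPolynomial.ringHom_ext
      · intro r
        simp only [RingHom.comp_apply, map_C, AlgHom.toRingHom_eq_coe, RingHom.coe_coe]
        rw [← algebraMap_eq, AlgHom.commutes, RingHom.algebraMap_toAlgebra, hq,
          Ideal.quotientMap_mk, ← algebraMap_eq, AlgHom.commutes]
      · intro i
        simp [hb]
    exact congrArg (fun f => f P) this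
  · rw [hge]; exact hginj
  · rw [hge]; exact hgfin

end Groth.Agent.Lib.Helper31.NN2
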