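import Mathlib

set_option autoImplicit false
set_option linter.unusedSectionVars false

open MvPowerSeries Finsupp

namespace Groth.Agent.Lib.Helper31.NodeA

variable {k : Type*} [Field k]

/-- a Finsupp on `Fin 2` vanishing at 1 is `single 0 _` -/
lemma eq_single_zero (m : Fin 2 →₀ ℕ) (h : m 1 = 0) : m = single 0 (m 0) := by
  ext i
  fin_cases i
  · simp
  · simp [h]

lemma eq_single_one (m : Fin 2 →₀ ℕ) (h : m 0 = 0) : m = single 1 (m 1) := by
  ext i
  fin_cases i
  · simp [h]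
  · simp

/-- the canonical remainder of `f` -/
noncomputable def rem (a b : ℕ) (f : MvPowerSeries (Fin 2) k) : MvPowerSeries (Fin 2) k :=
  ∑ i ∈ Finset.range a, C (coeff (single 0 i) f) * (X 0) ^ i +
    ∑ j ∈ Finset.range (b - 1), C (coeff (single 1 (j + 1)) f) * (X 1) ^ (j + 1)

lemma coeff_rem (a b : ℕ) (f : MvPowerSeries (Fin 2) k) (m : Fin 2 →₀ ℕ) :
    coeff m (rem a b f) =
      (if m 1 = 0 ∧ m 0 < a then coeff m f else 0) +
      (if m 0 = 0 ∧ 1 ≤ m 1 ∧ m 1 < b then coeff m f else 0) := by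
  classical
  unfold rem
  rw [map_add, map_sum, map_sum]
  congr 1
  · simp_rw [coeff_C_mul, coeff_X_pow]
    by_cases h : m 1 = 0 ∧ m 0 < a
    · rw [if_pos h]
      rw [Finset.sum_eq_single (m 0)]
      · rw [if_pos (eq_single_zero m h.1), mul_one, ← eq_single_zero m h.1]
      · intro i _ hi
        rw [if_neg, mul_zero]
        intro hm
        apply hi
        have := congrArg (fun t : Fin 2 →₀ ℕ => t 0) hm
        simpa using this.symm
      · intro hn
        exact absurd (Finset.mem_range.mpr h.2) hn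
    · rw [if_neg h]
      apply Finset.sum_eq_zero
      intro i hi
      rw [if_neg, mul_zero]
      intro hm
      apply h
      rw [hm]
      simpa using Finset.mem_range.mp hi
  · simp_rw [coeff_C_mul, coeff_X_pow]
    by_cases h : m 0 = 0 ∧ 1 ≤ m 1 ∧ m 1 < b
    · rw [if_pos h]
      rw [Finset.sum_eq_single (m 1 - 1)]
      · have e : m 1 - 1 + 1 = m 1 := by omega
        rw [e, if_pos (eq_single_one m h.1), mul_one, ← eq_single_one m h.1]
      · intro j _ hj
        rw [if_neg, mul_zero]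
        intro hm
        apply hj
        have := congrArg (fun t : Fin 2 →₀ ℕ => t 1) hm
        simp at this
        omega
      · intro hn
        exfalso
        apply hn
        rw [Finset.mem_range]
        omega
    · rw [if_neg h]
      apply Finset.sum_eq_zero
      intro j hj
      rw [if_neg, mul_zero]
      intro hm
      apply h
      rw [hm]
      have := Finset.mem_range.mp hj
      simp
      omega


lemma coeff_sub_rem (a b : ℕ) (f : MvPowerSeries (Fin 2) k) (m : Fin 2 →₀ ℕ)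
    (h : (m 1 = 0 ∧ m 0 < a) ∨ (m 0 = 0 ∧ 1 ≤ m 1 ∧ m 1 < b)) :
    coeff m (f - rem a b f) = 0 := by
  rw [map_sub, coeff_rem]
  rcases h with h | h
  · have h2 : ¬ (m 0 = 0 ∧ 1 ≤ m 1 ∧ m 1 < b) := by
      rintro ⟨_, h3, _⟩; omega
    rw [if_pos h, if_neg h2, add_zero, sub_self]
  · have h2 : ¬ (m 1 = 0 ∧ m 0 < a) := by
      rintro ⟨h3, _⟩; omega
    rw [if_neg h2, if_pos h, zero_add, sub_self]

/-- a power series with no pure-`x` or pure-`y` monomials is divisible by `xy` -/
lemma xy_dvd (r : MvPowerSeries (Fin 2) k)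
    (h : ∀ m : Fin 2 →₀ ℕ, (m 0 = 0 ∨ m 1 = 0) → coeff m r = 0) :
    (X 0 * X 1 : MvPowerSeries (Fin 2) k) ∣ r := by
  have h1 : (X 0 : MvPowerSeries (Fin 2) k) ∣ r := by
    rw [X_dvd_iff]
    intro m hm
    exact h m (Or.inl hm)
  obtain ⟨g, hg⟩ := h1
  have h2 : (X 1 : MvPowerSeries (Fin 2) k) ∣ g := by
    rw [X_dvd_iff]
    intro m hm
    have e : coeff (single 0 1 + m) (X 0 * g) = 1 * coeff m g := by
      rw [X]
      exact coeff_add_monomial_mul (single 0 1) m g (1 : k)
    rw [one_mul] at e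
    rw [← e, ← hg]
    apply h
    right
    simp [hm]
  obtain ⟨g', hg'⟩ := h2
  exact ⟨g', by rw [hg, hg', mul_assoc]⟩

theorem sub_rem_mem (a b : ℕ) (f : MvPowerSeries (Fin 2) k) :
    f - rem a b f ∈ Ideal.span
      {(X 0 * X 1 : MvPowerSeries (Fin 2) k), (X 0) ^ a, (X 1) ^ b} := by
  classical
  set r := f - rem a b f with hr
  let r₂ : MvPowerSeries (Fin 2) k := fun m => if m 1 = 0 then coeff m r else 0
  let r₃ : MvPowerSeries (Fin 2) k := fun m => if m 0 = 0 ∧ m 1 ≠ 0 then coeff m r else 0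
  have c₂ : ∀ m, coeff m r₂ = if m 1 = 0 then coeff m r else 0 := fun m => rfl
  have c₃ : ∀ m, coeff m r₃ = if m 0 = 0 ∧ m 1 ≠ 0 then coeff m r else 0 := fun m => rfl
  have d₂ : (X 0 : MvPowerSeries (Fin 2) k) ^ a ∣ r₂ := by
    rw [X_pow_dvd_iff]
    intro m hm
    rw [c₂]
    split_ifs with h1
    · exact coeff_sub_rem a b f m (Or.inl ⟨h1, hm⟩)
    · rfl
  have d₃ : (X 1 : MvPowerSeries (Fin 2) k) ^ b ∣ r₃ := by
    rw [X_pow_dvd_iff]
    intro m hm
    rw [c₃]
    split_ifs with h1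
    · exact coeff_sub_rem a b f m (Or.inr ⟨h1.1, by omega, hm⟩)
    · rfl
  have d₁ : (X 0 * X 1 : MvPowerSeries (Fin 2) k) ∣ r - r₂ - r₃ := by
    apply xy_dvd
    intro m hm
    rw [map_sub, map_sub, c₂, c₃]
    by_cases h1 : m 1 = 0
    · have : ¬ (m 0 = 0 ∧ m 1 ≠ 0) := fun h => h.2 h1
      rw [if_pos h1, if_neg this]; ring
    · have h0 : m 0 = 0 := by tauto
      rw [if_neg h1, if_pos ⟨h0, h1⟩]; ring
  have e : r = (r - r₂ - r₃) + r₂ + r₃ := by ring
  rw [e]
  apply add_mem
  · apply add_mem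
    · obtain ⟨g, hg⟩ := d₁
      rw [hg]
      exact Ideal.mul_mem_right _ _ (Ideal.subset_span (by simp))
    · obtain ⟨g, hg⟩ := d₂
      rw [hg]
      exact Ideal.mul_mem_right _ _ (Ideal.subset_span (by simp))
  · obtain ⟨g, hg⟩ := d₃
    rw [hg]
    exact Ideal.mul_mem_right _ _ (Ideal.subset_span (by simp))

end Groth.Agent.Lib.Helper31.NodeA
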