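import Mathlib
import Groth.Agent.Lib.Helper31.NodeA

set_option autoImplicit false
set_option linter.unusedSectionVars false

open MvPowerSeries Finsupp

namespace Groth.Agent.Lib.Helper31.NodeB

variable {k : Type*} [Field k] (J : Ideal (MvPowerSeries (Fin 2) k))

/-- elements with zero constant coefficient are nilpotent modulo `J` -/
theorem exists_pow_mem [Module.Finite k (MvPowerSeries (Fin 2) k ⧸ J)]
    (t : MvPowerSeries (Fin 2) k) (ht : constantCoeff t = 0) : ∃ N : ℕ, t ^ N ∈ J := by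
  have hart : IsArtinianRing (MvPowerSeries (Fin 2) k ⧸ J) := IsArtinianRing.of_finite k _
  let tb : MvPowerSeries (Fin 2) k ⧸ J := Ideal.Quotient.mk J t
  let f : ℕ →o (Ideal (MvPowerSeries (Fin 2) k ⧸ J))ᵒᵈ :=
    { toFun := fun i => OrderDual.toDual (Ideal.span {tb ^ i})
      monotone' := by
        intro i j hij
        change Ideal.span {tb ^ j} ≤ Ideal.span {tb ^ i}
        rw [Ideal.span_singleton_le_span_singleton]
        exact pow_dvd_pow tb hij }
  obtain ⟨N, hN⟩ := IsArtinian.monotone_stabilizes f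
  have h1 : Ideal.span {tb ^ N} = Ideal.span {tb ^ (N + 1)} := by
    have := hN (N + 1) (Nat.le_succ N)
    exact congrArg OrderDual.ofDual this
  have h2 : tb ^ N ∈ Ideal.span {tb ^ (N + 1)} := by
    rw [← h1]; exact Ideal.subset_span rfl
  rw [Ideal.mem_span_singleton'] at h2
  obtain ⟨u, hu⟩ := h2
  obtain ⟨u', rfl⟩ := Ideal.Quotient.mk_surjective u
  refine ⟨N, ?_⟩
  have h3 : t ^ N * (1 - u' * t) ∈ J := by
    rw [← Ideal.Quotient.eq_zero_iff_mem]
    simp only [map_mul, map_sub, map_one, map_pow]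
    change tb ^ N * (1 - Ideal.Quotient.mk J u' * tb) = 0
    linear_combination (-1 : MvPowerSeries (Fin 2) k ⧸ J) * hu
  have hunit : IsUnit (1 - u' * t) := by
    rw [isUnit_iff_constantCoeff]
    simp [ht]
  obtain ⟨v, hv⟩ := hunit
  have := J.mul_mem_right (↑v⁻¹ : MvPowerSeries (Fin 2) k) h3
  rwa [← hv, mul_assoc, Units.mul_inv, mul_one] at this

/-- `J` contains no power series with nonzero constant coefficient -/
theorem constantCoeff_eq_zero_of_mem (hJ : J ≠ ⊤) {f : MvPowerSeries (Fin 2) k} (hf : f ∈ J) :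
    constantCoeff f = 0 := by
  by_contra h
  apply hJ
  have hunit : IsUnit f := by
    rw [isUnit_iff_constantCoeff]
    exact isUnit_iff_ne_zero.mpr h
  exact Ideal.eq_top_of_isUnit_mem _ hf hunit


section Main

variable (a b : ℕ)

/-- the lift of a coefficient vector to a power series -/
noncomputable def Psi :
    ((Fin a → k) × (Fin (b - 1) → k)) →ₗ[k] MvPowerSeries (Fin 2) k where
  toFun v := ∑ i : Fin a, C (v.1 i) * (X 0) ^ (i : ℕ) +
    ∑ j : Fin (b - 1), C (v.2 j) * (X 1) ^ ((j : ℕ) + 1)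
  map_add' v w := by
    simp only [Prod.fst_add, Prod.snd_add, Pi.add_apply, map_add, add_mul, Finset.sum_add_distrib]
    abel
  map_smul' c v := by
    simp only [Prod.smul_fst, Prod.smul_snd, Pi.smul_apply, smul_eq_mul, map_mul, RingHom.id_apply,
      smul_add, Finset.smul_sum, MvPowerSeries.smul_eq_C_mul, mul_assoc]

theorem rem_eq_Psi (f : MvPowerSeries (Fin 2) k) :
    NodeA.rem a b f = Psi a b (fun i : Fin a => coeff (single 0 (i : ℕ)) f,
      fun j : Fin (b - 1) => coeff (single 1 ((j : ℕ) + 1)) f) := by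
  unfold NodeA.rem Psi
  simp only [LinearMap.coe_mk, AddHom.coe_mk]
  rw [Finset.sum_range, Finset.sum_range]

theorem constantCoeff_Psi (ha : 1 ≤ a) (v : (Fin a → k) × (Fin (b - 1) → k)) :
    constantCoeff (Psi a b v) = v.1 ⟨0, ha⟩ := by
  unfold Psi
  simp only [LinearMap.coe_mk, AddHom.coe_mk, map_add, map_sum, map_mul, map_pow,
    constantCoeff_C, constantCoeff_X]
  rw [Finset.sum_eq_single (⟨0, ha⟩ : Fin a)]
  · simp
  · intro i _ hi
    have : (i : ℕ) ≠ 0 := fun h => hi (Fin.ext h)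
    simp [this]
  · simp

end Main


/-- the standing hypotheses -/
structure Setup (J : Ideal (MvPowerSeries (Fin 2) k)) (a b : ℕ) : Prop where
  hxy : (X 0 * X 1 : MvPowerSeries (Fin 2) k) ∈ J
  hJ : J ≠ ⊤
  ha : (X 0 : MvPowerSeries (Fin 2) k) ^ a ∈ J
  ha' : ∀ i < a, (X 0 : MvPowerSeries (Fin 2) k) ^ i ∉ J
  hb : (X 1 : MvPowerSeries (Fin 2) k) ^ b ∈ J
  hb' : ∀ j < b, (X 1 : MvPowerSeries (Fin 2) k) ^ j ∉ J

namespace Setup

variable {J} {a b : ℕ} (h : Setup J a b)

local notation "mk" => Ideal.Quotient.mk J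

include h

theorem a_pos : 1 ≤ a := by
  by_contra h0
  have e0 : a = 0 := by omega
  apply h.hJ
  have h1 := h.ha
  rw [e0, pow_zero] at h1
  exact (Ideal.eq_top_iff_one J).mpr h1

theorem b_pos : 1 ≤ b := by
  by_contra h0
  have e0 : b = 0 := by omega
  apply h.hJ
  have h1 := h.hb
  rw [e0, pow_zero] at h1
  exact (Ideal.eq_top_iff_one J).mpr h1

theorem xb_pow_eq_zero {p : ℕ} (hp : a ≤ p) : (mk (X 0)) ^ p = 0 := by
  rw [← map_pow, Ideal.Quotient.eq_zero_iff_mem]
  obtain ⟨q, rfl⟩ := Nat.exists_eq_add_of_le hp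
  rw [pow_add]
  exact J.mul_mem_right _ h.ha

theorem yb_pow_eq_zero {p : ℕ} (hp : b ≤ p) : (mk (X 1)) ^ p = 0 := by
  rw [← map_pow, Ideal.Quotient.eq_zero_iff_mem]
  obtain ⟨q, rfl⟩ := Nat.exists_eq_add_of_le hp
  rw [pow_add]
  exact J.mul_mem_right _ h.hb

theorem xb_pow_ne_zero {p : ℕ} (hp : p < a) : (mk (X 0)) ^ p ≠ 0 := by
  rw [← map_pow, Ne, Ideal.Quotient.eq_zero_iff_mem]
  exact h.ha' p hp

theorem yb_pow_ne_zero {p : ℕ} (hp : p < b) : (mk (X 1)) ^ p ≠ 0 := by
  rw [← map_pow, Ne, Ideal.Quotient.eq_zero_iff_mem]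
  exact h.hb' p hp

theorem xy {p q : ℕ} (hp : 1 ≤ p) (hq : 1 ≤ q) : (mk (X 0)) ^ p * (mk (X 1)) ^ q = 0 := by
  obtain ⟨p', rfl⟩ := Nat.exists_eq_add_of_le' hp
  obtain ⟨q', rfl⟩ := Nat.exists_eq_add_of_le' hq
  have : mk (X 0) * mk (X 1) = 0 := by
    rw [← map_mul, Ideal.Quotient.eq_zero_iff_mem]; exact h.hxy
  rw [pow_succ, pow_succ]
  calc mk (X 0) ^ p' * mk (X 0) * (mk (X 1) ^ q' * mk (X 1))
      = mk (X 0) ^ p' * mk (X 1) ^ q' * (mk (X 0) * mk (X 1)) := by ring
    _ = 0 := by rw [this, mul_zero]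

omit h in
theorem cb_mul_eq_zero {c : k} (hc : c ≠ 0) {z : MvPowerSeries (Fin 2) k ⧸ J}
    (hz : mk (C c) * z = 0) : z = 0 := by
  have : mk (C c⁻¹) * (mk (C c) * z) = z := by
    rw [← mul_assoc, ← map_mul, ← map_mul, inv_mul_cancel₀ hc, map_one, map_one, one_mul]
  rw [← this, hz, mul_zero]

omit h in
theorem mk_Psi (v : (Fin a → k) × (Fin (b - 1) → k)) :
    mk (Psi a b v) = ∑ i : Fin a, mk (C (v.1 i)) * (mk (X 0)) ^ (i : ℕ) +
      ∑ j : Fin (b - 1), mk (C (v.2 j)) * (mk (X 1)) ^ ((j : ℕ) + 1) := by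
  unfold Psi
  simp only [LinearMap.coe_mk, AddHom.coe_mk, map_add, map_sum, map_mul, map_pow]

/-- the constant coefficient of a relation vanishes -/
theorem rel_zero (v : (Fin a → k) × (Fin (b - 1) → k)) (hv : Psi a b v ∈ J) :
    v.1 ⟨0, h.a_pos⟩ = 0 := by
  rw [← constantCoeff_Psi a b h.a_pos v]
  exact constantCoeff_eq_zero_of_mem J h.hJ hv

/-- the low `x`-coefficients of a relation vanish -/
theorem rel_x (v : (Fin a → k) × (Fin (b - 1) → k)) (hv : Psi a b v ∈ J) :
    ∀ (i₁ : ℕ) (hi : i₁ < a), i₁ + 1 < a → v.1 ⟨i₁, hi⟩ = 0 := by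
  intro i₁
  induction i₁ using Nat.strong_induction_on with
  | _ i₁ ih =>
    intro hi hi1
    by_contra hne
    have h0 : mk (Psi a b v) = 0 := Ideal.Quotient.eq_zero_iff_mem.mpr hv
    have h1 : (mk (X 0)) ^ (a - 1 - i₁) * mk (Psi a b v) = 0 := by rw [h0, mul_zero]
    rw [mk_Psi, mul_add, Finset.mul_sum, Finset.mul_sum] at h1
    have hy : ∑ j : Fin (b - 1), (mk (X 0)) ^ (a - 1 - i₁) *
        (mk (C (v.2 j)) * (mk (X 1)) ^ ((j : ℕ) + 1)) = 0 := by
      apply Finset.sum_eq_zero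
      intro j _
      rw [mul_left_comm, h.xy (by omega) (by omega), mul_zero]
    have hx : ∑ i : Fin a, (mk (X 0)) ^ (a - 1 - i₁) *
        (mk (C (v.1 i)) * (mk (X 0)) ^ (i : ℕ)) =
        mk (C (v.1 ⟨i₁, hi⟩)) * (mk (X 0)) ^ (a - 1) := by
      rw [Finset.sum_eq_single (⟨i₁, hi⟩ : Fin a)]
      · rw [mul_left_comm, ← pow_add]
        congr 2
        simp only []
        omega
      · intro i _ hii
        rcases lt_or_gt_of_ne (fun e => hii (Fin.ext e) : (i : ℕ) ≠ i₁) with hlt | hgt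
        · have : v.1 i = 0 := ih i hlt i.2 (by omega)
          rw [this, map_zero, map_zero, zero_mul, mul_zero]
        · rw [mul_left_comm, ← pow_add, h.xb_pow_eq_zero (by omega), mul_zero]
      · intro hn; exact absurd (Finset.mem_univ _) hn
    rw [hx, hy, add_zero] at h1
    exact h.xb_pow_ne_zero (by omega) (cb_mul_eq_zero hne h1)


/-- the low `y`-coefficients of a relation vanish -/
theorem rel_y (v : (Fin a → k) × (Fin (b - 1) → k)) (hv : Psi a b v ∈ J) :
    ∀ (j₁ : ℕ) (hj : j₁ < b - 1), j₁ + 2 < b → v.2 ⟨j₁, hj⟩ = 0 := by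
  intro j₁
  induction j₁ using Nat.strong_induction_on with
  | _ j₁ ih =>
    intro hj hj1
    by_contra hne
    have h0 : mk (Psi a b v) = 0 := Ideal.Quotient.eq_zero_iff_mem.mpr hv
    have h1 : (mk (X 1)) ^ (b - 2 - j₁) * mk (Psi a b v) = 0 := by rw [h0, mul_zero]
    rw [mk_Psi, mul_add, Finset.mul_sum, Finset.mul_sum] at h1
    have hx : ∑ i : Fin a, (mk (X 1)) ^ (b - 2 - j₁) *
        (mk (C (v.1 i)) * (mk (X 0)) ^ (i : ℕ)) = 0 := by
      apply Finset.sum_eq_zero
      intro i _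
      by_cases hi0 : (i : ℕ) = 0
      · have : i = ⟨0, h.a_pos⟩ := Fin.ext hi0
        rw [this, h.rel_zero v hv, map_zero, map_zero, zero_mul, mul_zero]
      · rw [mul_left_comm, mul_comm ((mk (X 1)) ^ _), h.xy (by omega) (by omega), mul_zero]
    have hy : ∑ j : Fin (b - 1), (mk (X 1)) ^ (b - 2 - j₁) *
        (mk (C (v.2 j)) * (mk (X 1)) ^ ((j : ℕ) + 1)) =
        mk (C (v.2 ⟨j₁, hj⟩)) * (mk (X 1)) ^ (b - 1) := by
      rw [Finset.sum_eq_single (⟨j₁, hj⟩ : Fin (b - 1))]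
      · rw [mul_left_comm, ← pow_add]
        congr 2
        simp only []
        omega
      · intro j _ hjj
        rcases lt_or_gt_of_ne (fun e => hjj (Fin.ext e) : (j : ℕ) ≠ j₁) with hlt | hgt
        · have : v.2 j = 0 := ih j hlt j.2 (by omega)
          rw [this, map_zero, map_zero, zero_mul, mul_zero]
        · rw [mul_left_comm, ← pow_add, h.yb_pow_eq_zero (by omega), mul_zero]
      · intro hn; exact absurd (Finset.mem_univ _) hn
    rw [hx, hy, zero_add] at h1
    exact h.yb_pow_ne_zero (by omega) (cb_mul_eq_zero hne h1)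

/-- the top coefficients -/
noncomputable def ctop (v : (Fin a → k) × (Fin (b - 1) → k)) : k :=
  if h2 : 2 ≤ a then v.1 ⟨a - 1, by omega⟩ else 0

noncomputable def dtop (v : (Fin a → k) × (Fin (b - 1) → k)) : k :=
  if h2 : 2 ≤ b then v.2 ⟨b - 2, by omega⟩ else 0

omit h in
theorem ctop_eq (h2 : 2 ≤ a) (v : (Fin a → k) × (Fin (b - 1) → k)) :
    ctop v = v.1 ⟨a - 1, by omega⟩ := by
  unfold ctop; rw [dif_pos h2]

omit h in
theorem dtop_eq (h2 : 2 ≤ b) (v : (Fin a → k) × (Fin (b - 1) → k)) :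
    dtop v = v.2 ⟨b - 2, by omega⟩ := by
  unfold dtop; rw [dif_pos h2]

theorem v1_eq (v : (Fin a → k) × (Fin (b - 1) → k)) (hv : Psi a b v ∈ J) (i : Fin a) :
    v.1 i = if (i : ℕ) + 1 = a then ctop v else 0 := by
  by_cases h2 : 2 ≤ a
  · by_cases hi : (i : ℕ) + 1 = a
    · rw [if_pos hi, ctop_eq h2]
      exact congrArg v.1 (Fin.ext (by simp only []; omega))
    · rw [if_neg hi]
      exact h.rel_x v hv i i.2 (by omega)
  · have ha1 : a = 1 := by have := h.a_pos; omega
    have hi0 : (i : ℕ) = 0 := by omega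
    have : i = ⟨0, h.a_pos⟩ := Fin.ext hi0
    rw [this, h.rel_zero v hv]
    unfold ctop
    rw [dif_neg h2]
    simp

theorem v2_eq (v : (Fin a → k) × (Fin (b - 1) → k)) (hv : Psi a b v ∈ J) (j : Fin (b - 1)) :
    v.2 j = if (j : ℕ) + 2 = b then dtop v else 0 := by
  have h2 : 2 ≤ b := by have := j.2; omega
  by_cases hj : (j : ℕ) + 2 = b
  · rw [if_pos hj, dtop_eq h2]
    exact congrArg v.2 (Fin.ext (by simp only []; omega))
  · rw [if_neg hj]
    exact h.rel_y v hv j j.2 (by have := j.2; omega)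

/-- the top relation -/
theorem rel_top (v : (Fin a → k) × (Fin (b - 1) → k)) (hv : Psi a b v ∈ J) :
    mk (C (ctop v)) * (mk (X 0)) ^ (a - 1) + mk (C (dtop v)) * (mk (X 1)) ^ (b - 1) = 0 := by
  have h0 : mk (Psi a b v) = 0 := Ideal.Quotient.eq_zero_iff_mem.mpr hv
  rw [mk_Psi] at h0
  have hx : ∑ i : Fin a, mk (C (v.1 i)) * (mk (X 0)) ^ (i : ℕ) =
      mk (C (ctop v)) * (mk (X 0)) ^ (a - 1) := by
    have ha := h.a_pos
    rw [Finset.sum_eq_single (⟨a - 1, by omega⟩ : Fin a)]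
    · rw [h.v1_eq v hv]
      rw [if_pos (by simp only []; omega)]
    · intro i _ hi
      rw [h.v1_eq v hv, if_neg, map_zero, map_zero, zero_mul]
      intro e
      apply hi
      apply Fin.ext
      simp only []
      omega
    · intro hn; exact absurd (Finset.mem_univ _) hn
  have hy : ∑ j : Fin (b - 1), mk (C (v.2 j)) * (mk (X 1)) ^ ((j : ℕ) + 1) =
      mk (C (dtop v)) * (mk (X 1)) ^ (b - 1) := by
    by_cases h2 : 2 ≤ b
    · rw [Finset.sum_eq_single (⟨b - 2, by omega⟩ : Fin (b - 1))]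
      · rw [h.v2_eq v hv]
        rw [if_pos (by simp only []; omega)]
        congr 2
        simp only []
        omega
      · intro j _ hj
        rw [h.v2_eq v hv, if_neg, map_zero, map_zero, zero_mul]
        intro e
        apply hj
        apply Fin.ext
        simp only []
        omega
      · intro hn; exact absurd (Finset.mem_univ _) hn
    · have hb1 : b - 1 = 0 := by omega
      have : IsEmpty (Fin (b - 1)) := by rw [hb1]; infer_instance
      rw [Finset.univ_eq_empty, Finset.sum_empty]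
      unfold dtop
      rw [dif_neg h2, map_zero, map_zero, zero_mul]
  rw [hx, hy] at h0
  exact h0


/-- case B: no top relation, so no relation at all -/
theorem ker_eq_zero
    (hP : ¬ ∃ c d : k, (c ≠ 0 ∨ d ≠ 0) ∧ 2 ≤ a ∧ 2 ≤ b ∧
      mk (C c) * (mk (X 0)) ^ (a - 1) + mk (C d) * (mk (X 1)) ^ (b - 1) = 0)
    (v : (Fin a → k) × (Fin (b - 1) → k)) (hv : Psi a b v ∈ J) : v = 0 := by
  have ht := h.rel_top v hv
  have ha := h.a_pos
  have hb := h.b_pos
  have hc : ctop v = 0 ∧ dtop v = 0 := by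
    by_cases h2a : 2 ≤ a
    · by_cases h2b : 2 ≤ b
      · by_contra hne
        apply hP
        refine ⟨ctop v, dtop v, ?_, h2a, h2b, ht⟩
        by_contra hh
        push Not at hh
        exact hne hh
      · have hd : dtop v = 0 := by unfold dtop; rw [dif_neg h2b]
        refine ⟨?_, hd⟩
        rw [hd, map_zero, map_zero, zero_mul, add_zero] at ht
        by_contra hne
        exact h.xb_pow_ne_zero (by omega) (cb_mul_eq_zero hne ht)
    · have hc : ctop v = 0 := by unfold ctop; rw [dif_neg h2a]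
      refine ⟨hc, ?_⟩
      rw [hc, map_zero, map_zero, zero_mul, zero_add] at ht
      by_contra hne
      exact h.yb_pow_ne_zero (by omega) (cb_mul_eq_zero hne ht)
  apply Prod.ext
  · funext i
    rw [h.v1_eq v hv i, hc.1]; simp
  · funext j
    rw [h.v2_eq v hv j, hc.2]; simp

/-- case A: a top relation `c x^(a-1) + d y^(b-1) = 0` -/
theorem top_rel_ne (c d : k) (hcd : c ≠ 0 ∨ d ≠ 0) (h2a : 2 ≤ a) (h2b : 2 ≤ b)
    (hrel : mk (C c) * (mk (X 0)) ^ (a - 1) + mk (C d) * (mk (X 1)) ^ (b - 1) = 0) :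
    c ≠ 0 ∧ d ≠ 0 := by
  constructor
  · rintro rfl
    have hd : d ≠ 0 := by tauto
    rw [map_zero, map_zero, zero_mul, zero_add] at hrel
    exact h.yb_pow_ne_zero (by omega) (cb_mul_eq_zero hd hrel)
  · rintro rfl
    have hc : c ≠ 0 := by tauto
    rw [map_zero, map_zero, zero_mul, add_zero] at hrel
    exact h.xb_pow_ne_zero (by omega) (cb_mul_eq_zero hc hrel)

omit h in
theorem g_rel (c d : k) (hc : c ≠ 0)
    (hrel : mk (C c) * (mk (X 0)) ^ (a - 1) + mk (C d) * (mk (X 1)) ^ (b - 1) = 0) :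
    (mk (X 0)) ^ (a - 1) + mk (C (d / c)) * (mk (X 1)) ^ (b - 1) = 0 := by
  have h1 : mk (C c⁻¹) * (mk (C c) * (mk (X 0)) ^ (a - 1) + mk (C d) * (mk (X 1)) ^ (b - 1)) = 0 := by
    rw [hrel, mul_zero]
  rw [mul_add, ← mul_assoc, ← mul_assoc, ← map_mul, ← map_mul, ← map_mul, ← map_mul,
    inv_mul_cancel₀ hc, map_one, map_one, one_mul] at h1
  rw [div_eq_inv_mul]
  exact h1

theorem dtop_eq_mul (α : k) (h2b : 2 ≤ b)
    (hg : (mk (X 0)) ^ (a - 1) + mk (C α) * (mk (X 1)) ^ (b - 1) = 0)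
    (v : (Fin a → k) × (Fin (b - 1) → k)) (hv : Psi a b v ∈ J) : dtop v = ctop v * α := by
  have ht := h.rel_top v hv
  have h1 : mk (C (dtop v - ctop v * α)) * (mk (X 1)) ^ (b - 1) = 0 := by
    rw [map_sub, map_sub, map_mul, map_mul]
    linear_combination ht - mk (C (ctop v)) * hg
  by_contra hne
  have hne' : dtop v - ctop v * α ≠ 0 := sub_ne_zero.mpr hne
  exact h.yb_pow_ne_zero (by omega) (cb_mul_eq_zero hne' h1)

/-- the generator of the relation module in case A -/
def v₀ (a b : ℕ) (α : k) : (Fin a → k) × (Fin (b - 1) → k) :=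
  (fun i => if (i : ℕ) + 1 = a then 1 else 0, fun j => if (j : ℕ) + 2 = b then α else 0)

theorem eq_smul_v₀ (α : k) (h2b : 2 ≤ b)
    (hg : (mk (X 0)) ^ (a - 1) + mk (C α) * (mk (X 1)) ^ (b - 1) = 0)
    (v : (Fin a → k) × (Fin (b - 1) → k)) (hv : Psi a b v ∈ J) : v = ctop v • v₀ a b α := by
  apply Prod.ext
  · funext i
    rw [h.v1_eq v hv i]
    simp [v₀]
  · funext j
    rw [h.v2_eq v hv j, h.dtop_eq_mul α h2b hg v hv]
    simp [v₀]

omit h in
theorem Psi_v₀ (α : k) (h2a : 2 ≤ a) (h2b : 2 ≤ b) :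
    Psi a b (v₀ a b α) = (X 0) ^ (a - 1) + C α * (X 1) ^ (b - 1) := by
  unfold Psi v₀
  simp only [LinearMap.coe_mk, AddHom.coe_mk]
  congr 1
  · rw [Finset.sum_eq_single (⟨a - 1, by omega⟩ : Fin a)]
    · rw [if_pos (by simp only []; omega), map_one, one_mul]
    · intro i _ hi
      rw [if_neg, map_zero, zero_mul]
      intro e
      apply hi
      apply Fin.ext
      simp only []
      omega
    · intro hn; exact absurd (Finset.mem_univ _) hn
  · rw [Finset.sum_eq_single (⟨b - 2, by omega⟩ : Fin (b - 1))]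
    · rw [if_pos (by simp only []; omega)]
      congr 2
      simp only []
      omega
    · intro j _ hj
      rw [if_neg, map_zero, zero_mul]
      intro e
      apply hj
      apply Fin.ext
      simp only []
      omega
    · intro hn; exact absurd (Finset.mem_univ _) hn

end Setup

end Groth.Agent.Lib.Helper31.NodeB
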