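import Mathlib
import Groth.Agent.Lib.Helper31.NodeB

set_option autoImplicit false
set_option linter.unusedSectionVars false

open MvPowerSeries Finsupp

namespace Groth.Agent.Lib.Helper31.NodeB

variable {k : Type*} [Field k] {J : Ideal (MvPowerSeries (Fin 2) k)} {a b : ℕ}

local notation "mk" => Ideal.Quotient.mk J

/-- the parametrisation of the quotient -/
noncomputable def Phi (J : Ideal (MvPowerSeries (Fin 2) k)) (a b : ℕ) :
    ((Fin a → k) × (Fin (b - 1) → k)) →ₗ[k] (MvPowerSeries (Fin 2) k ⧸ J) :=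
  (Ideal.Quotient.mkₐ k J).toLinearMap ∘ₗ Psi a b

theorem Phi_apply (v : (Fin a → k) × (Fin (b - 1) → k)) : Phi J a b v = mk (Psi a b v) := rfl

theorem mem_ker_Phi (v : (Fin a → k) × (Fin (b - 1) → k)) :
    v ∈ LinearMap.ker (Phi J a b) ↔ Psi a b v ∈ J := by
  rw [LinearMap.mem_ker, Phi_apply, Ideal.Quotient.eq_zero_iff_mem]

namespace Setup

variable (h : Setup J a b)
include h

theorem I0_le : Ideal.span
    {(X 0 * X 1 : MvPowerSeries (Fin 2) k), (X 0) ^ a, (X 1) ^ b} ≤ J := by
  rw [Ideal.span_le]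
  rintro _ (rfl | rfl | rfl)
  · exact h.hxy
  · exact h.ha
  · exact h.hb

theorem Phi_surjective : Function.Surjective (Phi J a b) := by
  intro q
  obtain ⟨f, rfl⟩ := Ideal.Quotient.mk_surjective q
  refine ⟨(fun i : Fin a => coeff (single 0 (i : ℕ)) f,
      fun j : Fin (b - 1) => coeff (single 1 ((j : ℕ) + 1)) f), ?_⟩
  rw [Phi_apply, ← rem_eq_Psi]
  symm
  rw [Ideal.Quotient.eq]
  exact h.I0_le (NodeA.sub_rem_mem a b f)

theorem finrank_eq [Module.Finite k (MvPowerSeries (Fin 2) k ⧸ J)] :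
    Module.finrank k (MvPowerSeries (Fin 2) k ⧸ J) +
      Module.finrank k (LinearMap.ker (Phi J a b)) = a + (b - 1) := by
  have h1 := LinearMap.finrank_range_add_finrank_ker (Phi J a b)
  rw [LinearMap.range_eq_top.mpr h.Phi_surjective, finrank_top] at h1
  rw [h1, Module.finrank_prod, Module.finrank_fintype_fun_eq_card,
    Module.finrank_fintype_fun_eq_card, Fintype.card_fin, Fintype.card_fin]

/-- membership in `J` for `f` via its remainder -/
theorem rem_mem {f : MvPowerSeries (Fin 2) k} (hf : f ∈ J) : NodeA.rem a b f ∈ J := by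
  have h1 := h.I0_le (NodeA.sub_rem_mem a b f)
  have : NodeA.rem a b f = f - (f - NodeA.rem a b f) := by ring
  rw [this]
  exact J.sub_mem hf h1

end Setup


open Setup in
theorem final (k : Type*) [Field k]
    (J : Ideal (MvPowerSeries (Fin 2) k))
    (hxy : (MvPowerSeries.X 0 * MvPowerSeries.X 1 : MvPowerSeries (Fin 2) k) ∈ J)
    [Module.Finite k (MvPowerSeries (Fin 2) k ⧸ J)] (n : ℕ)
    (hn : Module.finrank k (MvPowerSeries (Fin 2) k ⧸ J) = n)
    (h2 : 2 ≤ n) :
    ∃ a b : ℕ, 1 ≤ a ∧ 1 ≤ b ∧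
      ((a + b = n + 1 ∧
        J = Ideal.span {MvPowerSeries.X 0 * MvPowerSeries.X 1, MvPowerSeries.X 0 ^ a, MvPowerSeries.X 1 ^ b}) ∨
       (a + b = n ∧ ∃ α : k, α ≠ 0 ∧
        J = Ideal.span {MvPowerSeries.X 0 * MvPowerSeries.X 1,
          MvPowerSeries.X 0 ^ a + MvPowerSeries.C α * MvPowerSeries.X 1 ^ b})) := by
  classical
  have hJ : J ≠ ⊤ := by
    rintro rfl
    have : Subsingleton (MvPowerSeries (Fin 2) k ⧸ (⊤ : Ideal (MvPowerSeries (Fin 2) k))) :=
      Ideal.Quotient.subsingleton_iff.mpr rfl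
    rw [Module.finrank_zero_of_subsingleton] at hn
    omega
  have hexa := exists_pow_mem J (X 0) (constantCoeff_X 0)
  have hexb := exists_pow_mem J (X 1) (constantCoeff_X 1)
  set a := Nat.find hexa with hadef
  set b := Nat.find hexb with hbdef
  have h : Setup J a b :=
    { hxy := hxy
      hJ := hJ
      ha := Nat.find_spec hexa
      ha' := fun i hi => Nat.find_min hexa hi
      hb := Nat.find_spec hexb
      hb' := fun j hj => Nat.find_min hexb hj }
  have ha := h.a_pos
  have hb := h.b_pos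
  have hfr := h.finrank_eq
  rw [hn] at hfr
  by_cases hP : ∃ c d : k, (c ≠ 0 ∨ d ≠ 0) ∧ 2 ≤ a ∧ 2 ≤ b ∧
      (Ideal.Quotient.mk J) (C c) * ((Ideal.Quotient.mk J) (X 0)) ^ (a - 1) +
        (Ideal.Quotient.mk J) (C d) * ((Ideal.Quotient.mk J) (X 1)) ^ (b - 1) = 0
  · -- case A
    obtain ⟨c, d, hcd, h2a, h2b, hrel⟩ := hP
    obtain ⟨hc, hd⟩ := h.top_rel_ne c d hcd h2a h2b hrel
    set α := d / c with hα
    have hα0 : α ≠ 0 := div_ne_zero hd hc
    have hg := g_rel (J := J) c d hc hrel
    have hgJ : (X 0 : MvPowerSeries (Fin 2) k) ^ (a - 1) + C α * (X 1) ^ (b - 1) ∈ J := by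
      rw [← Ideal.Quotient.eq_zero_iff_mem]
      simpa only [map_add, map_mul, map_pow] using hg
    have hker : LinearMap.ker (Phi J a b) = Submodule.span k {v₀ a b α} := by
      apply le_antisymm
      · intro v hv
        rw [mem_ker_Phi] at hv
        rw [Submodule.mem_span_singleton]
        exact ⟨ctop v, (h.eq_smul_v₀ α h2b hg v hv).symm⟩
      · rw [Submodule.span_singleton_le_iff_mem, mem_ker_Phi, Psi_v₀ α h2a h2b]
        exact hgJ
    have hv₀ : v₀ a b α ≠ 0 := by
      intro e
      have := congrFun (congrArg Prod.fst e) ⟨a - 1, by omega⟩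
      simp only [v₀, Prod.fst_zero, Pi.zero_apply] at this
      rw [if_pos (by omega)] at this
      exact one_ne_zero this
    rw [hker, finrank_span_singleton hv₀] at hfr
    refine ⟨a - 1, b - 1, by omega, by omega, Or.inr ⟨by omega, α, hα0, ?_⟩⟩
    apply le_antisymm
    · intro f hf
      have hrem := h.rem_mem hf
      rw [rem_eq_Psi] at hrem
      have hv := h.eq_smul_v₀ α h2b hg _ hrem
      -- I₀ ≤ span {xy, g}
      have hI0 : Ideal.span {(X 0 * X 1 : MvPowerSeries (Fin 2) k), (X 0) ^ a, (X 1) ^ b} ≤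
          Ideal.span {(X 0 * X 1 : MvPowerSeries (Fin 2) k),
            (X 0) ^ (a - 1) + C α * (X 1) ^ (b - 1)} := by
        rw [Ideal.span_le]
        have hxyI : (X 0 * X 1 : MvPowerSeries (Fin 2) k) ∈ Ideal.span
            {(X 0 * X 1 : MvPowerSeries (Fin 2) k), (X 0) ^ (a - 1) + C α * (X 1) ^ (b - 1)} :=
          Ideal.subset_span (by simp)
        have hgI : (X 0 : MvPowerSeries (Fin 2) k) ^ (a - 1) + C α * (X 1) ^ (b - 1) ∈ Ideal.span
            {(X 0 * X 1 : MvPowerSeries (Fin 2) k), (X 0) ^ (a - 1) + C α * (X 1) ^ (b - 1)} :=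
          Ideal.subset_span (by simp)
        rintro _ (rfl | rfl | rfl)
        · exact hxyI
        · have e : (X 0 : MvPowerSeries (Fin 2) k) ^ a =
              X 0 * ((X 0) ^ (a - 1) + C α * (X 1) ^ (b - 1)) -
                C α * (X 1) ^ (b - 2) * (X 0 * X 1) := by
            have ea : a = (a - 1) + 1 := by omega
            have eb : b - 1 = (b - 2) + 1 := by omega
            rw [eb]
            nth_rewrite 1 [ea]
            ring
          rw [e]
          exact Ideal.sub_mem _ (Ideal.mul_mem_left _ _ hgI) (Ideal.mul_mem_left _ _ hxyI)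
        · have e : (X 1 : MvPowerSeries (Fin 2) k) ^ b =
              C α⁻¹ * (X 1 * ((X 0) ^ (a - 1) + C α * (X 1) ^ (b - 1)) -
                (X 0) ^ (a - 2) * (X 0 * X 1)) := by
            have ea : a - 1 = (a - 2) + 1 := by omega
            have eb : b = (b - 1) + 1 := by omega
            have hCC : (C α⁻¹ : MvPowerSeries (Fin 2) k) * C α = 1 := by
              rw [← map_mul, inv_mul_cancel₀ hα0, map_one]
            rw [ea]
            nth_rewrite 1 [eb]
            linear_combination (-(X 1 : MvPowerSeries (Fin 2) k) ^ (b - 1 + 1)) * hCC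
          rw [e]
          exact Ideal.mul_mem_left _ _
            (Ideal.sub_mem _ (Ideal.mul_mem_left _ _ hgI) (Ideal.mul_mem_left _ _ hxyI))
      have e : f = (f - NodeA.rem a b f) + NodeA.rem a b f := by ring
      rw [e]
      apply add_mem
      · exact hI0 (NodeA.sub_rem_mem a b f)
      · rw [rem_eq_Psi, hv, map_smul, Psi_v₀ α h2a h2b, MvPowerSeries.smul_eq_C_mul]
        exact Ideal.mul_mem_left _ _ (Ideal.subset_span (by simp))
    · rw [Ideal.span_le]
      rintro _ (rfl | rfl)
      · exact hxy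
      · exact hgJ
  · -- case B
    have hker : LinearMap.ker (Phi J a b) = ⊥ := by
      rw [eq_bot_iff]
      intro v hv
      rw [mem_ker_Phi] at hv
      rw [Submodule.mem_bot]
      exact h.ker_eq_zero hP v hv
    rw [hker, finrank_bot] at hfr
    refine ⟨a, b, ha, hb, Or.inl ⟨by omega, ?_⟩⟩
    apply le_antisymm
    · intro f hf
      have hrem := h.rem_mem hf
      rw [rem_eq_Psi] at hrem
      have hv := h.ker_eq_zero hP _ hrem
      have e : f = (f - NodeA.rem a b f) + NodeA.rem a b f := by ring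
      rw [e]
      apply add_mem
      · exact NodeA.sub_rem_mem a b f
      · rw [rem_eq_Psi, hv, map_zero]
        exact zero_mem _
    · exact h.I0_le

end Groth.Agent.Lib.Helper31.NodeB
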