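import Mathlib

/-!
# In characteristic zero, an element with vanishing differential is algebraic (C0 for S14386)
-/

set_option autoImplicit false

universe u

namespace Groth.Agent.Lib.Helper31.NodeC0

open Polynomial TensorProduct

/-- `dX ≠ 0` in `Ω[Frac k[X] / k]`. -/
theorem D_X_ne_zero (k : Type u) [Field k] :
    KaehlerDifferential.D k (FractionRing k[X]) (algebraMap k[X] (FractionRing k[X]) X) ≠ 0 := by
  intro h
  have h1 : KaehlerDifferential.map k k k[X] (FractionRing k[X]) (KaehlerDifferential.D k k[X] X)
      = 0 := by
    rw [KaehlerDifferential.map_D]; exact h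
  have h2 := (IsLocalizedModule.eq_zero_iff (nonZeroDivisors k[X])
    (KaehlerDifferential.map k k k[X] (FractionRing k[X]))).1 h1
  obtain ⟨c, hc⟩ := h2
  have h3 := congrArg (KaehlerDifferential.polynomialEquiv k) hc
  rw [map_zero, Submonoid.smul_def, map_smul, KaehlerDifferential.polynomialEquiv_D,
    derivative_X, smul_eq_mul, mul_one] at h3
  exact nonZeroDivisors.coe_ne_zero c h3

theorem c0 (k : Type u) [Field k] [CharZero k] (D : Type u) [CommRing D] [IsDomain D]
    [Algebra k D] [Algebra.FiniteType k D] (t : D) (ht : KaehlerDifferential.D k D t = 0) :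
    IsAlgebraic k t := by
  by_contra htr
  have htr' : Transcendental k t := htr
  set L := FractionRing D with hL
  set tL : L := algebraMap D L t with htL
  have htLtr : Transcendental k tL :=
    (transcendental_algebraMap_iff (IsFractionRing.injective D L)).2 htr'
  let φ : k[X] →ₐ[k] L := aeval tL
  have hφ : Function.Injective φ := transcendental_iff_injective.1 htLtr
  let K0 := FractionRing k[X]
  let ψ : K0 →+* L := IsFractionRing.lift (g := φ.toRingHom) hφ
  have hψ : ∀ p : k[X], ψ (algebraMap k[X] K0 p) = φ p := fun p =>
    IsFractionRing.lift_algebraMap hφ p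
  letI : Algebra K0 L := ψ.toAlgebra
  haveI : IsScalarTower k K0 L := IsScalarTower.of_algebraMap_eq (fun c => by
    show algebraMap k L c = ψ (algebraMap k K0 c)
    rw [IsScalarTower.algebraMap_apply k k[X] K0, hψ]
    exact (φ.commutes c).symm)
  -- essentially of finite type
  haveI : Algebra.EssFiniteType k L := Algebra.EssFiniteType.comp k D L
  haveI : Algebra.EssFiniteType K0 L := Algebra.EssFiniteType.of_comp k K0 L
  haveI : CharZero K0 := charZero_of_injective_algebraMap (algebraMap k K0).injective
  haveI : Algebra.FormallySmooth K0 L := inferInstance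
  haveI : Subsingleton (Algebra.H1Cotangent K0 L) :=
    Algebra.FormallySmooth.subsingleton_h1Cotangent
  -- the element
  set X' : K0 := algebraMap k[X] K0 X with hX'
  have hX'L : algebraMap K0 L X' = tL := by
    show ψ X' = tL
    rw [hX', hψ]
    exact aeval_X tL
  have hzero : KaehlerDifferential.mapBaseChange k K0 L
      ((1 : L) ⊗ₜ[K0] KaehlerDifferential.D k K0 X') = 0 := by
    rw [KaehlerDifferential.mapBaseChange_tmul, one_smul, KaehlerDifferential.map_D, hX'L]
    have : KaehlerDifferential.D k L tL
        = KaehlerDifferential.map k k D L (KaehlerDifferential.D k D t) := by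
      rw [KaehlerDifferential.map_D]
    rw [this, ht, map_zero]
  obtain ⟨y, hy⟩ := (Algebra.H1Cotangent.exact_δ_mapBaseChange k K0 L _).mp hzero
  rw [Subsingleton.elim y 0, map_zero] at hy
  have hinj : Function.Injective (TensorProduct.mk K0 L (Ω[K0⁄k]) 1) :=
    Module.FaithfullyFlat.tensorProduct_mk_injective (A := K0) (B := L) _
  have : KaehlerDifferential.D k K0 X' = 0 := by
    apply hinj
    rw [map_zero]
    exact hy.symm
  exact D_X_ne_zero k this

end Groth.Agent.Lib.Helper31.NodeC0
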