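import Mathlib
import Groth.Prelude.Def_Models
import Groth.Agent.S2173
import Groth.Agent.S2174
import Groth.Agent.S2176

set_option autoImplicit false
set_option linter.unusedSectionVars false

namespace Groth.Agent.Lib.Helper31.NT

open Finset Models

variable {n : ℕ} (T : Models.NumericalType n)

/-- number of strictly-up neighbours -/
def up (i : Fin n) : ℤ := ∑ j, if (0 < T.a i j ∧ T.m i < T.m j) then 1 else 0
/-- number of tie neighbours -/
def tie (i : Fin n) : ℤ := ∑ j, if (j ≠ i ∧ 0 < T.a i j ∧ T.m j = T.m i) then 1 else 0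
/-- number of strictly-down neighbours -/
def down (i : Fin n) : ℤ := ∑ j, if (0 < T.a i j ∧ T.m j < T.m i) then 1 else 0

theorem up_nonneg (i : Fin n) : 0 ≤ up T i :=
  Finset.sum_nonneg fun j _ => by split_ifs <;> norm_num
theorem tie_nonneg (i : Fin n) : 0 ≤ tie T i :=
  Finset.sum_nonneg fun j _ => by split_ifs <;> norm_num

theorem a_symm (i j : Fin n) : T.a i j = T.a j i := congrFun (congrFun T.symm j) i

theorem sum_down_eq_sum_up : ∑ i, down T i = ∑ i, up T i := by
  unfold down up
  rw [Finset.sum_comm]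
  refine Finset.sum_congr rfl fun j _ => Finset.sum_congr rfl fun i _ => ?_
  rw [a_symm T i j]

/-- ordered adjacent pairs -/
theorem two_edgeCount :
    2 * (T.edgeCount : ℤ) = ∑ i, ∑ j, if (j ≠ i ∧ 0 < T.a i j) then (1 : ℤ) else 0 := by
  have h1 : (T.edgeCount : ℤ) = ∑ i, ∑ j, if (i < j ∧ 0 < T.a i j) then (1 : ℤ) else 0 := by
    unfold Models.NumericalType.edgeCount
    rw [Finset.card_filter]
    push_cast
    rw [← Finset.sum_product']
    rfl
  have h2 : (T.edgeCount : ℤ) = ∑ i, ∑ j, if (j < i ∧ 0 < T.a i j) then (1 : ℤ) else 0 := by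
    rw [h1, Finset.sum_comm]
    refine Finset.sum_congr rfl fun j _ => Finset.sum_congr rfl fun i _ => ?_
    rw [a_symm T i j]
  rw [two_mul]
  nth_rewrite 1 [h1]
  rw [h2, ← Finset.sum_add_distrib]
  refine Finset.sum_congr rfl fun i _ => ?_
  rw [← Finset.sum_add_distrib]
  refine Finset.sum_congr rfl fun j _ => ?_
  rcases lt_trichotomy i j with h | h | h
  · have hne : j ≠ i := (ne_of_lt h).symm
    have hnot : ¬ j < i := not_lt.mpr h.le
    simp [h, hne, hnot]
  · subst h; simp
  · have hne : j ≠ i := ne_of_lt h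
    have hnot : ¬ i < j := not_lt.mpr h.le
    simp [h, hne, hnot]

theorem two_edgeCount' : 2 * (T.edgeCount : ℤ) = ∑ i, (2 * up T i + tie T i) := by
  rw [two_edgeCount]
  have h1 : ∀ i, (∑ j, if (j ≠ i ∧ 0 < T.a i j) then (1 : ℤ) else 0) =
      up T i + tie T i + down T i := by
    intro i
    unfold up tie down
    rw [← Finset.sum_add_distrib, ← Finset.sum_add_distrib]
    refine Finset.sum_congr rfl fun j _ => ?_
    by_cases hj : j = i
    · subst hj; simp
    · rcases lt_trichotomy (T.m i) (T.m j) with h | h | h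
      · have h1 : ¬ T.m j < T.m i := not_lt.mpr h.le
        have h2 : T.m j ≠ T.m i := (ne_of_lt h).symm
        by_cases ha : 0 < T.a i j <;> simp [hj, h, h1, h2, ha]
      · have h1 : ¬ T.m j < T.m i := by rw [h]; exact lt_irrefl _
        have h2 : ¬ T.m i < T.m j := by rw [h]; exact lt_irrefl _
        by_cases ha : 0 < T.a i j <;> simp [hj, h.symm, ha]
      · have h1 : ¬ T.m i < T.m j := not_lt.mpr h.le
        have h2 : T.m j ≠ T.m i := ne_of_lt h
        by_cases ha : 0 < T.a i j <;> simp [hj, h, h1, h2, ha]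
  have h2 : ∑ i, (2 * up T i + tie T i) = 2 * ∑ i, up T i + ∑ i, tie T i := by
    rw [Finset.sum_add_distrib, ← Finset.mul_sum]
  rw [Finset.sum_congr rfl (fun i _ => h1 i), Finset.sum_add_distrib, sum_down_eq_sum_up,
    Finset.sum_add_distrib, h2]
  ring

/-- the key row estimate -/
theorem row_estimate (i : Fin n) :
    T.w i * ((up T i + tie T i) * T.m i + up T i) ≤ -(T.a i i * T.m i) := by
  rw [Groth.Agent.S2174.diag_mul_eq T i, neg_neg]
  have hu : up T i = ∑ j ∈ univ.erase i, if (0 < T.a i j ∧ T.m i < T.m j) then (1 : ℤ) else 0 := by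
    unfold up
    rw [Finset.sum_erase]
    simp
  have ht : tie T i =
      ∑ j ∈ univ.erase i, if (j ≠ i ∧ 0 < T.a i j ∧ T.m j = T.m i) then (1 : ℤ) else 0 := by
    unfold tie
    rw [Finset.sum_erase]
    simp
  have hexp : T.w i * ((up T i + tie T i) * T.m i + up T i) =
      ∑ j ∈ univ.erase i, (T.w i * (T.m i + 1) *
          (if (0 < T.a i j ∧ T.m i < T.m j) then (1 : ℤ) else 0) +
        T.w i * T.m i * (if (j ≠ i ∧ 0 < T.a i j ∧ T.m j = T.m i) then (1 : ℤ) else 0)) := by
    rw [Finset.sum_add_distrib, ← Finset.mul_sum, ← Finset.mul_sum, ← hu, ← ht]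
    ring
  rw [hexp]
  refine Finset.sum_le_sum fun j hj => ?_
  have hji : j ≠ i := Finset.ne_of_mem_erase hj
  have hw := T.w_pos i
  have hmi := T.m_pos i
  have hmj := T.m_pos j
  have ha0 := T.offDiag_nonneg i j (Ne.symm hji)
  by_cases ha : 0 < T.a i j
  · have haw : T.w i ≤ T.a i j := Int.le_of_dvd ha (T.w_dvd i j)
    rcases lt_trichotomy (T.m i) (T.m j) with h | h | h
    · have h2 : T.m j ≠ T.m i := (ne_of_lt h).symm
      simp only [ha, h, h2, and_self, and_false, if_true, if_false, mul_one, mul_zero, add_zero]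
      have : T.m i + 1 ≤ T.m j := h
      nlinarith
    · have h2 : ¬ T.m i < T.m j := by rw [h]; exact lt_irrefl _
      rw [if_neg (fun hh => h2 hh.2), if_pos ⟨hji, ha, h.symm⟩, mul_zero, zero_add, mul_one, ← h]
      nlinarith
    · have h1 : ¬ T.m i < T.m j := not_lt.mpr h.le
      have h2 : T.m j ≠ T.m i := ne_of_lt h
      simp only [ha, h1, h2, and_false, if_false, mul_zero, add_zero, true_and]
      positivity
  · simp only [ha, false_and, and_false, if_false, mul_zero, add_zero]
    exact mul_nonneg ha0 hmj.le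

/-- per-vertex charging bound -/
theorem vertex_bound (hmin : T.IsMinimal) (hn : 1 < n) (i : Fin n) :
    2 * up T i + tie T i ≤ T.m i * (2 * T.w i * (T.g i - 1) - T.a i i) + 2 := by
  have hrow := row_estimate T i
  have hu := up_nonneg T i
  have hb := tie_nonneg T i
  have hw : 1 ≤ T.w i := T.w_pos i
  have hm : 1 ≤ T.m i := T.m_pos i
  have hg := T.g_nonneg i
  have hterm := Groth.Agent.S2176.term_nonneg T hmin hn i
  set u := up T i
  set b := tie T i
  set X := -(T.a i i * T.m i) with hX
  have hX1 : (u + b) * T.m i + u ≤ X := by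
    have : 0 ≤ (u + b) * T.m i + u := by positivity
    nlinarith
  rcases eq_or_lt_of_le hg with hg0 | hgpos
  · -- g = 0
    rw [← hg0] at hterm ⊢
    set Y := 2 * T.w i * (0 - 1) - T.a i i with hY
    have hYX : T.m i * Y = X - 2 * T.w i * T.m i := by rw [hY, hX]; ring
    by_cases hub : u + b ≤ 1
    · have : 0 ≤ T.m i * Y := mul_nonneg (by linarith) hterm
      linarith
    · push Not at hub
      have hub2 : 2 ≤ u + b := hub
      -- m Y ≥ w ((u+b-2) m + u) ≥ (u+b-2) + u
      have h1 : T.w i * ((u + b - 2) * T.m i + u) ≤ T.m i * Y := by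
        rw [hYX]; nlinarith
      have h2 : (u + b - 2) * T.m i + u ≤ T.w i * ((u + b - 2) * T.m i + u) := by
        have : 0 ≤ (u + b - 2) * T.m i + u := by
          have : 0 ≤ (u + b - 2) * T.m i := mul_nonneg (by linarith) (by linarith)
          linarith
        nlinarith
      have h3 : (u + b - 2) ≤ (u + b - 2) * T.m i := by nlinarith
      linarith
  · have hg1 : 0 ≤ T.g i - 1 := by omega
    have h1 : 0 ≤ T.m i * (2 * T.w i * (T.g i - 1)) := by positivity
    have h2 : T.m i * (2 * T.w i * (T.g i - 1) - T.a i i) =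
        T.m i * (2 * T.w i * (T.g i - 1)) + X := by rw [hX]; ring
    have h3 : (u + b) ≤ (u + b) * T.m i := by nlinarith
    linarith

theorem S2177 (hmin : T.IsMinimal) (hn : 1 < n) : T.topGenus ≤ T.genus := by
  unfold Models.NumericalType.topGenus Models.NumericalType.genus
  obtain ⟨e, he⟩ := Groth.Agent.S2173.result T
  rw [he, Int.mul_ediv_cancel_left e (by norm_num : (2 : ℤ) ≠ 0)]
  have hsum : ∑ i, (2 * up T i + tie T i) ≤
      ∑ i, (T.m i * (2 * T.w i * (T.g i - 1) - T.a i i) + 2) :=
    Finset.sum_le_sum fun i _ => vertex_bound T hmin hn i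
  have hexpand : ∑ i, T.m i * (2 * T.w i * (T.g i - 1) - T.a i i) =
      2 * (∑ i, T.m i * T.w i * (T.g i - 1)) - ∑ i, T.m i * T.a i i := by
    rw [Finset.mul_sum, ← Finset.sum_sub_distrib]
    exact Finset.sum_congr rfl fun i _ => by ring
  rw [← two_edgeCount', Finset.sum_add_distrib, hexpand, he] at hsum
  simp only [Finset.sum_const, Finset.card_univ, Fintype.card_fin, nsmul_eq_mul] at hsum
  push_cast at hsum
  linarith

end Groth.Agent.Lib.Helper31.NT
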