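import Mathlib
import Groth.Prelude.Def_RedSub
import Groth.Agent.Lib.Helper16.RootD8

/-!
# Reflection of a base in a root (over an arbitrary commutative ring), and
intersections of parabolic sets of roots.
-/

set_option autoImplicit false
set_option linter.unusedSectionVars false

open RootD Groth.Agent.Lib.Helper16
open scoped Classical

namespace Groth.Agent.Lib.Helper31.Parab1

section General

variable {ι R M N : Type*} [CommRing R] [AddCommGroup M] [Module R M] [AddCommGroup N]
  [Module R N] {P : RootPairing ι R M N}

theorem root_comp_reflectionPerm (i : ι) :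
    P.root ∘ P.reflectionPerm i = P.reflection i ∘ P.root := by
  funext k
  simp

theorem hli (S : Set ι) (h : LinearIndepOn R P.root S) (i : ι) :
    LinearIndepOn R P.root (P.reflectionPerm i '' S) := by
  apply LinearIndepOn.image_of_comp
  rw [root_comp_reflectionPerm]
  exact h.map_injOn (P.reflection i : M →ₗ[R] M) ((P.reflection i).injective.injOn)

theorem closure_map (S : Set ι) (i : ι) (x : M)
    (hx : x ∈ AddSubmonoid.closure (P.root '' S)) :
    P.reflection i x ∈ AddSubmonoid.closure (P.root '' (P.reflectionPerm i '' S)) := by
  have himg : P.root '' (P.reflectionPerm i '' S) =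
      (P.reflection i : M →+ M) '' (P.root '' S) := by
    rw [← Set.image_comp, ← Set.image_comp]
    congr 1
    exact root_comp_reflectionPerm i
  rw [himg, ← AddMonoidHom.map_mclosure]
  exact AddSubmonoid.mem_map_of_mem _ hx

theorem hsp (S : Set ι) (h : ∀ k, P.root k ∈ AddSubmonoid.closure (P.root '' S) ∨
      -P.root k ∈ AddSubmonoid.closure (P.root '' S)) (i k : ι) :
    P.root k ∈ AddSubmonoid.closure (P.root '' (P.reflectionPerm i '' S)) ∨
    -P.root k ∈ AddSubmonoid.closure (P.root '' (P.reflectionPerm i '' S)) := by
  have hk : P.reflection i (P.root (P.reflectionPerm i k)) = P.root k := by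
    rw [← P.root_reflectionPerm, P.reflectionPerm_self]
  rcases h (P.reflectionPerm i k) with h | h
  · left
    have := closure_map S i _ h
    rwa [hk] at this
  · right
    have := closure_map S i _ h
    rwa [map_neg, hk] at this

/-- the reflection of a base in a root -/
noncomputable def reflBase (b : P.Base) (i : ι) : P.Base where
  support := b.support.image (P.reflectionPerm i)
  linearIndepOn_root := by
    rw [Finset.coe_image]
    exact hli _ b.linearIndepOn_root i
  linearIndepOn_coroot := by
    rw [Finset.coe_image]
    exact hli (P := P.flip) _ b.linearIndepOn_coroot i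
  root_mem_or_neg_mem := by
    intro k
    rw [Finset.coe_image]
    exact hsp _ b.root_mem_or_neg_mem i k
  coroot_mem_or_neg_mem := by
    intro k
    rw [Finset.coe_image]
    exact hsp (P := P.flip) _ b.coroot_mem_or_neg_mem i k

theorem coe_reflBase_support (b : P.Base) (i : ι) :
    ((reflBase b i).support : Set ι) = P.reflectionPerm i '' (b.support : Set ι) := by
  simp [reflBase]

theorem image_image_reflectionPerm (S : Set ι) (i : ι) :
    P.reflectionPerm i '' (P.reflectionPerm i '' S) = S := by
  rw [← Set.image_comp]
  have : (P.reflectionPerm i : ι → ι) ∘ P.reflectionPerm i = id := by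
    funext k; simp
  rw [this, Set.image_id]

theorem mem_posOf_reflBase (b : P.Base) (i k : ι) :
    k ∈ posOf P ((reflBase b i).support : Set ι) ↔
      P.reflectionPerm i k ∈ posOf P (b.support : Set ι) := by
  rw [coe_reflBase_support]
  unfold posOf natSpan
  constructor
  · intro h
    have := closure_map _ i _ h
    rwa [image_image_reflectionPerm, ← P.root_reflectionPerm] at this
  · intro h
    have := closure_map _ i _ h
    rwa [← P.root_reflectionPerm, P.reflectionPerm_self] at this

end General


section Main

variable {ι M N : Type*} [AddCommGroup M] [AddCommGroup N] {P : RootPairing ι ℤ M N} [Finite ι]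

theorem isSimpleSys_support (b : P.Base) : IsSimpleSys P (b.support : Set ι) :=
  ⟨b.linearIndepOn_root, b.root_mem_or_neg_mem⟩

theorem main (R₁ R₂ : Set ι) (h₁ : IsClosedSub P R₁) (h₂ : IsClosedSub P R₂)
    (hb₂ : ∃ b : P.Base, posOf P (b.support : Set ι) ⊆ R₂)
    (hunion : R₁ ∪ R₂ = Set.univ) :
    ∀ (n : ℕ) (b : P.Base), posOf P (b.support : Set ι) ⊆ R₁ →
      {a | a ∈ posOf P (b.support : Set ι) ∧ P.reflectionPerm a a ∉ R₂}.ncard = n →
      ∃ b' : P.Base, posOf P (b'.support : Set ι) ⊆ {a | a ∈ R₁ ∧ P.reflectionPerm a a ∈ R₂} := by
  intro n
  induction n using Nat.strong_induction_on with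
  | _ n ih =>
    intro b hb hn
    by_cases hall : ∀ l ∈ b.support, P.reflectionPerm l l ∈ R₂
    · refine ⟨b, fun a ha => ⟨hb ha, ?_⟩⟩
      exact posOf_subset_of_closed (isClosedSub_negIdx h₂) (fun l hl => hall l hl) ha
    · push Not at hall
      obtain ⟨l, hl, hlR₂⟩ := hall
      have hΔ := isSimpleSys_support b
      have hl' : l ∈ (b.support : Set ι) := hl
      have hlpos : l ∈ posOf P (b.support : Set ι) := simple_mem_posOf l hl'
      have hnl₁ : P.reflectionPerm l l ∈ R₁ := by
        have : P.reflectionPerm l l ∈ R₁ ∪ R₂ := hunion ▸ Set.mem_univ _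
        rcases this with h | h
        · exact h
        · exact absurd h hlR₂
      have hl₂ : l ∈ R₂ := by
        obtain ⟨b₂, hb₂⟩ := hb₂
        rcases posOf_cover (isSimpleSys_support b₂) l with h | h
        · exact hb₂ h
        · exact absurd (hb₂ h) hlR₂
      have key : ∀ k, k ∈ posOf P ((reflBase b l).support : Set ι) →
          (k ∈ posOf P (b.support : Set ι) ∧ k ≠ l) ∨ k = P.reflectionPerm l l ∨
            P.root k = -((2 : ℤ) • P.root l) := by
        intro k hk
        rw [mem_posOf_reflBase] at hk
        rcases pos_dichotomy hΔ l hl' _ hk with h | h | h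
        · rw [P.reflectionPerm_self] at h
          left
          refine ⟨h, ?_⟩
          rintro rfl
          exact posOf_disjoint hΔ k hlpos hk
        · right; left
          have := congrArg (P.reflectionPerm l) h
          rw [P.reflectionPerm_self] at this
          exact this
        · right; right
          have : P.root k = P.reflection l (P.root (P.reflectionPerm l k)) := by
            rw [← P.root_reflectionPerm, P.reflectionPerm_self]
          rw [this, h, map_smul, P.reflection_apply_self, smul_neg]
      have hb' : posOf P ((reflBase b l).support : Set ι) ⊆ R₁ := by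
        intro k hk
        rcases key k hk with ⟨h, _⟩ | h | h
        · exact hb h
        · rw [h]; exact hnl₁
        · apply h₁ hnl₁ hnl₁
          rw [root_negIdx, h, two_smul]
          abel
      have hlt : {a | a ∈ posOf P ((reflBase b l).support : Set ι) ∧
            P.reflectionPerm a a ∉ R₂}.ncard <
          {a | a ∈ posOf P (b.support : Set ι) ∧ P.reflectionPerm a a ∉ R₂}.ncard := by
        apply Set.ncard_lt_ncard _ (Set.toFinite _)
        refine ⟨?_, ?_⟩
        · rintro k ⟨hk, hk₂⟩
          rcases key k hk with ⟨h, _⟩ | h | h
          · exact ⟨h, hk₂⟩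
          · exfalso
            apply hk₂
            rw [h, negIdx_negIdx]
            exact hl₂
          · exfalso
            apply hk₂
            apply h₂ hl₂ hl₂
            rw [root_negIdx, h, neg_neg, two_smul]
        · intro hsub
          have hlB : l ∈ {a | a ∈ posOf P (b.support : Set ι) ∧ P.reflectionPerm a a ∉ R₂} :=
            ⟨hlpos, hlR₂⟩
          obtain ⟨hk, _⟩ := hsub hlB
          rcases key l hk with ⟨_, h⟩ | h | h
          · exact h rfl
          · apply posOf_disjoint hΔ l hlpos
            rw [← h]; exact hlpos
          · have h3 : (3 : ℕ) • P.root l = 0 := by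
              have : P.root l + (2 : ℤ) • P.root l = 0 := by
                nth_rewrite 1 [h]; abel
              rw [show (3 : ℕ) • P.root l = P.root l + (2 : ℤ) • P.root l by
                rw [two_smul]; simp [succ_nsmul]; abel]
              exact this
            exact P.ne_zero l (nsmul_eq_zero_imp P 3 (by norm_num) _ h3)
      exact ih _ (hn ▸ hlt) (reflBase b l) hb' rfl

end Main

end Groth.Agent.Lib.Helper31.Parab1
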