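import Mathlib

namespace Groth.Agent.Lib.Helper31.Symp

open Matrix Module

universe u v

variable {R : Type u} [CommRing R]

section step
variable {M : Type v} [AddCommGroup M] [Module R M] (B : M →ₗ[R] M →ₗ[R] R)

/-- the orthogonal complement of the pair u, v -/
def W (u v : M) : Submodule R M := LinearMap.ker (B.flip u) ⊓ LinearMap.ker (B.flip v)

lemma mem_W {u v x : M} : x ∈ W B u v ↔ B x u = 0 ∧ B x v = 0 := by
  simp [W, Submodule.mem_inf, LinearMap.mem_ker, LinearMap.flip_apply]

lemma skew (halt : ∀ x, B x x = 0) (x y : M) : B x y = - B y x := by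
  have := halt (x + y)
  simp only [map_add, LinearMap.add_apply, halt, zero_add, add_zero] at this
  exact eq_neg_of_add_eq_zero_right this

/-- projection to `W` -/
def proj (halt : ∀ x, B x x = 0) (u v : M) (huv : B v u = 1) : M →ₗ[R] W B u v :=
  LinearMap.codRestrict (W B u v)
    (LinearMap.id + (B.flip v).smulRight u - (B.flip u).smulRight v) (by
      intro x
      have h1 : B u v = -1 := by rw [skew B halt, huv]
      rw [mem_W]
      simp [halt, huv, h1])

lemma proj_coe (halt : ∀ x, B x x = 0) (u v : M) (huv : B v u = 1) (x : M) :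
    (proj B halt u v huv x : M) = x + B x v • u - B x u • v := by
  simp [proj]

/-- decomposition -/
def Phi (halt : ∀ x, B x x = 0) (u v : M) (huv : B v u = 1) : M ≃ₗ[R] (W B u v × R × R) :=
  LinearEquiv.ofLinearMap
    ((proj B halt u v huv).prod ((-(B.flip v)).prod (B.flip u)))
    ((W B u v).subtype.coprod ((LinearMap.id.smulRight u).coprod (LinearMap.id.smulRight v)))
    (by
      have h1 : B u v = -1 := by rw [skew B halt, huv]
      apply LinearMap.ext
      rintro ⟨w, a, b⟩
      have hw := (mem_W B).1 w.2
      have hw1 : B u w = 0 := by rw [skew B halt, hw.1, neg_zero]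
      have hw2 : B v w = 0 := by rw [skew B halt, hw.2, neg_zero]
      refine Prod.ext (Subtype.ext ?_) (Prod.ext ?_ ?_)
      · simp [proj_coe, hw.1, hw.2, halt, huv, h1]
      · simp [hw.1, hw.2, halt, huv, h1]
      · simp [hw.1, hw.2, halt, huv, h1])
    (by
      apply LinearMap.ext
      intro x
      simp [proj_coe])

/-- restricted form -/
def BW (u v : M) : W B u v →ₗ[R] W B u v →ₗ[R] R := B.domRestrict₁₂ (W B u v) (W B u v)

lemma BW_apply (u v : M) (x y : W B u v) : BW B u v x y = B x y := rfl

lemma proj_of_mem (halt : ∀ x, B x x = 0) (u v : M) (huv : B v u = 1) (w : W B u v) :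
    proj B halt u v huv w = w := by
  have hw := (mem_W B).1 w.2
  apply Subtype.ext
  rw [proj_coe, hw.1, hw.2]
  simp

lemma decomp (halt : ∀ x, B x x = 0) (u v : M) (huv : B v u = 1) (x : M) :
    x = (proj B halt u v huv x : M) - B x v • u + B x u • v := by
  rw [proj_coe]; abel

lemma BW_bijective (halt : ∀ x, B x x = 0) (u v : M) (huv : B v u = 1)
    (hB : Function.Bijective B) : Function.Bijective (BW B u v) := by
  constructor
  · rw [injective_iff_map_eq_zero]
    intro w hw0
    have hw := (mem_W B).1 w.2
    have : B (w : M) = 0 := by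
      apply LinearMap.ext
      intro x
      have h1 : B w (proj B halt u v huv x : M) = 0 := by
        have := congrArg (fun φ => φ (proj B halt u v huv x)) hw0
        simpa [BW_apply] using this
      conv_lhs => rw [decomp B halt u v huv x]
      simp [h1, hw.1, hw.2]
    have h0 : (w : M) = 0 := (injective_iff_map_eq_zero B).1 hB.1 _ this
    exact Subtype.ext h0
  · intro φ
    obtain ⟨y, hy⟩ := hB.2 (φ.comp (proj B halt u v huv))
    refine ⟨proj B halt u v huv y, ?_⟩
    apply LinearMap.ext
    intro w'
    have hw := (mem_W B).1 w'.2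
    have hw1 : B u w' = 0 := by rw [skew B halt, hw.1, neg_zero]
    have hw2 : B v w' = 0 := by rw [skew B halt, hw.2, neg_zero]
    rw [BW_apply, proj_coe]
    simp only [map_add, map_sub, map_smul, LinearMap.add_apply, LinearMap.sub_apply,
      LinearMap.smul_apply, hw1, hw2, smul_zero, add_zero, sub_zero]
    rw [hy, LinearMap.comp_apply, proj_of_mem]

end step

theorem exists_symplectic_family [IsLocalRing R] (n : ℕ) :
    ∀ (M : Type v) [AddCommGroup M] [Module R M] [Module.Free R M] [Module.Finite R M]
      (B : M →ₗ[R] M →ₗ[R] R), Module.finrank R M = n → (∀ x, B x x = 0) → Function.Bijective B →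
      ∃ (ι : Type) (_ : Fintype ι) (_ : DecidableEq ι) (f : ι ⊕ ι → M),
        (∀ i j, B (f i) (f j) = J ι R i j) ∧ Submodule.span R (Set.range f) = ⊤ := by
  induction n using Nat.strong_induction_on with
  | _ n ih =>
    intro M _ _ _ _ B hn halt hB
    by_cases hemp : IsEmpty (Module.Free.ChooseBasisIndex R M)
    · have : Subsingleton M := by
        have e := Module.Free.chooseBasis R M
        exact e.repr.toEquiv.subsingleton
      refine ⟨Empty, inferInstance, inferInstance, fun i => 0, ?_, Subsingleton.elim _ _⟩
      rintro (i|i) <;> exact i.elim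
    · rw [not_isEmpty_iff] at hemp
      obtain ⟨i₀⟩ := hemp
      obtain ⟨v, hv⟩ := hB.2 ((Module.Free.chooseBasis R M).coord i₀)
      obtain ⟨u, hu⟩ : ∃ u, u = Module.Free.chooseBasis R M i₀ := ⟨_, rfl⟩
      have huv : B v u = 1 := by rw [hv, hu]; simp
      have h1 : B u v = -1 := by rw [skew B halt, huv]
      have e := Phi B halt u v huv
      haveI : Module.Finite R (W B u v × R × R) := Module.Finite.equiv e
      haveI : Module.Finite R (W B u v) :=
        Module.Finite.of_surjective (LinearMap.fst R (W B u v) (R × R)) LinearMap.fst_surjective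
      haveI : Module.Projective R (W B u v × R × R) := Module.Projective.of_equiv e
      haveI : Module.Projective R (W B u v) :=
        Module.Projective.of_split (LinearMap.inl R (W B u v) (R × R))
          (LinearMap.fst R (W B u v) (R × R)) (by ext; simp)
      haveI : Module.Free R (W B u v) := Module.free_of_flat_of_isLocalRing
      have hrank : Module.finrank R M = Module.finrank R (W B u v) + 2 := by
        rw [e.finrank_eq, Module.finrank_prod, Module.finrank_prod, Module.finrank_self]
      obtain ⟨ι', _, _, f', hf', hspan'⟩ := ih (Module.finrank R (W B u v)) (by omega) (W B u v)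
        (BW B u v) rfl (fun x => halt x) (BW_bijective B halt u v huv hB)
      refine ⟨ι' ⊕ Unit, inferInstance, inferInstance,
        Sum.elim (Sum.elim (fun i => (f' (Sum.inl i) : M)) (fun _ => u))
          (Sum.elim (fun i => (f' (Sum.inr i) : M)) (fun _ => v)), ?_, ?_⟩
      · have hWu : ∀ w : W B u v, B w u = 0 := fun w => ((mem_W B).1 w.2).1
        have hWv : ∀ w : W B u v, B w v = 0 := fun w => ((mem_W B).1 w.2).2
        have hWu' : ∀ w : W B u v, B u w = 0 := fun w => by rw [skew B halt, hWu, neg_zero]
        have hWv' : ∀ w : W B u v, B v w = 0 := fun w => by rw [skew B halt, hWv, neg_zero]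
        have hf'' : ∀ i j, B (f' i : M) (f' j : M) = J ι' R i j := hf'
        rintro ((i|⟨⟩)|(i|⟨⟩)) ((j|⟨⟩)|(j|⟨⟩)) <;>
          simp [hWu, hWv, hWu', hWv', hf'', halt, huv, h1, J, Matrix.one_apply]
      · rw [eq_top_iff]
        intro x _
        rw [decomp B halt u v huv x]
        set S := Submodule.span R (Set.range (Sum.elim (Sum.elim (fun i => (f' (Sum.inl i) : M)) (fun _ => u))
          (Sum.elim (fun i => (f' (Sum.inr i) : M)) (fun _ => v)))) with hS
        have hu' : u ∈ S := Submodule.subset_span ⟨Sum.inl (Sum.inr ()), rfl⟩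
        have hv' : v ∈ S := Submodule.subset_span ⟨Sum.inr (Sum.inr ()), rfl⟩
        have hW : ∀ w : W B u v, (w : M) ∈ S := by
          intro w
          have hw : w ∈ Submodule.span R (Set.range f') := by rw [hspan']; trivial
          induction hw using Submodule.span_induction with
          | mem y hy =>
            obtain ⟨(i|i), rfl⟩ := hy
            · exact Submodule.subset_span ⟨Sum.inl (Sum.inl i), rfl⟩
            · exact Submodule.subset_span ⟨Sum.inr (Sum.inl i), rfl⟩
          | zero => simp
          | add a b _ _ ha hb => simpa using S.add_mem ha hb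
          | smul c a _ ha => simpa using S.smul_mem c ha
        exact S.add_mem (S.sub_mem (hW _) (S.smul_mem _ hu')) (S.smul_mem _ hv')

end Groth.Agent.Lib.Helper31.Symp
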