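import Mathlib
import Groth.Agent.Lib.Helper31.Symp1

namespace Groth.Agent.Lib.Helper31.Symp

open Matrix Module

universe u v

variable {R : Type u} [CommRing R]

theorem det_eq_one_of_preserves [IsLocalRing R] {M : Type v} [AddCommGroup M] [Module R M]
    [Module.Free R M] [Module.Finite R M]
    (B : M →ₗ[R] M →ₗ[R] R) (halt : ∀ x, B x x = 0) (hB : Function.Bijective B)
    (g : M →ₗ[R] M) (hg : ∀ x y, B (g x) (g y) = B x y) : LinearMap.det g = 1 := by
  obtain ⟨ι, _, _, f, hf, hspan⟩ := exists_symplectic_family (Module.finrank R M) M B rfl halt hB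
  have hli : LinearIndependent R f := by
    rw [Fintype.linearIndependent_iff]
    intro c hc
    have h1 : J ι R *ᵥ c = 0 := by
      ext j
      have := congrArg (B (f j)) hc
      simp only [map_sum, map_smul, hf, map_zero, smul_eq_mul] at this
      simp only [Matrix.mulVec, dotProduct, Pi.zero_apply]
      rw [← this]; exact Finset.sum_congr rfl (fun i _ => mul_comm _ _)
    have h2 : (J ι R * J ι R) *ᵥ c = 0 := by rw [← Matrix.mulVec_mulVec, h1, Matrix.mulVec_zero]
    rw [J_squared, Matrix.neg_mulVec, Matrix.one_mulVec, neg_eq_zero] at h2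
    intro i; exact congrFun h2 i
  let b := Basis.mk hli hspan.ge
  have hGram : LinearMap.toMatrix₂ b b B = J ι R := by
    ext i j; simp [b, hf]
  have hcomp : B.compl₁₂ g g = B := by ext x y; simp [hg]
  have := LinearMap.toMatrix₂_compl₁₂ b b b b B g g
  rw [hcomp, hGram] at this
  have hmem : LinearMap.toMatrix b b g ∈ symplecticGroup ι R := SymplecticGroup.mem_iff'.2 this.symm
  have := SymplecticGroup.det_eq_one hmem
  rwa [LinearMap.det_toMatrix] at this

lemma toLinearMap₂'_alt {n : Type*} [Fintype n] [DecidableEq n]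
    (G : Matrix n n R) (hdiag : ∀ i, G i i = 0) (hskew : ∀ i j, G i j = - G j i) (x : n → R) :
    (Matrix.toLinearMap₂' R G : (n → R) →ₗ[R] (n → R) →ₗ[R] R) x x = 0 := by
  rw [Matrix.toLinearMap₂'_apply, ← Finset.sum_product']
  refine Finset.sum_involution (fun p _ => (p.2, p.1)) ?_ ?_ ?_ ?_
  · rintro ⟨i, j⟩ _
    simp only [smul_eq_mul]
    rw [hskew j i]; ring
  · rintro ⟨i, j⟩ _ hne heq
    simp only [Prod.mk.injEq] at heq
    obtain ⟨rfl, -⟩ := heq
    simp [hdiag] at hne
  · intro p _; simp
  · intro p _; rfl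

lemma toLinearMap₂'_bijective {n : Type*} [Fintype n] [DecidableEq n]
    (G : Matrix n n R) (hG : IsUnit G.det) :
    Function.Bijective (Matrix.toLinearMap₂' R G : (n → R) →ₗ[R] (n → R) →ₗ[R] R) := by
  constructor
  · rw [injective_iff_map_eq_zero]
    intro x hx
    have h1 : x ᵥ* G = 0 := by
      ext j
      have := congrArg (fun φ => φ (Pi.single j 1)) hx
      simp only [LinearMap.zero_apply, Matrix.toLinearMap₂'_apply'] at this
      simpa [Matrix.mulVec_single_one, Matrix.vecMul, dotProduct] using this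
    have h2 : (x ᵥ* G) ᵥ* G⁻¹ = 0 := by rw [h1, Matrix.zero_vecMul]
    rwa [Matrix.vecMul_vecMul, Matrix.mul_nonsing_inv G hG, Matrix.vecMul_one] at h2
  · intro φ
    refine ⟨(fun j => φ (Pi.single j 1)) ᵥ* G⁻¹, ?_⟩
    apply LinearMap.pi_ext
    intro j a
    rw [Matrix.toLinearMap₂'_apply', Matrix.dotProduct_mulVec, Matrix.vecMul_vecMul,
      Matrix.nonsing_inv_mul G hG, Matrix.vecMul_one]
    simp only [dotProduct_single]
    rw [mul_comm, ← smul_eq_mul, ← map_smul]
    congr 1
    ext k
    simp [Pi.single_apply]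

theorem det_eq_one_of_alt_matrix [IsLocalRing R] {n : Type*} [Fintype n] [DecidableEq n]
    (G A : Matrix n n R) (hdiag : ∀ i, G i i = 0) (hskew : ∀ i j, G i j = - G j i)
    (hG : IsUnit G.det) (hA : Aᵀ * G * A = G) : A.det = 1 := by
  have := det_eq_one_of_preserves (Matrix.toLinearMap₂' R G : (n → R) →ₗ[R] (n → R) →ₗ[R] R) (toLinearMap₂'_alt G hdiag hskew)
    (toLinearMap₂'_bijective G hG) (Matrix.toLin' A) (by
      intro x y
      have := Matrix.toLinearMap₂'_comp G A A
      rw [hA] at this
      have h2 := congrArg (fun φ => φ x y) this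
      simpa using h2)
  rwa [LinearMap.det_toLin'] at this

theorem det_eq_one_of_alt_global {n : Type*} [Fintype n] [DecidableEq n]
    (G A : Matrix n n R) (hdiag : ∀ i, G i i = 0) (hskew : ∀ i j, G i j = - G j i)
    (hG : IsUnit G.det) (hA : Aᵀ * G * A = G) : A.det = 1 := by
  refine sub_eq_zero.1 <| eq_zero_of_localization _ fun J hJ ↦ ?_
  have := det_eq_one_of_alt_matrix (R := Localization.AtPrime J)
    (G.map (algebraMap R (Localization.AtPrime J))) (A.map (algebraMap R (Localization.AtPrime J)))
    (by intro i; simp [hdiag])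
    (by intro i j; simp only [Matrix.map_apply]; rw [hskew i j, map_neg])
    (by
      have := hG.map (algebraMap R (Localization.AtPrime J))
      rwa [RingHom.map_det] at this)
    (by
      rw [← Matrix.transpose_map, ← Matrix.map_mul, ← Matrix.map_mul, hA])
  rw [map_sub, map_one, RingHom.map_det, RingHom.mapMatrix_apply, this, sub_self]

end Groth.Agent.Lib.Helper31.Symp
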