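import Mathlib
import Groth.Agent.Lib.Helper31.Symp1
import Groth.Agent.Lib.Helper31.Symp2

set_option linter.unusedSectionVars false

namespace Groth.Agent.Lib.Helper31.Pf1

open Matrix Module Groth.Agent.Lib.Helper31.Symp

universe u

/-- determinant of an alternating matrix over a field with a square root of `-1` is a square -/
theorem det_alt_isSquare (F : Type u) [Field F] (hI : ∃ c : F, c * c = -1) {n : Type} [Fintype n] [DecidableEq n]
    (G : Matrix n n F) (hdiag : ∀ i, G i i = 0) (hskew : ∀ i j, G i j = - G j i) :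
    ∃ r : F, G.det = r * r := by
  by_cases h0 : G.det = 0
  · exact ⟨0, by rw [h0, mul_zero]⟩
  have hG : IsUnit G.det := isUnit_iff_ne_zero.mpr h0
  let B : (n → F) →ₗ[F] (n → F) →ₗ[F] F := Matrix.toLinearMap₂' F G
  obtain ⟨ι, _, _, f, hf, hspan⟩ := exists_symplectic_family (Module.finrank F (n → F)) (n → F) B rfl
    (toLinearMap₂'_alt G hdiag hskew) (toLinearMap₂'_bijective G hG)
  have hli : LinearIndependent F f := by
    rw [Fintype.linearIndependent_iff]
    intro c hc
    have h1 : J ι F *ᵥ c = 0 := by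
      ext j
      have := congrArg (B (f j)) hc
      simp only [map_sum, map_smul, hf, map_zero, smul_eq_mul] at this
      simp only [Matrix.mulVec, dotProduct, Pi.zero_apply]
      rw [← this]; exact Finset.sum_congr rfl (fun i _ => mul_comm _ _)
    have h2 : (J ι F * J ι F) *ᵥ c = 0 := by rw [← Matrix.mulVec_mulVec, h1, Matrix.mulVec_zero]
    rw [J_squared, Matrix.neg_mulVec, Matrix.one_mulVec, neg_eq_zero] at h2
    intro i; exact congrFun h2 i
  let b := Basis.mk hli hspan.ge
  have hcard : Fintype.card n = Fintype.card (ι ⊕ ι) := by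
    rw [← Module.finrank_eq_card_basis b, Module.finrank_fintype_fun_eq_card]
  let σ : n ≃ ι ⊕ ι := Fintype.equivOfCardEq hcard
  let Q : Matrix n n F := fun a k => f (σ k) a
  have hQ : Qᵀ * G * Q = (J ι F).submatrix σ σ := by
    ext k l
    rw [Matrix.submatrix_apply, ← hf (σ k) (σ l)]
    simp only [B, Matrix.toLinearMap₂'_apply', Matrix.mul_apply, Matrix.transpose_apply, Q,
      dotProduct, Matrix.mulVec]
    simp only [Finset.sum_mul, Finset.mul_sum]
    rw [Finset.sum_comm]
    refine Finset.sum_congr rfl fun a _ => Finset.sum_congr rfl fun b _ => ?_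
    ring
  have hdet := congrArg Matrix.det hQ
  rw [Matrix.det_mul, Matrix.det_mul, Matrix.det_transpose, Matrix.det_submatrix_equiv_self] at hdet
  have hε : (J ι F).det * (J ι F).det = 1 := J_det_mul_J_det ι F
  set ε := (J ι F).det with hεdef
  have hq0 : Q.det ≠ 0 := by
    intro hq
    rw [hq, zero_mul, zero_mul] at hdet
    rw [← hdet, mul_zero] at hε
    exact zero_ne_one hε
  have hε' : ε = 1 ∨ ε = -1 := by
    have : (ε - 1) * (ε + 1) = 0 := by linear_combination hε
    rcases mul_eq_zero.mp this with h | h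
    · left; exact sub_eq_zero.mp h
    · right; exact eq_neg_of_add_eq_zero_left h
  obtain ⟨c, hc⟩ := hI
  rcases hε' with h | h
  · refine ⟨1 / Q.det, ?_⟩
    rw [h] at hdet
    field_simp
    linear_combination hdet
  · refine ⟨c / Q.det, ?_⟩
    rw [h] at hdet
    field_simp
    linear_combination hdet - hc

/-- the generic alternating matrix -/
noncomputable def Ggen (S : Type u) [CommRing S] (K : Type) : Matrix K K (MvPolynomial (K × K) S) :=
  Matrix.of fun i j => MvPolynomial.X (i, j) - MvPolynomial.X (j, i)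

theorem exists_pf (S : Type u) [CommRing S] [IsDomain S] [UniqueFactorizationMonoid S] (hI : ∃ c : S, c * c = -1)
    (K : Type) [Fintype K] [DecidableEq K] :
    ∃ pf : MvPolynomial (K × K) S, pf * pf = (Ggen S K).det := by
  let P := MvPolynomial (K × K) S
  let F := FractionRing P
  have hIF : ∃ c : F, c * c = -1 := by
    obtain ⟨c, hc⟩ := hI
    refine ⟨algebraMap P F (MvPolynomial.C c), ?_⟩
    rw [← map_mul, ← map_mul, hc, map_neg, map_neg, map_one, map_one]
  obtain ⟨r, hr⟩ := det_alt_isSquare F hIF ((Ggen S K).map (algebraMap P F))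
    (by intro i; simp [Ggen])
    (by intro i j; simp [Ggen])
  have hdet : ((Ggen S K).map (algebraMap P F)).det = algebraMap P F (Ggen S K).det := by
    rw [RingHom.map_det]; rfl
  rw [hdet] at hr
  have hint : IsIntegral P r := by
    refine ⟨Polynomial.X ^ 2 - Polynomial.C (Ggen S K).det, Polynomial.monic_X_pow_sub_C _ two_ne_zero, ?_⟩
    simp only [Polynomial.eval₂_sub, Polynomial.eval₂_pow, Polynomial.eval₂_X, Polynomial.eval₂_C]
    rw [hr]; ring
  obtain ⟨pf, hpf⟩ := IsIntegrallyClosed.algebraMap_eq_of_integral hint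
  refine ⟨pf, ?_⟩
  apply IsFractionRing.injective P F
  rw [map_mul, hpf, hr]

/-- specialisation of the Pfaffian identity -/
theorem pf_spec {S : Type u} [CommRing S] {K : Type} [Fintype K] [DecidableEq K]
    (pf : MvPolynomial (K × K) S) (hpf : pf * pf = (Ggen S K).det)
    {T : Type*} [CommRing T] (φ : S →+* T) (h2 : T) (hh : 2 * h2 = 1) (N : Matrix K K T)
    (hskew : ∀ i j, N i j = - N j i) :
    MvPolynomial.eval₂ φ (fun ij : K × K => h2 * N ij.1 ij.2) pf *
      MvPolynomial.eval₂ φ (fun ij : K × K => h2 * N ij.1 ij.2) pf = N.det := by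
  rw [← MvPolynomial.eval₂_mul, hpf]
  have : MvPolynomial.eval₂ φ (fun ij : K × K => h2 * N ij.1 ij.2) (Ggen S K).det =
      ((Ggen S K).map (MvPolynomial.eval₂Hom φ (fun ij : K × K => h2 * N ij.1 ij.2))).det := by
    rw [← MvPolynomial.coe_eval₂Hom, RingHom.map_det]; rfl
  rw [this]
  congr 1
  ext i j
  simp only [Matrix.map_apply, Ggen, Matrix.of_apply, map_sub, MvPolynomial.eval₂Hom_X']
  rw [hskew j i]
  linear_combination (N i j) * hh

end Groth.Agent.Lib.Helper31.Pf1
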