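import Mathlib
import Groth.Agent.Lib.Helper31.Pf1

set_option linter.unusedSectionVars false

namespace Groth.Agent.Lib.Helper31.Pf2

open Matrix Polynomial Groth.Agent.Lib.Helper31.Pf1

/-- substitution lemma -/
theorem exists_poly {S : Type*} [CommRing S] {K : Type} (pf : MvPolynomial (K × K) S) (s : S)
    (h : K × K → MvPolynomial (K × K) S) :
    ∃ P : MvPolynomial (K × K) S, ∀ g : K × K → S,
      MvPolynomial.eval g P = s * MvPolynomial.eval (fun ij => MvPolynomial.eval g (h ij)) pf := by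
  refine ⟨MvPolynomial.C s * MvPolynomial.bind₁ h pf, fun g => ?_⟩
  rw [map_mul, MvPolynomial.eval_C]
  congr 1
  exact MvPolynomial.eval₂Hom_bind₁ (RingHom.id S) g h pf

theorem key {T : Type*} [CommRing T] {K : Type} [Fintype K] [DecidableEq K]
    (pf : MvPolynomial (K × K) T) (hpf : pf * pf = (Ggen T K).det) (h2 : T) (hh : 2 * h2 = 1)
    (J₀ M : Matrix K K T) (s : T) (hs : s * s = J₀.det) (hεε : J₀.det * J₀.det = 1) (hJ : J₀ᵀ = -J₀)
    (hM : Mᵀ * J₀ = J₀ * M) :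
    M.det = (s * MvPolynomial.eval (fun ij : K × K => h2 * (J₀ * M) ij.1 ij.2) pf) ^ 2 := by
  have hskew : ∀ i j, (J₀ * M) i j = - (J₀ * M) j i := by
    intro i j
    have : (J₀ * M)ᵀ = - (J₀ * M) := by
      rw [Matrix.transpose_mul, hJ, Matrix.mul_neg, hM]
    have := congrFun (congrFun this j) i
    simp only [Matrix.transpose_apply, Matrix.neg_apply] at this
    exact this
  have := pf_spec pf hpf (RingHom.id T) h2 hh (J₀ * M) hskew
  rw [MvPolynomial.eval₂_id, Matrix.det_mul] at this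
  rw [mul_pow, sq, sq, this, hs]
  linear_combination (-M.det) * hεε

variable (m : ℕ)

/-- the matrix of the statement -/
noncomputable def J' (T : Type*) [CommRing T] : Matrix (Fin m ⊕ Fin m) (Fin m ⊕ Fin m) T :=
  Matrix.fromBlocks 0 1 (-1) 0

theorem J'_transpose (T : Type*) [CommRing T] : (J' m T)ᵀ = - J' m T := by
  unfold J'
  rw [Matrix.fromBlocks_transpose, Matrix.fromBlocks_neg]
  simp

theorem J'_sq (T : Type*) [CommRing T] : J' m T * J' m T = -1 := by
  unfold J'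
  rw [Matrix.fromBlocks_multiply]
  simp only [Matrix.zero_mul, Matrix.mul_zero, Matrix.one_mul, Matrix.mul_one, zero_add, add_zero, Matrix.neg_mul]
  rw [← Matrix.fromBlocks_one, Matrix.fromBlocks_neg]
  simp

theorem J'_det_sq (T : Type*) [CommRing T] : (J' m T).det * (J' m T).det = 1 := by
  rw [← Matrix.det_mul, J'_sq, Matrix.det_neg, Matrix.det_one, mul_one, Fintype.card_sum]
  exact Even.neg_one_pow (Even.add_self _)

theorem J'_map {T T' : Type*} [CommRing T] [CommRing T'] (φ : T →+* T') : (J' m T).map φ = J' m T' := by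
  ext (i | i) (j | j)
  · simp [J']
  · by_cases h : i = j <;> simp [J', Matrix.one_apply, h]
  · by_cases h : i = j <;> simp [J', Matrix.one_apply, h]
  · simp [J']

theorem exists_sqrt_det_J' : ∃ s : ℂ, s * s = (J' m ℂ).det := by
  have h := J'_det_sq m ℂ
  have : ((J' m ℂ).det - 1) * ((J' m ℂ).det + 1) = 0 := by linear_combination h
  rcases mul_eq_zero.mp this with h1 | h1
  · exact ⟨1, by rw [sub_eq_zero.mp h1, mul_one]⟩
  · exact ⟨Complex.I, by rw [eq_neg_of_add_eq_zero_left h1, Complex.I_mul_I]⟩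

theorem final :
    (∃ P : MvPolynomial ((Fin m ⊕ Fin m) × (Fin m ⊕ Fin m)) (Polynomial ℂ),
      ∀ A : Matrix (Fin m ⊕ Fin m) (Fin m ⊕ Fin m) ℂ,
        A.transpose * Matrix.fromBlocks 0 1 (-1) 0 = Matrix.fromBlocks 0 1 (-1) 0 * A →
        A.charpoly = (MvPolynomial.eval (fun ij => Polynomial.C (A ij.1 ij.2)) P) ^ 2) ∧
    (∃ Q : MvPolynomial ((Fin m ⊕ Fin m) × (Fin m ⊕ Fin m)) ℂ,
      ∀ A : Matrix (Fin m ⊕ Fin m) (Fin m ⊕ Fin m) ℂ,
        A.transpose * Matrix.fromBlocks 0 1 (-1) 0 = Matrix.fromBlocks 0 1 (-1) 0 * A →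
        A.det = (MvPolynomial.eval (fun ij => A ij.1 ij.2) Q) ^ 2) := by
  obtain ⟨s, hs⟩ := exists_sqrt_det_J' m
  constructor
  · obtain ⟨pf, hpf⟩ := exists_pf (Polynomial ℂ) ⟨C Complex.I, by rw [← map_mul, Complex.I_mul_I]; simp⟩
      (Fin m ⊕ Fin m)
    obtain ⟨P, hP⟩ := exists_poly pf (C s) (fun ij =>
      MvPolynomial.C (C (1 / 2 : ℂ)) * ∑ l, MvPolynomial.C (C (J' m ℂ ij.1 l)) *
        (MvPolynomial.C ((Matrix.diagonal fun _ : Fin m ⊕ Fin m => (X : Polynomial ℂ)) l ij.2) - MvPolynomial.X (l, ij.2)))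
    refine ⟨P, fun A hA => ?_⟩
    have hA' : Aᵀ * J' m ℂ = J' m ℂ * A := hA
    rw [hP]
    have hJmap : J' m (Polynomial ℂ) = (J' m ℂ).map C := (J'_map m (C : ℂ →+* Polynomial ℂ)).symm
    have hM : (charmatrix A)ᵀ * J' m (Polynomial ℂ) = J' m (Polynomial ℂ) * charmatrix A := by
      rw [← Matrix.charmatrix_transpose, hJmap]
      unfold charmatrix
      rw [Matrix.sub_mul, Matrix.mul_sub, RingHom.mapMatrix_apply, RingHom.mapMatrix_apply,
        show (⇑(C : ℂ →+* Polynomial ℂ)) = (C : ℂ → Polynomial ℂ) from rfl, ← Matrix.map_mul, ← Matrix.map_mul, hA']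
      congr 1
      ext i j
      rw [Matrix.scalar_apply, Matrix.diagonal_mul, Matrix.mul_diagonal, mul_comm]
    have hk := key pf hpf (C (1 / 2 : ℂ)) (by rw [← map_ofNat C 2, ← map_mul]; norm_num)
      (J' m (Polynomial ℂ)) (charmatrix A) (C s)
      (by rw [← map_mul, hs, hJmap, ← RingHom.mapMatrix_apply, ← RingHom.map_det])
      (J'_det_sq m _) (J'_transpose m _) hM
    unfold charpoly
    rw [hk]
    have hfun : (fun ij : (Fin m ⊕ Fin m) × (Fin m ⊕ Fin m) =>
        C (1 / 2 : ℂ) * (J' m (Polynomial ℂ) * charmatrix A) ij.1 ij.2) =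
        (fun ij => (MvPolynomial.eval fun ij => C (A ij.1 ij.2))
          (MvPolynomial.C (C (1 / 2 : ℂ)) * ∑ l, MvPolynomial.C (C (J' m ℂ ij.1 l)) *
            (MvPolynomial.C ((Matrix.diagonal fun _ : Fin m ⊕ Fin m => (X : Polynomial ℂ)) l ij.2) -
              MvPolynomial.X (l, ij.2)))) := by
      funext ij
      simp only [map_mul, map_sum, map_sub, MvPolynomial.eval_C, MvPolynomial.eval_X, Matrix.mul_apply,
        charmatrix_apply, hJmap, Matrix.map_apply]
    rw [hfun]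
  · obtain ⟨pf, hpf⟩ := exists_pf ℂ ⟨Complex.I, Complex.I_mul_I⟩ (Fin m ⊕ Fin m)
    obtain ⟨Q, hQ⟩ := exists_poly pf s (fun ij =>
      MvPolynomial.C (1 / 2 : ℂ) * ∑ l, MvPolynomial.C (J' m ℂ ij.1 l) * MvPolynomial.X (l, ij.2))
    refine ⟨Q, fun A hA => ?_⟩
    have hA' : Aᵀ * J' m ℂ = J' m ℂ * A := hA
    rw [hQ]
    have hk := key pf hpf (1 / 2 : ℂ) (by norm_num) (J' m ℂ) A s hs (J'_det_sq m _) (J'_transpose m _) hA'
    rw [hk]
    have hfun : (fun ij : (Fin m ⊕ Fin m) × (Fin m ⊕ Fin m) => (1 / 2 : ℂ) * (J' m ℂ * A) ij.1 ij.2) =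
        (fun ij => (MvPolynomial.eval fun ij => A ij.1 ij.2)
          (MvPolynomial.C (1 / 2 : ℂ) * ∑ l, MvPolynomial.C (J' m ℂ ij.1 l) * MvPolynomial.X (l, ij.2))) := by
      funext ij
      simp only [map_mul, map_sum, MvPolynomial.eval_C, MvPolynomial.eval_X, Matrix.mul_apply]
    rw [hfun]

end Groth.Agent.Lib.Helper31.Pf2
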