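import Mathlib
import Groth.Prelude.Def_W4c5modbuncurvesppStab

/-!
# Stability of sheaf data on graphs: indicator calculus

`hrel S ψ m N A` is the slack `degOn A - (Σ_A ψ - cut_S(A)/2)` of the stability inequality for the
vertex set `A` relative to the induced subgraph on `S`, written with real indicator functions.
-/

set_option autoImplicit false
set_option linter.unusedSectionVars false
universe u

namespace Groth.Agent.Lib.Helper31.PhiSt

open PhiStab LabGraph

variable {V E : Type u} [Fintype V] [Fintype E] [DecidableEq V] [DecidableEq E]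
  (ends : E → V × V)

/-- real indicator -/
def chi (T : Finset V) (v : V) : ℝ := if v ∈ T then 1 else 0

omit [Fintype V] in
lemma chi_of_mem {T : Finset V} {v : V} (h : v ∈ T) : chi T v = 1 := if_pos h
omit [Fintype V] in
lemma chi_of_not_mem {T : Finset V} {v : V} (h : v ∉ T) : chi T v = 0 := if_neg h
omit [Fintype V] in
lemma chi_empty (v : V) : chi (∅ : Finset V) v = 0 := by simp [chi]
lemma chi_univ (v : V) : chi (Finset.univ : Finset V) v = 1 := by simp [chi]
lemma chi_compl (T : Finset V) (v : V) : chi Tᶜ v = 1 - chi T v := by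
  by_cases h : v ∈ T <;> simp [chi, h]
omit [Fintype V] in
lemma chi_union {A B : Finset V} (h : Disjoint A B) (v : V) :
    chi (A ∪ B) v = chi A v + chi B v := by
  by_cases hA : v ∈ A
  · have hB : v ∉ B := Finset.disjoint_left.mp h hA
    simp [chi, hA, hB]
  · by_cases hB : v ∈ B <;> simp [chi, hA, hB]
omit [Fintype V] in
lemma chi_cases (T : Finset V) (v : V) : chi T v = 0 ∨ chi T v = 1 := by
  by_cases h : v ∈ T <;> simp [chi, h]
omit [Fintype V] in
lemma chi_nonneg (T : Finset V) (v : V) : 0 ≤ chi T v := by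
  rcases chi_cases T v with h | h <;> rw [h] <;> norm_num
omit [Fintype V] in
lemma chi_le_one (T : Finset V) (v : V) : chi T v ≤ 1 := by
  rcases chi_cases T v with h | h <;> rw [h] <;> norm_num

lemma sum_chi_mul (T : Finset V) (g : V → ℝ) : ∑ v, chi T v * g v = ∑ v ∈ T, g v := by
  unfold chi
  simp [Finset.sum_ite_mem]

/-- slack of the stability inequality for `A` inside `S` -/
noncomputable def hrel (S : Finset V) (ψ : V → ℝ) (m : V → ℤ) (N : Finset E) (A : Finset V) : ℝ :=
  (∑ v, chi A v * ((m v : ℝ) - ψ v)) + (∑ e ∈ N, chi A (ends e).1 * chi A (ends e).2)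
    + (1 / 2) * ∑ e, chi S (ends e).1 * chi S (ends e).2 *
        (chi A (ends e).1 - chi A (ends e).2) ^ 2

/-- number of edge-ends at `v` whose other end lies in `S₂` -/
noncomputable def cnt (S₂ : Finset V) (v : V) : ℝ :=
  ∑ e, ((if (ends e).1 = v then chi S₂ (ends e).2 else 0) +
    (if (ends e).2 = v then chi S₂ (ends e).1 else 0))

lemma sum_chi_cnt (A S₂ : Finset V) :
    ∑ v, chi A v * cnt ends S₂ v =
      ∑ e, (chi A (ends e).1 * chi S₂ (ends e).2 + chi A (ends e).2 * chi S₂ (ends e).1) := by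
  unfold cnt
  simp_rw [Finset.mul_sum]
  rw [Finset.sum_comm]
  refine Finset.sum_congr rfl fun e _ => ?_
  simp_rw [mul_add, Finset.sum_add_distrib, mul_ite, mul_zero]
  rw [Finset.sum_ite_eq, Finset.sum_ite_eq]
  simp

/-- bridge with the Prelude: `cut` -/
lemma cut_eq (T : Finset V) :
    (LabGraph.cut ends T : ℝ) = ∑ e, (chi T (ends e).1 - chi T (ends e).2) ^ 2 := by
  unfold LabGraph.cut
  rw [Finset.card_filter]
  push_cast
  refine Finset.sum_congr rfl fun e _ => ?_
  by_cases h1 : (ends e).1 ∈ T <;> by_cases h2 : (ends e).2 ∈ T <;> simp [chi, h1, h2]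

/-- bridge with the Prelude: `degOn` -/
lemma degOn_eq (m : V → ℤ) (N : Finset E) (T : Finset V) :
    (degOn ends m N T : ℝ) = (∑ v, chi T v * (m v : ℝ)) +
      ∑ e ∈ N, chi T (ends e).1 * chi T (ends e).2 := by
  unfold degOn
  push_cast
  rw [sum_chi_mul]
  congr 1
  have : N ∩ PhiStab.inner ends T = N.filter (fun e => (ends e).1 ∈ T ∧ (ends e).2 ∈ T) := by
    ext e
    simp [PhiStab.inner]
  rw [this, Finset.card_filter]
  push_cast
  refine Finset.sum_congr rfl fun e _ => ?_
  by_cases h1 : (ends e).1 ∈ T <;> by_cases h2 : (ends e).2 ∈ T <;> simp [chi, h1, h2]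

/-- the absolute slack -/
lemma hrel_univ (φ : V → ℝ) (m : V → ℤ) (N : Finset E) (T : Finset V) :
    hrel ends Finset.univ φ m N T =
      (degOn ends m N T : ℝ) - ((∑ v ∈ T, φ v) - (LabGraph.cut ends T : ℝ) / 2) := by
  unfold hrel
  rw [degOn_eq, cut_eq, ← sum_chi_mul T φ]
  simp only [chi_univ, one_mul, mul_sub, Finset.sum_sub_distrib]
  ring

lemma isSemistable_iff (φ : V → ℝ) (m : V → ℤ) (N : Finset E) :
    IsSemistable ends φ m N ↔
      ∀ T : Finset V, T.Nonempty → T ≠ Finset.univ → 0 ≤ hrel ends Finset.univ φ m N T := by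
  unfold IsSemistable
  refine forall_congr' fun T => forall_congr' fun _ => forall_congr' fun _ => ?_
  rw [hrel_univ, sub_nonneg]

lemma isStable_iff (φ : V → ℝ) (m : V → ℤ) (N : Finset E) :
    IsStable ends φ m N ↔
      ∀ T : Finset V, T.Nonempty → T ≠ Finset.univ → 0 < hrel ends Finset.univ φ m N T := by
  unfold IsStable
  refine forall_congr' fun T => forall_congr' fun _ => forall_congr' fun _ => ?_
  rw [hrel_univ, sub_pos]

lemma hrel_empty (S : Finset V) (ψ : V → ℝ) (m : V → ℤ) (N : Finset E) :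
    hrel ends S ψ m N ∅ = 0 := by
  unfold hrel
  simp [chi_empty]

/-- `hrel` only depends on `ψ` and `m` on `A` -/
lemma hrel_congr (S : Finset V) (ψ ψ' : V → ℝ) (m m' : V → ℤ) (N : Finset E) (A : Finset V)
    (hψ : ∀ v ∈ A, ψ v = ψ' v) (hm : ∀ v ∈ A, m v = m' v) :
    hrel ends S ψ m N A = hrel ends S ψ' m' N A := by
  unfold hrel
  congr 2
  refine Finset.sum_congr rfl fun v _ => ?_
  by_cases h : v ∈ A
  · rw [hψ v h, hm v h]
  · rw [chi_of_not_mem h, zero_mul, zero_mul]

end Groth.Agent.Lib.Helper31.PhiSt
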