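import Mathlib
import Groth.Agent.Lib.Helper31.PhiA

/-!
# Gluing semistable data along a single edge
-/

set_option autoImplicit false
set_option linter.unusedSectionVars false
set_option linter.unnecessarySeqFocus false
universe u

namespace Groth.Agent.Lib.Helper31.PhiSt

open PhiStab LabGraph

variable {V E : Type u} [Fintype V] [Fintype E] [DecidableEq V] [DecidableEq E]
  (ends : E → V × V)

/-- the possible positions of a vertex w.r.t. `A ⊆ S₁`, `B ⊆ S₂`, `S₁ ∩ S₂ = ∅` -/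
def Ty (pA pS1 pB pS2 : ℝ) : Prop :=
  (pA = 1 ∧ pS1 = 1 ∧ pB = 0 ∧ pS2 = 0) ∨ (pA = 0 ∧ pS1 = 1 ∧ pB = 0 ∧ pS2 = 0) ∨
  (pA = 0 ∧ pS1 = 0 ∧ pB = 1 ∧ pS2 = 1) ∨ (pA = 0 ∧ pS1 = 0 ∧ pB = 0 ∧ pS2 = 1) ∨
  (pA = 0 ∧ pS1 = 0 ∧ pB = 0 ∧ pS2 = 0)

omit [Fintype V] in
lemma ty_of {S1 S2 A B : Finset V} (hA : A ⊆ S1) (hB : B ⊆ S2) (hd : Disjoint S1 S2) (v : V) :
    Ty (chi A v) (chi S1 v) (chi B v) (chi S2 v) := by
  unfold Ty
  by_cases h1 : v ∈ S1
  · have h2 : v ∉ S2 := Finset.disjoint_left.mp hd h1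
    have h3 : v ∉ B := fun h => h2 (hB h)
    by_cases h4 : v ∈ A
    · left; simp [chi, h1, h2, h3, h4]
    · right; left; simp [chi, h1, h2, h3, h4]
  · have h4 : v ∉ A := fun h => h1 (hA h)
    by_cases h2 : v ∈ S2
    · by_cases h3 : v ∈ B
      · right; right; left; simp [chi, h1, h2, h3, h4]
      · right; right; right; left; simp [chi, h1, h2, h3, h4]
    · have h3 : v ∉ B := fun h => h2 (hB h)
      right; right; right; right; simp [chi, h1, h2, h3, h4]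

lemma edge_id (pA pS1 pB pS2 qA qS1 qB qS2 : ℝ) (hp : Ty pA pS1 pB pS2)
    (hq : Ty qA qS1 qB qS2) :
    (1/2) * ((pS1+pS2) * (qS1+qS2) * ((pA+pB) - (qA+qB))^2) =
      (1/2) * (pA*qS2 + qA*pS2) + (1/2) * (pS1*qS1*(pA-qA)^2) + (1/2) * (pB*qS1 + qB*pS1)
        + (1/2) * (pS2*qS2*(pB-qB)^2) - (pA*qB + pB*qA) := by
  rcases hp with ⟨rfl, rfl, rfl, rfl⟩ | ⟨rfl, rfl, rfl, rfl⟩ | ⟨rfl, rfl, rfl, rfl⟩ |
      ⟨rfl, rfl, rfl, rfl⟩ | ⟨rfl, rfl, rfl, rfl⟩ <;>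
    rcases hq with ⟨rfl, rfl, rfl, rfl⟩ | ⟨rfl, rfl, rfl, rfl⟩ | ⟨rfl, rfl, rfl, rfl⟩ |
      ⟨rfl, rfl, rfl, rfl⟩ | ⟨rfl, rfl, rfl, rfl⟩ <;> norm_num

/-- real indicator of an edge set -/
def nu (N : Finset E) (e : E) : ℝ := if e ∈ N then 1 else 0

omit [DecidableEq V] [Fintype V] in
lemma sum_nu (N : Finset E) (f : E → ℝ) : ∑ e ∈ N, f e = ∑ e, nu N e * f e := by
  unfold nu
  simp [Finset.sum_ite_mem]

omit [DecidableEq V] [Fintype V] in
lemma sum_compl_nu (N : Finset E) (f : E → ℝ) : ∑ e ∈ Nᶜ, f e = ∑ e, (1 - nu N e) * f e := by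
  rw [sum_nu]
  refine Finset.sum_congr rfl fun e _ => ?_
  by_cases h : e ∈ N <;> simp [nu, h]

lemma vertex_part (A : Finset V) (ψ : V → ℝ) (m : V → ℤ) (c : V → ℝ) (s0 : V) (x : ℝ) :
    ∑ v, chi A v * ((m v : ℝ) - (ψ v - (1/2) * c v + x * chi {s0} v)) =
      (∑ v, chi A v * ((m v : ℝ) - ψ v)) + (1/2) * (∑ v, chi A v * c v) - x * chi A s0 := by
  have h : ∀ v, chi A v * ((m v : ℝ) - (ψ v - (1/2) * c v + x * chi {s0} v)) =
      chi A v * ((m v : ℝ) - ψ v) + (1/2) * (chi A v * c v) - x * (chi {s0} v * chi A v) := by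
    intro v; ring
  simp_rw [h, Finset.sum_sub_distrib, Finset.sum_add_distrib, ← Finset.mul_sum, sum_chi_mul,
    Finset.sum_singleton]

theorem glue_eq (S1 S2 A B : Finset V) (hd : Disjoint S1 S2) (hA : A ⊆ S1) (hB : B ⊆ S2)
    (ψ : V → ℝ) (m : V → ℤ) (N : Finset E) (s0 w0 : V) (x : ℝ) :
    hrel ends (S1 ∪ S2) ψ m N (A ∪ B) =
      hrel ends S1 (fun v => ψ v - (1/2) * cnt ends S2 v + x * chi {s0} v) m N A
      + hrel ends S2 (fun v => ψ v - (1/2) * cnt ends S1 v + (1 - x) * chi {w0} v) m N B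
      + x * chi A s0 + (1 - x) * chi B w0
      - ∑ e ∈ Nᶜ, (chi A (ends e).1 * chi B (ends e).2 + chi B (ends e).1 * chi A (ends e).2) := by
  have hAB : Disjoint A B := Finset.disjoint_of_subset_left hA (Finset.disjoint_of_subset_right hB hd)
  unfold hrel
  rw [vertex_part, vertex_part, sum_chi_cnt, sum_chi_cnt,
    sum_nu N (fun e => chi (A ∪ B) (ends e).1 * chi (A ∪ B) (ends e).2),
    sum_nu N (fun e => chi A (ends e).1 * chi A (ends e).2),
    sum_nu N (fun e => chi B (ends e).1 * chi B (ends e).2),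
    sum_compl_nu N]
  have hv : ∑ v, chi (A ∪ B) v * ((m v : ℝ) - ψ v) =
      (∑ v, chi A v * ((m v : ℝ) - ψ v)) + ∑ v, chi B v * ((m v : ℝ) - ψ v) := by
    rw [← Finset.sum_add_distrib]
    refine Finset.sum_congr rfl fun v _ => ?_
    rw [chi_union hAB]; ring
  rw [hv]
  have key : ∀ e : E,
      nu N e * (chi (A ∪ B) (ends e).1 * chi (A ∪ B) (ends e).2) +
        (1/2) * (chi (S1 ∪ S2) (ends e).1 * chi (S1 ∪ S2) (ends e).2 *
          (chi (A ∪ B) (ends e).1 - chi (A ∪ B) (ends e).2) ^ 2) =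
      nu N e * (chi A (ends e).1 * chi A (ends e).2)
      + (1/2) * (chi S1 (ends e).1 * chi S1 (ends e).2 * (chi A (ends e).1 - chi A (ends e).2) ^ 2)
      + (1/2) * (chi A (ends e).1 * chi S2 (ends e).2 + chi A (ends e).2 * chi S2 (ends e).1)
      + nu N e * (chi B (ends e).1 * chi B (ends e).2)
      + (1/2) * (chi S2 (ends e).1 * chi S2 (ends e).2 * (chi B (ends e).1 - chi B (ends e).2) ^ 2)
      + (1/2) * (chi B (ends e).1 * chi S1 (ends e).2 + chi B (ends e).2 * chi S1 (ends e).1)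
      - (1 - nu N e) * (chi A (ends e).1 * chi B (ends e).2 + chi B (ends e).1 * chi A (ends e).2) := by
    intro e
    rw [chi_union hAB, chi_union hAB, chi_union hd, chi_union hd]
    have := edge_id _ _ _ _ _ _ _ _ (ty_of hA hB hd (ends e).1) (ty_of hA hB hd (ends e).2)
    linear_combination this
  have hsum := Finset.sum_congr (s₁ := (Finset.univ : Finset E)) rfl (fun e _ => key e)
  simp only [Finset.sum_add_distrib, Finset.sum_sub_distrib, ← Finset.mul_sum] at hsum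
  simp only [Finset.sum_add_distrib]
  linarith

end Groth.Agent.Lib.Helper31.PhiSt
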