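import Mathlib
import Groth.Agent.Lib.Helper31.PhiB

/-!
# Existence of semistable data along a tree-like construction
-/

set_option autoImplicit false
set_option linter.unusedSectionVars false
set_option linter.unnecessarySeqFocus false
universe u

namespace Groth.Agent.Lib.Helper31.PhiSt

open PhiStab LabGraph

variable {V E : Type u} [Fintype V] [Fintype E] [DecidableEq V] [DecidableEq E]
  (ends : E → V × V)

/-- semistability relative to the induced subgraph on `S` (with the total degree condition) -/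
def RelSS (S : Finset V) (ψ : V → ℝ) (m : V → ℤ) (N : Finset E) : Prop :=
  hrel ends S ψ m N S = 0 ∧ ∀ A ⊆ S, 0 ≤ hrel ends S ψ m N A

lemma hrel_self (S : Finset V) (ψ : V → ℝ) (m : V → ℤ) (N : Finset E) :
    hrel ends S ψ m N S = (∑ v ∈ S, ((m v : ℝ) - ψ v)) +
      ∑ e ∈ N, chi S (ends e).1 * chi S (ends e).2 := by
  unfold hrel
  rw [sum_chi_mul]
  have : ∑ e, chi S (ends e).1 * chi S (ends e).2 * (chi S (ends e).1 - chi S (ends e).2) ^ 2
      = 0 := by
    refine Finset.sum_eq_zero fun e _ => ?_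
    rcases chi_cases S (ends e).1 with h1 | h1 <;> rcases chi_cases S (ends e).2 with h2 | h2 <;>
      rw [h1, h2] <;> norm_num
  rw [this]; ring

/-- the correction term of `glue_eq` when `e0` is the only edge outside `N` between `S1`, `S2` -/
lemma corr_eq (S1 S2 A B : Finset V) (hd : Disjoint S1 S2) (hA : A ⊆ S1) (hB : B ⊆ S2)
    (N : Finset E) (e0 : E) (s0 w0 : V) (hs0 : s0 ∈ S1) (hw0 : w0 ∈ S2)
    (he0 : ends e0 = (s0, w0) ∨ ends e0 = (w0, s0)) (he0N : e0 ∉ N)
    (hN : ∀ e, e ∉ N → (((ends e).1 ∈ S1 ∧ (ends e).2 ∈ S2) ∨ ((ends e).1 ∈ S2 ∧ (ends e).2 ∈ S1)) →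
      e = e0) :
    ∑ e ∈ Nᶜ, (chi A (ends e).1 * chi B (ends e).2 + chi B (ends e).1 * chi A (ends e).2) =
      chi A s0 * chi B w0 := by
  have hBs0 : chi B s0 = 0 :=
    chi_of_not_mem (fun h => Finset.disjoint_left.mp hd hs0 (hB h))
  have hAw0 : chi A w0 = 0 :=
    chi_of_not_mem (fun h => Finset.disjoint_left.mp hd (hA h) hw0)
  rw [Finset.sum_eq_single e0]
  · rcases he0 with h | h <;> rw [h] <;> simp only [hBs0, hAw0] <;> ring
  · intro e he hne
    have heN : e ∉ N := Finset.mem_compl.mp he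
    by_contra hcon
    apply hne
    apply hN e heN
    by_cases h1 : (ends e).1 ∈ A
    · by_cases h2 : (ends e).2 ∈ B
      · exact Or.inl ⟨hA h1, hB h2⟩
      · exfalso; apply hcon
        have : (ends e).1 ∉ B := fun h => Finset.disjoint_left.mp hd (hA h1) (hB h)
        rw [chi_of_not_mem h2, chi_of_not_mem this]; ring
    · by_cases h2 : (ends e).1 ∈ B
      · by_cases h3 : (ends e).2 ∈ A
        · exact Or.inr ⟨hB h2, hA h3⟩
        · exfalso; apply hcon
          rw [chi_of_not_mem h1, chi_of_not_mem h3]; ring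
      · exfalso; apply hcon
        rw [chi_of_not_mem h1, chi_of_not_mem h2]; ring
  · intro h
    exact absurd (Finset.mem_compl.mpr he0N) h

theorem glue (S1 S2 : Finset V) (hd : Disjoint S1 S2) (ψ : V → ℝ) (m : V → ℤ)
    (N : Finset E) (e0 : E) (s0 w0 : V) (hs0 : s0 ∈ S1) (hw0 : w0 ∈ S2)
    (he0 : ends e0 = (s0, w0) ∨ ends e0 = (w0, s0)) (he0N : e0 ∉ N)
    (hN : ∀ e, e ∉ N → (((ends e).1 ∈ S1 ∧ (ends e).2 ∈ S2) ∨ ((ends e).1 ∈ S2 ∧ (ends e).2 ∈ S1)) →
      e = e0)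
    (x : ℝ) (hx0 : 0 ≤ x) (hx1 : x ≤ 1)
    (h1 : RelSS ends S1 (fun v => ψ v - (1/2) * cnt ends S2 v + x * chi {s0} v) m N)
    (h2 : RelSS ends S2 (fun v => ψ v - (1/2) * cnt ends S1 v + (1 - x) * chi {w0} v) m N) :
    RelSS ends (S1 ∪ S2) ψ m N := by
  constructor
  · rw [glue_eq ends S1 S2 S1 S2 hd subset_rfl subset_rfl ψ m N s0 w0 x,
      corr_eq ends S1 S2 S1 S2 hd subset_rfl subset_rfl N e0 s0 w0 hs0 hw0 he0 he0N hN,
      h1.1, h2.1, chi_of_mem hs0, chi_of_mem hw0]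
    ring
  · intro T hT
    have hTeq : T = (T ∩ S1) ∪ (T ∩ S2) := by
      rw [← Finset.inter_union_distrib_left]
      exact (Finset.inter_eq_left.mpr hT).symm
    rw [hTeq, glue_eq ends S1 S2 (T ∩ S1) (T ∩ S2) hd Finset.inter_subset_right
      Finset.inter_subset_right ψ m N s0 w0 x,
      corr_eq ends S1 S2 (T ∩ S1) (T ∩ S2) hd Finset.inter_subset_right Finset.inter_subset_right
        N e0 s0 w0 hs0 hw0 he0 he0N hN]
    have ha := h1.2 (T ∩ S1) Finset.inter_subset_right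
    have hb := h2.2 (T ∩ S2) Finset.inter_subset_right
    rcases chi_cases (T ∩ S1) s0 with h | h <;> rcases chi_cases (T ∩ S2) w0 with h' | h' <;>
      rw [h, h'] <;> nlinarith

/-- tree-like construction of a vertex set, along edges of `F` -/
inductive Build (F : Finset E) : Finset V → Prop
  | single (v : V) : Build F {v}
  | step (S1 : Finset V) (u : V) (e0 : E) (s0 : V) : Build F S1 → u ∉ S1 → s0 ∈ S1 → e0 ∈ F →
      (ends e0 = (s0, u) ∨ ends e0 = (u, s0)) →
      (∀ e ∈ F, (((ends e).1 ∈ S1 ∧ (ends e).2 = u) ∨ ((ends e).1 = u ∧ (ends e).2 ∈ S1)) → e = e0) →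
      Build F (insert u S1)

theorem exists_relSS {F : Finset E} {S : Finset V} (hB : Build ends F S) :
    ∀ ψ : V → ℝ, (∃ k : ℤ, (k : ℝ) = (∑ v ∈ S, ψ v) -
        ∑ e ∈ Fᶜ, chi S (ends e).1 * chi S (ends e).2) →
      ∃ m : V → ℤ, RelSS ends S ψ m Fᶜ := by
  induction hB with
  | single v =>
    rintro ψ ⟨k, hk⟩
    have htot : hrel ends {v} ψ (fun _ => k) Fᶜ {v} = 0 := by
      rw [hrel_self, Finset.sum_singleton, hk, Finset.sum_singleton]; ring
    refine ⟨fun _ => k, htot, ?_⟩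
    intro A hA
    rcases Finset.subset_singleton_iff.mp hA with rfl | rfl
    · rw [hrel_empty]
    · rw [htot]
  | step S1 u e0 s0 hB1 hu hs0 he0F he0 huniq ih =>
    rintro ψ ⟨k, hk⟩
    have hd : Disjoint S1 {u} := Finset.disjoint_singleton_right.mpr hu
    have hSeq : insert u S1 = S1 ∪ {u} := by
      rw [Finset.union_comm]; rfl
    set y : ℝ := (∑ v ∈ S1, ψ v) - (1/2) * (∑ v ∈ S1, cnt ends {u} v) -
      ∑ e ∈ Fᶜ, chi S1 (ends e).1 * chi S1 (ends e).2 with hy
    set x : ℝ := (⌈y⌉ : ℝ) - y with hx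
    have hx0 : 0 ≤ x := by rw [hx]; linarith [Int.le_ceil y]
    have hx1 : x ≤ 1 := by rw [hx]; linarith [Int.ceil_lt_add_one y]
    set ψ1 : V → ℝ := fun v => ψ v - (1/2) * cnt ends {u} v + x * chi {s0} v with hψ1
    set ψ2 : V → ℝ := fun v => ψ v - (1/2) * cnt ends S1 v + (1 - x) * chi {u} v with hψ2
    have hsum1 : (∑ v ∈ S1, ψ1 v) = (∑ v ∈ S1, ψ v) - (1/2) * (∑ v ∈ S1, cnt ends {u} v) + x := by
      simp only [hψ1, Finset.sum_add_distrib, Finset.sum_sub_distrib, ← Finset.mul_sum]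
      congr 1
      rw [← sum_chi_mul S1 (chi {s0}), Finset.sum_congr rfl (fun v _ => mul_comm _ _),
        sum_chi_mul, Finset.sum_singleton, chi_of_mem hs0, mul_one]
    obtain ⟨m1, hm1⟩ := ih ψ1 ⟨⌈y⌉, by rw [hsum1]; rw [hx, hy]; ring⟩
    have hm1sum : (∑ v ∈ S1, (m1 v : ℝ)) = (⌈y⌉ : ℝ) := by
      have := hm1.1
      rw [hrel_self, Finset.sum_sub_distrib, hsum1] at this
      rw [hx, hy] at this
      linarith
    set m : V → ℤ := Function.update m1 u (k - ⌈y⌉) with hm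
    have hmu : m u = k - ⌈y⌉ := by rw [hm, Function.update_self]
    have hmS1 : ∀ v ∈ S1, m v = m1 v := by
      intro v hv
      have hvu : v ≠ u := fun h => hu (h ▸ hv)
      rw [hm, Function.update_of_ne hvu]
    have hN : ∀ e, e ∉ Fᶜ → (((ends e).1 ∈ S1 ∧ (ends e).2 ∈ ({u} : Finset V)) ∨
        ((ends e).1 ∈ ({u} : Finset V) ∧ (ends e).2 ∈ S1)) → e = e0 := by
      intro e he hcr
      have heF : e ∈ F := by
        by_contra h; exact he (Finset.mem_compl.mpr h)
      simp only [Finset.mem_singleton] at hcr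
      exact huniq e heF hcr
    have he0N : e0 ∉ Fᶜ := fun h => (Finset.mem_compl.mp h) he0F
    have hR1 : RelSS ends S1 ψ1 m Fᶜ := by
      refine ⟨?_, fun A hA => ?_⟩
      · rw [hrel_congr ends S1 ψ1 ψ1 m m1 Fᶜ S1 (fun _ _ => rfl) hmS1]; exact hm1.1
      · rw [hrel_congr ends S1 ψ1 ψ1 m m1 Fᶜ A (fun _ _ => rfl) (fun v hv => hmS1 v (hA hv))]
        exact hm1.2 A hA
    have htot : hrel ends (S1 ∪ {u}) ψ m Fᶜ (S1 ∪ {u}) = 0 := by
      rw [← hSeq, hrel_self, Finset.sum_sub_distrib, Finset.sum_insert hu,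
        Finset.sum_congr rfl (fun v hv => by rw [hmS1 v hv]), hm1sum, hmu]
      push_cast
      linarith
    have hR2tot : hrel ends {u} ψ2 m Fᶜ {u} = 0 := by
      have h := glue_eq ends S1 {u} S1 {u} hd subset_rfl subset_rfl ψ m Fᶜ s0 u x
      rw [corr_eq ends S1 {u} S1 {u} hd subset_rfl subset_rfl Fᶜ e0 s0 u hs0
        (Finset.mem_singleton_self u) he0 he0N hN, htot, hR1.1, chi_of_mem hs0,
        chi_of_mem (Finset.mem_singleton_self u)] at h
      linarith
    have hR2 : RelSS ends {u} ψ2 m Fᶜ := by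
      refine ⟨hR2tot, fun A hA => ?_⟩
      rcases Finset.subset_singleton_iff.mp hA with rfl | rfl
      · rw [hrel_empty]
      · rw [hR2tot]
    refine ⟨m, ?_⟩
    rw [hSeq]
    exact glue ends S1 {u} hd ψ m Fᶜ e0 s0 u hs0 (Finset.mem_singleton_self u) he0 he0N hN x hx0 hx1
      hR1 hR2

end Groth.Agent.Lib.Helper31.PhiSt
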