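import Mathlib
import Groth.Agent.Lib.Helper31.PhiA

/-!
# Connectivity of induced subgraphs at the level of finsets, components
-/

set_option autoImplicit false
set_option linter.unusedSectionVars false
set_option linter.unnecessarySeqFocus false
universe u

namespace Groth.Agent.Lib.Helper31.PhiSt

open PhiStab LabGraph Relation

variable {V E : Type u} [Fintype V] [Fintype E] [DecidableEq V] [DecidableEq E]
  (ends : E → V × V)

/-- adjacency inside `W` -/
def AdjIn (W : Finset V) (u v : V) : Prop := u ∈ W ∧ v ∈ W ∧ LabGraph.Adj ends u v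

/-- the induced subgraph on `W` is connected -/
def FConn (W : Finset V) : Prop :=
  W.Nonempty ∧ ∀ u ∈ W, ∀ v ∈ W, ReflTransGen (AdjIn ends W) u v

variable {ends}

lemma adj_symm' {u v : V} (h : LabGraph.Adj ends u v) : LabGraph.Adj ends v u := by
  obtain ⟨e, he⟩ := h
  exact ⟨e, he.symm⟩

lemma adjIn_symm {W : Finset V} {u v : V} (h : AdjIn ends W u v) : AdjIn ends W v u :=
  ⟨h.2.1, h.1, adj_symm' h.2.2⟩

lemma reachIn_symm {W : Finset V} {u v : V} (h : ReflTransGen (AdjIn ends W) u v) :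
    ReflTransGen (AdjIn ends W) v u := by
  induction h with
  | refl => exact ReflTransGen.refl
  | tail _ hbc ih => exact ReflTransGen.head (adjIn_symm hbc) ih

lemma adjIn_mono {W W' : Finset V} (h : W ⊆ W') {u v : V} (huv : AdjIn ends W u v) :
    AdjIn ends W' u v := ⟨h huv.1, h huv.2.1, huv.2.2⟩

lemma reachIn_mono {W W' : Finset V} (h : W ⊆ W') {u v : V}
    (huv : ReflTransGen (AdjIn ends W) u v) : ReflTransGen (AdjIn ends W') u v :=
  ReflTransGen.mono (fun _ _ => adjIn_mono h) _ _ huv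

lemma reachIn_mem {W : Finset V} {u v : V} (huv : ReflTransGen (AdjIn ends W) u v) (hu : u ∈ W) :
    v ∈ W := by
  induction huv with
  | refl => exact hu
  | tail _ hbc _ => exact hbc.2.1

/-! ### bridge with `indEnds` -/

lemma adj_indEnds_iff (W : Finset V) (a b : {v : V // v ∈ W}) :
    LabGraph.Adj (indEnds ends W) a b ↔ LabGraph.Adj ends a.1 b.1 := by
  constructor
  · rintro ⟨e, he⟩
    refine ⟨e.1, ?_⟩
    rcases he with he | he
    · left
      have h1 := congrArg (fun p => (p.1.1, p.2.1)) he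
      simpa [indEnds] using h1
    · right
      have h1 := congrArg (fun p => (p.1.1, p.2.1)) he
      simpa [indEnds] using h1
  · rintro ⟨e, he⟩
    have hmem : e ∈ PhiStab.inner ends W := by
      unfold PhiStab.inner
      rw [Finset.mem_filter]
      refine ⟨Finset.mem_univ _, ?_⟩
      rcases he with he | he <;> rw [he] <;> simp [a.2, b.2]
    refine ⟨⟨e, hmem⟩, ?_⟩
    rcases he with he | he
    · left
      apply Prod.ext <;> apply Subtype.ext <;> simp [indEnds, he]
    · right
      apply Prod.ext <;> apply Subtype.ext <;> simp [indEnds, he]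

lemma fconn_iff_connected (W : Finset V) :
    FConn ends W ↔ LabGraph.Connected (indEnds ends W) := by
  constructor
  · rintro ⟨hne, h⟩
    refine ⟨?_, ?_⟩
    · obtain ⟨v, hv⟩ := hne
      exact ⟨⟨v, hv⟩⟩
    · have lift : ∀ {a b : V}, ReflTransGen (AdjIn ends W) a b → ∀ (ha : a ∈ W),
          ∃ hb : b ∈ W, ReflTransGen (LabGraph.Adj (indEnds ends W)) ⟨a, ha⟩ ⟨b, hb⟩ := by
        intro a b hab
        induction hab with
        | refl => intro ha; exact ⟨ha, ReflTransGen.refl⟩
        | tail _ hbc ih =>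
          intro ha
          obtain ⟨hb, hr⟩ := ih ha
          refine ⟨hbc.2.1, hr.tail ?_⟩
          rw [adj_indEnds_iff]
          exact hbc.2.2
      intro a b
      obtain ⟨_, hr⟩ := lift (h a.1 a.2 b.1 b.2) a.2
      exact hr
  · rintro ⟨⟨v⟩, h⟩
    refine ⟨⟨v.1, v.2⟩, ?_⟩
    intro a ha b hb
    have := h ⟨a, ha⟩ ⟨b, hb⟩
    exact ReflTransGen.lift (fun x : {v : V // v ∈ W} => x.1)
      (fun x y hxy => ⟨x.2, y.2, (adj_indEnds_iff W x y).mp hxy⟩) _ _ this

lemma isElementary_iff (S : Finset V) :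
    IsElementary ends S ↔ FConn ends S ∧ FConn ends Sᶜ := by
  unfold IsElementary
  rw [fconn_iff_connected, fconn_iff_connected]

/-! ### components -/

variable (ends)

open scoped Classical in
/-- the connected component of `u` in the induced subgraph on `W` -/
noncomputable def comp (W : Finset V) (u : V) : Finset V :=
  W.filter (fun v => ReflTransGen (AdjIn ends W) u v)

variable {ends}

lemma mem_comp {W : Finset V} {u v : V} :
    v ∈ comp ends W u ↔ v ∈ W ∧ ReflTransGen (AdjIn ends W) u v := by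
  unfold comp
  simp

lemma self_mem_comp {W : Finset V} {u : V} (hu : u ∈ W) : u ∈ comp ends W u :=
  mem_comp.mpr ⟨hu, ReflTransGen.refl⟩

lemma comp_subset (W : Finset V) (u : V) : comp ends W u ⊆ W :=
  fun _ hv => (mem_comp.mp hv).1

lemma comp_closed {W : Finset V} {u v v' : V} (hv : v ∈ comp ends W u) (hv' : v' ∈ W)
    (hadj : LabGraph.Adj ends v v') : v' ∈ comp ends W u := by
  obtain ⟨hvW, hr⟩ := mem_comp.mp hv
  exact mem_comp.mpr ⟨hv', hr.tail ⟨hvW, hv', hadj⟩⟩

lemma reach_in_comp {W : Finset V} {u a : V} (hu : u ∈ W)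
    (h : ReflTransGen (AdjIn ends W) u a) : ReflTransGen (AdjIn ends (comp ends W u)) u a := by
  induction h with
  | refl => exact ReflTransGen.refl
  | tail hub hbc ih =>
    refine ih.tail ⟨mem_comp.mpr ⟨reachIn_mem hub hu, hub⟩, mem_comp.mpr ⟨hbc.2.1, hub.tail hbc⟩,
      hbc.2.2⟩

lemma comp_fconn {W : Finset V} {u : V} (hu : u ∈ W) : FConn ends (comp ends W u) := by
  refine ⟨⟨u, self_mem_comp hu⟩, ?_⟩
  intro a ha b hb
  have h1 := reach_in_comp hu (mem_comp.mp ha).2
  have h2 := reach_in_comp hu (mem_comp.mp hb).2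
  exact (reachIn_symm h1).trans h2

/-- no edges between `T1` and `T2` -/
def NoCross (ends : E → V × V) (T1 T2 : Finset V) : Prop :=
  ∀ e : E, ¬ ((ends e).1 ∈ T1 ∧ (ends e).2 ∈ T2) ∧ ¬ ((ends e).1 ∈ T2 ∧ (ends e).2 ∈ T1)

/-- `W ⊆ D` is a union of components of `D` -/
def ClosedIn (ends : E → V × V) (D W : Finset V) : Prop :=
  W ⊆ D ∧ ∀ v ∈ W, ∀ v' ∈ D, LabGraph.Adj ends v v' → v' ∈ W

lemma closedIn_self (D : Finset V) : ClosedIn ends D D :=
  ⟨subset_rfl, fun _ _ _ hv' _ => hv'⟩

lemma comp_subset_of_closedIn {D W : Finset V} (hW : ClosedIn ends D W) {u : V} (hu : u ∈ W) :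
    comp ends D u ⊆ W := by
  intro v hv
  have hr := (mem_comp.mp hv).2
  induction hr with
  | refl => exact hu
  | tail hub hbc ih =>
    have hb : _ ∈ comp ends D u := mem_comp.mpr ⟨hbc.1, hub⟩
    exact hW.2 _ (ih hb) _ hbc.2.1 hbc.2.2

lemma closedIn_sdiff_comp {D W : Finset V} (hW : ClosedIn ends D W) (u : V) :
    ClosedIn ends D (W \ comp ends D u) := by
  refine ⟨Finset.sdiff_subset.trans hW.1, ?_⟩
  intro v hv v' hv' hadj
  rw [Finset.mem_sdiff] at hv ⊢
  refine ⟨hW.2 v hv.1 v' hv' hadj, fun h => hv.2 ?_⟩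
  exact comp_closed h (hW.1 hv.1) (adj_symm' hadj)

lemma noCross_comp {D W : Finset V} (hW : W ⊆ D) (u : V) :
    NoCross ends (comp ends D u) (W \ comp ends D u) := by
  intro e
  constructor
  · rintro ⟨h1, h2⟩
    rw [Finset.mem_sdiff] at h2
    exact h2.2 (comp_closed h1 (hW h2.1) ⟨e, Or.inl rfl⟩)
  · rintro ⟨h1, h2⟩
    rw [Finset.mem_sdiff] at h1
    exact h1.2 (comp_closed h2 (hW h1.1) ⟨e, Or.inr rfl⟩)

/-- the complement of a component of the complement of a connected set is connected -/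
lemma fconn_compl_comp (hconn : LabGraph.Connected ends) {C : Finset V} (hC : FConn ends C)
    (u : V) : FConn ends (comp ends Cᶜ u)ᶜ := by
  set U := comp ends Cᶜ u with hU
  have hCU : C ⊆ Uᶜ := by
    intro c hc
    rw [Finset.mem_compl]
    intro h
    have := comp_subset Cᶜ u h
    exact (Finset.mem_compl.mp this) hc
  obtain ⟨c0, hc0⟩ := hC.1
  -- every vertex of `Uᶜ` reaches `C` inside `Uᶜ`
  have key : ∀ z : V, ReflTransGen (LabGraph.Adj ends) z c0 → z ∈ Uᶜ →
      ∃ c ∈ C, ReflTransGen (AdjIn ends Uᶜ) z c := by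
    intro z hz
    induction hz using ReflTransGen.head_induction_on with
    | refl => intro _; exact ⟨c0, hc0, ReflTransGen.refl⟩
    | @head z z' hzz' _ ih =>
      intro hzU
      by_cases hzC : z ∈ C
      · exact ⟨z, hzC, ReflTransGen.refl⟩
      · have hz'U : z' ∈ Uᶜ := by
          rw [Finset.mem_compl]
          intro h
          have : z ∈ U := comp_closed h (Finset.mem_compl.mpr hzC) (adj_symm' hzz')
          exact (Finset.mem_compl.mp hzU) this
        obtain ⟨c, hc, hr⟩ := ih hz'U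
        exact ⟨c, hc, ReflTransGen.head ⟨hzU, hz'U, hzz'⟩ hr⟩
  refine ⟨⟨c0, hCU hc0⟩, ?_⟩
  intro a ha b hb
  obtain ⟨ca, hca, hra⟩ := key a (hconn.2 a c0) ha
  obtain ⟨cb, hcb, hrb⟩ := key b (hconn.2 b c0) hb
  have hmid : ReflTransGen (AdjIn ends Uᶜ) ca cb := reachIn_mono hCU (hC.2 ca hca cb hcb)
  exact (hra.trans hmid).trans (reachIn_symm hrb)

end Groth.Agent.Lib.Helper31.PhiSt
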