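import Mathlib
import Groth.Agent.Lib.Helper31.PhiB
import Groth.Agent.Lib.Helper31.PhiD

/-!
# Reduction of (semi)stability to elementary vertex sets
-/

set_option autoImplicit false
set_option linter.unusedSectionVars false
set_option linter.unnecessarySeqFocus false
universe u

namespace Groth.Agent.Lib.Helper31.PhiSt

open PhiStab LabGraph Relation

variable {V E : Type u} [Fintype V] [Fintype E] [DecidableEq V] [DecidableEq E]
  (ends : E → V × V)

/-- the absolute slack -/
noncomputable abbrev habs (φ : V → ℝ) (m : V → ℤ) (N : Finset E) (T : Finset V) : ℝ :=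
  hrel ends Finset.univ φ m N T

/-- number of edges outside `N` in the cut of `T` -/
noncomputable def kfun (N : Finset E) (T : Finset V) : ℝ :=
  ∑ e ∈ Nᶜ, (chi T (ends e).1 - chi T (ends e).2) ^ 2

variable {ends}

omit [Fintype V] in
lemma chi_mul_eq_zero_of_disjoint {T1 T2 : Finset V} (hd : Disjoint T1 T2) (v : V) :
    chi T1 v * chi T2 v = 0 := by
  by_cases h : v ∈ T1
  · rw [chi_of_not_mem (Finset.disjoint_left.mp hd h), mul_zero]
  · rw [chi_of_not_mem h, zero_mul]

omit [Fintype V] in
lemma chi_mul_eq_zero_of_noCross {T1 T2 : Finset V} (hnc : NoCross ends T1 T2) (e : E) :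
    chi T1 (ends e).1 * chi T2 (ends e).2 = 0 ∧ chi T2 (ends e).1 * chi T1 (ends e).2 = 0 := by
  obtain ⟨h1, h2⟩ := hnc e
  constructor
  · by_cases h : (ends e).1 ∈ T1
    · have : (ends e).2 ∉ T2 := fun h' => h1 ⟨h, h'⟩
      rw [chi_of_not_mem this, mul_zero]
    · rw [chi_of_not_mem h, zero_mul]
  · by_cases h : (ends e).1 ∈ T2
    · have : (ends e).2 ∉ T1 := fun h' => h2 ⟨h, h'⟩
      rw [chi_of_not_mem this, mul_zero]
    · rw [chi_of_not_mem h, zero_mul]

lemma habs_add (φ : V → ℝ) (m : V → ℤ) (N : Finset E) {T1 T2 : Finset V} (hd : Disjoint T1 T2)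
    (hnc : NoCross ends T1 T2) :
    habs ends φ m N (T1 ∪ T2) = habs ends φ m N T1 + habs ends φ m N T2 := by
  unfold habs hrel
  rw [sum_nu N (fun e => chi (T1 ∪ T2) (ends e).1 * chi (T1 ∪ T2) (ends e).2),
    sum_nu N (fun e => chi T1 (ends e).1 * chi T1 (ends e).2),
    sum_nu N (fun e => chi T2 (ends e).1 * chi T2 (ends e).2)]
  have hv : ∑ v, chi (T1 ∪ T2) v * ((m v : ℝ) - φ v) =
      (∑ v, chi T1 v * ((m v : ℝ) - φ v)) + ∑ v, chi T2 v * ((m v : ℝ) - φ v) := by
    rw [← Finset.sum_add_distrib]
    refine Finset.sum_congr rfl fun v _ => ?_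
    rw [chi_union hd]; ring
  rw [hv]
  have key : ∀ e : E,
      nu N e * (chi (T1 ∪ T2) (ends e).1 * chi (T1 ∪ T2) (ends e).2) +
        (1/2) * (chi Finset.univ (ends e).1 * chi Finset.univ (ends e).2 *
          (chi (T1 ∪ T2) (ends e).1 - chi (T1 ∪ T2) (ends e).2) ^ 2) =
      nu N e * (chi T1 (ends e).1 * chi T1 (ends e).2)
      + (1/2) * (chi Finset.univ (ends e).1 * chi Finset.univ (ends e).2 *
          (chi T1 (ends e).1 - chi T1 (ends e).2) ^ 2)
      + nu N e * (chi T2 (ends e).1 * chi T2 (ends e).2)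
      + (1/2) * (chi Finset.univ (ends e).1 * chi Finset.univ (ends e).2 *
          (chi T2 (ends e).1 - chi T2 (ends e).2) ^ 2) := by
    intro e
    rw [chi_union hd, chi_union hd, chi_univ, chi_univ]
    obtain ⟨h12, h21⟩ := chi_mul_eq_zero_of_noCross hnc e
    have hp := chi_mul_eq_zero_of_disjoint hd (ends e).1
    have hq := chi_mul_eq_zero_of_disjoint hd (ends e).2
    linear_combination (nu N e - 1) * h12 + (nu N e - 1) * h21 + hp + hq
  have hsum := Finset.sum_congr (s₁ := (Finset.univ : Finset E)) rfl (fun e _ => key e)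
  simp only [Finset.sum_add_distrib, ← Finset.mul_sum] at hsum
  linarith

lemma kfun_add (N : Finset E) {T1 T2 : Finset V} (hd : Disjoint T1 T2)
    (hnc : NoCross ends T1 T2) :
    kfun ends N (T1 ∪ T2) = kfun ends N T1 + kfun ends N T2 := by
  unfold kfun
  rw [← Finset.sum_add_distrib]
  refine Finset.sum_congr rfl fun e _ => ?_
  rw [chi_union hd, chi_union hd]
  obtain ⟨h12, h21⟩ := chi_mul_eq_zero_of_noCross hnc e
  have hp := chi_mul_eq_zero_of_disjoint hd (ends e).1
  have hq := chi_mul_eq_zero_of_disjoint hd (ends e).2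
  linear_combination (-2 : ℝ) * h12 + (-2 : ℝ) * h21 + 2 * hp + 2 * hq

lemma kfun_compl (N : Finset E) (T : Finset V) : kfun ends N Tᶜ = kfun ends N T := by
  unfold kfun
  refine Finset.sum_congr rfl fun e _ => ?_
  rw [chi_compl, chi_compl]; ring

lemma kfun_empty (N : Finset E) : kfun ends N (∅ : Finset V) = 0 := by
  unfold kfun
  simp [chi_empty]

/-- complement formula -/
lemma habs_add_compl (φ : V → ℝ) (m : V → ℤ) (N : Finset E)
    (hdeg : (∑ v : V, φ v) = (totDeg m N : ℝ)) (T : Finset V) :
    habs ends φ m N T + habs ends φ m N Tᶜ = kfun ends N T := by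
  unfold habs hrel kfun
  rw [sum_nu N (fun e => chi T (ends e).1 * chi T (ends e).2),
    sum_nu N (fun e => chi Tᶜ (ends e).1 * chi Tᶜ (ends e).2), sum_compl_nu N]
  have hv : (∑ v, chi T v * ((m v : ℝ) - φ v)) + ∑ v, chi Tᶜ v * ((m v : ℝ) - φ v) =
      - ∑ e : E, nu N e := by
    rw [← Finset.sum_add_distrib]
    have : ∀ v, chi T v * ((m v : ℝ) - φ v) + chi Tᶜ v * ((m v : ℝ) - φ v) = (m v : ℝ) - φ v := by
      intro v; rw [chi_compl]; ring
    rw [Finset.sum_congr rfl (fun v _ => this v), Finset.sum_sub_distrib, hdeg]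
    unfold totDeg
    push_cast
    have : ∑ e : E, nu N e = (N.card : ℝ) := by
      unfold nu
      rw [Finset.sum_ite_mem, Finset.univ_inter]
      simp
    rw [this]; ring
  have key : ∀ e : E,
      nu N e * (chi T (ends e).1 * chi T (ends e).2) +
        (1/2) * (chi Finset.univ (ends e).1 * chi Finset.univ (ends e).2 *
          (chi T (ends e).1 - chi T (ends e).2) ^ 2) +
      (nu N e * (chi Tᶜ (ends e).1 * chi Tᶜ (ends e).2) +
        (1/2) * (chi Finset.univ (ends e).1 * chi Finset.univ (ends e).2 *
          (chi Tᶜ (ends e).1 - chi Tᶜ (ends e).2) ^ 2)) - nu N e =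
      (1 - nu N e) * (chi T (ends e).1 - chi T (ends e).2) ^ 2 := by
    intro e
    rw [chi_compl, chi_compl, chi_univ, chi_univ]
    rcases chi_cases T (ends e).1 with h1 | h1 <;> rcases chi_cases T (ends e).2 with h2 | h2 <;>
      rw [h1, h2] <;> ring
  have hsum := Finset.sum_congr (s₁ := (Finset.univ : Finset E)) rfl (fun e _ => key e)
  simp only [Finset.sum_add_distrib, Finset.sum_sub_distrib, ← Finset.mul_sum] at hsum
  linarith

/-- sum of the slacks of a list of vertex sets -/
noncomputable def lsum (φ : V → ℝ) (m : V → ℤ) (N : Finset E) (L : List (Finset V)) : ℝ :=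
  (L.map (habs ends φ m N)).sum

lemma lsum_append (φ : V → ℝ) (m : V → ℤ) (N : Finset E) (L1 L2 : List (Finset V)) :
    lsum (ends := ends) φ m N (L1 ++ L2) = lsum (ends := ends) φ m N L1 + lsum (ends := ends) φ m N L2 := by
  unfold lsum
  rw [List.map_append, List.sum_append]

/-- first step: the slack of the complement of a closed subset of `Cᶜ`, `C` connected -/
theorem decomp_closed (hconn : LabGraph.Connected ends) (φ : V → ℝ) (m : V → ℤ) (N : Finset E)
    (hdeg : (∑ v : V, φ v) = (totDeg m N : ℝ)) {C : Finset V} (hC : FConn ends C) :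
    ∀ W : Finset V, ClosedIn ends Cᶜ W →
      ∃ L : List (Finset V), (W.Nonempty → L ≠ []) ∧ (∀ S ∈ L, IsElementary ends S) ∧
        kfun ends N W - habs ends φ m N W = lsum (ends := ends) φ m N L := by
  intro W
  induction W using Finset.strongInduction with
  | H W ih =>
    intro hW
    by_cases hne : W.Nonempty
    swap
    · rw [Finset.not_nonempty_iff_eq_empty] at hne
      subst hne
      refine ⟨[], fun h => absurd h (by simp), by simp, ?_⟩
      rw [kfun_empty, habs, hrel_empty]
      simp [lsum]
    · obtain ⟨u, hu⟩ := hne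
      set U := comp ends Cᶜ u with hU
      have huD : u ∈ Cᶜ := hW.1 hu
      have hUW : U ⊆ W := comp_subset_of_closedIn hW hu
      have hUne : U.Nonempty := ⟨u, self_mem_comp huD⟩
      have hss : W \ U ⊂ W := Finset.sdiff_ssubset hUW hUne
      obtain ⟨L, -, hLel, hLsum⟩ := ih (W \ U) hss (closedIn_sdiff_comp hW u)
      have hWeq : W = U ∪ (W \ U) := (Finset.union_sdiff_of_subset hUW).symm
      have hd : Disjoint U (W \ U) := Finset.disjoint_sdiff
      have hnc : NoCross ends U (W \ U) := noCross_comp hW.1 u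
      have hel : IsElementary ends Uᶜ := by
        rw [isElementary_iff, compl_compl]
        exact ⟨fconn_compl_comp hconn hC u, comp_fconn huD⟩
      refine ⟨Uᶜ :: L, fun _ => by simp, ?_, ?_⟩
      · intro S hS
        rcases List.mem_cons.mp hS with rfl | hS
        · exact hel
        · exact hLel S hS
      · have h1 := habs_add_compl (ends := ends) φ m N hdeg U
        have h2 := habs_add (ends := ends) φ m N hd hnc
        have h3 := kfun_add (ends := ends) N hd hnc
        rw [← hWeq] at h2 h3
        have : lsum (ends := ends) φ m N (Uᶜ :: L) =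
            habs ends φ m N Uᶜ + lsum (ends := ends) φ m N L := by
          simp [lsum]
        rw [this, ← hLsum]
        linarith

/-- the slack of any proper vertex set is a sum of slacks of elementary sets -/
theorem decomp (hconn : LabGraph.Connected ends) (φ : V → ℝ) (m : V → ℤ) (N : Finset E)
    (hdeg : (∑ v : V, φ v) = (totDeg m N : ℝ)) :
    ∀ T : Finset V, T ≠ Finset.univ →
      ∃ L : List (Finset V), (T.Nonempty → L ≠ []) ∧ (∀ S ∈ L, IsElementary ends S) ∧
        habs ends φ m N T = lsum (ends := ends) φ m N L := by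
  intro T
  induction T using Finset.strongInduction with
  | H T ih =>
    intro hTu
    by_cases hne : T.Nonempty
    swap
    · rw [Finset.not_nonempty_iff_eq_empty] at hne
      subst hne
      refine ⟨[], fun h => absurd h (by simp), by simp, ?_⟩
      rw [habs, hrel_empty]
      simp [lsum]
    · obtain ⟨u, hu⟩ := hne
      set C := comp ends T u with hCdef
      have hCT : C ⊆ T := comp_subset T u
      have hCne : C.Nonempty := ⟨u, self_mem_comp hu⟩
      have hCconn : FConn ends C := comp_fconn hu
      have hCu : C ≠ Finset.univ := by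
        intro h
        apply hTu
        rw [Finset.eq_univ_iff_forall] at h ⊢
        exact fun v => hCT (h v)
      have hss : T \ C ⊂ T := Finset.sdiff_ssubset hCT hCne
      have hT'u : T \ C ≠ Finset.univ := by
        intro h
        apply hTu
        rw [Finset.eq_univ_iff_forall] at h ⊢
        exact fun v => (Finset.mem_sdiff.mp (h v)).1
      obtain ⟨L2, -, hL2el, hL2sum⟩ := ih (T \ C) hss hT'u
      have hCcne : Cᶜ.Nonempty := by
        by_contra h
        rw [Finset.not_nonempty_iff_eq_empty, Finset.compl_eq_empty_iff] at h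
        exact hCu h
      obtain ⟨L1, hL1ne, hL1el, hL1sum⟩ :=
        decomp_closed hconn φ m N hdeg hCconn Cᶜ (closedIn_self _)
      have hTeq : T = C ∪ (T \ C) := (Finset.union_sdiff_of_subset hCT).symm
      have hd : Disjoint C (T \ C) := Finset.disjoint_sdiff
      have hnc : NoCross ends C (T \ C) := noCross_comp subset_rfl u
      refine ⟨L1 ++ L2, fun _ => ?_, ?_, ?_⟩
      · intro h
        exact hL1ne hCcne (List.append_eq_nil_iff.mp h).1
      · intro S hS
        rcases List.mem_append.mp hS with hS | hS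
        · exact hL1el S hS
        · exact hL2el S hS
      · have h1 := habs_add_compl (ends := ends) φ m N hdeg C
        have h2 := habs_add (ends := ends) φ m N hd hnc
        rw [← hTeq] at h2
        have h3 := kfun_compl (ends := ends) N C
        rw [lsum_append, ← hL1sum, ← hL2sum]
        linarith

lemma lsum_nonneg (φ : V → ℝ) (m : V → ℤ) (N : Finset E) (L : List (Finset V))
    (h : ∀ S ∈ L, 0 ≤ habs ends φ m N S) : 0 ≤ lsum (ends := ends) φ m N L := by
  unfold lsum
  apply List.sum_nonneg
  intro x hx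
  obtain ⟨S, hS, rfl⟩ := List.mem_map.mp hx
  exact h S hS

lemma lsum_pos (φ : V → ℝ) (m : V → ℤ) (N : Finset E) (L : List (Finset V)) (hne : L ≠ [])
    (h : ∀ S ∈ L, 0 < habs ends φ m N S) : 0 < lsum (ends := ends) φ m N L := by
  induction L with
  | nil => exact absurd rfl hne
  | cons S L ih =>
    have h1 : lsum (ends := ends) φ m N (S :: L) =
        habs ends φ m N S + lsum (ends := ends) φ m N L := by simp [lsum]
    rw [h1]
    have h2 : 0 < habs ends φ m N S := h S (List.mem_cons_self)
    have h3 : 0 ≤ lsum (ends := ends) φ m N L :=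
      lsum_nonneg φ m N L (fun S' hS' => (h S' (List.mem_cons_of_mem _ hS')).le)
    linarith

end Groth.Agent.Lib.Helper31.PhiSt

namespace Groth.Agent.Lib.Helper31.PhiSt

open PhiStab LabGraph Relation

variable {V E : Type u} [Fintype V] [Fintype E] [DecidableEq V] [DecidableEq E]
  {ends : E → V × V}

lemma IsElementary.nonempty {S : Finset V} (h : IsElementary ends S) : S.Nonempty :=
  ((isElementary_iff S).mp h).1.1

lemma IsElementary.ne_univ {S : Finset V} (h : IsElementary ends S) : S ≠ Finset.univ := by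
  intro hS
  obtain ⟨v, hv⟩ := ((isElementary_iff S).mp h).2.1
  rw [hS] at hv
  simp at hv

theorem semistable_iff_elementary (hconn : LabGraph.Connected ends) (φ : V → ℝ) (m : V → ℤ)
    (N : Finset E) (hdeg : (∑ v : V, φ v) = (totDeg m N : ℝ)) :
    IsSemistable ends φ m N ↔
      ∀ S : Finset V, IsElementary ends S → 0 ≤ habs ends φ m N S := by
  rw [isSemistable_iff]
  constructor
  · intro h S hS
    exact h S (IsElementary.nonempty hS) (IsElementary.ne_univ hS)
  · intro h T _ hTu
    obtain ⟨L, -, hLel, hLsum⟩ := decomp hconn φ m N hdeg T hTu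
    change 0 ≤ habs ends φ m N T
    rw [hLsum]
    exact lsum_nonneg φ m N L (fun S hS => h S (hLel S hS))

theorem stable_iff_elementary (hconn : LabGraph.Connected ends) (φ : V → ℝ) (m : V → ℤ)
    (N : Finset E) (hdeg : (∑ v : V, φ v) = (totDeg m N : ℝ)) :
    IsStable ends φ m N ↔
      ∀ S : Finset V, IsElementary ends S → 0 < habs ends φ m N S := by
  rw [isStable_iff]
  constructor
  · intro h S hS
    exact h S (IsElementary.nonempty hS) (IsElementary.ne_univ hS)
  · intro h T hTne hTu
    obtain ⟨L, hLne, hLel, hLsum⟩ := decomp hconn φ m N hdeg T hTu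
    change 0 < habs ends φ m N T
    rw [hLsum]
    exact lsum_pos φ m N L (hLne hTne) (fun S hS => h S (hLel S hS))

end Groth.Agent.Lib.Helper31.PhiSt
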