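import Mathlib
import Groth.Prelude.Def_W4c5modbuncurvesppStab
import Groth.Agent.Lib.Helper31.LabTree3

set_option autoImplicit false
set_option linter.unusedSectionVars false
universe u

namespace Groth.Agent.Lib.Helper31.PS

open LabGraph Groth.Agent.Lib.Helper31.LG Groth.Agent.Lib.Helper31.LT Matrix PhiStab

variable {V E : Type u} [Fintype V] [Fintype E] [DecidableEq V] [DecidableEq E]
  (ends : E → V × V)

theorem noEven_univ_of_forest (hF : DualGr.IsForest ends) : NoEven ends Finset.univ := by
  intro S _ hne hev
  obtain ⟨C, -, hC⟩ := exists_circuit_subset ends S hne hev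
  exact hF C hC

theorem isSpanningTree_univ (hT : DualGr.IsTree ends) : IsSpanningTree ends Finset.univ := by
  refine ⟨⟨hT.1.1, fun v w => ?_⟩, (forest_iff ends Finset.univ).mpr (noEven_univ_of_forest ends hT.2)⟩
  exact Relation.ReflTransGen.mono (fun a b ⟨e, he⟩ => ⟨⟨e, Finset.mem_univ e⟩, he⟩) v w
    (hT.1.2 v w)

theorem card_edges_of_tree (hT : DualGr.IsTree ends) : Fintype.card E + 1 = Fintype.card V := by
  classical
  obtain ⟨r⟩ := hT.1.1
  have h := (card_of_isSpanningTree ends r Finset.univ (isSpanningTree_univ ends hT)).1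
  rw [Finset.card_univ] at h
  rw [h, Fintype.card_subtype_compl, Fintype.card_subtype_eq]
  have : 0 < Fintype.card V := Fintype.card_pos_iff.mpr ⟨r⟩
  omega

theorem mem_side_iff (e : E) (v : V) :
    v ∈ side ends e ↔
      Relation.ReflTransGen (LabGraph.Adj (spanEnds ends (Finset.univ.erase e))) (ends e).1 v := by
  unfold side
  simp

theorem fst_mem_side (e : E) : (ends e).1 ∈ side ends e :=
  (mem_side_iff ends e _).mpr Relation.ReflTransGen.refl

theorem side_iff_of_ne (e e' : E) (hne : e' ≠ e) :
    (ends e').1 ∈ side ends e ↔ (ends e').2 ∈ side ends e := by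
  rw [mem_side_iff, mem_side_iff]
  have hmem : e' ∈ Finset.univ.erase e := Finset.mem_erase.mpr ⟨hne, Finset.mem_univ _⟩
  constructor
  · intro h; exact h.tail ⟨⟨e', hmem⟩, Or.inl rfl⟩
  · intro h; exact h.tail ⟨⟨e', hmem⟩, Or.inr rfl⟩

theorem snd_not_mem_side (hT : DualGr.IsTree ends) (e : E) : (ends e).2 ∉ side ends e := by
  intro h
  rw [mem_side_iff] at h
  obtain ⟨φ, hφ⟩ := exists_potential ends _ Finset.univ rfl (noEven_univ_of_forest ends hT.2)
    (fun x => if x = e then 1 else 0)
  have h0 : ∀ x ∈ Finset.univ.erase e, cob ends φ x = 0 := by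
    intro x hx
    rw [hφ x (Finset.mem_univ x), if_neg (Finset.ne_of_mem_erase hx)]
  have h1 := const_of_reach ends (Finset.univ.erase e) φ h0 h
  have h2 := hφ e (Finset.mem_univ e)
  rw [if_pos rfl] at h2
  unfold cob at h2
  omega

open scoped Classical in
theorem S18382 (hT : DualGr.IsTree ends) (c : E → ℝ) (c₀ : ℝ) :
    ∃! φ : V → ℝ, (∀ e : E, (∑ v ∈ side ends e, φ v) = c e) ∧ (∑ v : V, φ v) = c₀ := by
  have hcard : Fintype.card (Option E) = Fintype.card V := by
    rw [Fintype.card_option]; exact card_edges_of_tree ends hT
  let σ : Option E ≃ V := Fintype.equivOfCardEq hcard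
  let M : Matrix (Option E) V ℝ := fun o v =>
    match o with
    | some e => if v ∈ side ends e then 1 else 0
    | none => 1
  let M' : Matrix V V ℝ := fun v w => M (σ.symm v) w
  let b : Option E → ℝ := fun o =>
    match o with
    | some e => c e
    | none => c₀
  -- the system in matrix form
  have hsys : ∀ φ : V → ℝ, ((∀ e : E, (∑ v ∈ side ends e, φ v) = c e) ∧ (∑ v : V, φ v) = c₀) ↔
      M' *ᵥ φ = fun v => b (σ.symm v) := by
    intro φ
    have hrow : ∀ o : Option E, (∑ w, M o w * φ w) = match o with
        | some e => ∑ v ∈ side ends e, φ v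
        | none => ∑ v, φ v := by
      intro o
      cases o with
      | none => simp [M]
      | some e =>
        simp only [M]
        rw [← Finset.sum_filter_add_sum_filter_not Finset.univ (fun w => w ∈ side ends e)]
        have h1 : ∑ x ∈ Finset.univ.filter (fun w => w ∈ side ends e),
            (if x ∈ side ends e then (1:ℝ) else 0) * φ x = ∑ v ∈ side ends e, φ v := by
          rw [Finset.filter_mem_eq_inter, Finset.univ_inter]
          refine Finset.sum_congr rfl fun x hx => ?_
          rw [if_pos hx, one_mul]
        have h2 : ∑ x ∈ Finset.univ.filter (fun w => ¬ w ∈ side ends e),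
            (if x ∈ side ends e then (1:ℝ) else 0) * φ x = 0 := by
          refine Finset.sum_eq_zero fun x hx => ?_
          rw [if_neg (Finset.mem_filter.mp hx).2, zero_mul]
        rw [h1, h2, add_zero]
    constructor
    · rintro ⟨h1, h2⟩
      funext v
      simp only [Matrix.mulVec, dotProduct, M']
      rw [hrow]
      cases h : σ.symm v with
      | none => simp only [b]; exact h2
      | some e => simp only [b]; exact h1 e
    · intro h
      have h' : ∀ o : Option E, (∑ w, M o w * φ w) = b o := by
        intro o
        have := congrFun h (σ o)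
        simp only [Matrix.mulVec, dotProduct, M', Equiv.symm_apply_apply] at this
        exact this
      refine ⟨fun e => ?_, ?_⟩
      · exact (hrow (some e)).symm.trans (h' (some e))
      · exact (hrow none).symm.trans (h' none)
  -- the matrix is invertible
  have hinj : Function.Injective M'.vecMul := by
    intro a₁ a₂ h12
    have h12' : a₁ ᵥ* M' = a₂ ᵥ* M' := h12
    have hz : (a₁ - a₂) ᵥ* M' = 0 := by rw [Matrix.sub_vecMul, h12', sub_self]
    set a := a₁ - a₂ with ha
    -- transport to Option E
    have hψ : ∀ w : V, (∑ e : E, a (σ (some e)) * (if w ∈ side ends e then (1:ℝ) else 0)) +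
        a (σ none) = 0 := by
      intro w
      have := congrFun hz w
      simp only [Matrix.vecMul, dotProduct, M', Pi.zero_apply] at this
      rw [← Equiv.sum_comp σ (fun v => a v * M (σ.symm v) w), Fintype.sum_option] at this
      simp only [Equiv.symm_apply_apply, M, mul_one] at this
      linarith
    have hedge : ∀ e' : E, a (σ (some e')) = 0 := by
      intro e'
      have h1 := hψ (ends e').1
      have h2 := hψ (ends e').2
      have h3 : (∑ e : E, a (σ (some e)) * (if (ends e').1 ∈ side ends e then (1:ℝ) else 0)) -
          (∑ e : E, a (σ (some e)) * (if (ends e').2 ∈ side ends e then (1:ℝ) else 0)) =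
          a (σ (some e')) := by
        rw [← Finset.sum_sub_distrib, Finset.sum_eq_single e']
        · rw [if_pos (fst_mem_side ends e'), if_neg (snd_not_mem_side ends hT e')]
          ring
        · intro e _ hne
          by_cases hm : (ends e').1 ∈ side ends e
          · rw [if_pos hm, if_pos ((side_iff_of_ne ends e e' hne.symm).mp hm)]; ring
          · rw [if_neg hm, if_neg (fun h => hm ((side_iff_of_ne ends e e' hne.symm).mpr h))]; ring
        · intro h; exact absurd (Finset.mem_univ _) h
      linarith
    have hnone : a (σ none) = 0 := by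
      obtain ⟨r⟩ := hT.1.1
      have := hψ r
      simp only [hedge, zero_mul, Finset.sum_const_zero, zero_add] at this
      exact this
    have hall : a = 0 := by
      funext v
      obtain ⟨o, rfl⟩ := σ.surjective v
      cases o with
      | none => exact hnone
      | some e => exact hedge e
    exact sub_eq_zero.mp hall
  have hunit : IsUnit M' := Matrix.vecMul_injective_iff_isUnit.mp hinj
  have hinj' := Matrix.mulVec_injective_iff_isUnit.mpr hunit
  have hsurj' := Matrix.mulVec_surjective_iff_isUnit.mpr hunit
  obtain ⟨φ, hφ⟩ := hsurj' (fun v => b (σ.symm v))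
  refine ⟨φ, (hsys φ).mpr hφ, fun φ' hφ' => ?_⟩
  exact hinj' (((hsys φ').mp hφ').trans hφ.symm)

end Groth.Agent.Lib.Helper31.PS
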