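import Mathlib
import Groth.Agent.Lib.Helper31.PhiC
import Groth.Agent.Lib.Helper31.PhiD
import Groth.Agent.Lib.Helper31.PhiStabTree

/-!
# Tree-like constructions of connected vertex sets
-/

set_option autoImplicit false
set_option linter.unusedSectionVars false
set_option linter.unnecessarySeqFocus false
universe u

namespace Groth.Agent.Lib.Helper31.PhiSt

open PhiStab LabGraph Relation

variable {V E : Type u} [Fintype V] [Fintype E] [DecidableEq V] [DecidableEq E]
  {ends : E → V × V}

lemma exists_cross_rel {α : Type*} {r : α → α → Prop} {P : α → Prop} {a b : α}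
    (h : ReflTransGen r a b) (ha : P a) (hb : ¬ P b) : ∃ x y, r x y ∧ P x ∧ ¬ P y := by
  induction h with
  | refl => exact absurd ha hb
  | @tail b' c _ hbc ih =>
    by_cases hb' : P b'
    · exact ⟨b', c, hbc, hb', hb⟩
    · exact ih hb'

lemma build_mono {F F' : Finset E} {S : Finset V} (hB : Build ends F S)
    (h : ∀ e, (ends e).1 ∈ S → (ends e).2 ∈ S → (e ∈ F ↔ e ∈ F')) : Build ends F' S := by
  induction hB with
  | single v => exact Build.single v
  | step S1 u e0 s0 _ hu hs0 he0F he0 huniq ih =>
    have hsub : S1 ⊆ insert u S1 := Finset.subset_insert u S1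
    have hs0' : s0 ∈ insert u S1 := hsub hs0
    have hu' : u ∈ insert u S1 := Finset.mem_insert_self u S1
    refine Build.step S1 u e0 s0 (ih fun e h1 h2 => h e (hsub h1) (hsub h2)) hu hs0 ?_ he0 ?_
    · refine (h e0 ?_ ?_).mp he0F <;> rcases he0 with he | he <;> rw [he] <;> assumption
    · intro e heF' hcr
      apply huniq e _ hcr
      refine (h e ?_ ?_).mpr heF'
      · rcases hcr with ⟨h1, _⟩ | ⟨h1, _⟩
        · exact hsub h1
        · rw [h1]; exact hu'
      · rcases hcr with ⟨_, h2⟩ | ⟨_, h2⟩
        · rw [h2]; exact hu'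
        · exact hsub h2

/-- potentials with vanishing coboundary on the inner `F`-edges are constant on a built set -/
lemma const_on_build {F : Finset E} {S : Finset V} (hB : Build ends F S) (φ : V → ℤ)
    (hφ : ∀ e ∈ F, (ends e).1 ∈ S → (ends e).2 ∈ S → φ (ends e).2 - φ (ends e).1 = 0) :
    ∀ a ∈ S, ∀ b ∈ S, φ a = φ b := by
  induction hB with
  | single v =>
    intro a ha b hb
    rw [Finset.mem_singleton.mp ha, Finset.mem_singleton.mp hb]
  | step S1 u e0 s0 _ hu hs0 he0F he0 _ ih =>
    have hsub : S1 ⊆ insert u S1 := Finset.subset_insert u S1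
    have hu' : u ∈ insert u S1 := Finset.mem_insert_self u S1
    have ih' := ih (fun e he h1 h2 => hφ e he (hsub h1) (hsub h2))
    have hus0 : φ u = φ s0 := by
      rcases he0 with he | he
      · have := hφ e0 he0F (by rw [he]; exact hsub hs0) (by rw [he]; exact hu')
        rw [he] at this
        simp only at this
        omega
      · have := hφ e0 he0F (by rw [he]; exact hu') (by rw [he]; exact hsub hs0)
        rw [he] at this
        simp only at this
        omega
    have hall : ∀ a ∈ insert u S1, φ a = φ s0 := by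
      intro a ha
      rcases Finset.mem_insert.mp ha with rfl | ha
      · exact hus0
      · exact ih' a ha s0 hs0
    intro a ha b hb
    rw [hall a ha, hall b hb]

/-- a connected vertex set can be built along some edge set -/
theorem exists_build {S : Finset V} (hS : FConn ends S) : ∃ F : Finset E, Build ends F S := by
  have key : ∀ n : ℕ, 1 ≤ n → n ≤ S.card →
      ∃ S1 : Finset V, S1 ⊆ S ∧ S1.card = n ∧ ∃ F : Finset E, Build ends F S1 := by
    intro n hn
    induction n, hn using Nat.le_induction with
    | base =>
      intro _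
      obtain ⟨v, hv⟩ := hS.1
      exact ⟨{v}, Finset.singleton_subset_iff.mpr hv, Finset.card_singleton v, ∅, Build.single v⟩
    | succ n hn ih =>
      intro hle
      obtain ⟨S1, hS1, hcard, F, hF⟩ := ih (by omega)
      have hlt : S1.card < S.card := by omega
      obtain ⟨t, htS, htS1⟩ := Finset.exists_mem_notMem_of_card_lt_card hlt
      have hne : S1.Nonempty := by rw [← Finset.card_pos]; omega
      obtain ⟨s, hs⟩ := hne
      obtain ⟨s0, u0, hadj, hs0, hu0⟩ :=
        exists_cross_rel (P := fun v => v ∈ S1) (hS.2 s (hS1 hs) t htS) hs htS1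
      obtain ⟨_, hu0S, e0, he0⟩ := hadj
      set F' : Finset E := (F.filter (fun e => (ends e).1 ∈ S1 ∧ (ends e).2 ∈ S1)) ∪ {e0} with hF'
      have hne0 : ¬ ((ends e0).1 ∈ S1 ∧ (ends e0).2 ∈ S1) := by
        rcases he0 with he | he <;> rw [he] <;> simp [hu0]
      have hB1 : Build ends F' S1 := by
        refine build_mono hF fun e h1 h2 => ?_
        rw [hF', Finset.mem_union, Finset.mem_filter, Finset.mem_singleton]
        constructor
        · intro h; exact Or.inl ⟨h, h1, h2⟩
        · rintro (h | h)
          · exact h.1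
          · exfalso; rw [h] at h1 h2; exact hne0 ⟨h1, h2⟩
      refine ⟨insert u0 S1, ?_, ?_, F', ?_⟩
      · intro v hv
        rcases Finset.mem_insert.mp hv with rfl | hv
        · exact hu0S
        · exact hS1 hv
      · rw [Finset.card_insert_of_notMem hu0, hcard]
      · refine Build.step S1 u0 e0 s0 hB1 hu0 hs0 ?_ he0 ?_
        · rw [hF']; exact Finset.mem_union_right _ (Finset.mem_singleton_self e0)
        · intro e he hcr
          rw [hF', Finset.mem_union, Finset.mem_filter, Finset.mem_singleton] at he
          rcases he with he | he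
          · exfalso
            rcases hcr with ⟨_, h2⟩ | ⟨h1, _⟩
            · exact hu0 (h2 ▸ he.2.2)
            · exact hu0 (h1 ▸ he.2.1)
          · exact he
  have hpos : 1 ≤ S.card := Finset.card_pos.mpr hS.1
  obtain ⟨S1, hS1, hcard, F, hF⟩ := key S.card hpos le_rfl
  have : S1 = S := Finset.eq_of_subset_of_card_le hS1 (by omega)
  rw [this] at hF
  exact ⟨F, hF⟩

/-- the whole vertex set can be built along a spanning tree -/
theorem build_of_tree (T : Finset E) (hT : DualGr.IsTree (spanEnds ends T)) :
    Build ends T Finset.univ := by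
  have hNE : Groth.Agent.Lib.Helper31.LG.NoEven ends T :=
    (Groth.Agent.Lib.Helper31.LT.forest_iff ends T).mp hT.2
  have key : ∀ n : ℕ, 1 ≤ n → n ≤ Fintype.card V →
      ∃ S1 : Finset V, S1.card = n ∧ Build ends T S1 := by
    intro n hn
    induction n, hn using Nat.le_induction with
    | base =>
      intro _
      obtain ⟨v⟩ := hT.1.1
      exact ⟨{v}, Finset.card_singleton v, Build.single v⟩
    | succ n hn ih =>
      intro hle
      obtain ⟨S1, hcard, hB1⟩ := ih (by omega)
      have hlt : S1.card < (Finset.univ : Finset V).card := by rw [Finset.card_univ]; omega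
      obtain ⟨t, -, htS1⟩ := Finset.exists_mem_notMem_of_card_lt_card hlt
      have hne : S1.Nonempty := by rw [← Finset.card_pos]; omega
      obtain ⟨s, hs⟩ := hne
      obtain ⟨s0, u0, hadj, hs0, hu0⟩ :=
        exists_cross_rel (P := fun v => v ∈ S1) (hT.1.2 s t) hs htS1
      obtain ⟨⟨e0, he0T⟩, he0⟩ := hadj
      change ends e0 = (s0, u0) ∨ ends e0 = (u0, s0) at he0
      refine ⟨insert u0 S1, by rw [Finset.card_insert_of_notMem hu0, hcard], ?_⟩
      refine Build.step S1 u0 e0 s0 hB1 hu0 hs0 he0T he0 ?_
      intro e1 he1T hcr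
      by_contra hne1
      obtain ⟨φ, hφ⟩ := Groth.Agent.Lib.Helper31.LG.exists_potential ends _ T rfl hNE
        (fun x => if x = e1 then 1 else 0)
      have hconst := const_on_build hB1 φ (by
        intro e he h1 h2
        have := hφ e he
        unfold Groth.Agent.Lib.Helper31.LG.cob at this
        rw [this, if_neg]
        rintro rfl
        rcases hcr with ⟨_, h⟩ | ⟨h, _⟩
        · exact hu0 (h ▸ h2)
        · exact hu0 (h ▸ h1))
      have h0 := hφ e0 he0T
      rw [if_neg (fun h => hne1 h.symm)] at h0
      have h1 := hφ e1 he1T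
      rw [if_pos rfl] at h1
      unfold Groth.Agent.Lib.Helper31.LG.cob at h0 h1
      have hus0 : φ u0 = φ s0 := by
        rcases he0 with he | he <;> rw [he] at h0 <;> simp only at h0 <;> omega
      rcases hcr with ⟨h2, h3⟩ | ⟨h2, h3⟩
      · have := hconst _ h2 s0 hs0
        rw [h3] at h1
        omega
      · have := hconst _ h3 s0 hs0
        rw [h2] at h1
        omega
  have hpos : 1 ≤ Fintype.card V := by
    obtain ⟨v⟩ := hT.1.1
    exact Fintype.card_pos_iff.mpr ⟨v⟩
  obtain ⟨S1, hcard, hB⟩ := key (Fintype.card V) hpos le_rfl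
  have : S1 = Finset.univ := Finset.eq_univ_of_card S1 hcard
  rw [this] at hB
  exact hB

end Groth.Agent.Lib.Helper31.PhiSt
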