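import Mathlib
import Groth.Agent.Lib.Helper31.PhiE
import Groth.Agent.Lib.Helper31.PhiF

/-!
# Existence of semistable data with prescribed degree on an elementary vertex set
-/

set_option autoImplicit false
set_option linter.unusedSectionVars false
set_option linter.unnecessarySeqFocus false
universe u

namespace Groth.Agent.Lib.Helper31.PhiSt

open PhiStab LabGraph Relation

variable {V E : Type u} [Fintype V] [Fintype E] [DecidableEq V] [DecidableEq E]
  {ends : E → V × V}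

lemma sum_cnt_compl (S : Finset V) : ∑ v ∈ S, cnt ends Sᶜ v = (LabGraph.cut ends S : ℝ) := by
  rw [← sum_chi_mul, sum_chi_cnt, cut_eq]
  refine Finset.sum_congr rfl fun e _ => ?_
  rw [chi_compl, chi_compl]
  rcases chi_cases S (ends e).1 with h1 | h1 <;> rcases chi_cases S (ends e).2 with h2 | h2 <;>
    rw [h1, h2] <;> norm_num

lemma sum_cnt_compl' (S : Finset V) : ∑ v ∈ Sᶜ, cnt ends S v = (LabGraph.cut ends S : ℝ) := by
  rw [← sum_chi_mul, sum_chi_cnt, cut_eq]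
  refine Finset.sum_congr rfl fun e _ => ?_
  rw [chi_compl, chi_compl]
  rcases chi_cases S (ends e).1 with h1 | h1 <;> rcases chi_cases S (ends e).2 with h2 | h2 <;>
    rw [h1, h2] <;> norm_num

lemma exists_nat_inner (N : Finset E) (S : Finset V) :
    ∃ n : ℕ, ∑ e ∈ N, chi S (ends e).1 * chi S (ends e).2 = (n : ℝ) := by
  refine ⟨(N.filter (fun e => (ends e).1 ∈ S ∧ (ends e).2 ∈ S)).card, ?_⟩
  rw [Finset.card_filter]
  push_cast
  refine Finset.sum_congr rfl fun e _ => ?_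
  by_cases h1 : (ends e).1 ∈ S <;> by_cases h2 : (ends e).2 ∈ S <;> simp [chi, h1, h2]

lemma totDeg_of_relSS (φ : V → ℝ) (m : V → ℤ) (N : Finset E)
    (h : RelSS ends Finset.univ φ m N) : (∑ v : V, φ v) = (totDeg m N : ℝ) := by
  have h1 := h.1
  rw [hrel_self, Finset.sum_sub_distrib] at h1
  simp only [chi_univ, mul_one, Finset.sum_const, nsmul_eq_mul] at h1
  unfold totDeg
  push_cast
  linarith

lemma semistable_of_relSS (φ : V → ℝ) (m : V → ℤ) (N : Finset E)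
    (h : RelSS ends Finset.univ φ m N) : IsSemistable ends φ m N := by
  rw [isSemistable_iff]
  intro T _ _
  exact h.2 T (Finset.subset_univ T)

theorem exists_semistable_datum (hconn : LabGraph.Connected ends) (φ : V → ℝ) (b : ℤ)
    (hφ : (∑ v : V, φ v) = (b : ℝ)) (S : Finset V) (hS : IsElementary ends S) :
    ∃ (m : V → ℤ) (N : Finset E), totDeg m N = b ∧ IsSemistable ends φ m N ∧
      (degOn ends m N S : ℝ) =
        (⌊(∑ v ∈ S, φ v) - (LabGraph.cut ends S : ℝ) / 2⌋ : ℝ) + 1 := by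
  obtain ⟨hSc, hScc⟩ := (isElementary_iff S).mp hS
  obtain ⟨F1, hF1⟩ := exists_build hSc
  obtain ⟨F2, hF2⟩ := exists_build hScc
  obtain ⟨s, hs⟩ := hSc.1
  obtain ⟨w, hw⟩ := hScc.1
  obtain ⟨s0, w0, hadj, hs0, hw0⟩ :=
    exists_cross_rel (P := fun v => v ∈ S) (hconn.2 s w) hs (Finset.mem_compl.mp hw)
  obtain ⟨e0, he0⟩ := hadj
  have hw0' : w0 ∈ Sᶜ := Finset.mem_compl.mpr hw0
  set F : Finset E := (F1.filter (fun e => (ends e).1 ∈ S ∧ (ends e).2 ∈ S)) ∪
    (F2.filter (fun e => (ends e).1 ∈ Sᶜ ∧ (ends e).2 ∈ Sᶜ)) ∪ {e0} with hF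
  have he0F : e0 ∈ F := by
    rw [hF]; exact Finset.mem_union_right _ (Finset.mem_singleton_self e0)
  have he0S : ¬ ((ends e0).1 ∈ S ∧ (ends e0).2 ∈ S) := by
    rcases he0 with he | he <;> rw [he] <;> simp [hw0]
  have he0Sc : ¬ ((ends e0).1 ∈ Sᶜ ∧ (ends e0).2 ∈ Sᶜ) := by
    rcases he0 with he | he <;> rw [he] <;> simp [hs0]
  have hB1 : Build ends F S := by
    refine build_mono hF1 fun e h1 h2 => ?_
    rw [hF, Finset.mem_union, Finset.mem_union, Finset.mem_filter, Finset.mem_filter,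
      Finset.mem_singleton]
    constructor
    · intro h; exact Or.inl (Or.inl ⟨h, h1, h2⟩)
    · rintro ((h | h) | h)
      · exact h.1
      · exfalso; exact (Finset.mem_compl.mp h.2.1) h1
      · exfalso; rw [h] at h1 h2; exact he0S ⟨h1, h2⟩
  have hB2 : Build ends F Sᶜ := by
    refine build_mono hF2 fun e h1 h2 => ?_
    rw [hF, Finset.mem_union, Finset.mem_union, Finset.mem_filter, Finset.mem_filter,
      Finset.mem_singleton]
    constructor
    · intro h; exact Or.inl (Or.inr ⟨h, h1, h2⟩)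
    · rintro ((h | h) | h)
      · exfalso; exact (Finset.mem_compl.mp h1) h.2.1
      · exact h.1
      · exfalso; rw [h] at h1 h2; exact he0Sc ⟨h1, h2⟩
  set f : ℝ := (∑ v ∈ S, φ v) - (LabGraph.cut ends S : ℝ) / 2 with hf
  set x : ℝ := (⌊f⌋ : ℝ) + 1 - f with hx
  have hx0 : 0 ≤ x := by rw [hx]; linarith [Int.lt_floor_add_one f]
  have hx1 : x ≤ 1 := by rw [hx]; linarith [Int.floor_le f]
  set ψ1 : V → ℝ := fun v => φ v - (1/2) * cnt ends Sᶜ v + x * chi {s0} v with hψ1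
  set ψ2 : V → ℝ := fun v => φ v - (1/2) * cnt ends S v + (1 - x) * chi {w0} v with hψ2
  have hsum1 : (∑ v ∈ S, ψ1 v) = (⌊f⌋ : ℝ) + 1 := by
    simp only [hψ1, Finset.sum_add_distrib, Finset.sum_sub_distrib, ← Finset.mul_sum]
    rw [sum_cnt_compl, ← sum_chi_mul S (chi {s0}), Finset.sum_congr rfl (fun v _ => mul_comm _ _),
      sum_chi_mul, Finset.sum_singleton, chi_of_mem hs0, mul_one, hx, hf]
    ring
  have hsum2 : (∑ v ∈ Sᶜ, ψ2 v) = (b : ℝ) - ((⌊f⌋ : ℝ) + 1) - (LabGraph.cut ends S : ℝ) + 1 := by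
    simp only [hψ2, Finset.sum_add_distrib, Finset.sum_sub_distrib, ← Finset.mul_sum]
    rw [sum_cnt_compl', ← sum_chi_mul Sᶜ (chi {w0}),
      Finset.sum_congr rfl (fun v _ => mul_comm _ _),
      sum_chi_mul, Finset.sum_singleton, chi_of_mem hw0', mul_one, hx, hf]
    have : (∑ v ∈ Sᶜ, φ v) = (b : ℝ) - ∑ v ∈ S, φ v := by
      rw [← hφ, ← Finset.sum_add_sum_compl S φ]; ring
    rw [this]
    ring
  obtain ⟨n1, hn1⟩ := exists_nat_inner (ends := ends) Fᶜ S
  obtain ⟨n2, hn2⟩ := exists_nat_inner (ends := ends) Fᶜ Sᶜ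
  obtain ⟨m1, hm1⟩ := exists_relSS ends hB1 ψ1 ⟨⌊f⌋ + 1 - n1, by
    rw [hsum1, hn1]; push_cast; ring⟩
  obtain ⟨m2, hm2⟩ := exists_relSS ends hB2 ψ2 ⟨b - (⌊f⌋ + 1) - (LabGraph.cut ends S : ℤ) + 1 - n2, by
    rw [hsum2, hn2]; push_cast; ring⟩
  set m : V → ℤ := fun v => if v ∈ S then m1 v else m2 v with hm
  have hmS : ∀ v ∈ S, m v = m1 v := fun v hv => by rw [hm]; simp [hv]
  have hmSc : ∀ v ∈ Sᶜ, m v = m2 v := fun v hv => by
    rw [hm]; simp [Finset.mem_compl.mp hv]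
  have hR1 : RelSS ends S ψ1 m Fᶜ := by
    refine ⟨?_, fun A hA => ?_⟩
    · rw [hrel_congr ends S ψ1 ψ1 m m1 Fᶜ S (fun _ _ => rfl) hmS]; exact hm1.1
    · rw [hrel_congr ends S ψ1 ψ1 m m1 Fᶜ A (fun _ _ => rfl) (fun v hv => hmS v (hA hv))]
      exact hm1.2 A hA
  have hR2 : RelSS ends Sᶜ ψ2 m Fᶜ := by
    refine ⟨?_, fun A hA => ?_⟩
    · rw [hrel_congr ends Sᶜ ψ2 ψ2 m m2 Fᶜ Sᶜ (fun _ _ => rfl) hmSc]; exact hm2.1
    · rw [hrel_congr ends Sᶜ ψ2 ψ2 m m2 Fᶜ A (fun _ _ => rfl) (fun v hv => hmSc v (hA hv))]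
      exact hm2.2 A hA
  have hd : Disjoint S Sᶜ := disjoint_compl_right
  have he0N : e0 ∉ Fᶜ := fun h => (Finset.mem_compl.mp h) he0F
  have hN : ∀ e, e ∉ Fᶜ → (((ends e).1 ∈ S ∧ (ends e).2 ∈ Sᶜ) ∨
      ((ends e).1 ∈ Sᶜ ∧ (ends e).2 ∈ S)) → e = e0 := by
    intro e he hcr
    have heF : e ∈ F := by
      by_contra h; exact he (Finset.mem_compl.mpr h)
    rw [hF, Finset.mem_union, Finset.mem_union, Finset.mem_filter, Finset.mem_filter,
      Finset.mem_singleton] at heF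
    rcases heF with (h | h) | h
    · exfalso
      rcases hcr with ⟨_, h2⟩ | ⟨h1, _⟩
      · exact (Finset.mem_compl.mp h2) h.2.2
      · exact (Finset.mem_compl.mp h1) h.2.1
    · exfalso
      rcases hcr with ⟨h1, _⟩ | ⟨_, h2⟩
      · exact (Finset.mem_compl.mp h.2.1) h1
      · exact (Finset.mem_compl.mp h.2.2) h2
    · exact h
  have hR := glue ends S Sᶜ hd φ m Fᶜ e0 s0 w0 hs0 hw0' he0 he0N hN x hx0 hx1 hR1 hR2
  rw [Finset.union_compl] at hR
  refine ⟨m, Fᶜ, ?_, semistable_of_relSS φ m Fᶜ hR, ?_⟩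
  · have := totDeg_of_relSS φ m Fᶜ hR
    rw [hφ] at this
    exact_mod_cast this.symm
  · have h1 := hR1.1
    rw [hrel_self, Finset.sum_sub_distrib, hsum1] at h1
    rw [degOn_eq, sum_chi_mul]
    linarith

end Groth.Agent.Lib.Helper31.PhiSt

namespace Groth.Agent.Lib.Helper31.PhiSt

open PhiStab LabGraph Relation

variable {V E : Type u} [Fintype V] [Fintype E] [DecidableEq V] [DecidableEq E]
  {ends : E → V × V}

lemma ell_eq (S : Finset V) (d : ℤ) (φ : V → ℝ) :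
    ell ends S d φ = (d : ℝ) - ((∑ v ∈ S, φ v) - (LabGraph.cut ends S : ℝ) / 2) := by
  unfold ell; ring

theorem S18376_main (hconn : LabGraph.Connected ends) (b : ℤ) (φ₁ φ₂ : V → ℝ)
    (h₁ : (∑ v : V, φ₁ v) = (b : ℝ)) (h₂ : (∑ v : V, φ₂ v) = (b : ℝ))
    (hnd : Nondegenerate ends φ₁) :
    (∀ (m : V → ℤ) (N : Finset E), totDeg m N = b → IsStable ends φ₁ m N →
      IsSemistable ends φ₂ m N) ↔ InClosedPolytope ends φ₁ φ₂ := by
  constructor
  · intro H S hS d hd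
    obtain ⟨m, N, htot, hss, hdeg⟩ := exists_semistable_datum hconn φ₁ b h₁ S hS
    have hst : IsStable ends φ₁ m N := hnd m N (by rw [h₁, htot]) hss
    have hss2 := H m N htot hst
    have h2 := (isSemistable_iff ends φ₂ m N).mp hss2 S (IsElementary.nonempty hS)
      (IsElementary.ne_univ hS)
    rw [hrel_univ, hdeg] at h2
    rw [ell_eq] at hd ⊢
    set f : ℝ := (∑ v ∈ S, φ₁ v) - (LabGraph.cut ends S : ℝ) / 2 with hf
    have hlt : f < (d : ℝ) := by linarith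
    have h3 : ⌊f⌋ < d := Int.floor_lt.mpr hlt
    have h4 : (⌊f⌋ : ℝ) + 1 ≤ (d : ℝ) := by exact_mod_cast h3
    linarith
  · intro H m N htot hst
    have hdeg2 : (∑ v : V, φ₂ v) = (totDeg m N : ℝ) := by rw [h₂, htot]
    rw [semistable_iff_elementary hconn φ₂ m N hdeg2]
    intro S hS
    have h1 := (isStable_iff ends φ₁ m N).mp hst S (IsElementary.nonempty hS)
      (IsElementary.ne_univ hS)
    rw [hrel_univ] at h1
    have h2 := H S hS (degOn ends m N S) (by rw [ell_eq]; exact h1)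
    rw [ell_eq] at h2
    rw [habs, hrel_univ]
    exact h2

end Groth.Agent.Lib.Helper31.PhiSt
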