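import Mathlib
import Groth.Agent.Lib.Helper31.PhiG

/-!
# The unique stable multidegree attached to a spanning tree
-/

set_option autoImplicit false
set_option linter.unusedSectionVars false
set_option linter.unnecessarySeqFocus false
universe u

namespace Groth.Agent.Lib.Helper31.PhiSt

open PhiStab LabGraph Relation

variable {V E : Type u} [Fintype V] [Fintype E] [DecidableEq V] [DecidableEq E]
  {ends : E → V × V}

lemma kfun_side (T : Finset E) (hT : DualGr.IsTree (spanEnds ends T)) (e : {e : E // e ∈ T}) :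
    kfun ends Tᶜ (side (spanEnds ends T) e) = 1 := by
  unfold kfun
  rw [compl_compl, Finset.sum_eq_single e.1]
  · have h1 : (ends e.1).1 ∈ side (spanEnds ends T) e :=
      Groth.Agent.Lib.Helper31.PS.fst_mem_side (spanEnds ends T) e
    have h2 : (ends e.1).2 ∉ side (spanEnds ends T) e :=
      Groth.Agent.Lib.Helper31.PS.snd_not_mem_side (spanEnds ends T) hT e
    rw [chi_of_mem h1, chi_of_not_mem h2]; norm_num
  · intro e' he' hne
    have hne' : (⟨e', he'⟩ : {e : E // e ∈ T}) ≠ e := fun h => hne (congrArg Subtype.val h)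
    have h := Groth.Agent.Lib.Helper31.PS.side_iff_of_ne (spanEnds ends T) e ⟨e', he'⟩ hne'
    change (ends e').1 ∈ side (spanEnds ends T) e ↔ (ends e').2 ∈ side (spanEnds ends T) e at h
    by_cases h1 : (ends e').1 ∈ side (spanEnds ends T) e
    · rw [chi_of_mem h1, chi_of_mem (h.mp h1)]; norm_num
    · rw [chi_of_not_mem h1, chi_of_not_mem (fun h2 => h1 (h.mpr h2))]; norm_num
  · intro h; exact absurd e.2 h

lemma side_nonempty (T : Finset E) (e : {e : E // e ∈ T}) :
    (side (spanEnds ends T) e).Nonempty :=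
  ⟨_, Groth.Agent.Lib.Helper31.PS.fst_mem_side (spanEnds ends T) e⟩

lemma side_ne_univ (T : Finset E) (hT : DualGr.IsTree (spanEnds ends T)) (e : {e : E // e ∈ T}) :
    side (spanEnds ends T) e ≠ Finset.univ := by
  intro h
  have h2 := Groth.Agent.Lib.Helper31.PS.snd_not_mem_side (spanEnds ends T) hT e
  rw [h] at h2
  exact h2 (Finset.mem_univ _)

lemma habs_sub (φ : V → ℝ) (m m' : V → ℤ) (N : Finset E) (A : Finset V) :
    habs ends φ m N A - habs ends φ m' N A = ((∑ v ∈ A, (m v - m' v) : ℤ) : ℝ) := by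
  unfold habs hrel
  push_cast
  rw [← sum_chi_mul A (fun v => (m v : ℝ) - (m' v : ℝ))]
  have : ∑ v, chi A v * ((m v : ℝ) - φ v) - ∑ v, chi A v * ((m' v : ℝ) - φ v) =
      ∑ v, chi A v * ((m v : ℝ) - (m' v : ℝ)) := by
    rw [← Finset.sum_sub_distrib]
    refine Finset.sum_congr rfl fun v _ => by ring
  linarith

theorem S18375_main (T : Finset E) (hT : DualGr.IsTree (spanEnds ends T)) (b : ℤ) (φ : V → ℝ)
    (hφ : (∑ v : V, φ v) = (b : ℝ)) (hnd : Nondegenerate ends φ) :
    ∃! m : V → ℤ, totDeg m Tᶜ = b ∧ IsStable ends φ m Tᶜ := by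
  have hB : Build ends T Finset.univ := build_of_tree T hT
  have hTcc : Tᶜᶜ = T := compl_compl T
  obtain ⟨n, hn⟩ := exists_nat_inner (ends := ends) Tᶜ (Finset.univ : Finset V)
  have hB' : Build ends Tᶜᶜ Finset.univ := by rw [hTcc]; exact hB
  obtain ⟨m, hm⟩ := exists_relSS ends hB φ ⟨b - n, by
    rw [hn, hφ]; push_cast; ring⟩
  have htot : totDeg m Tᶜ = b := by
    have := totDeg_of_relSS φ m Tᶜ hm
    rw [hφ] at this
    exact_mod_cast this.symm
  have hss : IsSemistable ends φ m Tᶜ := semistable_of_relSS φ m Tᶜ hm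
  have hst : IsStable ends φ m Tᶜ := hnd m Tᶜ (by rw [hφ, htot]) hss
  refine ⟨m, ⟨htot, hst⟩, ?_⟩
  rintro m' ⟨htot', hst'⟩
  -- slacks on the sides of tree edges lie in (0, 1)
  have hrange : ∀ (m₀ : V → ℤ), totDeg m₀ Tᶜ = b → IsStable ends φ m₀ Tᶜ →
      ∀ e : {e : E // e ∈ T}, 0 < habs ends φ m₀ Tᶜ (side (spanEnds ends T) e) ∧
        habs ends φ m₀ Tᶜ (side (spanEnds ends T) e) < 1 := by
    intro m₀ h1 h2 e
    have hdeg : (∑ v : V, φ v) = (totDeg m₀ Tᶜ : ℝ) := by rw [hφ, h1]
    have hst0 := (isStable_iff ends φ m₀ Tᶜ).mp h2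
    have ha := hst0 _ (side_nonempty T e) (side_ne_univ T hT e)
    have hcne : (side (spanEnds ends T) e)ᶜ.Nonempty := by
      by_contra h
      rw [Finset.not_nonempty_iff_eq_empty, Finset.compl_eq_empty_iff] at h
      exact side_ne_univ T hT e h
    have hcu : (side (spanEnds ends T) e)ᶜ ≠ Finset.univ := by
      intro h
      rw [Finset.compl_eq_univ_iff] at h
      exact (side_nonempty T e).ne_empty h
    have hb := hst0 _ hcne hcu
    have hc := habs_add_compl (ends := ends) φ m₀ Tᶜ hdeg (side (spanEnds ends T) e)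
    rw [kfun_side T hT e] at hc
    unfold habs at hc
    constructor <;> [exact ha; linarith]
  have hside : ∀ e : {e : E // e ∈ T},
      ∑ v ∈ side (spanEnds ends T) e, (m' v - m v) = 0 := by
    intro e
    have h1 := hrange m htot hst e
    have h2 := hrange m' htot' hst' e
    have h3 := habs_sub (ends := ends) φ m' m Tᶜ (side (spanEnds ends T) e)
    have h4 : |((∑ v ∈ side (spanEnds ends T) e, (m' v - m v) : ℤ) : ℝ)| < 1 := by
      rw [← h3, abs_lt]; constructor <;> linarith
    have h5 : |(∑ v ∈ side (spanEnds ends T) e, (m' v - m v) : ℤ)| < 1 := by exact_mod_cast h4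
    exact Int.abs_lt_one_iff.mp h5
  have hsumV : ∑ v : V, (m' v - m v) = 0 := by
    unfold totDeg at htot htot'
    rw [Finset.sum_sub_distrib]
    linarith
  -- apply the tree lemma
  obtain ⟨ψ, -, huniq⟩ := Groth.Agent.Lib.Helper31.PS.S18382 (spanEnds ends T) hT
    (fun e => ∑ v ∈ side (spanEnds ends T) e, (m v : ℝ)) (∑ v : V, (m v : ℝ))
  have e1 := huniq (fun v => (m v : ℝ)) ⟨fun _ => rfl, rfl⟩
  have e2 := huniq (fun v => (m' v : ℝ)) ⟨fun e => by
      have := hside e
      rw [Finset.sum_sub_distrib] at this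
      have h : (∑ v ∈ side (spanEnds ends T) e, m' v) = ∑ v ∈ side (spanEnds ends T) e, m v := by
        linarith
      have h' := congrArg (fun z : ℤ => (z : ℝ)) h
      simpa using h', by
      rw [Finset.sum_sub_distrib] at hsumV
      have h : (∑ v : V, m' v) = ∑ v : V, m v := by linarith
      have h' := congrArg (fun z : ℤ => (z : ℝ)) h
      simpa using h'⟩
  funext v
  have := congrFun (e2.trans e1.symm) v
  exact_mod_cast this

end Groth.Agent.Lib.Helper31.PhiSt
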