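import Mathlib

set_option linter.unusedSectionVars false

namespace Groth.Agent.Lib.Helper31.QS1

open Matrix

variable {R : Type*} [CommRing R] {J : Type*} [Fintype J] [DecidableEq J]

/-- quadratic form of a (not necessarily symmetric) matrix -/
def Qf (T : Matrix J J R) (x : J → R) : R := x ⬝ᵥ (T *ᵥ x)

/-- polar form -/
def Bf (T : Matrix J J R) (x y : J → R) : R := x ⬝ᵥ ((T + Tᵀ) *ᵥ y)

theorem dot_transpose (T : Matrix J J R) (x y : J → R) : x ⬝ᵥ (Tᵀ *ᵥ y) = y ⬝ᵥ (T *ᵥ x) := by
  rw [Matrix.dotProduct_mulVec, Matrix.vecMul_transpose, dotProduct_comm]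

theorem Bf_eq (T : Matrix J J R) (x y : J → R) : Bf T x y = x ⬝ᵥ (T *ᵥ y) + y ⬝ᵥ (T *ᵥ x) := by
  unfold Bf
  rw [Matrix.add_mulVec, dotProduct_add, dot_transpose]

theorem Bf_comm (T : Matrix J J R) (x y : J → R) : Bf T x y = Bf T y x := by
  rw [Bf_eq, Bf_eq, add_comm]

theorem Qf_add (T : Matrix J J R) (x y : J → R) : Qf T (x + y) = Qf T x + Qf T y + Bf T x y := by
  rw [Bf_eq]
  unfold Qf
  rw [Matrix.mulVec_add, add_dotProduct, dotProduct_add, dotProduct_add]
  ring

theorem Qf_smul (T : Matrix J J R) (c : R) (x : J → R) : Qf T (c • x) = c * c * Qf T x := by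
  unfold Qf
  rw [Matrix.mulVec_smul, smul_dotProduct, dotProduct_smul, smul_eq_mul, smul_eq_mul]
  ring

theorem Qf_neg (T : Matrix J J R) (x : J → R) : Qf T (-x) = Qf T x := by
  have := Qf_smul T (-1) x
  rw [neg_one_smul] at this
  rw [this]; ring

theorem Bf_add_left (T : Matrix J J R) (x x' y : J → R) : Bf T (x + x') y = Bf T x y + Bf T x' y := by
  unfold Bf; rw [add_dotProduct]

theorem Bf_smul_left (T : Matrix J J R) (c : R) (x y : J → R) : Bf T (c • x) y = c * Bf T x y := by
  unfold Bf; rw [smul_dotProduct, smul_eq_mul]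

theorem Bf_add_right (T : Matrix J J R) (x y y' : J → R) : Bf T x (y + y') = Bf T x y + Bf T x y' := by
  rw [Bf_comm, Bf_add_left, Bf_comm T y, Bf_comm T y']

theorem Bf_smul_right (T : Matrix J J R) (c : R) (x y : J → R) : Bf T x (c • y) = c * Bf T x y := by
  rw [Bf_comm, Bf_smul_left, Bf_comm]

theorem Bf_neg_left (T : Matrix J J R) (x y : J → R) : Bf T (-x) y = - Bf T x y := by
  have := Bf_smul_left T (-1) x y
  rw [neg_one_smul] at this
  rw [this]; ring

theorem Bf_neg_right (T : Matrix J J R) (x y : J → R) : Bf T x (-y) = - Bf T x y := by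
  rw [Bf_comm, Bf_neg_left, Bf_comm]

theorem Bf_sub_left (T : Matrix J J R) (x x' y : J → R) : Bf T (x - x') y = Bf T x y - Bf T x' y := by
  rw [sub_eq_add_neg, Bf_add_left, Bf_neg_left]; ring

theorem Bf_sub_right (T : Matrix J J R) (x y y' : J → R) : Bf T x (y - y') = Bf T x y - Bf T x y' := by
  rw [sub_eq_add_neg, Bf_add_right, Bf_neg_right]; ring

theorem Qf_sub (T : Matrix J J R) (x y : J → R) : Qf T (x - y) = Qf T x + Qf T y - Bf T x y := by
  rw [sub_eq_add_neg, Qf_add, Qf_neg, Bf_neg_right]; ring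

theorem Bf_self (T : Matrix J J R) (x : J → R) : Bf T x x = 2 * Qf T x := by
  rw [Bf_eq]; unfold Qf; ring

theorem Qf_single (T : Matrix J J R) (i : J) : Qf T (Pi.single i 1) = T i i := by
  unfold Qf
  rw [Matrix.mulVec_single_one, single_one_dotProduct]
  rfl

theorem Bf_single (T : Matrix J J R) (i j : J) : Bf T (Pi.single i 1) (Pi.single j 1) = T i j + T j i := by
  unfold Bf
  rw [Matrix.mulVec_single_one, single_one_dotProduct]
  rfl

theorem Qf_mulVec (T g : Matrix J J R) (x : J → R) : Qf T (g *ᵥ x) = Qf (gᵀ * T * g) x := by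
  unfold Qf
  rw [← Matrix.mulVec_mulVec, ← Matrix.mulVec_mulVec, Matrix.dotProduct_mulVec x gᵀ,
    Matrix.vecMul_transpose]

theorem conj_add_transpose (T g : Matrix J J R) :
    gᵀ * T * g + (gᵀ * T * g)ᵀ = gᵀ * (T + Tᵀ) * g := by
  rw [Matrix.transpose_mul, Matrix.transpose_mul, Matrix.transpose_transpose, Matrix.mul_add,
    Matrix.add_mul, Matrix.mul_assoc gᵀ Tᵀ g]

theorem Bf_mulVec (T g : Matrix J J R) (x y : J → R) :
    Bf T (g *ᵥ x) (g *ᵥ y) = Bf (gᵀ * T * g) x y := by
  unfold Bf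
  rw [conj_add_transpose, ← Matrix.mulVec_mulVec, ← Matrix.mulVec_mulVec,
    Matrix.dotProduct_mulVec x gᵀ, Matrix.vecMul_transpose]

/-- entries of the conjugated matrix via columns -/
theorem conj_diag (T g : Matrix J J R) (k : J) :
    (gᵀ * T * g) k k = Qf T (fun i => g i k) := by
  rw [← Qf_single (gᵀ * T * g) k, ← Qf_mulVec, Matrix.mulVec_single_one]
  rfl

theorem conj_symm (T g : Matrix J J R) (k l : J) :
    (gᵀ * T * g) k l + (gᵀ * T * g) l k = Bf T (fun i => g i k) (fun i => g i l) := by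
  rw [← Bf_single (gᵀ * T * g) k l, ← Bf_mulVec, Matrix.mulVec_single_one, Matrix.mulVec_single_one]
  rfl

/-- two matrices defining the same quadratic form -/
def Sim (T T' : Matrix J J R) : Prop :=
  (∀ k, T k k = T' k k) ∧ ∀ k l, T k l + T l k = T' k l + T' l k

theorem Sim.refl (T : Matrix J J R) : Sim T T := ⟨fun _ => rfl, fun _ _ => rfl⟩

theorem Sim.symm {T T' : Matrix J J R} (h : Sim T T') : Sim T' T :=
  ⟨fun k => (h.1 k).symm, fun k l => (h.2 k l).symm⟩

theorem Sim.trans {T T' T'' : Matrix J J R} (h : Sim T T') (h' : Sim T' T'') : Sim T T'' :=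
  ⟨fun k => (h.1 k).trans (h'.1 k), fun k l => (h.2 k l).trans (h'.2 k l)⟩

theorem Sim.map {S : Type*} [CommRing S] (φ : R →+* S) {T T' : Matrix J J R} (h : Sim T T') :
    Sim (T.map φ) (T'.map φ) := by
  refine ⟨fun k => ?_, fun k l => ?_⟩
  · simp only [Matrix.map_apply, h.1 k]
  · simp only [Matrix.map_apply, ← map_add, h.2 k l]

theorem Sim.add_transpose {T T' : Matrix J J R} (h : Sim T T') : T + Tᵀ = T' + T'ᵀ := by
  ext k l
  simp only [Matrix.add_apply, Matrix.transpose_apply]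
  exact h.2 k l

/-- alternating matrices give the zero quadratic form (characteristic free). -/
theorem Qf_alt (E : Matrix J J R) (hd : ∀ k, E k k = 0) (hs : ∀ k l, E k l + E l k = 0) (x : J → R) :
    Qf E x = 0 := by
  unfold Qf
  simp only [dotProduct, Matrix.mulVec, Finset.mul_sum]
  rw [← Finset.sum_product']
  refine Finset.sum_involution (fun p _ => (p.2, p.1)) ?_ ?_ ?_ ?_
  · rintro ⟨k, l⟩ _
    simp only
    have := hs k l
    linear_combination (x k * x l) * this
  · rintro ⟨k, l⟩ _ hne heq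
    simp only [Prod.mk.injEq] at heq
    obtain ⟨h1, -⟩ := heq
    subst h1
    apply hne
    simp only
    rw [hd]; ring
  · intro p _; exact Finset.mem_univ _
  · rintro ⟨k, l⟩ _; rfl

theorem Sim.Qf_eq {T T' : Matrix J J R} (h : Sim T T') (x : J → R) : Qf T x = Qf T' x := by
  have h0 : Qf (T - T') x = 0 := by
    apply Qf_alt
    · intro k; rw [Matrix.sub_apply, h.1 k, sub_self]
    · intro k l
      rw [Matrix.sub_apply, Matrix.sub_apply]
      have := h.2 k l
      linear_combination this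
  have : Qf (T - T') x = Qf T x - Qf T' x := by
    unfold Qf
    rw [Matrix.sub_mulVec, dotProduct_sub]
  rw [this] at h0
  exact sub_eq_zero.mp h0

theorem Sim.conj {T T' : Matrix J J R} (h : Sim T T') (g : Matrix J J R) :
    Sim (gᵀ * T * g) (gᵀ * T' * g) := by
  refine ⟨fun k => ?_, fun k l => ?_⟩
  · rw [conj_diag, conj_diag, h.Qf_eq]
  · rw [conj_symm, conj_symm]
    unfold Bf
    rw [h.add_transpose]

theorem Sim.of_Qf_eq {T T' : Matrix J J R} (h : ∀ x, Qf T x = Qf T' x) : Sim T T' := by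
  refine ⟨fun k => ?_, fun k l => ?_⟩
  · rw [← Qf_single T k, ← Qf_single T' k, h]
  · rw [← Bf_single T k l, ← Bf_single T' k l]
    have e1 := Qf_add T (Pi.single k 1) (Pi.single l 1)
    have e2 := Qf_add T' (Pi.single k 1) (Pi.single l 1)
    rw [h, h (Pi.single k 1), h (Pi.single l 1)] at e1
    linear_combination e2 - e1

theorem Sim.submatrix {J' : Type*} [Fintype J'] [DecidableEq J'] {T T' : Matrix J J R} (h : Sim T T')
    (e : J' → J) : Sim (T.submatrix e e) (T'.submatrix e e) :=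
  ⟨fun k => h.1 (e k), fun k l => h.2 (e k) (e l)⟩

end Groth.Agent.Lib.Helper31.QS1
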