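import Mathlib
import Groth.Agent.Lib.Helper31.QS1

set_option linter.unusedSectionVars false

namespace Groth.Agent.Lib.Helper31.QS2

open Matrix Module Groth.Agent.Lib.Helper31.QS1

section ring

variable {R : Type*} [CommRing R] {K : Type*} [Fintype K] [DecidableEq K]

/-- minus the Gram determinant of the polar form -/
def Dd (T : Matrix K K R) (x y : K → R) : R := Bf T x y ^ 2 - 4 * Qf T x * Qf T y

theorem Dd_comm (T : Matrix K K R) (x y : K → R) : Dd T x y = Dd T y x := by
  unfold Dd; rw [Bf_comm]; ring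

theorem Dd_add_left (T : Matrix K K R) (x y : K → R) : Dd T (x + y) y = Dd T x y := by
  unfold Dd
  rw [Bf_add_left, Bf_self, Qf_add]
  ring

end ring

variable {k : Type*} [Field k] {K : Type*} [Fintype K] [DecidableEq K]

theorem exists_good_pair [Nontrivial K] (T : Matrix K K k) (hdet : (T + Tᵀ).det ≠ 0) :
    ∃ w₀ w₁ : K → k, Dd T w₀ w₁ * Qf T w₀ ≠ 0 := by
  by_contra hcon
  push Not at hcon
  apply hdet
  have hD : ∀ x y, Dd T x y = 0 := by
    intro x y
    by_cases hx : Qf T x = 0
    · by_cases hy : Qf T y = 0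
      · by_cases hb : Bf T x y = 0
        · unfold Dd; rw [hb, hx, hy]; ring
        · exfalso
          have h1 := hcon (x + y) y
          rw [Dd_add_left, Qf_add, hx, hy] at h1
          have : Dd T x y = Bf T x y ^ 2 := by unfold Dd; rw [hx, hy]; ring
          rw [this, zero_add, zero_add] at h1
          exact hb (by
            rcases mul_eq_zero.mp h1 with h | h
            · exact pow_eq_zero_iff (two_ne_zero) |>.mp h
            · exact h)
      · have h1 := hcon y x
        rw [Dd_comm]
        exact (mul_eq_zero.mp h1).resolve_right hy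
    · exact (mul_eq_zero.mp (hcon x y)).resolve_right hx
  set P := T + Tᵀ with hP
  have hPij : ∀ i j, P i j = T i j + T j i := fun i j => by
    rw [hP, Matrix.add_apply, Matrix.transpose_apply]
  have hsymm : ∀ i j, P i j = P j i := fun i j => by rw [hPij, hPij, add_comm]
  have hPii : ∀ i, P i i = 2 * T i i := fun i => by rw [hPij]; ring
  have h0 : ∀ i j, P i j ^ 2 = 4 * T i i * T j j := by
    intro i j
    have := hD (Pi.single i 1) (Pi.single j 1)
    unfold Dd at this
    rw [Bf_single, Qf_single, Qf_single, ← hPij] at this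
    linear_combination this
  have h2 : ∀ i j l, 2 * (P i j * P i l - P i i * P j l) = 0 := by
    intro i j l
    have := hD (Pi.single i 1) (Pi.single j 1 + Pi.single l 1)
    unfold Dd at this
    rw [Bf_add_right, Qf_add, Bf_single, Bf_single, Bf_single, Qf_single, Qf_single, Qf_single,
      ← hPij, ← hPij, ← hPij] at this
    have e1 := h0 i j
    have e2 := h0 i l
    rw [hPii]
    linear_combination this - e1 - e2
  obtain ⟨i₁⟩ : Nonempty K := inferInstance
  have hzero : (∀ i, P i i = 0) → P.det = 0 := by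
    intro hz
    have : P = 0 := by
      ext i j
      have := h0 i j
      have e1 := hPii i
      rw [hz i] at e1
      have : P i j ^ 2 = 0 := by rw [this]; linear_combination (-2 * T j j) * e1
      exact pow_eq_zero_iff (two_ne_zero) |>.mp this
    have hne : Nonempty K := ⟨i₁⟩
    rw [this, Matrix.det_zero]
  by_cases h2k : (2 : k) = 0
  · apply hzero
    intro i; rw [hPii, h2k, zero_mul]
  · have h3 : ∀ i j l, P i j * P i l = P i i * P j l := by
      intro i j l
      have := h2 i j l
      rcases mul_eq_zero.mp this with h | h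
      · exact absurd h h2k
      · exact sub_eq_zero.mp h
    by_cases hz : ∀ i, P i i = 0
    · exact hzero hz
    · push Not at hz
      obtain ⟨i, hi⟩ := hz
      obtain ⟨j₂, hj₂⟩ := exists_ne i
      apply Matrix.exists_mulVec_eq_zero_iff.mp
      refine ⟨P i i • Pi.single j₂ 1 - P i j₂ • Pi.single i 1, ?_, ?_⟩
      · intro h
        have := congrFun h j₂
        simp only [Pi.sub_apply, Pi.smul_apply, Pi.single_eq_same, Pi.single_eq_of_ne hj₂, smul_eq_mul,
          mul_one, mul_zero, sub_zero, Pi.zero_apply] at this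
        exact hi this
      · rw [Matrix.mulVec_sub, Matrix.mulVec_smul, Matrix.mulVec_smul, Matrix.mulVec_single_one,
          Matrix.mulVec_single_one]
        ext m
        simp only [Pi.sub_apply, Pi.smul_apply, smul_eq_mul, Pi.zero_apply, Matrix.col_apply]
        have := h3 i m j₂
        rw [hsymm m i]
        linear_combination -this

theorem linearIndependent_of_Dd (T : Matrix K K k) (w₀ w₁ : K → k) (h : Dd T w₀ w₁ ≠ 0) :
    LinearIndependent k ![w₀, w₁] := by
  rw [LinearIndependent.pair_iff]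
  intro s t hst
  have e0 : Bf T (s • w₀ + t • w₁) w₀ = 0 := by
    rw [hst]; unfold Bf; rw [zero_dotProduct]
  have e1 : Bf T (s • w₀ + t • w₁) w₁ = 0 := by
    rw [hst]; unfold Bf; rw [zero_dotProduct]
  rw [Bf_add_left, Bf_smul_left, Bf_smul_left, Bf_self, Bf_comm T w₁ w₀] at e0
  rw [Bf_add_left, Bf_smul_left, Bf_smul_left, Bf_self] at e1
  unfold Dd at h
  constructor
  · by_contra hs
    apply h
    have : s * (Bf T w₀ w₁ ^ 2 - 4 * Qf T w₀ * Qf T w₁) = 0 := by
      linear_combination (Bf T w₀ w₁) * e1 - (2 * Qf T w₁) * e0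
    exact (mul_eq_zero.mp this).resolve_left hs
  · by_contra ht
    apply h
    have : t * (Bf T w₀ w₁ ^ 2 - 4 * Qf T w₀ * Qf T w₁) = 0 := by
      linear_combination (Bf T w₀ w₁) * e0 - (2 * Qf T w₀) * e1
    exact (mul_eq_zero.mp this).resolve_left ht

theorem exists_matrix_of_pair (i₀ j₀ : K) (hij : i₀ ≠ j₀) (w₀ w₁ : K → k)
    (hli : LinearIndependent k ![w₀, w₁]) :
    ∃ g : Matrix K K k, g.det ≠ 0 ∧ (∀ i, g i i₀ = w₀ i) ∧ (∀ i, g i j₀ = w₁ i) := by
  classical
  have hs := hli.linearIndepOn_id
  let b := Basis.extend hs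
  have : Fintype (hs.extend (Set.subset_univ _)) := FiniteDimensional.fintypeBasisIndex b
  let x₀ : hs.extend (Set.subset_univ _) := ⟨w₀, Basis.subset_extend hs ⟨0, rfl⟩⟩
  let x₁ : hs.extend (Set.subset_univ _) := ⟨w₁, Basis.subset_extend hs ⟨1, rfl⟩⟩
  have hx : x₀ ≠ x₁ := by
    intro h
    have h' : w₀ = w₁ := congrArg Subtype.val h
    have := hli.injective (a₁ := 0) (a₂ := 1) (by simpa using h')
    simp at this
  have hb0' : b x₀ = w₀ := by rw [Basis.coe_extend]
  have hb1' : b x₁ = w₁ := by rw [Basis.coe_extend]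
  have hcard : Fintype.card (hs.extend (Set.subset_univ _)) = Fintype.card K := by
    rw [← Module.finrank_eq_card_basis b, Module.finrank_fintype_fun_eq_card]
  let σ₀ : (hs.extend (Set.subset_univ _)) ≃ K := Fintype.equivOfCardEq hcard
  let σ₁ := σ₀.trans (Equiv.swap (σ₀ x₀) i₀)
  have h10 : σ₁ x₀ = i₀ := by simp [σ₁]
  let σ₂ := σ₁.trans (Equiv.swap (σ₁ x₁) j₀)
  have h21 : σ₂ x₁ = j₀ := by simp [σ₂]
  have h20 : σ₂ x₀ = i₀ := by
    have hne : σ₁ x₀ ≠ σ₁ x₁ := fun h => hx (σ₁.injective h)
    simp only [σ₂, Equiv.trans_apply]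
    rw [h10]
    rw [h10] at hne
    exact Equiv.swap_apply_of_ne_of_ne hne hij
  let b' : Basis K k (K → k) := b.reindex σ₂
  have hb0 : b' i₀ = w₀ := by
    have : σ₂.symm i₀ = x₀ := by rw [← h20, Equiv.symm_apply_apply]
    rw [Basis.reindex_apply, this, hb0']
  have hb1 : b' j₀ = w₁ := by
    have : σ₂.symm j₀ = x₁ := by rw [← h21, Equiv.symm_apply_apply]
    rw [Basis.reindex_apply, this, hb1']
  refine ⟨(Pi.basisFun k K).toMatrix b', ?_, ?_, ?_⟩
  · rw [← Basis.det_apply]
    exact ((Pi.basisFun k K).isUnit_det b').ne_zero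
  · intro i; rw [Basis.toMatrix_apply, hb0]; rfl
  · intro i; rw [Basis.toMatrix_apply, hb1]; rfl

end Groth.Agent.Lib.Helper31.QS2
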