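import Mathlib

namespace Groth.Agent.Lib.Helper31.QS3

universe u

/-- finite étale cover with a property on each piece -/
def ECover (A : Type u) [CommRing A] (P : ∀ (B : Type u) [CommRing B], (A →+* B) → Prop) : Prop :=
  ∃ (I : Type u) (_ : Finite I) (B : I → Type u) (_ : ∀ t, CommRing (B t)) (φ : ∀ t, A →+* B t),
    (∀ t, (φ t).Etale) ∧
    (∀ p : PrimeSpectrum A, ∃ (t : I) (q : PrimeSpectrum (B t)), q.asIdeal.comap (φ t) = p.asIdeal) ∧
    ∀ t, P (B t) (φ t)

theorem ECover.of_id {A : Type u} [CommRing A] {P : ∀ (B : Type u) [CommRing B], (A →+* B) → Prop}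
    (h : P A (RingHom.id A)) : ECover A P := by
  refine ⟨PUnit, inferInstance, fun _ => A, fun _ => inferInstance, fun _ => RingHom.id A, ?_, ?_, ?_⟩
  · intro _
    exact RingHom.Etale.of_bijective Function.bijective_id
  · intro p
    exact ⟨PUnit.unit, p, by rw [Ideal.comap_id]⟩
  · intro _; exact h

theorem ECover.mono {A : Type u} [CommRing A] {P P' : ∀ (B : Type u) [CommRing B], (A →+* B) → Prop}
    (h : ∀ (B : Type u) [CommRing B] (φ : A →+* B), P B φ → P' B φ) (hc : ECover A P) : ECover A P' := by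
  obtain ⟨I, hI, B, iB, φ, h1, h2, h3⟩ := hc
  exact ⟨I, hI, B, iB, φ, h1, h2, fun t => h _ _ (h3 t)⟩

theorem ECover.bind {A : Type u} [CommRing A] {P : ∀ (B : Type u) [CommRing B], (A →+* B) → Prop}
    (hc : ECover A (fun B _ φ => ECover B (fun C _ ψ => P C (ψ.comp φ)))) : ECover A P := by
  obtain ⟨I, hI, B, iB, φ, h1, h2, h3⟩ := hc
  choose I' hI' C iC ψ k1 k2 k3 using h3
  refine ⟨Σ t : I, I' t, inferInstance, fun ts => C ts.1 ts.2, fun ts => iC ts.1 ts.2,
    fun ts => (ψ ts.1 ts.2).comp (φ ts.1), ?_, ?_, ?_⟩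
  · rintro ⟨t, s⟩
    exact RingHom.Etale.stableUnderComposition _ _ (h1 t) (k1 t s)
  · intro p
    obtain ⟨t, q, hq⟩ := h2 p
    obtain ⟨s, r, hr⟩ := k2 t q
    refine ⟨⟨t, s⟩, r, ?_⟩
    rw [← Ideal.comap_comap, hr, hq]
  · rintro ⟨t, s⟩
    exact k3 t s

theorem ECover.of_span {A : Type u} [CommRing A] {P : ∀ (B : Type u) [CommRing B], (A →+* B) → Prop}
    (S : Set A) (hS : Ideal.span S = ⊤)
    (h : ∀ s ∈ S, P (Localization.Away s) (algebraMap A (Localization.Away s))) : ECover A P := by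
  obtain ⟨S', hS'S, hS'⟩ := (Ideal.span_eq_top_iff_finite S).mp hS
  refine ⟨↥S', inferInstance, fun s => Localization.Away (s : A), fun _ => inferInstance,
    fun s => algebraMap A (Localization.Away (s : A)), ?_, ?_, ?_⟩
  · intro s
    exact RingHom.etale_algebraMap.mpr (Algebra.Etale.of_isLocalizationAway (s : A))
  · intro p
    have : ∃ s ∈ S', s ∉ p.asIdeal := by
      by_contra hcon
      push Not at hcon
      have : Ideal.span (S' : Set A) ≤ p.asIdeal := Ideal.span_le.mpr hcon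
      rw [hS'] at this
      exact p.isPrime.ne_top (top_le_iff.mp this)
    obtain ⟨s, hs, hsp⟩ := this
    have hd : Disjoint (Submonoid.powers s : Set A) ↑p.asIdeal :=
      (Ideal.disjoint_powers_iff_notMem_of_isPrime s).mpr hsp
    refine ⟨⟨s, hs⟩, ⟨Ideal.map (algebraMap A (Localization.Away s)) p.asIdeal,
      IsLocalization.isPrime_of_isPrime_disjoint (Submonoid.powers s) _ _ p.isPrime hd⟩, ?_⟩
    exact IsLocalization.under_map_of_isPrime_disjoint (Submonoid.powers s) _ p.isPrime hd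
  · intro s
    exact h s (hS'S s.2)

/-- conversion to the `Fin n`-indexed algebra form. -/
theorem ECover.toFin {A : Type u} [CommRing A] {P : ∀ (B : Type u) [CommRing B], (A →+* B) → Prop}
    (hc : ECover A P) :
    ∃ (n : ℕ) (B : Fin n → Type u) (_ : ∀ t, CommRing (B t)) (_ : ∀ t, Algebra A (B t)),
      (∀ t, Algebra.Etale A (B t)) ∧
      (∀ p : PrimeSpectrum A, ∃ (t : Fin n) (q : PrimeSpectrum (B t)),
        q.asIdeal.comap (algebraMap A (B t)) = p.asIdeal) ∧
      ∀ t, P (B t) (algebraMap A (B t)) := by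
  obtain ⟨I, hI, B, iB, φ, h1, h2, h3⟩ := hc
  obtain ⟨n, ⟨e⟩⟩ := Finite.exists_equiv_fin I
  refine ⟨n, fun k => B (e.symm k), fun k => iB (e.symm k), fun k => (φ (e.symm k)).toAlgebra,
    ?_, ?_, ?_⟩
  · intro k
    exact h1 (e.symm k)
  · intro p
    obtain ⟨t, q, hq⟩ := h2 p
    obtain ⟨k, rfl⟩ := e.symm.surjective t
    exact ⟨k, q, hq⟩
  · intro k
    exact h3 (e.symm k)

end Groth.Agent.Lib.Helper31.QS3
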