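import Mathlib
import Groth.Agent.Lib.Helper31.QS1

set_option linter.unusedSectionVars false

namespace Groth.Agent.Lib.Helper31.QS4

open Matrix Groth.Agent.Lib.Helper31.QS1

variable {C : Type*} [CommRing C] {J' : Type*} [Fintype J'] [DecidableEq J']

/-- the standard hyperbolic block `[[0,1],[0,0]]` -/
def H₀ (C : Type*) [CommRing C] : Matrix (Fin 2) (Fin 2) C := !![0, 1; 0, 0]

theorem H₀_add : (H₀ C) + (H₀ C)ᵀ = !![0, 1; 1, 0] := by
  ext i j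
  fin_cases i <;> fin_cases j <;> simp [H₀]

theorem det_H₀_add : ((H₀ C) + (H₀ C)ᵀ).det = -1 := by
  rw [H₀_add, Matrix.det_fin_two_of]
  ring

theorem local_alg (T : Matrix (Fin 2 ⊕ J') (Fin 2 ⊕ J') C) (τ η ηinv : C)
    (hτ : T (Sum.inl 0) (Sum.inl 0) * τ ^ 2 + (T (Sum.inl 0) (Sum.inl 1) + T (Sum.inl 1) (Sum.inl 0)) * τ +
      T (Sum.inl 1) (Sum.inl 1) = 0)
    (hη : η = 2 * T (Sum.inl 0) (Sum.inl 0) * τ + (T (Sum.inl 0) (Sum.inl 1) + T (Sum.inl 1) (Sum.inl 0)))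
    (hinv : η * ηinv = 1) (hdet : IsUnit (T + Tᵀ).det) :
    ∃ (g : Matrix (Fin 2 ⊕ J') (Fin 2 ⊕ J') C) (D : Matrix J' J' C),
      IsUnit (D + Dᵀ).det ∧ Sim (gᵀ * T * g) (Matrix.fromBlocks (H₀ C) 0 0 D) := by
  set a := T (Sum.inl 0) (Sum.inl 0) with ha
  set c := T (Sum.inl 1) (Sum.inl 1) with hc
  set uu := T (Sum.inl 0) (Sum.inl 1) + T (Sum.inl 1) (Sum.inl 0) with huu
  set e₀ : Fin 2 ⊕ J' → C := Pi.single (Sum.inl 0) 1 with he₀
  set e₁ : Fin 2 ⊕ J' → C := Pi.single (Sum.inl 1) 1 with he₁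
  have Qe₀ : Qf T e₀ = a := Qf_single T _
  have Qe₁ : Qf T e₁ = c := Qf_single T _
  have Be₀₁ : Bf T e₀ e₁ = uu := Bf_single T _ _
  set w₀ : Fin 2 ⊕ J' → C := τ • e₀ + e₁ with hw₀
  set q : C := ηinv * ηinv * a with hq
  set w₁ : Fin 2 ⊕ J' → C := ηinv • e₀ - q • w₀ with hw₁
  have Qw₀ : Qf T w₀ = 0 := by
    rw [hw₀, Qf_add, Qf_smul, Bf_smul_left, Qe₀, Qe₁, Be₀₁]
    linear_combination hτ
  have Bw₀e₀ : Bf T w₀ e₀ = η := by
    rw [hw₀, Bf_add_left, Bf_smul_left, Bf_self, Qe₀, Bf_comm T e₁ e₀, Be₀₁, hη]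
    ring
  have Bw₀w₀ : Bf T w₀ w₀ = 0 := by rw [Bf_self, Qw₀, mul_zero]
  have Bw₀w₁ : Bf T w₀ w₁ = 1 := by
    rw [hw₁, Bf_sub_right, Bf_smul_right, Bf_smul_right, Bw₀e₀, Bw₀w₀]
    linear_combination hinv
  have Qw₁ : Qf T w₁ = 0 := by
    rw [hw₁, Qf_sub, Qf_smul, Qf_smul, Bf_smul_left, Bf_smul_right, Qe₀, Qw₀, Bf_comm T e₀ w₀, Bw₀e₀, hq]
    linear_combination (-ηinv * ηinv * a) * hinv
  have Bw₁w₁ : Bf T w₁ w₁ = 0 := by rw [Bf_self, Qw₁, mul_zero]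
  have Bw₁w₀ : Bf T w₁ w₀ = 1 := by rw [Bf_comm, Bw₀w₁]
  let el : J' → (Fin 2 ⊕ J' → C) := fun l => Pi.single (Sum.inr l) 1
  let wl : J' → (Fin 2 ⊕ J' → C) := fun l => el l - Bf T (el l) w₁ • w₀ - Bf T (el l) w₀ • w₁
  have Bwlw₀ : ∀ l, Bf T (wl l) w₀ = 0 := by
    intro l
    simp only [wl]
    rw [Bf_sub_left, Bf_sub_left, Bf_smul_left, Bf_smul_left, Bw₀w₀, Bw₁w₀]
    ring
  have Bwlw₁ : ∀ l, Bf T (wl l) w₁ = 0 := by
    intro l
    simp only [wl]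
    rw [Bf_sub_left, Bf_sub_left, Bf_smul_left, Bf_smul_left, Bw₀w₁, Bw₁w₁]
    ring
  let W : Fin 2 ⊕ J' → (Fin 2 ⊕ J' → C) := Sum.elim ![w₀, w₁] wl
  let g : Matrix (Fin 2 ⊕ J') (Fin 2 ⊕ J') C := Matrix.of fun i k => W k i
  have hcol : ∀ k, (fun i => g i k) = W k := fun k => rfl
  set T' := gᵀ * T * g with hT'
  let D : Matrix J' J' C := T'.toBlocks₂₂
  have hsim : Sim T' (Matrix.fromBlocks (H₀ C) 0 0 D) := by
    refine ⟨?_, ?_⟩
    · rintro (i | l)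
      · rw [hT', conj_diag, hcol]
        fin_cases i
        · simpa [W, H₀] using Qw₀
        · simpa [W, H₀] using Qw₁
      · rfl
    · rintro (i | l) (j | l')
      · rw [hT', conj_symm, hcol, hcol]
        fin_cases i <;> fin_cases j
        · simpa [W, H₀] using Bw₀w₀
        · simpa [W, H₀] using Bw₀w₁
        · simpa [W, H₀] using Bw₁w₀
        · simpa [W, H₀] using Bw₁w₁
      · rw [hT', conj_symm, hcol, hcol]
        fin_cases i
        · simpa [W, Bf_comm T w₀] using Bwlw₀ l'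
        · simpa [W, Bf_comm T w₁] using Bwlw₁ l'
      · rw [hT', conj_symm, hcol, hcol]
        fin_cases j
        · simpa [W] using Bwlw₀ l
        · simpa [W] using Bwlw₁ l
      · rfl
  refine ⟨g, D, ?_, hsim⟩
  -- determinant of g
  have e₀r : ∀ l : J', e₀ (Sum.inr l) = 0 := fun l => by simp [he₀]
  have e₁r : ∀ l : J', e₁ (Sum.inr l) = 0 := fun l => by simp [he₁]
  have w₀r : ∀ l : J', w₀ (Sum.inr l) = 0 := fun l => by
    simp only [hw₀, Pi.add_apply, Pi.smul_apply, e₀r, e₁r, smul_zero, add_zero]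
  have w₁r : ∀ l : J', w₁ (Sum.inr l) = 0 := fun l => by
    simp only [hw₁, Pi.sub_apply, Pi.smul_apply, e₀r, w₀r, smul_zero, sub_zero]
  have g21 : g.toBlocks₂₁ = 0 := by
    ext l i
    simp only [Matrix.toBlocks₂₁, Matrix.of_apply, g, W, Sum.elim_inl, Matrix.zero_apply]
    fin_cases i
    · simpa using w₀r l
    · simpa using w₁r l
  have g22 : g.toBlocks₂₂ = 1 := by
    ext l l'
    simp only [Matrix.toBlocks₂₂, Matrix.of_apply, g, W, Sum.elim_inr, wl, Pi.sub_apply, Pi.smul_apply,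
      w₀r, w₁r, smul_zero, sub_zero, el]
    rw [Matrix.one_apply]
    by_cases h : l = l'
    · subst h; simp
    · rw [if_neg h, Pi.single_eq_of_ne]
      intro h'; exact h (Sum.inr.inj h')
  have g11 : g.toBlocks₁₁ = !![τ, ηinv - q * τ; 1, -q] := by
    ext i j
    simp only [Matrix.toBlocks₁₁, Matrix.of_apply, g, W, Sum.elim_inl]
    fin_cases i <;> fin_cases j <;> simp [hw₀, hw₁, he₀, he₁]
  have hdetg : g.det = -ηinv := by
    rw [← Matrix.fromBlocks_toBlocks g, g21, g22, Matrix.det_fromBlocks_zero₂₁, Matrix.det_one, mul_one, g11,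
      Matrix.det_fin_two_of]
    ring
  have hunit : IsUnit g.det := by
    rw [hdetg]
    exact (IsUnit.of_mul_eq_one _ (by rw [mul_comm]; exact hinv) : IsUnit ηinv).neg
  have hP' : T' + T'ᵀ = Matrix.fromBlocks (H₀ C + (H₀ C)ᵀ) 0 0 (D + Dᵀ) := by
    rw [hsim.add_transpose, Matrix.fromBlocks_transpose, Matrix.fromBlocks_add]
    simp
  have hdet' : (T' + T'ᵀ).det = g.det * g.det * (T + Tᵀ).det := by
    rw [hT', conj_add_transpose, Matrix.det_mul, Matrix.det_mul, Matrix.det_transpose]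
    ring
  rw [hP', Matrix.det_fromBlocks_zero₂₁, det_H₀_add] at hdet'
  have : (D + Dᵀ).det = - (g.det * g.det * (T + Tᵀ).det) := by
    linear_combination -hdet'
  rw [this]
  exact ((hunit.mul hunit).mul hdet).neg

end Groth.Agent.Lib.Helper31.QS4
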