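import Mathlib
import Groth.Agent.Lib.Helper31.QS1
import Groth.Agent.Lib.Helper31.QS2
import Groth.Agent.Lib.Helper31.QS3
import Groth.Agent.Lib.Helper31.QS4

set_option linter.unusedSectionVars false

namespace Groth.Agent.Lib.Helper31.QS5

open Matrix Polynomial Groth.Agent.Lib.Helper31.QS1 Groth.Agent.Lib.Helper31.QS2
  Groth.Agent.Lib.Helper31.QS3 Groth.Agent.Lib.Helper31.QS4

universe u

variable {J' : Type} [Fintype J'] [DecidableEq J']

/-- the invariant whose invertibility allows the étale splitting step -/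
def theta {R : Type*} [CommRing R] (T : Matrix (Fin 2 ⊕ J') (Fin 2 ⊕ J') R) : R :=
  ((T (Sum.inl 0) (Sum.inl 1) + T (Sum.inl 1) (Sum.inl 0)) ^ 2 -
    4 * T (Sum.inl 0) (Sum.inl 0) * T (Sum.inl 1) (Sum.inl 1)) * T (Sum.inl 0) (Sum.inl 0)

theorem theta_map {R S : Type*} [CommRing R] [CommRing S] (φ : R →+* S)
    (T : Matrix (Fin 2 ⊕ J') (Fin 2 ⊕ J') R) : theta (T.map φ) = φ (theta T) := by
  simp [theta, Matrix.map_apply, map_ofNat]

theorem theta_conj {R : Type*} [CommRing R] (T g : Matrix (Fin 2 ⊕ J') (Fin 2 ⊕ J') R) :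
    theta (gᵀ * T * g) =
      Dd T (fun i => g i (Sum.inl 0)) (fun i => g i (Sum.inl 1)) * Qf T (fun i => g i (Sum.inl 0)) := by
  unfold theta Dd
  rw [conj_symm, conj_diag, conj_diag]

theorem det_polar_map {R S : Type*} [CommRing R] [CommRing S] (φ : R →+* S) {K : Type*} [Fintype K]
    [DecidableEq K] (T : Matrix K K R) :
    (T.map φ + (T.map φ)ᵀ).det = φ (T + Tᵀ).det := by
  rw [← Matrix.transpose_map, ← Matrix.map_add _ (by intro a b; exact map_add φ a b)]
  exact (RingHom.map_det φ _).symm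

theorem conj_map {R S : Type*} [CommRing R] [CommRing S] (φ : R →+* S) {K : Type*} [Fintype K]
    [DecidableEq K] (T g : Matrix K K R) :
    (gᵀ * T * g).map φ = (g.map φ)ᵀ * T.map φ * g.map φ := by
  rw [Matrix.map_mul, Matrix.map_mul, Matrix.transpose_map]

theorem span_theta_eq_top (A : Type u) [CommRing A] (T : Matrix (Fin 2 ⊕ J') (Fin 2 ⊕ J') A)
    (hdet : IsUnit (T + Tᵀ).det) :
    Ideal.span (Set.range fun g : Matrix (Fin 2 ⊕ J') (Fin 2 ⊕ J') A => theta (gᵀ * T * g) * g.det) = ⊤ := by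
  by_contra hne
  obtain ⟨m, hm, hle⟩ := Ideal.exists_le_maximal _ hne
  let _ := Ideal.Quotient.field m
  let π : A →+* A ⧸ m := Ideal.Quotient.mk m
  have hdet' : ((T.map π) + (T.map π)ᵀ).det ≠ 0 := by
    rw [det_polar_map]
    exact (hdet.map π).ne_zero
  have : Nontrivial (Fin 2 ⊕ J') := ⟨⟨Sum.inl 0, Sum.inl 1, by simp⟩⟩
  obtain ⟨w₀, w₁, hw⟩ := exists_good_pair (T.map π) hdet'
  have hD : Dd (T.map π) w₀ w₁ ≠ 0 := left_ne_zero_of_mul hw
  obtain ⟨gb, hgb, hg0, hg1⟩ := exists_matrix_of_pair (Sum.inl 0 : Fin 2 ⊕ J') (Sum.inl 1) (by simp) w₀ w₁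
    (linearIndependent_of_Dd _ _ _ hD)
  let g : Matrix (Fin 2 ⊕ J') (Fin 2 ⊕ J') A := fun i j => Function.surjInv Ideal.Quotient.mk_surjective (gb i j)
  have hgmap : g.map π = gb := by
    ext i j
    exact Function.surjInv_eq Ideal.Quotient.mk_surjective (gb i j)
  have hmem : theta (gᵀ * T * g) * g.det ∈ m := hle (Ideal.subset_span ⟨g, rfl⟩)
  have h0 : π (theta (gᵀ * T * g) * g.det) = 0 := Ideal.Quotient.eq_zero_iff_mem.mpr hmem
  rw [map_mul, ← theta_map, conj_map, RingHom.map_det, RingHom.mapMatrix_apply, hgmap, theta_conj] at h0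
  have e0 : (fun i => gb i (Sum.inl 0)) = w₀ := funext hg0
  have e1 : (fun i => gb i (Sum.inl 1)) = w₁ := funext hg1
  rw [e0, e1] at h0
  exact (mul_ne_zero hw hgb) h0

/-- the predicate produced by the reduction step -/
def RedP {A : Type u} [CommRing A] (T : Matrix (Fin 2 ⊕ J') (Fin 2 ⊕ J') A) :
    ∀ (C : Type u) [CommRing C], (A →+* C) → Prop :=
  fun C _ ψ => ∃ (g : Matrix (Fin 2 ⊕ J') (Fin 2 ⊕ J') C) (D : Matrix J' J' C),
    IsUnit (D + Dᵀ).det ∧ Sim (gᵀ * T.map ψ * g) (Matrix.fromBlocks (H₀ C) 0 0 D)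

theorem local_step (B : Type u) [CommRing B] (T : Matrix (Fin 2 ⊕ J') (Fin 2 ⊕ J') B)
    (hθ : IsUnit (theta T)) (hdet : IsUnit (T + Tᵀ).det) : ECover B (RedP T) := by
  set a := T (Sum.inl 0) (Sum.inl 0) with ha
  set c := T (Sum.inl 1) (Sum.inl 1) with hc
  set uu := T (Sum.inl 0) (Sum.inl 1) + T (Sum.inl 1) (Sum.inl 0) with huu
  have hθ' : IsUnit ((uu ^ 2 - 4 * a * c) * a) := hθ
  obtain ⟨ainv, hainv⟩ := isUnit_iff_exists_inv.mp (isUnit_of_mul_isUnit_right hθ')
  obtain ⟨dinv, hdinv⟩ := isUnit_iff_exists_inv.mp (isUnit_of_mul_isUnit_left hθ')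
  set b1 := uu * ainv with hb1
  set b0 := c * ainv with hb0
  set e := a * a * dinv with he
  let f : B[X] := X ^ 2 + (C b1 * X + C b0)
  have hfm : f.Monic := Polynomial.monic_X_pow_add (lt_of_le_of_lt (Polynomial.degree_linear_le) (by norm_num))
  have hfd : derivative f = 2 * X + C b1 := by
    simp only [f, derivative_add, derivative_X_pow, derivative_mul, derivative_C, derivative_X, zero_mul,
      mul_one, zero_add, add_zero, pow_one, Nat.cast_ofNat, Nat.add_one_sub_one, map_ofNat]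
  have key : e * (b1 ^ 2 - 4 * b0) = 1 := by
    rw [hb1, hb0, he]
    linear_combination (uu ^ 2 * a * ainv * dinv + uu ^ 2 * dinv - 4 * c * a * dinv) * hainv + hdinv
  have keyC : C e * (C b1 ^ 2 - 4 * C b0) = 1 := by
    have := congrArg (C : B →+* B[X]) key
    simpa only [map_mul, map_sub, map_pow, map_one, map_ofNat] using this
  let P : StandardEtalePair B :=
    { f := f
      monic_f := hfm
      g := 1
      cond := ⟨C e * derivative f, - 4 * C e, 0, by
        rw [hfd, pow_zero]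
        simp only [f]
        linear_combination keyC⟩ }
  have hPf : P.f = f := rfl
  have hPg : P.g = 1 := rfl
  refine ⟨PUnit, inferInstance, fun _ => P.Ring, fun _ => inferInstance, fun _ => algebraMap B P.Ring,
    fun _ => RingHom.etale_algebraMap.mpr inferInstance, ?_, ?_⟩
  · -- surjectivity on spectra
    intro p
    let κ := p.asIdeal.ResidueField
    let L := AlgebraicClosure κ
    have hψ : algebraMap B L = (algebraMap κ L).comp (algebraMap B κ) := IsScalarTower.algebraMap_eq B κ L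
    have hker : RingHom.ker (algebraMap B L) = p.asIdeal := by
      ext x
      rw [RingHom.mem_ker, hψ, RingHom.comp_apply, map_eq_zero_iff _ (algebraMap κ L).injective,
        ← RingHom.mem_ker, Ideal.ker_algebraMap_residueField]
    have hmap : f.map (algebraMap B L) = X ^ 2 + (C (algebraMap B L b1) * X + C (algebraMap B L b0)) := by
      simp only [f, Polynomial.map_add, Polynomial.map_pow, Polynomial.map_mul, Polynomial.map_X,
        Polynomial.map_C]
    have hdeg : (f.map (algebraMap B L)).degree ≠ 0 := by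
      rw [hmap, Polynomial.degree_add_eq_left_of_degree_lt, Polynomial.degree_X_pow]
      · norm_num
      · rw [Polynomial.degree_X_pow]
        exact lt_of_le_of_lt (Polynomial.degree_linear_le) (by norm_num)
    obtain ⟨x, hx⟩ := IsAlgClosed.exists_root _ hdeg
    have hx' : aeval x P.f = 0 := by
      rw [hPf, Polynomial.aeval_def, Polynomial.eval₂_eq_eval_map]
      exact hx
    let hom : P.Ring →ₐ[B] L := P.lift x ⟨hx', by rw [hPg, map_one]; exact isUnit_one⟩
    refine ⟨PUnit.unit, ⟨RingHom.ker hom.toRingHom, RingHom.ker_isPrime _⟩, ?_⟩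
    change Ideal.comap (algebraMap B P.Ring) (RingHom.ker hom.toRingHom) = p.asIdeal
    rw [RingHom.comap_ker, AlgHom.toRingHom_eq_coe, AlgHom.comp_algebraMap, hker]
  · intro _
    let φ : B →+* P.Ring := algebraMap B P.Ring
    have hX : aeval P.X f = 0 := (P.hasMap_X).1
    have hX' : P.X ^ 2 + (φ b1 * P.X + φ b0) = 0 := by
      simpa [f] using hX
    set τ : P.Ring := P.X with hτ
    set η : P.Ring := 2 * φ a * τ + φ uu with hη
    have hη2 : η * η = φ (uu ^ 2 - 4 * a * c) := by
      have e1 : φ a * φ b1 = φ uu := by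
        rw [← map_mul, hb1]
        congr 1
        linear_combination uu * hainv
      have e2 : φ a * φ b0 = φ c := by
        rw [← map_mul, hb0]
        congr 1
        linear_combination c * hainv
      rw [hη]
      simp only [map_sub, map_mul, map_pow, map_ofNat]
      linear_combination (4 * φ a * φ a) * hX' - (4 * φ a * τ) * e1 - (4 * φ a) * e2
    have hinv : η * (η * φ dinv) = 1 := by
      rw [← mul_assoc, hη2, ← map_mul, hdinv, map_one]
    have hroot : (T.map φ) (Sum.inl 0) (Sum.inl 0) * τ ^ 2 +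
        ((T.map φ) (Sum.inl 0) (Sum.inl 1) + (T.map φ) (Sum.inl 1) (Sum.inl 0)) * τ +
        (T.map φ) (Sum.inl 1) (Sum.inl 1) = 0 := by
      simp only [Matrix.map_apply, ← map_add]
      change φ a * τ ^ 2 + φ uu * τ + φ c = 0
      have e1 : φ a * φ b1 = φ uu := by
        rw [← map_mul, hb1]
        congr 1
        linear_combination uu * hainv
      have e2 : φ a * φ b0 = φ c := by
        rw [← map_mul, hb0]
        congr 1
        linear_combination c * hainv
      linear_combination (φ a) * hX' - τ * e1 - e2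
    have hη' : η = 2 * (T.map φ) (Sum.inl 0) (Sum.inl 0) * τ +
        ((T.map φ) (Sum.inl 0) (Sum.inl 1) + (T.map φ) (Sum.inl 1) (Sum.inl 0)) := by
      simp only [Matrix.map_apply, ← map_add]
      rfl
    have hdetφ : IsUnit ((T.map φ) + (T.map φ)ᵀ).det := by
      rw [det_polar_map]
      exact hdet.map φ
    exact local_alg (T.map φ) τ η (η * φ dinv) hroot hη' hinv hdetφ

theorem reduce (A : Type u) [CommRing A] (T : Matrix (Fin 2 ⊕ J') (Fin 2 ⊕ J') A)
    (hdet : IsUnit (T + Tᵀ).det) : ECover A (RedP T) := by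
  apply ECover.bind
  apply ECover.of_span _ (span_theta_eq_top A T hdet)
  rintro s ⟨g₀, rfl⟩
  beta_reduce
  set s := theta (g₀ᵀ * T * g₀) * g₀.det with hs
  let φ : A →+* Localization.Away s := algebraMap A (Localization.Away s)
  have hsu' : IsUnit (φ s) := IsLocalization.Away.algebraMap_isUnit s
  have hsu : IsUnit (φ (theta (g₀ᵀ * T * g₀)) * φ g₀.det) := by
    rw [← map_mul]; exact hsu'
  have hθ : IsUnit (φ (theta (g₀ᵀ * T * g₀))) := isUnit_of_mul_isUnit_left hsu
  have hg₀ : IsUnit (φ g₀.det) := isUnit_of_mul_isUnit_right hsu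
  set T₁ := (g₀ᵀ * T * g₀).map φ with hT₁
  have hθ₁ : IsUnit (theta T₁) := by rw [hT₁, theta_map]; exact hθ
  have hdet₁ : IsUnit (T₁ + T₁ᵀ).det := by
    rw [hT₁, det_polar_map, conj_add_transpose, Matrix.det_mul, Matrix.det_mul, Matrix.det_transpose,
      map_mul, map_mul]
    exact (hg₀.mul (hdet.map φ)).mul hg₀
  refine ECover.mono ?_ (local_step (Localization.Away s) T₁ hθ₁ hdet₁)
  rintro C _ ψ ⟨g, D, hD, hsim⟩
  refine ⟨g₀.map (ψ.comp φ) * g, D, hD, ?_⟩
  have : (g₀.map (ψ.comp φ) * g)ᵀ * T.map (ψ.comp φ) * (g₀.map (ψ.comp φ) * g) = gᵀ * T₁.map ψ * g := by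
    rw [hT₁, Matrix.map_map, show (⇑ψ ∘ ⇑φ) = ⇑(ψ.comp φ) from rfl, conj_map, Matrix.transpose_mul]
    simp only [Matrix.mul_assoc]
  rw [this]
  exact hsim

end Groth.Agent.Lib.Helper31.QS5
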