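import Mathlib
import Groth.Agent.Lib.Helper31.QS1
import Groth.Agent.Lib.Helper31.QS3
import Groth.Agent.Lib.Helper31.QS4
import Groth.Agent.Lib.Helper31.QS5

set_option linter.unusedSectionVars false

namespace Groth.Agent.Lib.Helper31.QS6

open Matrix Groth.Agent.Lib.Helper31.QS1 Groth.Agent.Lib.Helper31.QS3 Groth.Agent.Lib.Helper31.QS4
  Groth.Agent.Lib.Helper31.QS5

universe u

/-- the split form matrix -/
def Sp (ι : Type) [Fintype ι] [DecidableEq ι] (C : Type*) [CommRing C] : Matrix (ι ⊕ ι) (ι ⊕ ι) C :=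
  Matrix.fromBlocks 0 1 0 0

/-- the predicate on the pieces of the cover -/
def MainP (ι : Type) [Fintype ι] [DecidableEq ι] {A : Type u} [CommRing A] (T : Matrix (ι ⊕ ι) (ι ⊕ ι) A) :
    ∀ (C : Type u) [CommRing C], (A →+* C) → Prop :=
  fun C _ ψ => ∃ g : Matrix (ι ⊕ ι) (ι ⊕ ι) C, Sim (gᵀ * T.map ψ * g) (Sp ι C)

/-- the main induction statement -/
def Main (ι : Type) [Fintype ι] : Prop :=
  ∀ [DecidableEq ι] (A : Type u) [CommRing A] (T : Matrix (ι ⊕ ι) (ι ⊕ ι) A),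
    IsUnit (T + Tᵀ).det → ECover A (MainP ι T)

theorem main_empty : Main.{u} PEmpty := by
  intro _ A _ T _
  apply ECover.of_id
  refine ⟨1, ?_, ?_⟩
  · rintro (k | k) <;> exact k.elim
  · rintro (k | k) <;> exact k.elim

theorem Sim.fromBlocks {C : Type*} [CommRing C] {J₁ J₂ : Type*} [Fintype J₁] [Fintype J₂]
    (A : Matrix J₁ J₁ C) {D D' : Matrix J₂ J₂ C} (h : Sim D D') :
    Sim (Matrix.fromBlocks A 0 0 D) (Matrix.fromBlocks A 0 0 D') := by
  refine ⟨?_, ?_⟩
  · rintro (k | k)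
    · rfl
    · exact h.1 k
  · rintro (k | k) (l | l)
    · rfl
    · rfl
    · rfl
    · exact h.2 k l

theorem submatrix_conj {C : Type*} [CommRing C] {J₁ J₂ : Type*} [Fintype J₁] [Fintype J₂] [DecidableEq J₁]
    [DecidableEq J₂] (e : J₂ ≃ J₁) (T g : Matrix J₁ J₁ C) :
    (g.submatrix e e)ᵀ * T.submatrix e e * g.submatrix e e = (gᵀ * T * g).submatrix e e := by
  rw [Matrix.transpose_submatrix, Matrix.submatrix_mul_equiv, Matrix.submatrix_mul_equiv]

theorem main_equiv {α β : Type} [Fintype α] [Fintype β] (e : α ≃ β) (h : Main.{u} α) : Main.{u} β := by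
  classical
  intro _ A _ T hdet
  let E : α ⊕ α ≃ β ⊕ β := e.sumCongr e
  let Tα : Matrix (α ⊕ α) (α ⊕ α) A := T.submatrix E E
  have hdetα : IsUnit (Tα + Tαᵀ).det := by
    have : Tα + Tαᵀ = (T + Tᵀ).submatrix E E := rfl
    rw [this, Matrix.det_submatrix_equiv_self]
    exact hdet
  refine ECover.mono ?_ (h A Tα hdetα)
  rintro C _ ψ ⟨g, hsim⟩
  refine ⟨g.submatrix E.symm E.symm, ?_⟩
  have hT : T.map ψ = (Tα.map ψ).submatrix E.symm E.symm := by
    ext i j
    simp [Tα]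
  rw [hT, submatrix_conj]
  have := Sim.submatrix hsim E.symm
  convert this using 1
  ext i j
  rcases i with i | i <;> rcases j with j | j <;>
    simp [Sp, E, Matrix.one_apply]

/-- the reindexing equivalence -/
def eps (ι' : Type) : Option ι' ⊕ Option ι' ≃ Fin 2 ⊕ (ι' ⊕ ι') where
  toFun := fun x => match x with
    | Sum.inl none => Sum.inl 0
    | Sum.inr none => Sum.inl 1
    | Sum.inl (some k) => Sum.inr (Sum.inl k)
    | Sum.inr (some k) => Sum.inr (Sum.inr k)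
  invFun := fun x => match x with
    | Sum.inl i => if i = 0 then Sum.inl none else Sum.inr none
    | Sum.inr (Sum.inl k) => Sum.inl (some k)
    | Sum.inr (Sum.inr k) => Sum.inr (some k)
  left_inv := by
    rintro ((_ | k) | (_ | k)) <;> simp
  right_inv := by
    rintro (i | (k | k))
    · fin_cases i <;> simp
    · simp
    · simp

theorem Sp_option (ι' : Type) [Fintype ι'] [DecidableEq ι'] [DecidableEq (Option ι')] (C : Type*) [CommRing C] :
    (Matrix.fromBlocks (H₀ C) 0 0 (Sp ι' C)).submatrix (eps ι') (eps ι') = Sp (Option ι') C := by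
  ext i j
  rcases i with (_ | i) | (_ | i) <;> rcases j with (_ | j) | (_ | j) <;>
    simp [Sp, eps, H₀, Matrix.one_apply]

theorem main_option {ι' : Type} [Fintype ι'] (ih : Main.{u} ι') : Main.{u} (Option ι') := by
  classical
  intro _ A _ T hdet
  let ε := eps ι'
  let TK : Matrix (Fin 2 ⊕ (ι' ⊕ ι')) (Fin 2 ⊕ (ι' ⊕ ι')) A := T.submatrix ε.symm ε.symm
  have hdetK : IsUnit (TK + TKᵀ).det := by
    have : TK + TKᵀ = (T + Tᵀ).submatrix ε.symm ε.symm := rfl
    rw [this, Matrix.det_submatrix_equiv_self]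
    exact hdet
  apply ECover.bind
  refine ECover.mono ?_ (reduce A TK hdetK)
  rintro C _ ψ ⟨g₁, D, hD, hsim⟩
  refine ECover.mono ?_ (ih C D hD)
  rintro C' _ ψ' ⟨g₃, hsim3⟩
  let g₄ : Matrix (Fin 2 ⊕ (ι' ⊕ ι')) (Fin 2 ⊕ (ι' ⊕ ι')) C' := Matrix.fromBlocks 1 0 0 g₃
  let gK := g₁.map ψ' * g₄
  refine ⟨gK.submatrix ε ε, ?_⟩
  have hT : T.map (ψ'.comp ψ) = (TK.map (ψ'.comp ψ)).submatrix ε ε := by
    ext i j
    simp [TK]
  rw [hT, submatrix_conj, ← Sp_option]
  apply Sim.submatrix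
  -- now the statement over `Fin 2 ⊕ (ι' ⊕ ι')`
  have e1 : gKᵀ * TK.map (ψ'.comp ψ) * gK = g₄ᵀ * ((g₁ᵀ * TK.map ψ * g₁).map ψ') * g₄ := by
    rw [conj_map, Matrix.map_map, show (⇑ψ' ∘ ⇑ψ) = ⇑(ψ'.comp ψ) from rfl]
    simp only [gK, Matrix.transpose_mul, Matrix.mul_assoc]
  rw [e1]
  refine ((hsim.map ψ').conj g₄).trans ?_
  have e2 : (Matrix.fromBlocks (H₀ C) 0 0 D).map ψ' = Matrix.fromBlocks (H₀ C') 0 0 (D.map ψ') := by
    rw [Matrix.fromBlocks_map]
    congr 1
    · ext i j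
      fin_cases i <;> fin_cases j <;> simp [H₀]
    · ext i j; simp
    · ext i j; simp
  have e3 : g₄ᵀ * Matrix.fromBlocks (H₀ C') 0 0 (D.map ψ') * g₄ =
      Matrix.fromBlocks (H₀ C') 0 0 (g₃ᵀ * D.map ψ' * g₃) := by
    simp only [g₄, Matrix.fromBlocks_transpose, Matrix.fromBlocks_multiply, Matrix.transpose_one,
      Matrix.transpose_zero, Matrix.one_mul, Matrix.mul_one, Matrix.zero_mul, Matrix.mul_zero, add_zero,
      zero_add]
  rw [e2, e3]
  exact Sim.fromBlocks _ hsim3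

theorem main_all (ι : Type) [Fintype ι] : Main.{u} ι := by
  refine Fintype.induction_empty_option (P := fun α _ => Main.{u} α) ?_ ?_ ?_ ι
  · intro α β _ e h
    exact @main_equiv α β (Fintype.ofEquiv β e.symm) _ e h
  · exact main_empty
  · intro α _ h
    exact main_option h

end Groth.Agent.Lib.Helper31.QS6
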