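import Mathlib
import Groth.Agent.Lib.Helper31.QS1
import Groth.Agent.Lib.Helper31.QS3
import Groth.Agent.Lib.Helper31.QS5
import Groth.Agent.Lib.Helper31.QS6

set_option linter.unusedSectionVars false

namespace Groth.Agent.Lib.Helper31.QS7

open Matrix Groth.Agent.Lib.Helper31.QS1 Groth.Agent.Lib.Helper31.QS3 Groth.Agent.Lib.Helper31.QS5
  Groth.Agent.Lib.Helper31.QS6

universe u

theorem Qf_Sp {ι : Type} [Fintype ι] [DecidableEq ι] {C : Type*} [CommRing C] (x : ι ⊕ ι → C) :
    Qf (Sp ι C) x = ∑ j : ι, x (Sum.inl j) * x (Sum.inr j) := by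
  unfold Qf Sp
  rw [← Sum.elim_comp_inl_inr x, Matrix.fromBlocks_mulVec]
  simp [dotProduct, Fintype.sum_sum_type]

theorem isUnit_det_Sp {ι : Type} [Fintype ι] [DecidableEq ι] {C : Type*} [CommRing C] :
    IsUnit (Sp ι C + (Sp ι C)ᵀ).det := by
  have h : (Sp ι C + (Sp ι C)ᵀ) * (Sp ι C + (Sp ι C)ᵀ) = 1 := by
    unfold Sp
    rw [Matrix.fromBlocks_transpose, Matrix.fromBlocks_add, Matrix.fromBlocks_multiply]
    simp [Matrix.fromBlocks_one]
  have := congrArg Matrix.det h
  rw [Matrix.det_mul, Matrix.det_one] at this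
  exact IsUnit.of_mul_eq_one _ this

theorem final (A : Type u) [CommRing A] (m : ℕ)
    (a : (Fin m ⊕ Fin m) → (Fin m ⊕ Fin m) → A) :
    let rk : Fin m ⊕ Fin m → ℕ := Sum.elim Fin.val (fun k => m + k.val)
    let QB : ∀ (B : Type u) [CommRing B] [Algebra A B], ((Fin m ⊕ Fin m) → B) → B :=
      fun B _ _ x => ∑ i, ∑ j, if rk i ≤ rk j then algebraMap A B (a i j) * x i * x j else 0
    IsUnit (Matrix.det (Matrix.of fun i j : Fin m ⊕ Fin m =>
      if i = j then a i i + a i i else if rk i ≤ rk j then a i j else a j i)) →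
    ∃ (n : ℕ) (B : Fin n → Type u) (_ : ∀ t, CommRing (B t)) (_ : ∀ t, Algebra A (B t)),
      (∀ t, Algebra.Etale A (B t)) ∧
      (∀ p : PrimeSpectrum A, ∃ (t : Fin n) (q : PrimeSpectrum (B t)),
        q.asIdeal.comap (algebraMap A (B t)) = p.asIdeal) ∧
      ∀ t, ∃ g : Matrix (Fin m ⊕ Fin m) (Fin m ⊕ Fin m) (B t), IsUnit g.det ∧
        ∀ x : Fin m ⊕ Fin m → B t, QB (B t) (g.mulVec x) = ∑ j : Fin m, x (Sum.inl j) * x (Sum.inr j) := by
  intro rk QB hdet
  have hrk : Function.Injective rk := by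
    rintro (i | i) (j | j) h
    · simp only [rk, Sum.elim_inl] at h
      rw [Fin.ext h]
    · simp only [rk, Sum.elim_inl, Sum.elim_inr] at h
      have := i.isLt
      omega
    · simp only [rk, Sum.elim_inl, Sum.elim_inr] at h
      have := j.isLt
      omega
    · simp only [rk, Sum.elim_inr] at h
      have : i = j := Fin.ext (by omega)
      rw [this]
  let T : Matrix (Fin m ⊕ Fin m) (Fin m ⊕ Fin m) A := Matrix.of fun i j => if rk i ≤ rk j then a i j else 0
  have hT : T + Tᵀ = Matrix.of fun i j : Fin m ⊕ Fin m =>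
      if i = j then a i i + a i i else if rk i ≤ rk j then a i j else a j i := by
    ext i j
    simp only [T, Matrix.add_apply, Matrix.transpose_apply, Matrix.of_apply]
    by_cases hij : i = j
    · subst hij
      simp
    · rw [if_neg hij]
      have hne : rk i ≠ rk j := fun h => hij (hrk h)
      by_cases hle : rk i ≤ rk j
      · rw [if_pos hle, if_neg (by omega), add_zero, if_pos hle]
      · rw [if_neg hle, if_pos (by omega), zero_add, if_neg hle]
  obtain ⟨n, B, iB, alg, hE, hcov, h3⟩ := (main_all (Fin m) A T (by rw [hT]; exact hdet)).toFin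
  refine ⟨n, B, iB, alg, hE, hcov, fun t => ?_⟩
  obtain ⟨g, hsim⟩ := h3 t
  set φ := algebraMap A (B t) with hφ
  refine ⟨g, ?_, ?_⟩
  · have h1 := hsim.add_transpose
    rw [conj_add_transpose] at h1
    have h2 : IsUnit (gᵀ * (T.map φ + (T.map φ)ᵀ) * g).det := by
      rw [h1]; exact isUnit_det_Sp
    rw [Matrix.det_mul, Matrix.det_mul, Matrix.det_transpose] at h2
    exact isUnit_of_mul_isUnit_right h2
  · intro x
    have hQB : ∀ y : Fin m ⊕ Fin m → B t, QB (B t) y = Qf (T.map φ) y := by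
      intro y
      simp only [QB, Qf, dotProduct, Matrix.mulVec, Matrix.map_apply, T, Matrix.of_apply, Finset.mul_sum]
      refine Finset.sum_congr rfl fun i _ => Finset.sum_congr rfl fun j _ => ?_
      by_cases hle : rk i ≤ rk j
      · rw [if_pos hle, if_pos hle]; ring
      · rw [if_neg hle, if_neg hle, map_zero]; ring
    rw [hQB, Qf_mulVec, hsim.Qf_eq, Qf_Sp]

end Groth.Agent.Lib.Helper31.QS7
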