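import Mathlib
import Groth.Prelude.Def_W4c4chowquasisplitPn2

/-! QsChow truncated algebra over `F_2` (helper31): lifts to the polynomial ring, monomial ideals. -/

set_option linter.unusedSectionVars false
set_option linter.unusedVariables false

namespace Groth.Agent.Lib.Helper31.Qs

open MvPolynomial QsChow

/-- characteristic two -/
theorem add_self2 {A : Type*} [Ring A] [Algebra (ZMod 2) A] (y : A) : y + y = 0 := by
  have h : ((1 : ZMod 2) + 1) • y = 0 := by
    have : ((1 : ZMod 2) + 1) = 0 := by decide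
    rw [this, zero_smul]
  rwa [add_smul, one_smul] at h

theorem sub_eq_add2 {A : Type*} [Ring A] [Algebra (ZMod 2) A] (x y : A) : x - y = x + y := by
  have := add_self2 y
  have h : -y = y := by
    rw [neg_eq_iff_add_eq_zero]; exact this
  rw [sub_eq_add_neg, h]

theorem eq_add_of_add_eq2 {A : Type*} [Ring A] [Algebra (ZMod 2) A] {x y z : A} (h : x + y = z) :
    x = z + y := by
  rw [← h, add_assoc, add_self2, add_zero]

variable {n : ℕ}

theorem numVars_pos : 0 < numVars n := by unfold numVars; omega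

theorem numVars_ge (hn : 2 ≤ n) : 2 ≤ numVars n := by unfold numVars; omega

theorem evarE_succ (i : Fin (numVars n)) : evarE n (i.val + 1) = X i := by
  unfold evarE
  rw [dif_pos ⟨by omega, by have := i.2; omega⟩]
  congr 1

theorem eps_eq (j : ℕ) : eps n j = Ideal.Quotient.mk (truncIdeal n) (evarE n j) := by
  unfold eps evarE
  split_ifs with h
  · rfl
  · rw [map_zero]

/-- `u = ε_1` upstairs -/
noncomputable abbrev u (n : ℕ) : FreeP n := evarE n 1
/-- `t = ε_2` upstairs -/
noncomputable abbrev t (n : ℕ) : FreeP n := evarE n 2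

theorem u_eq : u n = X ⟨0, numVars_pos⟩ := evarE_succ (⟨0, numVars_pos⟩ : Fin (numVars n))

theorem t_eq (hn : 2 ≤ n) : t n = X ⟨1, numVars_ge hn⟩ :=
  evarE_succ (⟨1, numVars_ge hn⟩ : Fin (numVars n))

theorem u_ne_zero : u n ≠ 0 := by rw [u_eq]; exact X_ne_zero _

/-- the generators of the lifted involution -/
noncomputable def tauGen (n : ℕ) (i : Fin (numVars n)) : FreeP n :=
  if i.val = 0 then X i else X i + u n ^ (2 * (i.val + 1) - 3)

/-- the lifted involution -/
noncomputable def tauL (n : ℕ) : FreeP n →ₐ[ZMod 2] FreeP n := aeval (tauGen n)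

/-- the lifted generators `ē_j` -/
noncomputable def psiGen (n : ℕ) (i : Fin (numVars n)) : FreeP n :=
  if i.val = 0 then u n
  else if i.val = 1 then t n ^ 2 + u n * t n
  else evarE n (i.val + 1) + u n ^ (2 * (i.val + 1) - 4) * t n

/-- the lift of `ψ` -/
noncomputable def psiL (n : ℕ) : FreeP n →ₐ[ZMod 2] FreeP n := aeval (psiGen n)

/-- the lift of `φ` -/
noncomputable def phiGen (n : ℕ) : Option (Fin (numVars n)) → FreeP n
  | none => u n ^ (n - 1) * t n
  | some i => psiGen n i

noncomputable def phiL (n : ℕ) : FreeE n →ₐ[ZMod 2] FreeP n := aeval (phiGen n)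

/-- the quotient map as an algebra hom -/
noncomputable abbrev mkP (n : ℕ) : FreeP n →ₐ[ZMod 2] P n := Ideal.Quotient.mkₐ (ZMod 2) (truncIdeal n)

theorem mkP_apply (p : FreeP n) : mkP n p = Ideal.Quotient.mk (truncIdeal n) p := rfl

theorem mkP_u : mkP n (u n) = eps n 1 := (eps_eq 1).symm
theorem mkP_t : mkP n (t n) = eps n 2 := (eps_eq 2).symm

theorem mkP_psiGen (i : Fin (numVars n)) : mkP n (psiGen n i) = genImage n (some i) := by
  unfold psiGen
  simp only [genImage]
  split_ifs with h0 h1
  · exact mkP_u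
  · rw [map_add, map_pow, map_mul, mkP_u, mkP_t]
  · rw [map_add, map_mul, map_pow, mkP_u, mkP_t, mkP_apply, ← eps_eq]

theorem mkP_psiL (p : FreeP n) : mkP n (psiL n p) = psi n p := by
  have : (mkP n).comp (psiL n) = psi n := by
    apply MvPolynomial.algHom_ext
    intro i
    simp only [AlgHom.comp_apply, psiL, psi, aeval_X]
    exact mkP_psiGen i
  exact DFunLike.congr_fun this p

theorem mkP_phiL (p : FreeE n) : mkP n (phiL n p) = phi n p := by
  have : (mkP n).comp (phiL n) = phi n := by
    apply MvPolynomial.algHom_ext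
    intro i
    simp only [AlgHom.comp_apply, phiL, phi, aeval_X]
    cases i with
    | none =>
      simp only [phiGen, genImage]
      rw [map_mul, map_pow, mkP_u, mkP_t]
    | some i => exact mkP_psiGen i
  exact DFunLike.congr_fun this p

theorem phiL_rename (p : FreeP n) : phiL n (rename some p) = psiL n p := by
  unfold phiL psiL
  rw [aeval_rename]
  rfl

theorem phiL_X_none : phiL n (X none) = u n ^ (n - 1) * t n := by
  unfold phiL
  rw [aeval_X]
  rfl

theorem tauL_u : tauL n (u n) = u n := by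
  rw [u_eq]
  unfold tauL
  rw [aeval_X]
  unfold tauGen
  rw [if_pos rfl]

theorem tauL_X (i : Fin (numVars n)) (hi : i.val ≠ 0) :
    tauL n (X i) = X i + u n ^ (2 * (i.val + 1) - 3) := by
  unfold tauL
  rw [aeval_X]
  unfold tauGen
  rw [if_neg hi]

theorem tauL_t (hn : 2 ≤ n) : tauL n (t n) = t n + u n := by
  rw [t_eq hn, tauL_X _ (by simp)]
  simp

/-- compatibility of the given involution with its lift -/
theorem tau_mk (τ : P n →ₐ[ZMod 2] P n) (hτ1 : τ (eps n 1) = eps n 1)
    (hτ : ∀ j : ℕ, 2 ≤ j → j ≤ numVars n → τ (eps n j) = eps n j + eps n 1 ^ (2 * j - 3))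
    (p : FreeP n) : τ (mkP n p) = mkP n (tauL n p) := by
  have : τ.comp (mkP n) = (mkP n).comp (tauL n) := by
    apply MvPolynomial.algHom_ext
    intro i
    simp only [AlgHom.comp_apply]
    by_cases h0 : i.val = 0
    · have hi : (X i : FreeP n) = u n := by
        rw [u_eq]; congr 1; exact Fin.ext h0
      rw [hi, tauL_u, mkP_u, hτ1]
    · rw [tauL_X i h0, map_add, map_pow, mkP_u, ← evarE_succ i, mkP_apply, ← eps_eq]
      exact hτ (i.val + 1) (by omega) (by have := i.2; omega)
  exact DFunLike.congr_fun this p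

theorem tauL_psiL (hn : 2 ≤ n) (p : FreeP n) : tauL n (psiL n p) = psiL n p := by
  have : (tauL n).comp (psiL n) = psiL n := by
    apply MvPolynomial.algHom_ext
    intro i
    simp only [AlgHom.comp_apply, psiL, aeval_X]
    unfold psiGen
    split_ifs with h0 h1
    · exact tauL_u
    · rw [map_add, map_pow, map_mul, tauL_u, tauL_t hn]
      have h2 := add_self2 (u n * u n)
      have h3 := add_self2 (t n * u n)
      linear_combination h2 + h3
    · rw [map_add, map_mul, map_pow, tauL_u, tauL_t hn, evarE_succ, tauL_X i h0]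
      have e1 : 2 * (i.val + 1) - 3 = (2 * (i.val + 1) - 4) + 1 := by omega
      rw [e1, pow_succ]
      have h2 := add_self2 (u n ^ (2 * (i.val + 1) - 4) * u n)
      linear_combination h2
  exact DFunLike.congr_fun this p

/-- `y + τ̃ y` in terms of a decomposition -/
theorem one_add_tauL (hn : 2 ≤ n) (a b : FreeP n) :
    (psiL n a + psiL n b * t n) + tauL n (psiL n a + psiL n b * t n) = u n * psiL n b := by
  rw [map_add, map_mul, tauL_psiL hn, tauL_psiL hn, tauL_t hn]
  have h1 := add_self2 (psiL n a)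
  have h2 := add_self2 (psiL n b * t n)
  linear_combination h1 + h2

/-- directness of the decomposition -/
theorem decomp_unique (hn : 2 ≤ n) (a b : FreeP n) (h : psiL n a + psiL n b * t n = 0) :
    psiL n b = 0 ∧ psiL n a = 0 := by
  have h1 := one_add_tauL hn a b
  rw [h, map_zero, add_zero] at h1
  have hb : psiL n b = 0 := by
    rcases mul_eq_zero.1 h1.symm with h2 | h2
    · exact absurd h2 u_ne_zero
    · exact h2
  refine ⟨hb, ?_⟩
  rw [hb, zero_mul, add_zero] at h
  exact h

theorem psiL_X0 : psiL n (X ⟨0, numVars_pos⟩) = u n := by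
  unfold psiL
  rw [aeval_X]
  unfold psiGen
  rw [if_pos rfl]

theorem psiL_X1 (hn : 2 ≤ n) : psiL n (X ⟨1, numVars_ge hn⟩) = t n ^ 2 + u n * t n := by
  unfold psiL
  rw [aeval_X]
  unfold psiGen
  rw [if_neg (by simp), if_pos rfl]

theorem t_sq (hn : 2 ≤ n) : t n * t n = psiL n (X ⟨1, numVars_ge hn⟩) + u n * t n := by
  rw [psiL_X1 hn]
  have := add_self2 (u n * t n)
  linear_combination -this

/-- every polynomial decomposes as `ψ̃ a + ψ̃ b · t` -/
theorem decomp (hn : 2 ≤ n) (y : FreeP n) : ∃ a b : FreeP n, y = psiL n a + psiL n b * t n := by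
  induction y using MvPolynomial.induction_on with
  | C c =>
    refine ⟨C c, 0, ?_⟩
    rw [map_zero, zero_mul, add_zero]
    unfold psiL
    rw [aeval_C]
    rfl
  | add p q hp hq =>
    obtain ⟨a, b, rfl⟩ := hp
    obtain ⟨a', b', rfl⟩ := hq
    refine ⟨a + a', b + b', ?_⟩
    rw [map_add, map_add]
    ring
  | mul_X p i hp =>
    obtain ⟨a, b, rfl⟩ := hp
    have ht2 := t_sq hn
    by_cases h0 : i.val = 0
    · have hi : (X i : FreeP n) = psiL n (X ⟨0, numVars_pos⟩) := by
        rw [psiL_X0, u_eq]; congr 1; exact Fin.ext h0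
      refine ⟨a * X ⟨0, numVars_pos⟩, b * X ⟨0, numVars_pos⟩, ?_⟩
      rw [hi, map_mul, map_mul]
      ring
    · by_cases h1 : i.val = 1
      · have hi : (X i : FreeP n) = t n := by
          rw [t_eq hn]; congr 1; exact Fin.ext h1
        refine ⟨b * X ⟨1, numVars_ge hn⟩, a + b * X ⟨0, numVars_pos⟩, ?_⟩
        rw [hi, map_mul, map_add, map_mul, psiL_X0]
        linear_combination (psiL n b) * ht2
      · -- general variable
        have hpsi : psiL n (X i) = X i + u n ^ (2 * (i.val + 1) - 4) * t n := by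
          unfold psiL
          rw [aeval_X]
          unfold psiGen
          rw [if_neg h0, if_neg h1, evarE_succ]
        have hXi : (X i : FreeP n) = psiL n (X i) + u n ^ (2 * (i.val + 1) - 4) * t n :=
          eq_add_of_add_eq2 hpsi.symm
        set e := 2 * (i.val + 1) - 4 with he
        refine ⟨a * X i + b * X ⟨0, numVars_pos⟩ ^ e * X ⟨1, numVars_ge hn⟩,
          a * X ⟨0, numVars_pos⟩ ^ e + b * X i + b * X ⟨0, numVars_pos⟩ ^ (e + 1), ?_⟩
        simp only [map_add, map_mul, map_pow, psiL_X0]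
        rw [pow_succ]
        linear_combination (psiL n a + psiL n b * t n) * hXi + (psiL n b * u n ^ e) * ht2

/-! ### monomial ideals -/

/-- the monomial ideal with exponents `e` -/
noncomputable def monId (e : Fin (numVars n) → ℕ) : Ideal (FreeP n) :=
  Ideal.span (Set.range fun i => (X i : FreeP n) ^ e i)

theorem truncIdeal_eq : truncIdeal n = monId (bound n) := rfl

theorem mem_monId {e : Fin (numVars n) → ℕ} {f : FreeP n} :
    f ∈ monId e ↔ ∀ d ∈ f.support, ∃ i, e i ≤ d i := by
  have h1 : monId e = Ideal.span ((fun s => monomial s (1 : ZMod 2)) ''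
      (Set.range fun i => Finsupp.single i (e i))) := by
    unfold monId
    congr 1
    ext p
    simp only [Set.mem_range, Set.mem_image, exists_exists_eq_and]
    constructor
    · rintro ⟨i, rfl⟩
      exact ⟨i, (X_pow_eq_monomial).symm⟩
    · rintro ⟨i, rfl⟩
      exact ⟨i, X_pow_eq_monomial⟩
  rw [h1, mem_ideal_span_monomial_image]
  constructor
  · intro h d hd
    obtain ⟨si, ⟨i, rfl⟩, hle⟩ := h d hd
    refine ⟨i, ?_⟩
    have := hle i
    simpa using this
  · intro h d hd
    obtain ⟨i, hi⟩ := h d hd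
    refine ⟨Finsupp.single i (e i), ⟨i, rfl⟩, ?_⟩
    intro j
    by_cases hij : j = i
    · subst hij; simpa using hi
    · simp [Ne.symm hij]

/-- colon of a monomial ideal by a power of a variable -/
theorem colon (e : Fin (numVars n) → ℕ) (i0 : Fin (numVars n)) (r : ℕ) (c : FreeP n)
    (h : X i0 ^ r * c ∈ monId e) : c ∈ monId (Function.update e i0 (e i0 - r)) := by
  rw [mem_monId] at h ⊢
  intro d hd
  have hc : coeff d c ≠ 0 := mem_support_iff.1 hd
  have h1 : coeff (Finsupp.single i0 r + d) (X i0 ^ r * c) = coeff d c := by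
    rw [X_pow_eq_monomial, coeff_monomial_mul, one_mul]
  have h2 : Finsupp.single i0 r + d ∈ (X i0 ^ r * c).support := by
    rw [mem_support_iff, h1]; exact hc
  obtain ⟨i, hi⟩ := h _ h2
  refine ⟨i, ?_⟩
  by_cases hii : i = i0
  · subst hii
    rw [Function.update_self]
    simp only [Finsupp.coe_add, Pi.add_apply, Finsupp.single_eq_same] at hi
    omega
  · rw [Function.update_of_ne hii]
    simpa [Finsupp.single_apply, Ne.symm hii] using hi

theorem monId_update_le (e : Fin (numVars n) → ℕ) (i0 : Fin (numVars n)) (m : ℕ) (hm : m ≤ e i0) :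
    monId (Function.update e i0 m) ≤ monId e ⊔ Ideal.span {(X i0 : FreeP n) ^ m} := by
  unfold monId
  rw [Ideal.span_le]
  rintro _ ⟨i, rfl⟩
  by_cases hii : i = i0
  · subst hii
    simp only [Function.update_self]
    exact Ideal.mem_sup_right (Ideal.subset_span rfl)
  · simp only [Function.update_of_ne hii]
    exact Ideal.mem_sup_left (Ideal.subset_span ⟨i, rfl⟩)

theorem bound_zero : bound n ⟨0, numVars_pos⟩ = n := by
  unfold bound
  rw [if_pos rfl]

/-- `u^r c ∈ I + (u^m)` implies `c ∈ I + (u^(m-r))` for `m ≤ n` -/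
theorem colon_u (m r : ℕ) (hm : m ≤ n) (c : FreeP n)
    (h : u n ^ r * c ∈ truncIdeal n ⊔ Ideal.span {u n ^ m}) :
    ∃ i ∈ truncIdeal n, ∃ c' : FreeP n, c = i + u n ^ (m - r) * c' := by
  set i0 : Fin (numVars n) := ⟨0, numVars_pos⟩ with hi0
  have hle : truncIdeal n ⊔ Ideal.span {u n ^ m} ≤ monId (Function.update (bound n) i0 m) := by
    rw [sup_le_iff]
    constructor
    · rw [truncIdeal_eq]
      unfold monId
      rw [Ideal.span_le]
      rintro _ ⟨i, rfl⟩
      by_cases hii : i = i0
      · subst hii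
        have : (X i0 : FreeP n) ^ bound n i0 = X i0 ^ (bound n i0 - m) * X i0 ^ m := by
          rw [← pow_add]; congr 1; rw [bound_zero]; omega
        rw [SetLike.mem_coe]
        show (X i0 : FreeP n) ^ bound n i0 ∈ _
        rw [this]
        apply Ideal.mul_mem_left
        apply Ideal.subset_span
        exact ⟨i0, by simp⟩
      · apply Ideal.subset_span
        exact ⟨i, by simp [Function.update_of_ne hii]⟩
    · rw [Ideal.span_le, Set.singleton_subset_iff, u_eq]
      apply Ideal.subset_span
      exact ⟨i0, by simp [hi0]⟩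
  have h1 := hle h
  rw [u_eq] at h1
  have h2 := colon _ i0 r c h1
  rw [Function.update_self, Function.update_idem] at h2
  have h3 := monId_update_le (bound n) i0 (m - r) (by rw [bound_zero]; omega) h2
  rw [← truncIdeal_eq] at h3
  obtain ⟨i, hi, j, hj, rfl⟩ := Submodule.mem_sup.1 h3
  obtain ⟨c', rfl⟩ := Ideal.mem_span_singleton'.1 hj
  refine ⟨i, hi, c', ?_⟩
  rw [u_eq, mul_comm]

theorem u_pow_mem : u n ^ n ∈ truncIdeal n := by
  rw [u_eq]
  apply Ideal.subset_span
  exact ⟨⟨0, numVars_pos⟩, by simp only [bound_zero]⟩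

theorem u_pow_mem' (k : ℕ) (hk : n ≤ k) : u n ^ k ∈ truncIdeal n := by
  have : u n ^ k = u n ^ (k - n) * u n ^ n := by rw [← pow_add]; congr 1; omega
  rw [this]
  exact Ideal.mul_mem_left _ _ u_pow_mem

/-- the truncation ideal is stable under the lifted involution, given the involution downstairs -/
theorem tauL_mem (τ : P n →ₐ[ZMod 2] P n) (hτ1 : τ (eps n 1) = eps n 1)
    (hτ : ∀ j : ℕ, 2 ≤ j → j ≤ numVars n → τ (eps n j) = eps n j + eps n 1 ^ (2 * j - 3))
    {i : FreeP n} (hi : i ∈ truncIdeal n) : tauL n i ∈ truncIdeal n := by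
  have h0 : mkP n i = 0 := Ideal.Quotient.eq_zero_iff_mem.2 hi
  have h1 := tau_mk τ hτ1 hτ i
  rw [h0, map_zero] at h1
  exact Ideal.Quotient.eq_zero_iff_mem.1 h1.symm

theorem mkP_eq_zero {p : FreeP n} : mkP n p = 0 ↔ p ∈ truncIdeal n :=
  Ideal.Quotient.eq_zero_iff_mem

theorem mkP_surj (y : P n) : ∃ p : FreeP n, mkP n p = y := Ideal.Quotient.mk_surjective y

end Groth.Agent.Lib.Helper31.Qs
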