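import Mathlib
import Groth.Agent.Lib.Helper31.Qs1

/-! QsChow truncated algebra over `F_2` (helper31): the relations `h_j` and their images. -/

set_option linter.unusedSectionVars false
set_option linter.unusedVariables false

namespace Groth.Agent.Lib.Helper31.Qs

open MvPolynomial QsChow

/-- Frobenius in characteristic two -/
theorem add_pow_two_pow2 {A : Type*} [CommRing A] [Algebra (ZMod 2) A] (x y : A) (k : ℕ) :
    (x + y) ^ 2 ^ k = x ^ 2 ^ k + y ^ 2 ^ k := by
  induction k with
  | zero => simp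
  | succ k ih =>
    rw [pow_succ, pow_mul, ih, pow_mul, pow_mul]
    have := add_self2 (x ^ 2 ^ k * y ^ 2 ^ k)
    linear_combination this

/-- the telescoping sum -/
theorem sp_sum {A : Type*} [CommRing A] [Algebra (ZMod 2) A] (u t : A) (k : ℕ) :
    ∑ i ∈ Finset.range k, u ^ (2 ^ k - 2 ^ (i + 1)) * (t ^ 2 + u * t) ^ 2 ^ i =
      t ^ 2 ^ k + u ^ (2 ^ k - 1) * t := by
  induction k with
  | zero =>
    simp
    exact (add_self2 t).symm
  | succ k ih =>
    rw [Finset.sum_range_succ]
    have h1 : ∑ i ∈ Finset.range k, u ^ (2 ^ (k + 1) - 2 ^ (i + 1)) * (t ^ 2 + u * t) ^ 2 ^ i =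
        u ^ 2 ^ k * ∑ i ∈ Finset.range k, u ^ (2 ^ k - 2 ^ (i + 1)) * (t ^ 2 + u * t) ^ 2 ^ i := by
      rw [Finset.mul_sum]
      apply Finset.sum_congr rfl
      intro i hi
      have hik : i + 1 ≤ k := by
        have := Finset.mem_range.1 hi
        omega
      have h2 : 2 ^ (i + 1) ≤ 2 ^ k := Nat.pow_le_pow_right (by norm_num) hik
      have h3 : 2 ^ (k + 1) - 2 ^ (i + 1) = 2 ^ k + (2 ^ k - 2 ^ (i + 1)) := by
        rw [pow_succ]
        omega
      rw [h3, pow_add]
      ring
    rw [h1, ih, Nat.sub_self, pow_zero, one_mul, add_pow_two_pow2, mul_pow]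
    have h4 : 2 ^ (k + 1) - 1 = 2 ^ k + (2 ^ k - 1) := by
      have : 1 ≤ 2 ^ k := Nat.one_le_two_pow
      rw [pow_succ]
      omega
    have h5 : (t ^ 2) ^ 2 ^ k = t ^ 2 ^ (k + 1) := by
      rw [← pow_mul, pow_succ]
      congr 1
      ring
    rw [h4, pow_add, h5]
    have := add_self2 (u ^ 2 ^ k * t ^ 2 ^ k)
    linear_combination this

theorem klog_le (n j : ℕ) (hj : 2 ≤ j) : n ≤ (2 * j - 3) * 2 ^ klog n j := by
  unfold klog
  have hD : 0 < 2 * j - 3 := by omega
  have h1 := Nat.lt_pow_succ_log_self (by norm_num : 1 < 2) ((2 * n - 1) / (2 * j - 3))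
  rw [Nat.div_lt_iff_lt_mul hD, pow_succ] at h1
  set w := 2 ^ Nat.log 2 ((2 * n - 1) / (2 * j - 3)) with hw
  have h2 : 2 * n - 1 < 2 * ((2 * j - 3) * w) := by
    calc 2 * n - 1 < w * 2 * (2 * j - 3) := h1
      _ = 2 * ((2 * j - 3) * w) := by ring
  omega

variable {n : ℕ}

/-- the polynomial `S_k` in `F_2[e_1, …, e_s]` -/
noncomputable def SpE (n k : ℕ) : FreeP n :=
  ∑ i ∈ Finset.range k, u n ^ (2 ^ k - 2 ^ (i + 1)) * t n ^ 2 ^ i

theorem psiL_u : psiL n (u n) = u n := by
  rw [u_eq]; exact psiL_X0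

theorem psiL_t (hn : 2 ≤ n) : psiL n (t n) = t n ^ 2 + u n * t n := by
  have := psiL_X1 hn
  rwa [← t_eq hn] at this

theorem psiL_SpE (hn : 2 ≤ n) (k : ℕ) : psiL n (SpE n k) = t n ^ 2 ^ k + u n ^ (2 ^ k - 1) * t n := by
  unfold SpE
  rw [map_sum]
  simp only [map_mul, map_pow, psiL_u, psiL_t hn]
  exact sp_sum (u n) (t n) k

/-- the `e`-part of the relation attached to the variable `i` -/
noncomputable def Gp (n : ℕ) (i : Fin (numVars n)) : FreeP n :=
  if i.val = 0 then u n ^ n
  else if i.val = 1 then SpE n (klog n 2)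
  else X i ^ 2 ^ klog n (i.val + 1) +
    u n ^ ((2 * (i.val + 1) - 4) * 2 ^ klog n (i.val + 1)) * SpE n (klog n (i.val + 1))

/-- the coefficient of `x` in the relation attached to the variable `i` -/
noncomputable def dp (n : ℕ) (i : Fin (numVars n)) : FreeP n :=
  if i.val = 0 then 0
  else if i.val = 1 then u n ^ (2 ^ klog n 2 - n)
  else u n ^ ((2 * (i.val + 1) - 3) * 2 ^ klog n (i.val + 1) - n)

theorem psiL_X (i : Fin (numVars n)) (h0 : i.val ≠ 0) (h1 : i.val ≠ 1) :
    psiL n (X i) = X i + u n ^ (2 * (i.val + 1) - 4) * t n := by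
  unfold psiL
  rw [aeval_X]
  unfold psiGen
  rw [if_neg h0, if_neg h1, evarE_succ]

/-- the truncation generators in terms of the invariants -/
theorem gen_eq (hn : 2 ≤ n) (i : Fin (numVars n)) :
    (X i : FreeP n) ^ bound n i =
      psiL n (Gp n i) + psiL n (dp n i) * (u n ^ (n - 1) * t n) := by
  unfold Gp dp bound
  by_cases h0 : i.val = 0
  · rw [if_pos h0, if_pos h0, if_pos h0, map_zero, zero_mul, add_zero, map_pow, psiL_u]
    congr 1
    rw [u_eq]; congr 1; exact Fin.ext h0
  · rw [if_neg h0, if_neg h0, if_neg h0]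
    by_cases h1 : i.val = 1
    · rw [if_pos h1, if_pos h1, psiL_SpE hn, map_pow, psiL_u, h1]
      have hXi : (X i : FreeP n) = t n := by
        rw [t_eq hn]; congr 1; exact Fin.ext h1
      have hK := klog_le n 2 le_rfl
      norm_num at hK
      have e : u n ^ (2 ^ klog n 2 - n) * (u n ^ (n - 1) * t n) = u n ^ (2 ^ klog n 2 - 1) * t n := by
        rw [← mul_assoc, ← pow_add]
        congr 2
        omega
      rw [e, hXi]
      have := add_self2 (u n ^ (2 ^ klog n 2 - 1) * t n)
      linear_combination -this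
    · rw [if_neg h1, if_neg h1, map_add, map_mul, map_pow, map_pow, map_pow, psiL_u, psiL_SpE hn,
        psiL_X i h0 h1, add_pow_two_pow2, mul_pow, ← pow_mul]
      set k := klog n (i.val + 1) with hk
      have hK := klog_le n (i.val + 1) (by omega)
      rw [← hk] at hK
      have h2k : 1 ≤ 2 ^ k := Nat.one_le_two_pow
      have e1 : u n ^ ((2 * (i.val + 1) - 3) * 2 ^ k - n) * (u n ^ (n - 1) * t n) =
          u n ^ ((2 * (i.val + 1) - 3) * 2 ^ k - 1) * t n := by
        rw [← mul_assoc, ← pow_add]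
        congr 2
        omega
      have e2 : u n ^ ((2 * (i.val + 1) - 4) * 2 ^ k) * (u n ^ (2 ^ k - 1) * t n) =
          u n ^ ((2 * (i.val + 1) - 3) * 2 ^ k - 1) * t n := by
        rw [← mul_assoc, ← pow_add]
        congr 2
        have : 2 * (i.val + 1) - 3 = (2 * (i.val + 1) - 4) + 1 := by omega
        rw [this, add_mul, one_mul]
        omega
      rw [e1]
      have h3 := add_self2 (u n ^ ((2 * (i.val + 1) - 4) * 2 ^ k) * t n ^ 2 ^ k)
      have h4 := add_self2 (u n ^ ((2 * (i.val + 1) - 3) * 2 ^ k - 1) * t n)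
      linear_combination -h3 - h4 - e2

/-- inclusion of `F_2[e]` into `F_2[e, x]` -/
noncomputable abbrev inc (n : ℕ) : FreeP n →ₐ[ZMod 2] FreeE n := rename some

theorem inc_evarE (j : ℕ) : inc n (evarE n j) = evar n j := by
  unfold evarE evar
  split_ifs with h
  · rw [rename_X]
  · rw [map_zero]

theorem inc_SpE (j : ℕ) : inc n (SpE n (klog n j)) = sPoly n j := by
  unfold SpE sPoly
  rw [map_sum]
  apply Finset.sum_congr rfl
  intro i _
  rw [map_mul, map_pow, map_pow, inc_evarE, inc_evarE]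

/-- the relations `h_j` in terms of `Gp` and `dp` -/
theorem hrel_eq (i : Fin (numVars n)) (h0 : i.val ≠ 0) :
    hrel n (i.val + 1) = inc n (Gp n i) + inc n (dp n i) * X none := by
  unfold hrel Gp dp xvar
  rw [if_neg h0, if_neg h0]
  by_cases h1 : i.val = 1
  · rw [if_pos (by omega), if_pos h1, if_pos h1, inc_SpE, map_pow, inc_evarE, add_comm]
  · rw [if_neg (by omega), if_pos ⟨by omega, by have := i.2; omega⟩, if_neg h1, if_neg h1,
      map_add, map_mul, map_pow, map_pow, map_pow, inc_evarE, inc_SpE, ← evarE_succ i, inc_evarE]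
    ring

theorem hrel_one : hrel n 1 = 0 := by
  unfold hrel
  rw [if_neg (by omega), if_neg (by omega)]

/-- the image of `h_j` upstairs is the truncation generator -/
theorem phiL_hrel (hn : 2 ≤ n) (i : Fin (numVars n)) (h0 : i.val ≠ 0) :
    phiL n (hrel n (i.val + 1)) = (X i : FreeP n) ^ bound n i := by
  rw [hrel_eq i h0, map_add, map_mul, phiL_rename, phiL_rename, phiL_X_none, gen_eq hn i]

theorem u_pow_gen : u n ^ n = (X ⟨0, numVars_pos⟩ : FreeP n) ^ bound n ⟨0, numVars_pos⟩ := by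
  rw [bound_zero, u_eq]

theorem gen_mem (i : Fin (numVars n)) : (X i : FreeP n) ^ bound n i ∈ truncIdeal n :=
  Ideal.subset_span ⟨i, rfl⟩

theorem phiL_evar1 : phiL n (evar n 1) = u n := by
  rw [← inc_evarE, phiL_rename, psiL_u]

/-- the presentation ideal maps into the truncation ideal -/
theorem presIdeal_le (hn : 2 ≤ n) : presIdeal n ≤ RingHom.ker (phi n) := by
  unfold presIdeal
  rw [Ideal.span_le]
  intro q hq
  rw [SetLike.mem_coe, RingHom.mem_ker, ← mkP_phiL, mkP_eq_zero]
  rcases hq with hq | ⟨i, rfl⟩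
  · rcases hq with rfl | rfl | rfl
    · rw [map_pow, phiL_evar1]
      exact u_pow_mem
    · unfold xvar
      rw [map_mul, phiL_evar1, phiL_X_none, ← mul_assoc, ← pow_succ']
      exact Ideal.mul_mem_right _ _ (u_pow_mem' _ (by omega))
    · unfold xvar
      rw [map_pow, phiL_X_none, mul_pow, ← pow_mul]
      exact Ideal.mul_mem_right _ _ (u_pow_mem' _ (by
        have : 2 ≤ n := hn
        nlinarith [Nat.sub_add_cancel (show 1 ≤ n by omega)]))
  · by_cases h0 : i.val = 0
    · simp only [h0]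
      rw [hrel_one, map_zero]
      exact Ideal.zero_mem _
    · simp only
      rw [phiL_hrel hn i h0]
      exact gen_mem i

end Groth.Agent.Lib.Helper31.Qs
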