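import Mathlib
import Groth.Agent.Lib.Helper31.Qs2

/-! QsChow truncated algebra over `F_2` (helper31): injectivity of the lifted `ψ`, contraction. -/

set_option linter.unusedSectionVars false
set_option linter.unusedVariables false

namespace Groth.Agent.Lib.Helper31.Qs

open MvPolynomial QsChow

variable {n : ℕ}

/-- the triangular involution `ε_j ↦ ε_j + u^(2j-4) t` (`j ≥ 3`) -/
noncomputable def thetaL (n : ℕ) : FreeP n →ₐ[ZMod 2] FreeP n :=
  aeval (fun i : Fin (numVars n) => if i.val ≤ 1 then (X i : FreeP n)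
    else X i + u n ^ (2 * (i.val + 1) - 4) * t n)

/-- the substitution `t ↦ t^2 + u t` -/
noncomputable def betaL (n : ℕ) : FreeP n →ₐ[ZMod 2] FreeP n :=
  aeval (fun i : Fin (numVars n) => if i.val = 1 then (X i : FreeP n) ^ 2 + u n * X i else X i)

theorem thetaL_X_le (i : Fin (numVars n)) (h : i.val ≤ 1) : thetaL n (X i) = X i := by
  unfold thetaL
  rw [aeval_X, if_pos h]

theorem thetaL_X_gt (i : Fin (numVars n)) (h : ¬ i.val ≤ 1) :
    thetaL n (X i) = X i + u n ^ (2 * (i.val + 1) - 4) * t n := by
  unfold thetaL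
  rw [aeval_X, if_neg h]

theorem thetaL_u : thetaL n (u n) = u n := by
  rw [u_eq]; exact thetaL_X_le _ (by simp)

theorem thetaL_t (hn : 2 ≤ n) : thetaL n (t n) = t n := by
  rw [t_eq hn]; exact thetaL_X_le _ (by simp)

theorem thetaL_invol (hn : 2 ≤ n) (p : FreeP n) : thetaL n (thetaL n p) = p := by
  have : (thetaL n).comp (thetaL n) = AlgHom.id _ _ := by
    apply MvPolynomial.algHom_ext
    intro i
    simp only [AlgHom.comp_apply, AlgHom.id_apply]
    by_cases h : i.val ≤ 1
    · rw [thetaL_X_le i h, thetaL_X_le i h]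
    · rw [thetaL_X_gt i h, map_add, map_mul, map_pow, thetaL_u, thetaL_t hn, thetaL_X_gt i h]
      have := add_self2 (u n ^ (2 * (i.val + 1) - 4) * t n)
      linear_combination this
  exact DFunLike.congr_fun this p

theorem thetaL_injective (hn : 2 ≤ n) : Function.Injective (thetaL n) := by
  intro p q h
  rw [← thetaL_invol hn p, ← thetaL_invol hn q, h]

theorem psiL_eq_comp (hn : 2 ≤ n) (p : FreeP n) : psiL n p = thetaL n (betaL n p) := by
  have : psiL n = (thetaL n).comp (betaL n) := by
    apply MvPolynomial.algHom_ext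
    intro i
    simp only [AlgHom.comp_apply]
    by_cases h0 : i.val = 0
    · have hi : (X i : FreeP n) = u n := by
        rw [u_eq]; congr 1; exact Fin.ext h0
      have hb : betaL n (X i) = X i := by
        unfold betaL
        rw [aeval_X, if_neg (by omega)]
      rw [hb, hi, psiL_u, thetaL_u]
    · by_cases h1 : i.val = 1
      · have hi : (X i : FreeP n) = t n := by
          rw [t_eq hn]; congr 1; exact Fin.ext h1
        have hb : betaL n (X i) = X i ^ 2 + u n * X i := by
          unfold betaL
          rw [aeval_X, if_pos h1]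
        rw [hb, hi, psiL_t hn, map_add, map_pow, map_mul, thetaL_u, thetaL_t hn]
      · have hb : betaL n (X i) = X i := by
          unfold betaL
          rw [aeval_X, if_neg h1]
        rw [hb, psiL_X i h0 h1, thetaL_X_gt i (by omega)]
  exact DFunLike.congr_fun this p

/-- injectivity of `t ↦ t^2 + u t` -/
theorem betaL_injective (hn : 2 ≤ n) : Function.Injective (betaL n) := by
  classical
  set i1 : Fin (numVars n) := ⟨1, numVars_ge hn⟩ with hi1
  set i0 : Fin (numVars n) := ⟨0, numVars_pos⟩ with hi0
  have h01 : i0 ≠ i1 := by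
    intro h
    have := congrArg Fin.val h
    simp [hi0, hi1] at this
  let C := MvPolynomial {j : Fin (numVars n) // j ≠ i1} (ZMod 2)
  let eqv : Fin (numVars n) ≃ Option {j : Fin (numVars n) // j ≠ i1} := (Equiv.optionSubtypeNe i1).symm
  let Φ : FreeP n ≃ₐ[ZMod 2] Polynomial C :=
    (renameEquiv (ZMod 2) eqv).trans (optionEquivLeft (ZMod 2) {j : Fin (numVars n) // j ≠ i1})
  have hΦ1 : Φ (X i1) = Polynomial.X := by
    show optionEquivLeft (ZMod 2) _ (rename eqv (X i1)) = _
    rw [rename_X]
    have : eqv i1 = none := Equiv.optionSubtypeNe_symm_self i1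
    rw [this, optionEquivLeft_X_none]
  have hΦ2 : ∀ j (hj : j ≠ i1), Φ (X j) = Polynomial.C (X ⟨j, hj⟩) := by
    intro j hj
    show optionEquivLeft (ZMod 2) _ (rename eqv (X j)) = _
    rw [rename_X]
    have : eqv j = some ⟨j, hj⟩ := Equiv.optionSubtypeNe_symm_of_ne hj
    rw [this, optionEquivLeft_X_some]
  let q : Polynomial C := Polynomial.X ^ 2 + Polynomial.C (X ⟨i0, h01⟩) * Polynomial.X
  have hc : ∀ x, (Φ : FreeP n →ₐ[ZMod 2] Polynomial C) x = Φ x := fun x => rfl
  have key : ∀ p, Φ (betaL n p) = (Φ p).comp q := by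
    intro p
    have : (Φ : FreeP n →ₐ[ZMod 2] Polynomial C).comp (betaL n) =
        ((Polynomial.aeval q : Polynomial C →ₐ[C] Polynomial C).restrictScalars (ZMod 2)).comp
          (Φ : FreeP n →ₐ[ZMod 2] Polynomial C) := by
      apply MvPolynomial.algHom_ext
      intro i
      simp only [AlgHom.comp_apply, AlgHom.restrictScalars_apply, hc]
      by_cases h1 : i = i1
      · subst h1
        have hb : betaL n (X i1) = X i1 ^ 2 + u n * X i1 := by
          unfold betaL
          rw [aeval_X, if_pos (by simp [hi1])]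
        rw [hb, map_add, map_pow, map_mul, hΦ1, Polynomial.aeval_X, u_eq, hΦ2 i0 h01]
      · have hb : betaL n (X i) = X i := by
          unfold betaL
          rw [aeval_X, if_neg (fun h => h1 (Fin.ext (by simpa [hi1] using h)))]
        rw [hb, hΦ2 i h1, Polynomial.aeval_C]
        rfl
    have h2 := DFunLike.congr_fun this p
    simp only [AlgHom.comp_apply, AlgHom.restrictScalars_apply, hc] at h2
    rw [h2, Polynomial.comp_eq_aeval]
  rw [injective_iff_map_eq_zero]
  intro p hp
  have h1 : (Φ p).comp q = 0 := by rw [← key, hp, map_zero]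
  rcases Polynomial.comp_eq_zero_iff.1 h1 with h2 | ⟨-, h2⟩
  · exact (EmbeddingLike.map_eq_zero_iff).1 h2
  · exfalso
    have h3 := congrArg (fun f => Polynomial.coeff f 2) h2
    simp only [q, Polynomial.coeff_C] at h3
    simp at h3

theorem psiL_injective (hn : 2 ≤ n) : Function.Injective (psiL n) := by
  intro p q h
  rw [psiL_eq_comp hn, psiL_eq_comp hn] at h
  exact betaL_injective hn (thetaL_injective hn h)

end Groth.Agent.Lib.Helper31.Qs
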