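import Mathlib
import Groth.Agent.Lib.Helper31.Qs3

/-! QsChow truncated algebra over `F_2` (helper31): the kernel of `φ`. -/

set_option linter.unusedSectionVars false
set_option linter.unusedVariables false

namespace Groth.Agent.Lib.Helper31.Qs

open MvPolynomial QsChow

variable {n : ℕ}

theorem t_sq' (hn : 2 ≤ n) : t n * t n = psiL n (t n) + u n * t n := by
  have := t_sq hn
  rwa [← t_eq hn] at this

/-- product of two decomposed elements -/
theorem decomp_mul (hn : 2 ≤ n) (c0 c1 a b : FreeP n) :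
    (psiL n c0 + psiL n c1 * t n) * (psiL n a + psiL n b * t n) =
      psiL n (c0 * a + c1 * b * t n) + psiL n (c0 * b + c1 * a + c1 * b * u n) * t n := by
  simp only [map_add, map_mul, psiL_u]
  linear_combination (psiL n c1 * psiL n b) * t_sq' hn

/-- the extension of an ideal of `F_2[e]` along `ψ̃`, as pairs -/
def Tid (hn : 2 ≤ n) (𝔞 : Ideal (FreeP n)) : Ideal (FreeP n) where
  carrier := {y | ∃ a ∈ 𝔞, ∃ b ∈ 𝔞, y = psiL n a + psiL n b * t n}
  add_mem' := by
    rintro _ _ ⟨a, ha, b, hb, rfl⟩ ⟨a', ha', b', hb', rfl⟩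
    exact ⟨a + a', 𝔞.add_mem ha ha', b + b', 𝔞.add_mem hb hb', by rw [map_add, map_add]; ring⟩
  zero_mem' := ⟨0, 𝔞.zero_mem, 0, 𝔞.zero_mem, by simp⟩
  smul_mem' := by
    rintro c _ ⟨a, ha, b, hb, rfl⟩
    obtain ⟨c0, c1, rfl⟩ := decomp hn c
    refine ⟨c0 * a + c1 * b * t n, ?_, c0 * b + c1 * a + c1 * b * u n, ?_, ?_⟩
    · exact 𝔞.add_mem (𝔞.mul_mem_left _ ha) (𝔞.mul_mem_right _ (𝔞.mul_mem_left _ hb))
    · exact 𝔞.add_mem (𝔞.add_mem (𝔞.mul_mem_left _ hb) (𝔞.mul_mem_left _ ha))
        (𝔞.mul_mem_right _ (𝔞.mul_mem_left _ hb))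
    · rw [smul_eq_mul]
      exact decomp_mul hn c0 c1 a b

theorem mem_Tid (hn : 2 ≤ n) {𝔞 : Ideal (FreeP n)} {y : FreeP n} :
    y ∈ Tid hn 𝔞 ↔ ∃ a ∈ 𝔞, ∃ b ∈ 𝔞, y = psiL n a + psiL n b * t n := Iff.rfl

/-- contraction -/
theorem Tid_contract (hn : 2 ≤ n) {𝔞 : Ideal (FreeP n)} {a b : FreeP n}
    (h : psiL n a + psiL n b * t n ∈ Tid hn 𝔞) : a ∈ 𝔞 ∧ b ∈ 𝔞 := by
  obtain ⟨a', ha', b', hb', he⟩ := h
  have h0 : psiL n (a + a') + psiL n (b + b') * t n = 0 := by
    rw [map_add, map_add]
    have := add_self2 (psiL n a' + psiL n b' * t n)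
    linear_combination he + this
  obtain ⟨h1, h2⟩ := decomp_unique hn _ _ h0
  have h3 : a + a' = 0 := psiL_injective hn (by rw [h2, map_zero])
  have h4 : b + b' = 0 := psiL_injective hn (by rw [h1, map_zero])
  have e1 : a = a' := by
    have := eq_add_of_add_eq2 h3
    rwa [zero_add] at this
  have e2 : b = b' := by
    have := eq_add_of_add_eq2 h4
    rwa [zero_add] at this
  rw [e1, e2]
  exact ⟨ha', hb'⟩

/-- the ideal `(e_1, G_2, …, G_s)` -/
noncomputable def a1 (n : ℕ) : Ideal (FreeP n) := Ideal.span ({u n} ∪ Set.range (Gp n))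

theorem u_mem_a1 : u n ∈ a1 n := Ideal.subset_span (Or.inl rfl)
theorem Gp_mem_a1 (i : Fin (numVars n)) : Gp n i ∈ a1 n := Ideal.subset_span (Or.inr ⟨i, rfl⟩)

theorem gen_eq' (hn : 2 ≤ n) (i : Fin (numVars n)) :
    (X i : FreeP n) ^ bound n i =
      psiL n (Gp n i) + psiL n (dp n i * u n ^ (n - 1)) * t n := by
  rw [gen_eq hn i, map_mul, map_pow, psiL_u]
  ring

theorem L1 (hn : 2 ≤ n) : truncIdeal n ⊔ Ideal.span {u n ^ 1} ≤ Tid hn (a1 n) := by
  rw [sup_le_iff]
  constructor
  · unfold truncIdeal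
    rw [Ideal.span_le]
    rintro _ ⟨i, rfl⟩
    refine ⟨Gp n i, Gp_mem_a1 i, dp n i * u n ^ (n - 1), ?_, gen_eq' hn i⟩
    have : u n ^ (n - 1) = u n ^ (n - 2) * u n := by
      rw [← pow_succ]; congr 1; omega
    rw [this, ← mul_assoc]
    exact Ideal.mul_mem_left _ _ u_mem_a1
  · rw [Ideal.span_le, Set.singleton_subset_iff]
    refine ⟨u n, u_mem_a1, 0, Ideal.zero_mem _, ?_⟩
    rw [pow_one, psiL_u, map_zero, zero_mul, add_zero]

/-! ### the presentation ideal -/

theorem x2_mem : (X none : FreeE n) ^ 2 ∈ presIdeal n :=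
  Ideal.subset_span (Or.inl (by unfold xvar; simp))

theorem e1x_mem : inc n (u n) * (X none : FreeE n) ∈ presIdeal n := by
  rw [inc_evarE]
  exact Ideal.subset_span (Or.inl (by unfold xvar; simp))

theorem e1n_mem : inc n (u n) ^ n ∈ presIdeal n := by
  rw [inc_evarE]
  exact Ideal.subset_span (Or.inl (by simp))

/-- the relations, uniformly in the variable -/
theorem hG_mem (i : Fin (numVars n)) :
    inc n (Gp n i) + inc n (dp n i) * X none ∈ presIdeal n := by
  by_cases h0 : i.val = 0
  · unfold Gp dp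
    rw [if_pos h0, if_pos h0, map_zero, zero_mul, add_zero, map_pow]
    exact e1n_mem
  · rw [← hrel_eq i h0]
    exact Ideal.subset_span (Or.inr ⟨i, rfl⟩)

theorem L2 (hn : 2 ≤ n) {a : FreeP n} (ha : a ∈ a1 n) :
    inc n a * X none ∈ presIdeal n ∧ inc n a * inc n (u n ^ (n - 1) * t n) ∈ presIdeal n := by
  have hu : u n ^ (n - 1) = u n * u n ^ (n - 2) := by
    rw [← pow_succ']; congr 1; omega
  unfold a1 at ha
  induction ha using Submodule.span_induction with
  | mem a ha =>
    rcases ha with rfl | ⟨i, rfl⟩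
    · constructor
      · exact e1x_mem
      · have : inc n (u n) * inc n (u n ^ (n - 1) * t n) = inc n (t n) * inc n (u n) ^ n := by
          rw [map_mul, map_pow]
          have : inc n (u n) ^ n = inc n (u n) * inc n (u n) ^ (n - 1) := by
            rw [← pow_succ']; congr 1; omega
          rw [this]
          ring
        rw [this]
        exact Ideal.mul_mem_left _ _ e1n_mem
    · have hG := hG_mem i
      constructor
      · have : inc n (Gp n i) * X none = X none * (inc n (Gp n i) + inc n (dp n i) * X none) +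
            inc n (dp n i) * X none ^ 2 -
            (inc n (dp n i) * X none ^ 2 + inc n (dp n i) * X none ^ 2) := by ring
        rw [this, add_self2, sub_zero]
        exact Ideal.add_mem _ (Ideal.mul_mem_left _ _ hG) (Ideal.mul_mem_left _ _ x2_mem)
      · have : inc n (Gp n i) * inc n (u n ^ (n - 1) * t n) =
            inc n (u n ^ (n - 1) * t n) * (inc n (Gp n i) + inc n (dp n i) * X none) +
            (inc n (dp n i) * inc n (u n ^ (n - 2) * t n)) * (inc n (u n) * X none) -
            (inc n (dp n i) * X none * inc n (u n ^ (n - 1) * t n) +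
              inc n (dp n i) * X none * inc n (u n ^ (n - 1) * t n)) := by
          rw [hu]
          simp only [map_mul, map_pow]
          ring
        rw [this, add_self2, sub_zero]
        exact Ideal.add_mem _ (Ideal.mul_mem_left _ _ hG) (Ideal.mul_mem_left _ _ e1x_mem)
  | zero => simp
  | add a b _ _ iha ihb =>
    rw [map_add, add_mul, add_mul]
    exact ⟨Ideal.add_mem _ iha.1 ihb.1, Ideal.add_mem _ iha.2 ihb.2⟩
  | smul c a _ iha =>
    rw [smul_eq_mul, map_mul, mul_assoc, mul_assoc]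
    exact ⟨Ideal.mul_mem_left _ _ iha.1, Ideal.mul_mem_left _ _ iha.2⟩

/-- reduction to degree at most one in `x` -/
theorem L3 (q : FreeE n) : ∃ q0 q1 : FreeP n, q - (inc n q0 + inc n q1 * X none) ∈ presIdeal n := by
  induction q using MvPolynomial.induction_on with
  | C c =>
    refine ⟨C c, 0, ?_⟩
    rw [map_zero, zero_mul, add_zero]
    have : inc n (C c) = C c := by
      show rename some (C c) = C c
      rw [rename_C]
    rw [this, sub_self]
    exact Ideal.zero_mem _
  | add p q hp hq =>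
    obtain ⟨p0, p1, hp⟩ := hp
    obtain ⟨q0, q1, hq⟩ := hq
    refine ⟨p0 + q0, p1 + q1, ?_⟩
    have : p + q - (inc n (p0 + q0) + inc n (p1 + q1) * X none) =
        (p - (inc n p0 + inc n p1 * X none)) + (q - (inc n q0 + inc n q1 * X none)) := by
      rw [map_add, map_add]; ring
    rw [this]
    exact Ideal.add_mem _ hp hq
  | mul_X p o hp =>
    obtain ⟨p0, p1, hp⟩ := hp
    cases o with
    | none =>
      refine ⟨0, p0, ?_⟩
      have : p * X none - (inc n 0 + inc n p0 * X none) =
          X none * (p - (inc n p0 + inc n p1 * X none)) + inc n p1 * X none ^ 2 := by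
        rw [map_zero]; ring
      rw [this]
      exact Ideal.add_mem _ (Ideal.mul_mem_left _ _ hp) (Ideal.mul_mem_left _ _ x2_mem)
    | some i =>
      refine ⟨p0 * X i, p1 * X i, ?_⟩
      have hi : inc n (X i) = X (some i) := by
        show rename some (X i) = _
        rw [rename_X]
      have : p * X (some i) - (inc n (p0 * X i) + inc n (p1 * X i) * X none) =
          X (some i) * (p - (inc n p0 + inc n p1 * X none)) := by
        rw [map_mul, map_mul, hi]; ring
      rw [this]
      exact Ideal.mul_mem_left _ _ hp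

end Groth.Agent.Lib.Helper31.Qs
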