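import Mathlib
import Groth.Agent.Lib.Helper31.Qs4

/-! QsChow truncated algebra over `F_2` (helper31): the kernel of `φ` is the presentation ideal. -/

set_option linter.unusedSectionVars false
set_option linter.unusedVariables false

namespace Groth.Agent.Lib.Helper31.Qs

open MvPolynomial QsChow

variable {n : ℕ}

theorem ker_le (hn : 2 ≤ n) : RingHom.ker (phi n) ≤ presIdeal n := by
  classical
  intro q hq
  obtain ⟨q0, q1, hq01⟩ := L3 q
  have hq' : phi n (inc n q0 + inc n q1 * X none) = 0 := by
    have h1 : phi n (q - (inc n q0 + inc n q1 * X none)) = 0 := presIdeal_le hn hq01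
    rw [map_sub, RingHom.mem_ker.1 hq, zero_sub, neg_eq_zero] at h1
    exact h1
  suffices h : inc n q0 + inc n q1 * X none ∈ presIdeal n by
    have : q = (q - (inc n q0 + inc n q1 * X none)) + (inc n q0 + inc n q1 * X none) := by ring
    rw [this]
    exact Ideal.add_mem _ hq01 h
  have hun : u n ^ n = u n ^ (n - 1) * u n := by
    rw [← pow_succ]; congr 1; omega
  -- upstairs
  have h2 : psiL n q0 + psiL n (q1 * u n ^ (n - 1)) * t n ∈ truncIdeal n := by
    rw [← mkP_eq_zero]
    have e : psiL n q0 + psiL n (q1 * u n ^ (n - 1)) * t n =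
        phiL n (inc n q0 + inc n q1 * X none) := by
      rw [map_add (phiL n), map_mul (phiL n), phiL_rename, phiL_rename, phiL_X_none,
        map_mul (psiL n), map_pow (psiL n), psiL_u]
      ring
    rw [e, mkP_phiL, hq']
  obtain ⟨p, hp⟩ := (Ideal.mem_span_range_iff_exists_fun).1 h2
  have hdec : ∀ i, ∃ r r', p i = psiL n r + psiL n r' * t n := fun i => decomp hn (p i)
  choose r r' hr using hdec
  set c : Fin (numVars n) → FreeP n := fun i => dp n i * u n ^ (n - 1) with hc
  have hterm : ∀ i, p i * (X i : FreeP n) ^ bound n i =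
      psiL n (r i * Gp n i + r' i * c i * t n) +
        psiL n (r i * c i + r' i * Gp n i + r' i * c i * u n) * t n := by
    intro i
    rw [hr i, gen_eq' hn i]
    exact decomp_mul hn _ _ _ _
  set A := ∑ i, (r i * Gp n i + r' i * c i * t n) with hAdef
  set B := ∑ i, (r i * c i + r' i * Gp n i + r' i * c i * u n) with hBdef
  have hsum : psiL n A + psiL n B * t n = psiL n q0 + psiL n (q1 * u n ^ (n - 1)) * t n := by
    rw [← hp, hAdef, hBdef, map_sum, map_sum, Finset.sum_mul, ← Finset.sum_add_distrib]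
    exact Finset.sum_congr rfl fun i _ => (hterm i).symm
  have h0 : psiL n (A + q0) + psiL n (B + q1 * u n ^ (n - 1)) * t n = 0 := by
    rw [map_add, map_add]
    have := add_self2 (psiL n q0 + psiL n (q1 * u n ^ (n - 1)) * t n)
    linear_combination hsum + this
  obtain ⟨hB, hA⟩ := decomp_unique hn _ _ h0
  have hA' : q0 = A := by
    have h3 : A + q0 = 0 := psiL_injective hn (by rw [hA, map_zero])
    have := eq_add_of_add_eq2 h3
    rw [zero_add] at this
    exact this.symm
  have hB' : q1 * u n ^ (n - 1) = B := by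
    have h3 : B + q1 * u n ^ (n - 1) = 0 := psiL_injective hn (by rw [hB, map_zero])
    have := eq_add_of_add_eq2 h3
    rw [zero_add] at this
    exact this.symm
  set ρ := ∑ i, r i * dp n i with hρ
  set ρ' := ∑ i, r' i * dp n i with hρ'
  have hBexp : B = u n ^ (n - 1) * ρ + ∑ i, r' i * Gp n i + u n ^ n * ρ' := by
    rw [hBdef, hρ, hρ', Finset.mul_sum, Finset.mul_sum, ← Finset.sum_add_distrib,
      ← Finset.sum_add_distrib]
    apply Finset.sum_congr rfl
    intro i _
    simp only [hc]
    rw [hun]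
    ring
  -- apply `ψ̃`
  set SG := ∑ i, psiL n (r' i) * psiL n (Gp n i) with hSG
  set Sg := ∑ i, psiL n (r' i) * (X i : FreeP n) ^ bound n i with hSg
  set Sc := ∑ i, psiL n (r' i) * psiL n (c i) with hSc
  have E1 : psiL n q1 * u n ^ (n - 1) = u n ^ (n - 1) * psiL n ρ + SG + u n ^ n * psiL n ρ' := by
    have := congrArg (psiL n) (hB'.trans hBexp)
    simp only [map_add, map_mul, map_pow, map_sum, psiL_u] at this
    exact this
  have hSG' : SG = Sg - Sc * t n := by
    rw [hSG, hSg, hSc, Finset.sum_mul, ← Finset.sum_sub_distrib]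
    apply Finset.sum_congr rfl
    intro i _
    rw [gen_eq' hn i]
    ring
  have hSc' : Sc = u n ^ (n - 1) * psiL n ρ' := by
    rw [hSc, hρ', map_sum, Finset.mul_sum]
    apply Finset.sum_congr rfl
    intro i _
    simp only [hc, map_mul, map_pow, psiL_u]
    ring
  have key : u n ^ (n - 1) * (psiL n (q1 + ρ) + psiL n ρ' * t n) = Sg + u n ^ n * psiL n ρ' := by
    rw [map_add]
    have h4 := add_self2 (u n ^ (n - 1) * psiL n ρ)
    linear_combination E1 + hSG' + (-(t n)) * hSc' + h4
  have hSgmem : Sg ∈ truncIdeal n := by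
    rw [hSg]
    exact Ideal.sum_mem _ fun i _ => Ideal.mul_mem_left _ _ (gen_mem i)
  have h5 : u n ^ (n - 1) * (psiL n (q1 + ρ) + psiL n ρ' * t n) ∈
      truncIdeal n ⊔ Ideal.span {u n ^ n} := by
    rw [key]
    exact Ideal.mem_sup_left (Ideal.add_mem _ hSgmem (Ideal.mul_mem_right _ _ u_pow_mem))
  obtain ⟨i, hi, c', hc'⟩ := colon_u n (n - 1) le_rfl _ h5
  have h6 : psiL n (q1 + ρ) + psiL n ρ' * t n ∈ Tid hn (a1 n) := by
    apply L1 hn
    rw [hc', show n - (n - 1) = 1 by omega]
    exact Submodule.add_mem_sup hi (Ideal.mul_mem_right _ _ (Ideal.subset_span rfl))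
  obtain ⟨h7, h8⟩ := Tid_contract hn h6
  obtain ⟨m1, -⟩ := L2 hn h7
  obtain ⟨-, m2⟩ := L2 hn h8
  -- final identity
  set S1 := ∑ i, inc n (r i) * inc n (Gp n i) with hS1
  have hS1' : inc n A = S1 + inc n ρ' * inc n (u n ^ (n - 1) * t n) := by
    rw [hAdef, hS1, hρ', map_sum, map_sum, Finset.sum_mul, ← Finset.sum_add_distrib]
    apply Finset.sum_congr rfl
    intro i _
    simp only [hc, map_add, map_mul, map_pow]
    ring
  have hS2 : ∑ i, inc n (r i) * (inc n (Gp n i) + inc n (dp n i) * X none) =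
      S1 + inc n ρ * X none := by
    rw [hS1, hρ, map_sum, Finset.sum_mul, ← Finset.sum_add_distrib]
    apply Finset.sum_congr rfl
    intro i _
    rw [map_mul]
    ring
  have hfinal : inc n q0 + inc n q1 * X none =
      ∑ i, inc n (r i) * (inc n (Gp n i) + inc n (dp n i) * X none) +
        inc n (q1 + ρ) * X none + inc n ρ' * inc n (u n ^ (n - 1) * t n) -
        (inc n ρ * X none + inc n ρ * X none) := by
    rw [hS2, hA', hS1', map_add]
    ring
  rw [hfinal, add_self2, sub_zero]
  exact Ideal.add_mem _ (Ideal.add_mem _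
    (Ideal.sum_mem _ fun i _ => Ideal.mul_mem_left _ _ (hG_mem i)) m1) m2

theorem ker_eq (hn : 2 ≤ n) : RingHom.ker (phi n) = presIdeal n :=
  le_antisymm (ker_le hn) (presIdeal_le hn)

end Groth.Agent.Lib.Helper31.Qs
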