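import Mathlib
import Groth.Agent.Lib.Helper31.Qs5

/-! QsChow truncated algebra over `F_2` (helper31): number theory of the exponents, and the odd case. -/

set_option linter.unusedSectionVars false
set_option linter.unusedVariables false

namespace Groth.Agent.Lib.Helper31.Qs

open MvPolynomial QsChow

theorem klog_two (n : ℕ) : klog n 2 = Nat.log 2 (2 * n - 1) := by
  unfold klog
  norm_num

/-- for `n` odd, `k_2 = k'_2 + 1` and `2^(k_2) > n` -/
theorem klog_two_odd (n : ℕ) (hn : 3 ≤ n) (hodd : Odd n) :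
    klog n 2 = Nat.log 2 n + 1 ∧ n < 2 ^ klog n 2 := by
  have h1 := Nat.pow_log_le_self 2 (show n ≠ 0 by omega)
  have h2 := Nat.lt_pow_succ_log_self (by norm_num : 1 < 2) n
  have hL : 1 ≤ Nat.log 2 n := Nat.log_pos (by norm_num) (by omega)
  set L := Nat.log 2 n with hLdef
  have h3 : 2 ^ L ≠ n := by
    intro h
    obtain ⟨m, hm⟩ := hodd
    have : 2 ^ L = 2 * 2 ^ (L - 1) := by
      rw [← pow_succ']; congr 1; omega
    omega
  have hk : klog n 2 = L + 1 := by
    rw [klog_two]
    apply Nat.log_eq_of_pow_le_of_lt_pow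
    · rw [pow_succ]; omega
    · rw [pow_succ] at h2
      rw [pow_succ (n := L + 1), pow_succ]; omega
  refine ⟨hk, ?_⟩
  rw [hk]
  exact h2

/-- for `n` odd and `3 ≤ j ≤ s`, `k'_j = k_j` and `(2j-3) 2^(k_j) > n` -/
theorem klog_odd (n j : ℕ) (hodd : Odd n) (hj : 3 ≤ j) (hjs : j ≤ numVars n) :
    kprime n j = klog n j ∧ n < (2 * j - 3) * 2 ^ klog n j := by
  unfold numVars at hjs
  obtain ⟨m, hm⟩ := hodd
  have hD : 0 < 2 * j - 3 := by omega
  have key : ∀ K : ℕ, 2 ^ K * (2 * j - 3) ≠ 2 * n := by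
    intro K h
    rcases K with _ | _ | K
    · rw [pow_zero] at h; omega
    · rw [pow_one] at h; omega
    · rw [pow_succ, pow_succ] at h
      have : 2 ^ K * 2 * 2 * (2 * j - 3) = 4 * (2 ^ K * (2 * j - 3)) := by ring
      omega
  constructor
  · unfold kprime klog
    rw [if_neg (by omega), if_neg (by omega)]
    symm
    apply Nat.log_eq_of_pow_le_of_lt_pow
    · have h1 := Nat.pow_log_le_self 2 (x := 2 * n / (2 * j - 3)) (by
        have : 2 * j - 3 ≤ 2 * n := by omega
        have := Nat.div_pos this hD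
        omega)
      rw [Nat.le_div_iff_mul_le hD] at h1 ⊢
      have := key (Nat.log 2 (2 * n / (2 * j - 3)))
      omega
    · have h2 := Nat.lt_pow_succ_log_self (by norm_num : 1 < 2) (2 * n / (2 * j - 3))
      refine lt_of_le_of_lt ?_ h2
      exact Nat.div_le_div_right (by omega)
  · have h1 := klog_le n j (by omega)
    have h2 := key (klog n j + 1)
    rw [pow_succ] at h2
    have : 2 ^ klog n j * 2 * (2 * j - 3) = 2 * ((2 * j - 3) * 2 ^ klog n j) := by ring
    omega

/-- splitting off the top term of `S_(k+1)` -/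
theorem sp_top {A : Type*} [CommRing A] (u t : A) (k : ℕ) :
    ∑ i ∈ Finset.range (k + 1), u ^ (2 ^ (k + 1) - 2 ^ (i + 1)) * t ^ 2 ^ i =
      t ^ 2 ^ k + u * ∑ i ∈ Finset.range k, u ^ (2 ^ (k + 1) - 2 ^ (i + 1) - 1) * t ^ 2 ^ i := by
  rw [Finset.sum_range_succ, Nat.sub_self, pow_zero, one_mul, add_comm, Finset.mul_sum]
  congr 1
  apply Finset.sum_congr rfl
  intro i hi
  rw [Finset.mem_range] at hi
  have h1 : 2 ^ (i + 1) < 2 ^ (k + 1) := Nat.pow_lt_pow_right (by norm_num) (by omega)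
  rw [← mul_assoc, ← pow_succ']
  congr 2
  omega

variable {n : ℕ}

theorem sPoly_top (j k : ℕ) (hk : klog n j = k + 1) :
    ∃ r : FreeE n, sPoly n j = evar n 2 ^ 2 ^ k + evar n 1 * r := by
  unfold sPoly
  rw [hk, sp_top]
  exact ⟨_, rfl⟩

theorem kprime_two : kprime n 2 = Nat.log 2 n := by
  unfold kprime
  rw [if_neg (by omega), if_pos rfl]

theorem kprime_one : kprime n 1 = twoExp n := by
  unfold kprime
  rw [if_pos rfl]

theorem e1_pow_mem_span (k : ℕ) (hk : 1 ≤ k) (c : FreeE n) :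
    evar n 1 ^ k * c ∈ Ideal.span {evar n 1} := by
  obtain ⟨k', rfl⟩ : ∃ k', k = k' + 1 := ⟨k - 1, by omega⟩
  rw [pow_succ, mul_assoc]
  exact Ideal.mul_mem_left _ _ (Ideal.mul_mem_right _ _ (Ideal.subset_span rfl))

/-- modulo `e_1`, the relation `h_j` is `e_j^(2^(k'_j))` (`n` odd) -/
theorem hrel_odd (hn : 2 ≤ n) (hodd : Odd n) (i : Fin (numVars n)) (h0 : i.val ≠ 0) :
    hrel n (i.val + 1) - evar n (i.val + 1) ^ 2 ^ kprime n (i.val + 1) ∈
      Ideal.span {evar n 1} := by
  have hn3 : 3 ≤ n := by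
    obtain ⟨m, hm⟩ := hodd
    omega
  by_cases h1 : i.val = 1
  · have e : i.val + 1 = 2 := by omega
    rw [e, kprime_two]
    obtain ⟨hk, hlt⟩ := klog_two_odd n hn3 hodd
    obtain ⟨r, hr⟩ := sPoly_top (n := n) 2 (Nat.log 2 n) hk
    unfold hrel
    rw [if_pos rfl, hr]
    have : evar n 1 ^ (2 ^ klog n 2 - n) * xvar n + (evar n 2 ^ 2 ^ Nat.log 2 n + evar n 1 * r) -
        evar n 2 ^ 2 ^ Nat.log 2 n = evar n 1 ^ (2 ^ klog n 2 - n) * xvar n + evar n 1 ^ 1 * r := by
      ring
    rw [this]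
    exact Ideal.add_mem _ (e1_pow_mem_span _ (by omega) _) (e1_pow_mem_span _ le_rfl _)
  · have hj3 : 3 ≤ i.val + 1 := by omega
    have hjs : i.val + 1 ≤ numVars n := i.2
    obtain ⟨hk, hlt⟩ := klog_odd n (i.val + 1) hodd hj3 hjs
    unfold hrel
    rw [if_neg (by omega), if_pos ⟨hj3, hjs⟩, hk]
    have : evar n (i.val + 1) ^ 2 ^ klog n (i.val + 1) +
        evar n 1 ^ ((2 * (i.val + 1) - 3) * 2 ^ klog n (i.val + 1) - n) * xvar n +
        evar n 1 ^ ((2 * (i.val + 1) - 4) * 2 ^ klog n (i.val + 1)) * sPoly n (i.val + 1) -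
        evar n (i.val + 1) ^ 2 ^ klog n (i.val + 1) =
        evar n 1 ^ ((2 * (i.val + 1) - 3) * 2 ^ klog n (i.val + 1) - n) * xvar n +
        evar n 1 ^ ((2 * (i.val + 1) - 4) * 2 ^ klog n (i.val + 1)) * sPoly n (i.val + 1) := by
      ring
    rw [this]
    refine Ideal.add_mem _ (e1_pow_mem_span _ (by omega) _) (e1_pow_mem_span _ ?_ _)
    have : 1 ≤ 2 ^ klog n (i.val + 1) := Nat.one_le_two_pow
    have : 2 ≤ 2 * (i.val + 1) - 4 := by omega
    nlinarith

theorem oddIdeal_eq (hn : 2 ≤ n) (hodd : Odd n) :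
    oddIdeal n = presIdeal n ⊔ Ideal.span {evar n 1} := by
  apply le_antisymm
  · unfold oddIdeal
    rw [Ideal.span_le]
    intro q hq
    rcases hq with hq | ⟨i, rfl⟩
    · rcases hq with rfl | rfl
      · exact Ideal.mem_sup_right (Ideal.subset_span rfl)
      · exact Ideal.mem_sup_left (Ideal.subset_span (Or.inl (by simp)))
    · by_cases h0 : i.val = 0
      · simp only [h0, zero_add]
        have := e1_pow_mem_span (n := n) (2 ^ kprime n 1) Nat.one_le_two_pow 1
        rw [mul_one] at this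
        exact Ideal.mem_sup_right this
      · simp only
        have h1 := hrel_odd hn hodd i h0
        have h2 : hrel n (i.val + 1) ∈ presIdeal n := Ideal.subset_span (Or.inr ⟨i, rfl⟩)
        have : evar n (i.val + 1) ^ 2 ^ kprime n (i.val + 1) = hrel n (i.val + 1) -
            (hrel n (i.val + 1) - evar n (i.val + 1) ^ 2 ^ kprime n (i.val + 1)) := by ring
        rw [this]
        exact Ideal.sub_mem _ (Ideal.mem_sup_left h2) (Ideal.mem_sup_right h1)
  · have he1 : evar n 1 ∈ oddIdeal n := Ideal.subset_span (Or.inl (by simp))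
    have hle : Ideal.span {evar n 1} ≤ oddIdeal n := by
      rw [Ideal.span_le, Set.singleton_subset_iff]
      exact he1
    rw [sup_le_iff]
    refine ⟨?_, hle⟩
    unfold presIdeal
    rw [Ideal.span_le]
    intro q hq
    rcases hq with hq | ⟨i, rfl⟩
    · rcases hq with rfl | rfl | rfl
      · have := e1_pow_mem_span (n := n) n (by omega) 1
        rw [mul_one] at this
        exact hle this
      · exact Ideal.mul_mem_right _ _ he1
      · exact Ideal.subset_span (Or.inl (by simp))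
    · by_cases h0 : i.val = 0
      · simp only [h0, zero_add]
        rw [hrel_one]
        exact Ideal.zero_mem _
      · simp only
        have h1 := hle (hrel_odd hn hodd i h0)
        have h2 : evar n (i.val + 1) ^ 2 ^ kprime n (i.val + 1) ∈ oddIdeal n :=
          Ideal.subset_span (Or.inr ⟨i, rfl⟩)
        have : hrel n (i.val + 1) = (hrel n (i.val + 1) -
            evar n (i.val + 1) ^ 2 ^ kprime n (i.val + 1)) +
            evar n (i.val + 1) ^ 2 ^ kprime n (i.val + 1) := by ring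
        rw [this]
        exact Ideal.add_mem _ h1 h2

theorem phi_evar1 : phi n (evar n 1) = eps n 1 := by
  rw [← mkP_phiL, phiL_evar1, mkP_u]

/-- the odd case -/
theorem odd_main (hn : 2 ≤ n) (τ : P n →ₐ[ZMod 2] P n)
    (hrange : (phi n).range = AlgHom.equalizer τ (AlgHom.id (ZMod 2) (P n)))
    (hodd : Odd n) (q : FreeE n) :
    (∃ w : P n, τ w = w ∧ phi n q = eps n 1 * w) ↔ q ∈ oddIdeal n := by
  rw [oddIdeal_eq hn hodd]
  constructor
  · rintro ⟨w, hw, hq⟩
    have hw' : w ∈ (phi n).range := by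
      rw [hrange]
      exact hw
    obtain ⟨q', rfl⟩ := hw'
    have h1 : q - evar n 1 * q' ∈ presIdeal n := by
      rw [← ker_eq hn, RingHom.mem_ker, map_sub, map_mul, phi_evar1, hq]
      exact sub_self _
    have : q = (q - evar n 1 * q') + q' * evar n 1 := by ring
    rw [this]
    exact Submodule.add_mem_sup h1 (Ideal.mul_mem_left _ _ (Ideal.subset_span rfl))
  · intro hq
    obtain ⟨p, hp, z, hz, rfl⟩ := Submodule.mem_sup.1 hq
    obtain ⟨c, rfl⟩ := Ideal.mem_span_singleton'.1 hz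
    refine ⟨phi n c, ?_, ?_⟩
    · have : phi n c ∈ AlgHom.equalizer τ (AlgHom.id (ZMod 2) (P n)) := by
        rw [← hrange]
        exact ⟨c, rfl⟩
      exact this
    · have h1 : phi n p = 0 := presIdeal_le hn hp
      rw [map_add, h1, zero_add, map_mul, phi_evar1, mul_comm]

end Groth.Agent.Lib.Helper31.Qs
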