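import Mathlib
import Groth.Agent.Lib.Helper31.Qs6

/-! QsChow truncated algebra over `F_2` (helper31): eliminating `x` when some relation has
`x`-coefficient one. -/

set_option linter.unusedSectionVars false
set_option linter.unusedVariables false

namespace Groth.Agent.Lib.Helper31.Qs

open MvPolynomial QsChow

variable {n : ℕ}

/-- the retraction `F_2[e, x] → F_2[e]`, `x ↦ s` -/
noncomputable def rho (n : ℕ) (s : FreeP n) : FreeE n →ₐ[ZMod 2] FreeP n :=
  aeval (fun o : Option (Fin (numVars n)) => o.elim s X)

theorem rho_X_none (s : FreeP n) : rho n s (X none) = s := by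
  unfold rho
  rw [aeval_X]
  rfl

theorem rho_X_some (s : FreeP n) (i : Fin (numVars n)) : rho n s (X (some i)) = X i := by
  unfold rho
  rw [aeval_X]
  rfl

theorem rho_inc (s : FreeP n) (p : FreeP n) : rho n s (inc n p) = p := by
  have : (rho n s).comp (inc n) = AlgHom.id _ _ := by
    apply MvPolynomial.algHom_ext
    intro i
    show rho n s (rename some (X i)) = X i
    rw [rename_X, rho_X_some]
  exact DFunLike.congr_fun this p

theorem phi_inc (p : FreeP n) : phi n (inc n p) = psi n p := by
  rw [← mkP_phiL, phiL_rename, mkP_psiL]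

/-- modulo the relations, `q` is `ρ q` -/
theorem sub_inc_rho_mem (i0 : Fin (numVars n)) (h : dp n i0 = 1) (q : FreeE n) :
    q - inc n (rho n (Gp n i0) q) ∈ presIdeal n := by
  induction q using MvPolynomial.induction_on with
  | C c =>
    have : rho n (Gp n i0) (C c) = C c := by
      show rho n (Gp n i0) (algebraMap _ _ c) = _
      rw [AlgHom.commutes]; rfl
    rw [this]
    have : inc n (C c) = C c := by
      show rename some (C c) = C c
      rw [rename_C]
    rw [this, sub_self]
    exact Ideal.zero_mem _
  | add p q hp hq =>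
    have : p + q - inc n (rho n (Gp n i0) (p + q)) =
        (p - inc n (rho n (Gp n i0) p)) + (q - inc n (rho n (Gp n i0) q)) := by
      rw [map_add, map_add]; ring
    rw [this]
    exact Ideal.add_mem _ hp hq
  | mul_X p o hp =>
    have hX : X o - inc n (rho n (Gp n i0) (X o)) ∈ presIdeal n := by
      cases o with
      | none =>
        rw [rho_X_none]
        have h1 := hG_mem (n := n) i0
        rw [h, map_one, one_mul] at h1
        have : (X none : FreeE n) - inc n (Gp n i0) = (inc n (Gp n i0) + X none) -
            (inc n (Gp n i0) + inc n (Gp n i0)) := by ring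
        rw [this, add_self2, sub_zero]
        exact h1
      | some i =>
        rw [rho_X_some]
        have : inc n (X i) = X (some i) := by
          show rename some (X i) = _
          rw [rename_X]
        rw [this, sub_self]
        exact Ideal.zero_mem _
    have : p * X o - inc n (rho n (Gp n i0) (p * X o)) =
        X o * (p - inc n (rho n (Gp n i0) p)) +
          inc n (rho n (Gp n i0) p) * (X o - inc n (rho n (Gp n i0) (X o))) := by
      rw [map_mul, map_mul]; ring
    rw [this]
    exact Ideal.add_mem _ (Ideal.mul_mem_left _ _ hp) (Ideal.mul_mem_left _ _ hX)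

theorem phi_eq_psi_rho (hn : 2 ≤ n) (i0 : Fin (numVars n)) (h : dp n i0 = 1) (q : FreeE n) :
    phi n q = psi n (rho n (Gp n i0) q) := by
  have h1 : phi n (q - inc n (rho n (Gp n i0) q)) = 0 := presIdeal_le hn (sub_inc_rho_mem i0 h q)
  rw [map_sub, sub_eq_zero, phi_inc] at h1
  exact h1

theorem range_psi (hn : 2 ≤ n) (i0 : Fin (numVars n)) (h : dp n i0 = 1) :
    (psi n).range = (phi n).range := by
  apply le_antisymm
  · rintro _ ⟨p, rfl⟩
    exact ⟨inc n p, phi_inc p⟩
  · rintro _ ⟨q, rfl⟩
    exact ⟨rho n (Gp n i0) q, (phi_eq_psi_rho hn i0 h q).symm⟩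

/-- the relations among the `e_j` alone -/
noncomputable def relId (n : ℕ) (i0 : Fin (numVars n)) : Ideal (FreeP n) :=
  Ideal.span ({u n ^ n, u n * Gp n i0, Gp n i0 ^ 2} ∪
    Set.range fun i : Fin (numVars n) => Gp n i + dp n i * Gp n i0)

theorem rho_hrel (i0 i : Fin (numVars n)) :
    rho n (Gp n i0) (hrel n (i.val + 1)) =
      if i.val = 0 then 0 else Gp n i + dp n i * Gp n i0 := by
  by_cases h0 : i.val = 0
  · rw [if_pos h0]
    simp only [h0, zero_add]
    rw [hrel_one, map_zero]
  · rw [if_neg h0, hrel_eq i h0, map_add, map_mul, rho_inc, rho_inc, rho_X_none]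

theorem rho_evar1 (s : FreeP n) : rho n s (evar n 1) = u n := by
  rw [← inc_evarE, rho_inc]

theorem map_presIdeal_le (i0 : Fin (numVars n)) :
    Ideal.map (rho n (Gp n i0)) (presIdeal n) ≤ relId n i0 := by
  unfold presIdeal
  rw [Ideal.map_span, Ideal.span_le]
  rintro _ ⟨q, hq, rfl⟩
  rcases hq with hq | ⟨i, rfl⟩
  · rcases hq with rfl | rfl | rfl
    · show rho n (Gp n i0) (evar n 1 ^ n) ∈ _
      rw [map_pow, rho_evar1]
      exact Ideal.subset_span (Or.inl (by simp))
    · show rho n (Gp n i0) (evar n 1 * xvar n) ∈ _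
      unfold xvar
      rw [map_mul, rho_evar1, rho_X_none]
      exact Ideal.subset_span (Or.inl (by simp))
    · show rho n (Gp n i0) (xvar n ^ 2) ∈ _
      unfold xvar
      rw [map_pow, rho_X_none]
      exact Ideal.subset_span (Or.inl (by simp))
  · show rho n (Gp n i0) (hrel n (i.val + 1)) ∈ _
    rw [rho_hrel]
    split_ifs with h0
    · exact Ideal.zero_mem _
    · exact Ideal.subset_span (Or.inr ⟨i, rfl⟩)

theorem relId_le_map (i0 : Fin (numVars n)) :
    relId n i0 ≤ Ideal.map (rho n (Gp n i0)) (presIdeal n) := by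
  unfold relId
  rw [Ideal.span_le]
  intro p hp
  rcases hp with hp | ⟨i, rfl⟩
  · rcases hp with rfl | rfl | rfl
    · have : u n ^ n = rho n (Gp n i0) (evar n 1 ^ n) := by
        rw [map_pow, rho_evar1]
      rw [this]
      exact Ideal.mem_map_of_mem _ (Ideal.subset_span (Or.inl (by simp)))
    · have : u n * Gp n i0 = rho n (Gp n i0) (evar n 1 * xvar n) := by
        unfold xvar
        rw [map_mul, rho_evar1, rho_X_none]
      rw [this]
      exact Ideal.mem_map_of_mem _ (Ideal.subset_span (Or.inl (by simp)))
    · have : Gp n i0 ^ 2 = rho n (Gp n i0) (xvar n ^ 2) := by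
        unfold xvar
        rw [map_pow, rho_X_none]
      rw [this]
      exact Ideal.mem_map_of_mem _ (Ideal.subset_span (Or.inl (by simp)))
  · by_cases h0 : i.val = 0
    · have : Gp n i + dp n i * Gp n i0 = rho n (Gp n i0) (evar n 1 ^ n) := by
        unfold Gp dp
        rw [if_pos h0, if_pos h0, zero_mul, add_zero, map_pow, rho_evar1]
      simp only
      rw [this]
      exact Ideal.mem_map_of_mem _ (Ideal.subset_span (Or.inl (by simp)))
    · have : Gp n i + dp n i * Gp n i0 = rho n (Gp n i0) (hrel n (i.val + 1)) := by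
        rw [rho_hrel, if_neg h0]
      simp only
      rw [this]
      exact Ideal.mem_map_of_mem _ (Ideal.subset_span (Or.inr ⟨i, rfl⟩))

/-- the kernel of `ψ` when some relation has `x`-coefficient one -/
theorem ker_psi_eq (hn : 2 ≤ n) (i0 : Fin (numVars n)) (h : dp n i0 = 1) :
    RingHom.ker (psi n) = relId n i0 := by
  apply le_antisymm
  · intro p hp
    rw [RingHom.mem_ker, ← phi_inc] at hp
    have h1 : inc n p ∈ presIdeal n := by
      rw [← ker_eq hn]
      exact hp
    have h2 := Ideal.mem_map_of_mem (rho n (Gp n i0)) h1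
    rw [rho_inc] at h2
    exact map_presIdeal_le i0 h2
  · refine le_trans (relId_le_map i0) ?_
    rw [Ideal.map_le_iff_le_comap]
    intro q hq
    rw [Ideal.mem_comap, RingHom.mem_ker]
    have := phi_eq_psi_rho hn i0 h q
    rw [← this]
    exact presIdeal_le hn hq

end Groth.Agent.Lib.Helper31.Qs
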