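import Mathlib
import Groth.Agent.Lib.Helper31.Qs7

/-! QsChow truncated algebra over `F_2` (helper31): the case `n = 2^b`. -/

set_option linter.unusedSectionVars false
set_option linter.unusedVariables false

namespace Groth.Agent.Lib.Helper31.Qs

open MvPolynomial QsChow

theorem twoExp_pow (b : ℕ) : twoExp (2 ^ b) = b := by
  unfold twoExp
  exact padicValNat.prime_pow b

theorem klog_two_pow (b : ℕ) : klog (2 ^ b) 2 = b := by
  rw [klog_two]
  have : 1 ≤ 2 ^ b := Nat.one_le_two_pow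
  apply Nat.log_eq_of_pow_le_of_lt_pow
  · omega
  · rw [pow_succ]; omega

/-- `k'_j = k_j` and `(2j-3) 2^(k_j) > n` as soon as `2n` is not `2^K (2j-3)` -/
theorem kprime_eq_klog (n j : ℕ) (hj : 3 ≤ j) (hjn : 2 * j - 3 ≤ 2 * n)
    (key : ∀ K : ℕ, 2 ^ K * (2 * j - 3) ≠ 2 * n) :
    kprime n j = klog n j ∧ n < (2 * j - 3) * 2 ^ klog n j := by
  have hD : 0 < 2 * j - 3 := by omega
  constructor
  · unfold kprime klog
    rw [if_neg (by omega), if_neg (by omega)]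
    symm
    apply Nat.log_eq_of_pow_le_of_lt_pow
    · have h1 := Nat.pow_log_le_self 2 (x := 2 * n / (2 * j - 3)) (by
        have := Nat.div_pos hjn hD
        omega)
      rw [Nat.le_div_iff_mul_le hD] at h1 ⊢
      have := key (Nat.log 2 (2 * n / (2 * j - 3)))
      omega
    · have h2 := Nat.lt_pow_succ_log_self (by norm_num : 1 < 2) (2 * n / (2 * j - 3))
      refine lt_of_le_of_lt ?_ h2
      exact Nat.div_le_div_right (by omega)
  · have h1 := klog_le n j (by omega)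
    have h2 := key (klog n j + 1)
    rw [pow_succ] at h2
    have : 2 ^ klog n j * 2 * (2 * j - 3) = 2 * ((2 * j - 3) * 2 ^ klog n j) := by ring
    omega

theorem odd_mul_pow_ne (D K c : ℕ) (hD : 3 ≤ D) (hodd : Odd D) : 2 ^ K * D ≠ 2 ^ c := by
  intro h
  have hdvd : D ∣ 2 ^ c := ⟨2 ^ K, by rw [← h]; ring⟩
  obtain ⟨m, -, rfl⟩ := (Nat.dvd_prime_pow Nat.prime_two).1 hdvd
  rcases m with _ | m
  · simp at hD
  · rw [pow_succ] at hodd
    exact (Nat.not_even_iff_odd.2 hodd) ⟨2 ^ m, by ring⟩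

theorem two_pow_le (b k D : ℕ) (hD : 1 ≤ D) (h : 2 ^ b < (D + 1) * 2 ^ k) :
    2 ^ b ≤ D * 2 ^ k := by
  by_cases hk : k < b
  · obtain ⟨c, rfl⟩ : ∃ c, b = c + k := ⟨b - k, by omega⟩
    rw [pow_add] at h ⊢
    have h1 : 2 ^ c < D + 1 := Nat.lt_of_mul_lt_mul_right h
    exact Nat.mul_le_mul_right _ (by omega)
  · have h1 : 2 ^ b ≤ 2 ^ k := Nat.pow_le_pow_right (by norm_num) (by omega)
    calc 2 ^ b ≤ 2 ^ k := h1
      _ ≤ D * 2 ^ k := Nat.le_mul_of_pos_left _ (by omega)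

/-- the exponents for `n = 2^b` -/
theorem klog_pow (b j : ℕ) (hj : 3 ≤ j) (hjs : j ≤ numVars (2 ^ b)) :
    kprime (2 ^ b) j = klog (2 ^ b) j ∧ 2 ^ b < (2 * j - 3) * 2 ^ klog (2 ^ b) j ∧
      2 ^ b ≤ (2 * j - 4) * 2 ^ klog (2 ^ b) j := by
  unfold numVars at hjs
  have hodd : Odd (2 * j - 3) := ⟨j - 2, by omega⟩
  have h1 := kprime_eq_klog (2 ^ b) j hj (by omega) (by
    intro K
    have := odd_mul_pow_ne (2 * j - 3) K (b + 1) (by omega) hodd
    rwa [pow_succ, mul_comm (2 ^ b)] at this)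
  refine ⟨h1.1, h1.2, ?_⟩
  apply two_pow_le _ _ _ (by omega)
  have : 2 * j - 4 + 1 = 2 * j - 3 := by omega
  rw [this]
  exact h1.2

theorem sum_sq2 {A : Type*} [CommRing A] [Algebra (ZMod 2) A] {ι : Type*} (s : Finset ι)
    (f : ι → A) : (∑ i ∈ s, f i) ^ 2 = ∑ i ∈ s, f i ^ 2 := by
  classical
  induction s using Finset.induction_on with
  | empty => simp
  | insert a s ha ih =>
    rw [Finset.sum_insert ha, Finset.sum_insert ha, ← ih]
    have := add_self2 (f a * ∑ i ∈ s, f i)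
    linear_combination this

variable {n : ℕ}

theorem SpE_sq (k : ℕ) : SpE n (k + 1) ^ 2 = t n ^ 2 ^ (k + 1) +
    u n ^ 2 ^ (k + 1) * ∑ i ∈ Finset.range k, u n ^ (2 ^ (k + 1) - 2 ^ (i + 2)) * t n ^ 2 ^ (i + 1) := by
  unfold SpE
  rw [sum_sq2, Finset.sum_range_succ, Nat.sub_self, pow_zero, one_mul, ← pow_mul, ← pow_succ,
    add_comm, Finset.mul_sum]
  congr 1
  apply Finset.sum_congr rfl
  intro i hi
  rw [Finset.mem_range] at hi
  have h1 : 2 ^ (i + 2) ≤ 2 ^ (k + 1) := Nat.pow_le_pow_right (by norm_num) (by omega)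
  have h2 : 2 ^ (i + 2) = 2 * 2 ^ (i + 1) := by rw [pow_succ (n := i + 1)]; ring
  rw [mul_pow, ← pow_mul, ← pow_mul, ← pow_succ, ← mul_assoc, ← pow_add]
  congr 2
  omega

theorem Gp_one (hn : 2 ≤ n) : Gp n ⟨1, numVars_ge hn⟩ = SpE n (klog n 2) := by
  unfold Gp
  rw [if_neg (by simp), if_pos rfl]

theorem dp_one (hn : 2 ≤ n) : dp n ⟨1, numVars_ge hn⟩ = u n ^ (2 ^ klog n 2 - n) := by
  unfold dp
  rw [if_neg (by simp), if_pos rfl]

theorem Gp_ge (i : Fin (numVars n)) (hi : 2 ≤ i.val) :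
    Gp n i = X i ^ 2 ^ klog n (i.val + 1) +
      u n ^ ((2 * (i.val + 1) - 4) * 2 ^ klog n (i.val + 1)) * SpE n (klog n (i.val + 1)) := by
  unfold Gp
  rw [if_neg (by omega), if_neg (by omega)]

theorem dp_ge (i : Fin (numVars n)) (hi : 2 ≤ i.val) :
    dp n i = u n ^ ((2 * (i.val + 1) - 3) * 2 ^ klog n (i.val + 1) - n) := by
  unfold dp
  rw [if_neg (by omega), if_neg (by omega)]

theorem Gp_zero (i : Fin (numVars n)) (hi : i.val = 0) : Gp n i = u n ^ n := by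
  unfold Gp
  rw [if_pos hi]

theorem dp_zero (i : Fin (numVars n)) (hi : i.val = 0) : dp n i = 0 := by
  unfold dp
  rw [if_pos hi]

theorem u_pow_mul_mem {I : Ideal (FreeP n)} {m : ℕ} (hu : u n ^ m ∈ I) (k : ℕ) (hk : m ≤ k)
    (c : FreeP n) : u n ^ k * c ∈ I := by
  obtain ⟨d, rfl⟩ : ∃ d, k = m + d := ⟨k - m, by omega⟩
  rw [pow_add, mul_assoc]
  exact I.mul_mem_right _ hu

theorem u_pow_mul_mem' {I : Ideal (FreeP n)} {S : FreeP n} (hS : u n * S ∈ I) (k : ℕ) (hk : 1 ≤ k) :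
    u n ^ k * S ∈ I := by
  obtain ⟨d, rfl⟩ : ∃ d, k = d + 1 := ⟨k - 1, by omega⟩
  rw [pow_succ, mul_assoc]
  exact I.mul_mem_left _ hS

section pow

theorem pow_aux_a (b : ℕ) (hb : 1 ≤ b) (I : Ideal (FreeP n)) (hu : u n ^ 2 ^ b ∈ I) :
    t n ^ 2 ^ b - SpE n b ^ 2 ∈ I := by
  obtain ⟨k, rfl⟩ : ∃ k, b = k + 1 := ⟨b - 1, by omega⟩
  rw [SpE_sq, sub_add_cancel_left]
  exact I.neg_mem (I.mul_mem_right _ hu)

theorem pow_aux_b (b : ℕ) (I : Ideal (FreeP (2 ^ b))) (hu : u (2 ^ b) ^ 2 ^ b ∈ I)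
    (hS : u (2 ^ b) * SpE (2 ^ b) b ∈ I) (i : Fin (numVars (2 ^ b))) (hi : 2 ≤ i.val) :
    (X i : FreeP (2 ^ b)) ^ 2 ^ kprime (2 ^ b) (i.val + 1) -
      (Gp (2 ^ b) i + dp (2 ^ b) i * SpE (2 ^ b) b) ∈ I := by
  obtain ⟨h1, h2, h3⟩ := klog_pow b (i.val + 1) (by omega) i.2
  rw [Gp_ge i hi, dp_ge i hi, h1]
  have : ∀ x y z : FreeP (2 ^ b), x - (x + y + z) = -(y + z) := by intro x y z; ring
  rw [this]
  exact I.neg_mem (I.add_mem (u_pow_mul_mem hu _ h3 _) (u_pow_mul_mem' hS _ (by omega)))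

/-- the ideal of relations for `n = 2^b` -/
theorem relId_pow (b : ℕ) (hb : 1 ≤ b) (hn : 2 ≤ 2 ^ b) :
    relId (2 ^ b) ⟨1, numVars_ge hn⟩ = powIdeal (2 ^ b) := by
  have hG : Gp (2 ^ b) ⟨1, numVars_ge hn⟩ = SpE (2 ^ b) b := by
    rw [Gp_one hn, klog_two_pow]
  have hd : dp (2 ^ b) ⟨1, numVars_ge hn⟩ = 1 := by
    rw [dp_one hn, klog_two_pow, Nat.sub_self, pow_zero]
  have hk2 : kprime (2 ^ b) 2 = b := by
    rw [kprime_two, Nat.log_pow (by norm_num)]
  have hk1 : kprime (2 ^ b) 1 = b := by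
    rw [kprime_one, twoExp_pow]
  -- facts about `powIdeal`
  have hS1 : u (2 ^ b) * SpE (2 ^ b) b ∈ powIdeal (2 ^ b) := by
    have : u (2 ^ b) * SpE (2 ^ b) (kprime (2 ^ b) 2) ∈ powIdeal (2 ^ b) :=
      Ideal.subset_span (Or.inl rfl)
    rwa [hk2] at this
  have hgen : ∀ i : Fin (numVars (2 ^ b)),
      evarE (2 ^ b) (i.val + 1) ^ 2 ^ kprime (2 ^ b) (i.val + 1) ∈ powIdeal (2 ^ b) :=
    fun i => Ideal.subset_span (Or.inr ⟨i, rfl⟩)
  have hu1 : u (2 ^ b) ^ 2 ^ b ∈ powIdeal (2 ^ b) := by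
    have := hgen ⟨0, numVars_pos⟩
    simp only [zero_add] at this
    rwa [hk1] at this
  have ht1 : t (2 ^ b) ^ 2 ^ b ∈ powIdeal (2 ^ b) := by
    have := hgen ⟨1, numVars_ge hn⟩
    simp only [one_add_one_eq_two] at this
    rwa [hk2] at this
  -- facts about `relId`
  have hS2 : u (2 ^ b) * SpE (2 ^ b) b ∈ relId (2 ^ b) ⟨1, numVars_ge hn⟩ := by
    rw [← hG]
    exact Ideal.subset_span (Or.inl (by simp))
  have hu2 : u (2 ^ b) ^ 2 ^ b ∈ relId (2 ^ b) ⟨1, numVars_ge hn⟩ :=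
    Ideal.subset_span (Or.inl (by simp))
  have hSS : SpE (2 ^ b) b ^ 2 ∈ relId (2 ^ b) ⟨1, numVars_ge hn⟩ := by
    rw [← hG]
    exact Ideal.subset_span (Or.inl (by simp))
  have hrel : ∀ i : Fin (numVars (2 ^ b)),
      Gp (2 ^ b) i + dp (2 ^ b) i * SpE (2 ^ b) b ∈ relId (2 ^ b) ⟨1, numVars_ge hn⟩ := by
    intro i
    rw [← hG]
    exact Ideal.subset_span (Or.inr ⟨i, rfl⟩)
  apply le_antisymm
  · unfold relId
    rw [Ideal.span_le]
    intro p hp
    rcases hp with hp | ⟨i, rfl⟩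
    · rcases hp with rfl | rfl | rfl
      · exact hu1
      · rw [hG]; exact hS1
      · rw [hG]
        have := pow_aux_a b hb _ hu1
        have e : SpE (2 ^ b) b ^ 2 = t (2 ^ b) ^ 2 ^ b - (t (2 ^ b) ^ 2 ^ b - SpE (2 ^ b) b ^ 2) := by
          ring
        rw [e]
        exact Ideal.sub_mem _ ht1 this
    · simp only
      rw [hG]
      by_cases h0 : i.val = 0
      · rw [Gp_zero i h0, dp_zero i h0, zero_mul, add_zero]
        exact hu1
      · by_cases h1 : i.val = 1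
        · have : i = ⟨1, numVars_ge hn⟩ := Fin.ext h1
          rw [this, hG, hd, one_mul, add_self2]
          exact Ideal.zero_mem _
        · have := pow_aux_b b _ hu1 hS1 i (by omega)
          have e : Gp (2 ^ b) i + dp (2 ^ b) i * SpE (2 ^ b) b =
              (X i : FreeP (2 ^ b)) ^ 2 ^ kprime (2 ^ b) (i.val + 1) -
              ((X i : FreeP (2 ^ b)) ^ 2 ^ kprime (2 ^ b) (i.val + 1) -
                (Gp (2 ^ b) i + dp (2 ^ b) i * SpE (2 ^ b) b)) := by ring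
          rw [e]
          refine Ideal.sub_mem _ ?_ this
          rw [← evarE_succ i]
          exact hgen i
  · unfold powIdeal
    rw [Ideal.span_le]
    intro p hp
    rcases hp with hp | ⟨i, rfl⟩
    · have hp' : p = u (2 ^ b) * SpE (2 ^ b) (kprime (2 ^ b) 2) := hp
      rw [hp', hk2]
      exact hS2
    · simp only
      by_cases h0 : i.val = 0
      · have : i = ⟨0, numVars_pos⟩ := Fin.ext h0
        rw [this]
        simp only [zero_add]
        rw [hk1]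
        exact hu2
      · by_cases h1 : i.val = 1
        · have : i = ⟨1, numVars_ge hn⟩ := Fin.ext h1
          rw [this]
          simp only [one_add_one_eq_two]
          rw [hk2]
          have := pow_aux_a b hb _ hu2
          have e : t (2 ^ b) ^ 2 ^ b = (t (2 ^ b) ^ 2 ^ b - SpE (2 ^ b) b ^ 2) + SpE (2 ^ b) b ^ 2 := by
            ring
          show t (2 ^ b) ^ 2 ^ b ∈ _
          rw [e]
          exact Ideal.add_mem _ this hSS
        · have := pow_aux_b b _ hu2 hS2 i (by omega)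
          rw [evarE_succ i]
          have e : (X i : FreeP (2 ^ b)) ^ 2 ^ kprime (2 ^ b) (i.val + 1) =
              ((X i : FreeP (2 ^ b)) ^ 2 ^ kprime (2 ^ b) (i.val + 1) -
                (Gp (2 ^ b) i + dp (2 ^ b) i * SpE (2 ^ b) b)) +
              (Gp (2 ^ b) i + dp (2 ^ b) i * SpE (2 ^ b) b) := by ring
          rw [e]
          exact Ideal.add_mem _ this (hrel i)

/-- the case `n = 2^b` -/
theorem pow_main (hn : 2 ≤ n) (b : ℕ) (hb : 1 ≤ b) (hnb : n = 2 ^ b) :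
    (psi n).range = (phi n).range ∧ RingHom.ker (psi n) = powIdeal n := by
  subst hnb
  have hd : dp (2 ^ b) ⟨1, numVars_ge hn⟩ = 1 := by
    rw [dp_one hn, klog_two_pow, Nat.sub_self, pow_zero]
  exact ⟨range_psi hn _ hd, (ker_psi_eq hn _ hd).trans (relId_pow b hb hn)⟩

end pow

end Groth.Agent.Lib.Helper31.Qs
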