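import Mathlib
import Groth.Agent.Lib.Helper31.Qs8

/-! QsChow truncated algebra over `F_2` (helper31): `n` even and not a power of two — exponents. -/

set_option linter.unusedSectionVars false
set_option linter.unusedVariables false

namespace Groth.Agent.Lib.Helper31.Qs

open MvPolynomial QsChow

theorem even_decomp (n : ℕ) (hn : 2 ≤ n) (hne : n ≠ 2 ^ twoExp n) :
    ∃ l, 3 ≤ l ∧ n = 2 ^ twoExp n * (2 * l - 3) := by
  unfold twoExp at *
  have hn0 : n ≠ 0 := by omega
  have h1 : 2 ^ padicValNat 2 n ∣ n := pow_padicValNat_dvd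
  have h2 : ¬ 2 ^ (padicValNat 2 n + 1) ∣ n := pow_succ_padicValNat_not_dvd hn0
  generalize padicValNat 2 n = a at *
  obtain ⟨m, hm⟩ := h1
  have hodd : Odd m := by
    rw [← Nat.not_even_iff_odd]
    rintro ⟨c, hc⟩
    apply h2
    refine ⟨c, ?_⟩
    rw [hm, hc, pow_succ]; ring
  obtain ⟨c, hc⟩ := hodd
  have hm1 : m ≠ 1 := by
    rintro rfl
    rw [mul_one] at hm
    exact hne hm
  refine ⟨c + 2, by omega, ?_⟩
  have : 2 * (c + 2) - 3 = m := by omega
  rw [this]
  exact hm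

section even

variable (n a l : ℕ) (hl : 3 ≤ l) (hnl : n = 2 ^ a * (2 * l - 3))

include hl hnl

theorem ev_twoExp : twoExp n = a := by
  unfold twoExp
  rw [hnl, padicValNat.mul (by positivity) (by omega), padicValNat.prime_pow,
    padicValNat.eq_zero_of_not_dvd (by omega), add_zero]

theorem ev_lIdx : lIdx n = l := by
  unfold lIdx
  rw [ev_twoExp n a l hl hnl, hnl, Nat.mul_div_cancel_left _ (by positivity)]
  omega

theorem ev_ge : 3 * 2 ^ a ≤ n := by
  rw [hnl, mul_comm]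
  exact Nat.mul_le_mul_left _ (by omega)

theorem ev_l_le (ha : 1 ≤ a) : l ≤ numVars n := by
  unfold numVars
  obtain ⟨a', rfl⟩ : ∃ a', a = a' + 1 := ⟨a - 1, by omega⟩
  have h1 : 1 ≤ 2 ^ a' := Nat.one_le_two_pow
  have h2 : n = 2 * (2 ^ a' * (2 * l - 3)) := by rw [hnl, pow_succ]; ring
  have h3 : 2 * l - 3 ≤ 2 ^ a' * (2 * l - 3) := Nat.le_mul_of_pos_left _ (by omega)
  omega

theorem ev_klog_l : klog n l = a := by
  unfold klog
  have h1 : 1 ≤ 2 ^ a := Nat.one_le_two_pow
  have h2 : (2 * n - 1) / (2 * l - 3) = 2 ^ (a + 1) - 1 := by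
    apply Nat.div_eq_of_lt_le
    · rw [hnl, pow_succ]
      have : (2 ^ a * 2 - 1) * (2 * l - 3) = 2 * (2 ^ a * (2 * l - 3)) - (2 * l - 3) := by
        rw [Nat.sub_mul]; ring_nf
      omega
    · rw [hnl, pow_succ]
      have : (2 ^ a * 2 - 1 + 1) * (2 * l - 3) = 2 * (2 ^ a * (2 * l - 3)) := by
        rw [Nat.sub_add_cancel (by omega)]; ring
      have : 0 < 2 ^ a * (2 * l - 3) := by
        apply Nat.mul_pos <;> omega
      omega
  rw [h2]
  apply Nat.log_eq_of_pow_le_of_lt_pow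
  · rw [pow_succ]; omega
  · have : 0 < 2 ^ (a + 1) := by positivity
    omega

theorem ev_kprime_l : kprime n l = a + 1 := by
  unfold kprime
  rw [if_neg (by omega), if_neg (by omega)]
  have : 2 * n / (2 * l - 3) = 2 ^ (a + 1) := by
    rw [hnl, pow_succ]
    have : 2 * (2 ^ a * (2 * l - 3)) = (2 ^ a * 2) * (2 * l - 3) := by ring
    rw [this, Nat.mul_div_cancel _ (by omega)]
  rw [this, Nat.log_pow (by norm_num)]

theorem ev_not_pow : 2 ^ Nat.log 2 n ≠ n := by
  intro h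
  have h1 := ev_twoExp n a l hl hnl
  unfold twoExp at h1
  rw [← h, padicValNat.prime_pow] at h1
  rw [h1] at h
  rw [hnl] at h
  have : 2 ^ a * 1 = 2 ^ a * (2 * l - 3) := by rw [mul_one]; exact h
  have := Nat.eq_of_mul_eq_mul_left (by positivity) this
  omega

theorem ev_klog_two : klog n 2 = Nat.log 2 n + 1 ∧ n < 2 ^ klog n 2 ∧ a + 1 ≤ Nat.log 2 n := by
  have hge := ev_ge n a l hl hnl
  have h2a : 1 ≤ 2 ^ a := Nat.one_le_two_pow
  have hn0 : n ≠ 0 := by omega
  have h1 := Nat.pow_log_le_self 2 hn0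
  have h2 := Nat.lt_pow_succ_log_self (by norm_num : 1 < 2) n
  have h3 := ev_not_pow n a l hl hnl
  set L := Nat.log 2 n with hLdef
  have hk : klog n 2 = L + 1 := by
    rw [klog_two]
    apply Nat.log_eq_of_pow_le_of_lt_pow
    · rw [pow_succ]; omega
    · rw [pow_succ] at h2
      rw [pow_succ (n := L + 1), pow_succ]; omega
  refine ⟨hk, ?_, ?_⟩
  · rw [hk]; exact h2
  · rw [hLdef]
    apply Nat.le_log_of_pow_le (by norm_num)
    rw [pow_succ]
    omega

theorem ev_key (j : ℕ) (hj : 3 ≤ j) (hjl : j ≠ l) (K : ℕ) : 2 ^ K * (2 * j - 3) ≠ 2 * n := by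
  intro h
  have e : 2 * n = 2 ^ (a + 1) * (2 * l - 3) := by rw [hnl, pow_succ]; ring
  rw [e] at h
  have h1 := congrArg (padicValNat 2) h
  rw [padicValNat.mul (by positivity) (by omega), padicValNat.mul (by positivity) (by omega),
    padicValNat.prime_pow, padicValNat.prime_pow,
    padicValNat.eq_zero_of_not_dvd (by omega), padicValNat.eq_zero_of_not_dvd (by omega),
    add_zero, add_zero] at h1
  rw [h1] at h
  have := Nat.eq_of_mul_eq_mul_left (by positivity) h
  omega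

theorem ev_klog (j : ℕ) (hj : 3 ≤ j) (hjs : j ≤ numVars n) (hjl : j ≠ l) :
    kprime n j = klog n j ∧ n < (2 * j - 3) * 2 ^ klog n j ∧
      2 ^ a ≤ (2 * j - 4) * 2 ^ klog n j := by
  unfold numVars at hjs
  have h1 := kprime_eq_klog n j hj (by omega) (ev_key n a l hl hnl j hj hjl)
  refine ⟨h1.1, h1.2, ?_⟩
  apply two_pow_le _ _ _ (by omega)
  have : 2 * j - 4 + 1 = 2 * j - 3 := by omega
  rw [this]
  have hge := ev_ge n a l hl hnl
  have h2a : 1 ≤ 2 ^ a := Nat.one_le_two_pow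
  omega

end even

end Groth.Agent.Lib.Helper31.Qs
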