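import Mathlib
import Groth.Agent.Lib.Helper31.Qs9

/-! QsChow truncated algebra over `F_2` (helper31): `n` even and not a power of two — ideals. -/

set_option linter.unusedSectionVars false
set_option linter.unusedVariables false

namespace Groth.Agent.Lib.Helper31.Qs

open MvPolynomial QsChow

variable {n : ℕ}

theorem SpE_succ (k : ℕ) : SpE n (k + 1) = t n ^ 2 ^ k + u n ^ 2 ^ k * SpE n k := by
  unfold SpE
  rw [Finset.sum_range_succ, Nat.sub_self, pow_zero, one_mul, add_comm, Finset.mul_sum]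
  congr 1
  apply Finset.sum_congr rfl
  intro i hi
  rw [Finset.mem_range] at hi
  have h1 : 2 ^ (i + 1) ≤ 2 ^ k := Nat.pow_le_pow_right (by norm_num) (by omega)
  rw [← mul_assoc, ← pow_add]
  congr 2
  rw [pow_succ (n := k)]
  omega

theorem psi_u : psi n (u n) = eps n 1 := by
  rw [← mkP_psiL, psiL_u, mkP_u]

section even2

variable (a l : ℕ) (hl : 3 ≤ l) (hnl : n = 2 ^ a * (2 * l - 3)) (i0 : Fin (numVars n))
  (hi0 : i0.val + 1 = l)

include hl hnl hi0

theorem ev_Gp : Gp n i0 = X i0 ^ 2 ^ a + u n ^ ((2 * l - 4) * 2 ^ a) * SpE n a := by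
  rw [Gp_ge i0 (by omega), hi0, ev_klog_l n a l hl hnl]

theorem ev_dp : dp n i0 = 1 := by
  rw [dp_ge i0 (by omega), hi0, ev_klog_l n a l hl hnl]
  have : (2 * l - 3) * 2 ^ a - n = 0 := by rw [hnl, mul_comm]; exact Nat.sub_self _
  rw [this, pow_zero]

theorem ev_aux_a (I : Ideal (FreeP n)) (hu : u n ^ 2 ^ a ∈ I) :
    u n * (X i0 : FreeP n) ^ 2 ^ a - u n * Gp n i0 ∈ I := by
  rw [ev_Gp a l hl hnl i0 hi0]
  have : u n * (X i0 : FreeP n) ^ 2 ^ a -
      u n * ((X i0 : FreeP n) ^ 2 ^ a + u n ^ ((2 * l - 4) * 2 ^ a) * SpE n a) =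
      -(u n ^ ((2 * l - 4) * 2 ^ a) * (u n * SpE n a)) := by ring
  rw [this]
  refine I.neg_mem (u_pow_mul_mem hu _ ?_ _)
  exact Nat.le_mul_of_pos_left _ (by omega)

theorem ev_aux_d (I : Ideal (FreeP n)) (hu : u n ^ 2 ^ a ∈ I) :
    (X i0 : FreeP n) ^ 2 ^ (a + 1) - Gp n i0 ^ 2 ∈ I := by
  rw [ev_Gp a l hl hnl i0 hi0]
  have h2 := add_self2 ((X i0 : FreeP n) ^ 2 ^ a * (u n ^ ((2 * l - 4) * 2 ^ a) * SpE n a))
  have : (X i0 : FreeP n) ^ 2 ^ (a + 1) -
      ((X i0 : FreeP n) ^ 2 ^ a + u n ^ ((2 * l - 4) * 2 ^ a) * SpE n a) ^ 2 =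
      -(u n ^ ((2 * l - 4) * 2 ^ a) * (u n ^ ((2 * l - 4) * 2 ^ a) * SpE n a ^ 2)) := by
    rw [pow_succ, pow_mul]
    linear_combination -h2
  rw [this]
  refine I.neg_mem (u_pow_mul_mem hu _ ?_ _)
  exact Nat.le_mul_of_pos_left _ (by omega)

theorem ev_aux_b (hn : 2 ≤ n) (I : Ideal (FreeP n)) (hu : u n ^ 2 ^ a ∈ I)
    (hG : u n * Gp n i0 ∈ I) :
    t n ^ 2 ^ kprime n 2 -
      (Gp n ⟨1, numVars_ge hn⟩ + dp n ⟨1, numVars_ge hn⟩ * Gp n i0) ∈ I := by
  obtain ⟨h1, h2, h3⟩ := ev_klog_two n a l hl hnl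
  rw [kprime_two, Gp_one hn, dp_one hn, h1, SpE_succ]
  have : ∀ x y z : FreeP n, x - (x + y + z) = -(y + z) := by intro x y z; ring
  rw [this]
  refine I.neg_mem (I.add_mem (u_pow_mul_mem hu _ ?_ _) (u_pow_mul_mem' hG _ ?_))
  · exact Nat.pow_le_pow_right (by norm_num) (by omega)
  · rw [h1] at h2
    omega

theorem ev_aux_c (I : Ideal (FreeP n)) (hu : u n ^ 2 ^ a ∈ I)
    (hG : u n * Gp n i0 ∈ I) (i : Fin (numVars n)) (hi : 2 ≤ i.val) (hne : i ≠ i0) :
    (X i : FreeP n) ^ 2 ^ kprime n (i.val + 1) - (Gp n i + dp n i * Gp n i0) ∈ I := by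
  have hne' : i.val + 1 ≠ l := by
    intro h
    apply hne
    apply Fin.ext
    omega
  obtain ⟨h1, h2, h3⟩ := ev_klog n a l hl hnl (i.val + 1) (by omega) i.2 hne'
  rw [Gp_ge i hi, dp_ge i hi, h1]
  have : ∀ x y z : FreeP n, x - (x + y + z) = -(y + z) := by intro x y z; ring
  rw [this]
  exact I.neg_mem (I.add_mem (u_pow_mul_mem hu _ h3 _) (u_pow_mul_mem' hG _ (by omega)))

/-- the ideal of relations for `n` even and not a power of two -/
theorem relId_even (hn : 2 ≤ n) :
    relId n i0 ⊔ Ideal.span {u n ^ 2 ^ a} = evenIdeal n := by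
  have hlI : lIdx n = l := ev_lIdx n a l hl hnl
  have hkl : kprime n l = a + 1 := ev_kprime_l n a l hl hnl
  have hk1 : kprime n 1 = a := by rw [kprime_one, ev_twoExp n a l hl hnl]
  have hd : dp n i0 = 1 := ev_dp a l hl hnl i0 hi0
  have hX : evarE n l = X i0 := by rw [← hi0, evarE_succ]
  have hge := ev_ge n a l hl hnl
  have h2a : 1 ≤ 2 ^ a := Nat.one_le_two_pow
  set J := relId n i0 ⊔ Ideal.span {u n ^ 2 ^ a} with hJ
  -- facts about `evenIdeal`
  have hgen : ∀ i : Fin (numVars n),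
      evarE n (i.val + 1) ^ 2 ^ kprime n (i.val + 1) ∈ evenIdeal n :=
    fun i => Ideal.subset_span (Or.inr ⟨i, rfl⟩)
  have hu1 : u n ^ 2 ^ a ∈ evenIdeal n := by
    have := hgen ⟨0, numVars_pos⟩
    simp only [zero_add] at this
    rwa [hk1] at this
  have ht1 : t n ^ 2 ^ kprime n 2 ∈ evenIdeal n := by
    have := hgen ⟨1, numVars_ge hn⟩
    simp only [one_add_one_eq_two] at this
    exact this
  have hX1 : (X i0 : FreeP n) ^ 2 ^ (a + 1) ∈ evenIdeal n := by
    have := hgen i0
    rwa [hi0, hkl, hX] at this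
  have huX1 : u n * (X i0 : FreeP n) ^ 2 ^ a ∈ evenIdeal n := by
    have : evarE n 1 * evarE n (lIdx n) ^ 2 ^ (kprime n (lIdx n) - 1) ∈ evenIdeal n :=
      Ideal.subset_span (Or.inl rfl)
    rwa [hlI, hkl, hX, Nat.add_sub_cancel] at this
  have hG1 : u n * Gp n i0 ∈ evenIdeal n := by
    have := ev_aux_a a l hl hnl i0 hi0 _ hu1
    have e : u n * Gp n i0 = u n * (X i0 : FreeP n) ^ 2 ^ a -
        (u n * (X i0 : FreeP n) ^ 2 ^ a - u n * Gp n i0) := by ring
    rw [e]
    exact Ideal.sub_mem _ huX1 this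
  -- facts about `J`
  have hu2 : u n ^ 2 ^ a ∈ J := Ideal.mem_sup_right (Ideal.subset_span rfl)
  have hG2 : u n * Gp n i0 ∈ J := Ideal.mem_sup_left (Ideal.subset_span (Or.inl (by simp)))
  have hGG : Gp n i0 ^ 2 ∈ J := Ideal.mem_sup_left (Ideal.subset_span (Or.inl (by simp)))
  have hrel : ∀ i : Fin (numVars n), Gp n i + dp n i * Gp n i0 ∈ J :=
    fun i => Ideal.mem_sup_left (Ideal.subset_span (Or.inr ⟨i, rfl⟩))
  apply le_antisymm
  · rw [hJ, sup_le_iff]
    constructor
    · unfold relId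
      rw [Ideal.span_le]
      intro p hp
      rcases hp with hp | ⟨i, rfl⟩
      · rcases hp with rfl | rfl | rfl
        · have := u_pow_mul_mem hu1 n (by omega) 1
          rwa [mul_one] at this
        · exact hG1
        · have := ev_aux_d a l hl hnl i0 hi0 _ hu1
          have e : Gp n i0 ^ 2 = (X i0 : FreeP n) ^ 2 ^ (a + 1) -
              ((X i0 : FreeP n) ^ 2 ^ (a + 1) - Gp n i0 ^ 2) := by ring
          rw [e]
          exact Ideal.sub_mem _ hX1 this
      · simp only
        by_cases h0 : i.val = 0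
        · rw [Gp_zero i h0, dp_zero i h0, zero_mul, add_zero]
          have := u_pow_mul_mem hu1 n (by omega) 1
          rwa [mul_one] at this
        · by_cases h1 : i.val = 1
          · have hi : i = ⟨1, numVars_ge hn⟩ := Fin.ext h1
            rw [hi]
            have := ev_aux_b a l hl hnl i0 hi0 hn _ hu1 hG1
            have e : Gp n ⟨1, numVars_ge hn⟩ + dp n ⟨1, numVars_ge hn⟩ * Gp n i0 =
                t n ^ 2 ^ kprime n 2 - (t n ^ 2 ^ kprime n 2 -
                  (Gp n ⟨1, numVars_ge hn⟩ + dp n ⟨1, numVars_ge hn⟩ * Gp n i0)) := by ring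
            rw [e]
            exact Ideal.sub_mem _ ht1 this
          · by_cases hi : i = i0
            · rw [hi, hd, one_mul, add_self2]
              exact Ideal.zero_mem _
            · have := ev_aux_c a l hl hnl i0 hi0 _ hu1 hG1 i (by omega) hi
              have e : Gp n i + dp n i * Gp n i0 =
                  (X i : FreeP n) ^ 2 ^ kprime n (i.val + 1) -
                  ((X i : FreeP n) ^ 2 ^ kprime n (i.val + 1) -
                    (Gp n i + dp n i * Gp n i0)) := by ring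
              rw [e]
              refine Ideal.sub_mem _ ?_ this
              rw [← evarE_succ i]
              exact hgen i
    · rw [Ideal.span_le, Set.singleton_subset_iff]
      exact hu1
  · unfold evenIdeal
    rw [Ideal.span_le]
    intro p hp
    rcases hp with hp | ⟨i, rfl⟩
    · have hp' : p = evarE n 1 * evarE n (lIdx n) ^ 2 ^ (kprime n (lIdx n) - 1) := hp
      rw [hp', hlI, hkl, hX, Nat.add_sub_cancel]
      have := ev_aux_a a l hl hnl i0 hi0 _ hu2
      have e : evarE n 1 * (X i0 : FreeP n) ^ 2 ^ a =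
          (u n * (X i0 : FreeP n) ^ 2 ^ a - u n * Gp n i0) + u n * Gp n i0 := by ring
      rw [e]
      exact Ideal.add_mem _ this hG2
    · simp only
      by_cases h0 : i.val = 0
      · have : i = ⟨0, numVars_pos⟩ := Fin.ext h0
        rw [this]
        simp only [zero_add]
        rw [hk1]
        exact hu2
      · by_cases h1 : i.val = 1
        · have : i = ⟨1, numVars_ge hn⟩ := Fin.ext h1
          rw [this]
          simp only [one_add_one_eq_two]
          have := ev_aux_b a l hl hnl i0 hi0 hn _ hu2 hG2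
          have e : t n ^ 2 ^ kprime n 2 = (t n ^ 2 ^ kprime n 2 -
              (Gp n ⟨1, numVars_ge hn⟩ + dp n ⟨1, numVars_ge hn⟩ * Gp n i0)) +
              (Gp n ⟨1, numVars_ge hn⟩ + dp n ⟨1, numVars_ge hn⟩ * Gp n i0) := by ring
          show t n ^ 2 ^ kprime n 2 ∈ _
          rw [e]
          exact Ideal.add_mem _ this (hrel _)
        · by_cases hi : i = i0
          · rw [hi, hi0, hkl, hX]
            have := ev_aux_d a l hl hnl i0 hi0 _ hu2
            have e : (X i0 : FreeP n) ^ 2 ^ (a + 1) =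
                ((X i0 : FreeP n) ^ 2 ^ (a + 1) - Gp n i0 ^ 2) + Gp n i0 ^ 2 := by ring
            rw [e]
            exact Ideal.add_mem _ this hGG
          · have := ev_aux_c a l hl hnl i0 hi0 _ hu2 hG2 i (by omega) hi
            rw [evarE_succ i]
            have e : (X i : FreeP n) ^ 2 ^ kprime n (i.val + 1) =
                ((X i : FreeP n) ^ 2 ^ kprime n (i.val + 1) -
                  (Gp n i + dp n i * Gp n i0)) +
                (Gp n i + dp n i * Gp n i0) := by ring
            rw [e]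
            exact Ideal.add_mem _ this (hrel i)

end even2

/-- the case `n` even and not a power of two -/
theorem even_main (hn : 2 ≤ n) (τ : P n →ₐ[ZMod 2] P n)
    (hrange : (phi n).range = AlgHom.equalizer τ (AlgHom.id (ZMod 2) (P n)))
    (ha : 1 ≤ twoExp n) (hne : n ≠ 2 ^ twoExp n) :
    (∀ q : FreeP n,
      (∃ w : P n, τ w = w ∧ psi n q = eps n 1 ^ 2 ^ twoExp n * w) ↔ q ∈ evenIdeal n) ∧
    (∀ z : P n, τ z = z → ∃ q : FreeP n, ∃ w : P n,
      τ w = w ∧ z = psi n q + eps n 1 ^ 2 ^ twoExp n * w) := by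
  obtain ⟨l, hl, hnl⟩ := even_decomp n hn hne
  generalize twoExp n = a at *
  have hls := ev_l_le n a l hl hnl ha
  obtain ⟨i0, hi0⟩ : ∃ i0 : Fin (numVars n), i0.val + 1 = l :=
    ⟨⟨l - 1, by omega⟩, by show l - 1 + 1 = l; omega⟩
  have hd := ev_dp a l hl hnl i0 hi0
  have hr := range_psi hn i0 hd
  have hk := ker_psi_eq hn i0 hd
  have hJ := relId_even a l hl hnl i0 hi0 hn
  have hfix : ∀ c : FreeP n, τ (psi n c) = psi n c := by
    intro c
    have : psi n c ∈ AlgHom.equalizer τ (AlgHom.id (ZMod 2) (P n)) := by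
      rw [← hrange, ← hr]
      exact ⟨c, rfl⟩
    exact this
  have hsurj : ∀ z : P n, τ z = z → ∃ q : FreeP n, psi n q = z := by
    intro z hz
    have : z ∈ (psi n).range := by
      rw [hr, hrange]
      exact hz
    exact this
  constructor
  · intro q
    rw [← hJ]
    constructor
    · rintro ⟨w, hw, hq⟩
      obtain ⟨q', rfl⟩ := hsurj w hw
      have h1 : q - u n ^ 2 ^ a * q' ∈ relId n i0 := by
        rw [← hk, RingHom.mem_ker, map_sub, map_mul, map_pow, psi_u, hq]
        exact sub_self _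
      have : q = (q - u n ^ 2 ^ a * q') + q' * u n ^ 2 ^ a := by ring
      rw [this]
      exact Submodule.add_mem_sup h1 (Ideal.mul_mem_left _ _ (Ideal.subset_span rfl))
    · intro hq
      obtain ⟨p, hp, z, hz, rfl⟩ := Submodule.mem_sup.1 hq
      obtain ⟨c, rfl⟩ := Ideal.mem_span_singleton'.1 hz
      refine ⟨psi n c, hfix c, ?_⟩
      have h1 : psi n p = 0 := by
        rw [← hk] at hp
        exact hp
      rw [map_add, h1, zero_add, map_mul, map_pow, psi_u, mul_comm]
  · intro z hz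
    obtain ⟨q, rfl⟩ := hsurj z hz
    exact ⟨q, 0, map_zero τ, by rw [mul_zero, add_zero]⟩

end Groth.Agent.Lib.Helper31.Qs
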