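import Mathlib

/-!
# Minimising a positive definite quadratic form over a polytope (over any ordered field),
the variational inequality, and separation of a point from a polytope.
-/

set_option autoImplicit false
set_option linter.unusedSectionVars false

open scoped Classical Pointwise

namespace Groth.Agent.Lib.Helper31.QuadMin

variable {R N : Type*} [Field R] [LinearOrder R] [IsStrictOrderedRing R]
  [AddCommGroup N] [Module R N] [FiniteDimensional R N]
  (B : LinearMap.BilinForm R N) (hBs : ∀ y z : N, B y z = B z y) (hBp : ∀ y : N, y ≠ 0 → 0 < B y y)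

include hBp in
theorem nonneg (y : N) : 0 ≤ B y y := by
  by_cases h : y = 0
  · rw [h]; simp
  · exact (hBp y h).le

/-- the weighted point -/
noncomputable def pt (S : Finset N) (w : N → R) : N := ∑ s ∈ S, w s • s

theorem pt_add (S : Finset N) (w w' : N → R) : pt S (w + w') = pt S w + pt S w' := by
  simp [pt, add_smul, Finset.sum_add_distrib]

theorem pt_sub (S : Finset N) (w w' : N → R) : pt S (w - w') = pt S w - pt S w' := by
  simp [pt, sub_smul, Finset.sum_sub_distrib]

theorem pt_smul (S : Finset N) (a : R) (w : N → R) : pt S (a • w) = a • pt S w := by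
  simp [pt, Finset.smul_sum, smul_smul]

theorem pt_single (S : Finset N) {s : N} (hs : s ∈ S) :
    pt S (Pi.single s (1 : R) : N → R) = s := by
  unfold pt
  rw [Finset.sum_eq_single_of_mem s hs]
  · simp
  · intro t _ hne; simp [hne]

theorem sum_single (S : Finset N) {s : N} (hs : s ∈ S) : ∑ t ∈ S, (Pi.single s (1 : R) : N → R) t = 1 := by
  rw [Finset.sum_eq_single_of_mem s hs]
  · simp
  · intro t _ hne; simp [hne]

include hBs hBp in
/-- the point of the affine hull closest to the origin -/
theorem exists_affine_min (S : Finset N) (hS : S.Nonempty) :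
    ∃ μ : N → R, ∑ s ∈ S, μ s = 1 ∧
      ∀ ν : N → R, ∑ s ∈ S, ν s = 0 → B (pt S μ) (pt S ν) = 0 := by
  obtain ⟨s₀, hs₀⟩ := hS
  let W : Submodule R N := Submodule.span R ((fun s => s - s₀) '' (S : Set N))
  have hrefl : B.IsRefl := fun x y h => by rw [hBs]; exact h
  have hnd : (B.restrict W).Nondegenerate := by
    have hsep : ∀ x : W, (∀ y : W, B.restrict W x y = 0) → x = 0 := by
      intro x hx
      by_contra hne
      have : (x : N) ≠ 0 := fun h => hne (Subtype.ext h)
      have := hBp _ this
      have h0 := hx x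
      simp only [LinearMap.BilinForm.restrict_apply, LinearMap.domRestrict_apply] at h0
      rw [h0] at this
      exact lt_irrefl _ this
    refine ⟨hsep, ?_⟩
    intro y hy
    apply hsep
    intro x
    have := hy x
    simp only [LinearMap.BilinForm.restrict_apply, LinearMap.domRestrict_apply] at this ⊢
    rw [hBs]; exact this
  have hcompl := LinearMap.BilinForm.isCompl_orthogonal_of_restrict_nondegenerate hrefl hnd
  obtain ⟨w, hw, w', hw', hsum⟩ : ∃ w ∈ W, ∃ w' ∈ B.orthogonal W, w + w' = s₀ := by
    have : s₀ ∈ W ⊔ B.orthogonal W := by rw [hcompl.sup_eq_top]; trivial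
    exact Submodule.mem_sup.mp this
  -- every element of W is pt ν with Σ ν = 0, and conversely
  have hW : ∀ w ∈ W, ∃ ν : N → R, ∑ s ∈ S, ν s = 0 ∧ pt S ν = w := by
    intro w hw
    refine Submodule.span_induction (p := fun w _ => ∃ ν : N → R, ∑ s ∈ S, ν s = 0 ∧ pt S ν = w)
      ?_ ?_ ?_ ?_ hw
    · rintro _ ⟨s, hs, rfl⟩
      refine ⟨(Pi.single s (1 : R) : N → R) - (Pi.single s₀ (1 : R) : N → R), ?_, ?_⟩
      · simp only [Pi.sub_apply, Finset.sum_sub_distrib]
        rw [sum_single S hs, sum_single S hs₀, sub_self]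
      · rw [pt_sub, pt_single S hs, pt_single S hs₀]
    · exact ⟨0, by simp, by simp [pt]⟩
    · rintro x y _ _ ⟨ν, h1, h2⟩ ⟨ν', h1', h2'⟩
      exact ⟨ν + ν', by simp [Finset.sum_add_distrib, h1, h1'], by rw [pt_add, h2, h2']⟩
    · rintro a x _ ⟨ν, h1, h2⟩
      refine ⟨a • ν, ?_, by rw [pt_smul, h2]⟩
      simp only [Pi.smul_apply, smul_eq_mul, ← Finset.mul_sum, h1, mul_zero]
  have hW' : ∀ ν : N → R, ∑ s ∈ S, ν s = 0 → pt S ν ∈ W := by
    intro ν hν
    have : pt S ν = ∑ s ∈ S, ν s • (s - s₀) := by
      simp only [pt, smul_sub, Finset.sum_sub_distrib, ← Finset.sum_smul, hν, zero_smul, sub_zero]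
    rw [this]
    exact Submodule.sum_mem _ fun s hs =>
      Submodule.smul_mem _ _ (Submodule.subset_span ⟨s, hs, rfl⟩)
  obtain ⟨ν₀, hν₀, hν₀'⟩ := hW w hw
  refine ⟨(Pi.single s₀ (1 : R) : N → R) - ν₀, ?_, ?_⟩
  · simp only [Pi.sub_apply, Finset.sum_sub_distrib]
    rw [sum_single S hs₀, hν₀, sub_zero]
  · intro ν hν
    rw [pt_sub, pt_single S hs₀, hν₀', ← hsum, add_sub_cancel_left]
    have h1 := hW' ν hν
    have h2 := (LinearMap.BilinForm.mem_orthogonal_iff.mp hw') _ h1
    rw [hBs]
    exact h2

theorem mem_convexHull_iff (S : Finset N) (z : N) :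
    z ∈ convexHull R (S : Set N) ↔
      ∃ w : N → R, (∀ s ∈ S, 0 ≤ w s) ∧ ∑ s ∈ S, w s = 1 ∧ pt S w = z :=
  Finset.mem_convexHull'

include hBs hBp in
theorem exists_min (S : Finset N) (hS : S.Nonempty) :
    ∃ z₀ ∈ convexHull R (S : Set N), ∀ z ∈ convexHull R (S : Set N), B z₀ z₀ ≤ B z z := by
  induction' hn : S.card using Nat.strong_induction_on with n ih generalizing S
  obtain ⟨μ, hμ1, hμ0⟩ := exists_affine_min B hBs hBp S hS
  set p := pt S μ with hp
  -- p is minimal among affine combinations
  have hpmin : ∀ ν : N → R, ∑ s ∈ S, ν s = 1 → B p (pt S ν - p) = 0 := by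
    intro ν hν
    rw [hp, ← pt_sub]
    apply hμ0
    simp [Finset.sum_sub_distrib, hν, hμ1]
  by_cases hμ : ∀ s ∈ S, 0 ≤ μ s
  · refine ⟨p, (mem_convexHull_iff S p).mpr ⟨μ, hμ, hμ1, rfl⟩, ?_⟩
    intro z hz
    obtain ⟨ν, -, hν1, rfl⟩ := (mem_convexHull_iff S z).mp hz
    have h0 := hpmin ν hν1
    have : B (pt S ν) (pt S ν) = B p p + B (pt S ν - p) (pt S ν - p) := by
      have e : pt S ν = p + (pt S ν - p) := by abel
      conv_lhs => rw [e]
      simp only [map_add, LinearMap.add_apply]
      rw [hBs (pt S ν - p) p, h0]; ring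
    rw [this]
    linarith [nonneg B hBp (pt S ν - p)]
  · push Not at hμ
    obtain ⟨s₁, hs₁, hμs₁⟩ := hμ
    -- S has at least two elements
    have hne : ∀ s ∈ S, (S.erase s).Nonempty := by
      intro s hs
      by_contra hempty
      rw [Finset.not_nonempty_iff_eq_empty] at hempty
      have hS1 : S = {s} := by
        ext t
        constructor
        · intro ht
          by_contra hts
          have : t ∈ S.erase s := Finset.mem_erase.mpr ⟨by simpa using hts, ht⟩
          rw [hempty] at this; exact absurd this (Finset.notMem_empty _)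
        · intro ht; rw [Finset.mem_singleton] at ht; rw [ht]; exact hs
      rw [hS1, Finset.sum_singleton] at hμ1
      have : s₁ = s := by rw [hS1] at hs₁; simpa using hs₁
      rw [this, hμ1] at hμs₁
      exact absurd hμs₁ (by norm_num)
    have hih : ∀ s ∈ S, ∃ z₀ ∈ convexHull R ((S.erase s : Finset N) : Set N),
        ∀ z ∈ convexHull R ((S.erase s : Finset N) : Set N), B z₀ z₀ ≤ B z z := by
      intro s hs
      exact ih (S.erase s).card (by rw [← hn]; exact Finset.card_erase_lt_of_mem hs)
        (S.erase s) (hne s hs) rfl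
    choose! zs hzs hzsmin using hih
    obtain ⟨sstar, hsstar, hbest⟩ := Finset.exists_min_image S (fun s => B (zs s) (zs s)) hS
    refine ⟨zs sstar, convexHull_mono (by simp) (hzs sstar hsstar), ?_⟩
    intro z hz
    obtain ⟨lam, hlam0, hlam1, rfl⟩ := (mem_convexHull_iff S z).mp hz
    -- the negative part
    set Neg := S.filter (fun s => μ s < 0) with hNeg
    have hNegne : Neg.Nonempty := ⟨s₁, Finset.mem_filter.mpr ⟨hs₁, hμs₁⟩⟩
    let t : N → R := fun s => lam s / (lam s - μ s)
    obtain ⟨s₂, hs₂, ht₂⟩ := Finset.exists_min_image Neg t hNegne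
    have hs₂S : s₂ ∈ S := (Finset.mem_filter.mp hs₂).1
    have hμs₂ : μ s₂ < 0 := (Finset.mem_filter.mp hs₂).2
    have hden : ∀ s ∈ Neg, 0 < lam s - μ s := by
      intro s hs
      have h1 := (Finset.mem_filter.mp hs).2
      have h2 := hlam0 s (Finset.mem_filter.mp hs).1
      linarith
    set tt := t s₂ with htt
    have htt0 : 0 ≤ tt := div_nonneg (hlam0 s₂ hs₂S) (hden s₂ hs₂).le
    have htt1 : tt < 1 := by
      rw [htt]
      simp only [t]
      rw [div_lt_one (hden s₂ hs₂)]
      linarith
    -- new weights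
    let c : N → R := fun s => (1 - tt) * lam s + tt * μ s
    have hc0 : ∀ s ∈ S, 0 ≤ c s := by
      intro s hs
      by_cases hμs : μ s < 0
      · have hsN : s ∈ Neg := Finset.mem_filter.mpr ⟨hs, hμs⟩
        have h1 : tt ≤ t s := ht₂ s hsN
        have h2 := hden s hsN
        have h3 : tt * (lam s - μ s) ≤ lam s := by
          have := mul_le_mul_of_nonneg_right h1 h2.le
          simp only [t] at this
          rwa [div_mul_cancel₀ _ h2.ne'] at this
        simp only [c]
        linarith
      · push Not at hμs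
        simp only [c]
        have := hlam0 s hs
        have h1 : 0 ≤ (1 - tt) * lam s := mul_nonneg (by linarith) this
        have h2 : 0 ≤ tt * μ s := mul_nonneg htt0 hμs
        linarith
    have hc1 : ∑ s ∈ S, c s = 1 := by
      simp only [c, Finset.sum_add_distrib, ← Finset.mul_sum, hlam1, hμ1]
      ring
    have hcs₂ : c s₂ = 0 := by
      simp only [c]
      have h2 := hden s₂ hs₂
      have : tt * (lam s₂ - μ s₂) = lam s₂ := by
        rw [htt]; simp only [t]; rw [div_mul_cancel₀ _ h2.ne']
      linarith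
    have hptc : pt S c = (1 - tt) • pt S lam + tt • p := by
      rw [hp, ← pt_smul, ← pt_smul, ← pt_add]
      rfl
    -- pt S c lies in the hull of S.erase s₂
    have hmem : pt S c ∈ convexHull R ((S.erase s₂ : Finset N) : Set N) := by
      rw [mem_convexHull_iff]
      refine ⟨c, fun s hs => hc0 s (Finset.mem_of_mem_erase hs), ?_, ?_⟩
      · rw [← Finset.add_sum_erase S c hs₂S, hcs₂, zero_add] at hc1
        exact hc1
      · unfold pt
        rw [← Finset.add_sum_erase S _ hs₂S, hcs₂, zero_smul, zero_add]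
    have h1 : B (zs sstar) (zs sstar) ≤ B (zs s₂) (zs s₂) := hbest s₂ hs₂S
    have h2 : B (zs s₂) (zs s₂) ≤ B (pt S c) (pt S c) := hzsmin s₂ hs₂S _ hmem
    -- q(pt c) ≤ q(z)
    have h0 := hpmin lam hlam1
    set u := pt S lam - p with hu
    have e1 : pt S lam = p + u := by rw [hu]; abel
    have e2 : pt S c = p + (1 - tt) • u := by
      rw [hptc, hu, smul_sub]
      have : (1 - tt) • p = p - tt • p := by rw [sub_smul, one_smul]
      rw [this]; abel
    have q1 : B (pt S lam) (pt S lam) = B p p + B u u := by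
      rw [e1]
      simp only [map_add, LinearMap.add_apply]
      rw [hBs u p, h0]; ring
    have q2 : B (pt S c) (pt S c) = B p p + (1 - tt) * (1 - tt) * B u u := by
      rw [e2]
      simp only [map_add, LinearMap.add_apply, map_smul, LinearMap.smul_apply, smul_eq_mul]
      rw [hBs u p, h0]; ring
    have h3 : B (pt S c) (pt S c) ≤ B (pt S lam) (pt S lam) := by
      rw [q1, q2]
      have hu0 := nonneg B hBp u
      have : (1 - tt) * (1 - tt) ≤ 1 := by nlinarith
      nlinarith
    linarith

include hBs hBp in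
/-- the variational inequality at a minimiser over a convex set -/
theorem variational {C : Set N} (hC : Convex R C) {z₀ : N} (hz₀ : z₀ ∈ C)
    (hmin : ∀ z ∈ C, B z₀ z₀ ≤ B z z) {z : N} (hz : z ∈ C) : 0 ≤ B z₀ (z - z₀) := by
  by_contra hneg
  push Not at hneg
  set u := z - z₀ with hu
  set β := B z₀ u with hβ
  have hune : u ≠ 0 := by
    intro h; rw [hβ, h] at hneg; simp at hneg
  have hγ : 0 < B u u := hBp u hune
  set γ := B u u with hγdef
  set t : R := min 1 (-β / γ) with ht
  have ht0 : 0 < t := lt_min one_pos (div_pos (by linarith) hγ)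
  have ht1 : t ≤ 1 := min_le_left _ _
  have htγ : t * γ ≤ -β := by
    have : t ≤ -β / γ := min_le_right _ _
    calc t * γ ≤ (-β / γ) * γ := mul_le_mul_of_nonneg_right this hγ.le
      _ = -β := by field_simp
  have hzt : z₀ + t • u ∈ C := by
    have : z₀ + t • u = (1 - t) • z₀ + t • z := by
      rw [hu, smul_sub, sub_smul, one_smul]; abel
    rw [this]
    exact hC hz₀ hz (by linarith) ht0.le (by ring)
  have h1 := hmin _ hzt
  have h2 : B (z₀ + t • u) (z₀ + t • u) = B z₀ z₀ + t * (2 * β + t * γ) := by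
    simp only [map_add, LinearMap.add_apply, map_smul, LinearMap.smul_apply, smul_eq_mul]
    rw [hBs u z₀]; ring
  rw [h2] at h1
  have : t * (2 * β + t * γ) < 0 := mul_neg_of_pos_of_neg ht0 (by linarith)
  linarith

include hBs hBp in
/-- separation of a point from a polytope -/
theorem exists_separating (S : Finset N) (hS : S.Nonempty) {y : N}
    (hy : y ∉ convexHull R (S : Set N)) : ∃ f : N →ₗ[R] R, ∀ s ∈ S, f y < f s := by
  set S' := S.image (fun s => s - y) with hS'
  have hS'ne : S'.Nonempty := hS.image _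
  have hcoe : (S' : Set N) = (-y) +ᵥ (S : Set N) := by
    ext z
    simp only [hS', Finset.coe_image, Set.mem_image, Finset.mem_coe, Set.mem_vadd_set, vadd_eq_add]
    constructor
    · rintro ⟨s, hs, rfl⟩; exact ⟨s, hs, by abel⟩
    · rintro ⟨s, hs, rfl⟩; exact ⟨s, hs, by abel⟩
  obtain ⟨z₀, hz₀, hmin⟩ := exists_min B hBs hBp S' hS'ne
  have hz₀ne : z₀ ≠ 0 := by
    rintro rfl
    rw [hcoe, convexHull_vadd] at hz₀
    obtain ⟨z, hz, hz0⟩ := Set.mem_vadd_set.mp hz₀
    have : z = y := by
      rw [vadd_eq_add] at hz0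
      have := congrArg (fun t => y + t) hz0
      simpa using this
    exact hy (this ▸ hz)
  refine ⟨B z₀, fun s hs => ?_⟩
  have hmem : s - y ∈ convexHull R (S' : Set N) :=
    subset_convexHull R _ (by rw [hS']; exact Finset.mem_coe.mpr (Finset.mem_image_of_mem _ hs))
  have h1 := variational B hBs hBp (convex_convexHull R _) hz₀ hmin hmem
  have h2 := hBp z₀ hz₀ne
  rw [map_sub, map_sub] at h1
  linarith

end Groth.Agent.Lib.Helper31.QuadMin
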