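import Mathlib

/-!
# Rational exponential generating series force Laurent polynomials (part 1: the recurrence)
-/

set_option autoImplicit false
set_option linter.unusedSectionVars false
set_option linter.unusedVariables false

namespace Groth.Agent.Lib.Helper31.RatL

open PowerSeries

/-- constant coefficient of `exp ∘ L` is `1` when `L` has zero constant coefficient. -/
lemma constantCoeff_exp_subst (L : PowerSeries ℚ) (hL : constantCoeff L = 0) :
    constantCoeff ((PowerSeries.exp ℚ).subst L) = 1 := by
  have hs : HasSubst L := HasSubst.of_constantCoeff_zero' hL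
  have h := constantCoeff_subst hs (PowerSeries.exp ℚ)
  rw [finsum_eq_single _ 0] at h
  · rw [pow_zero] at h
    change constantCoeff (subst L (PowerSeries.exp ℚ)) = _ at h
    rw [h]
    simp
  · intro d hd
    have : MvPowerSeries.constantCoeff (L ^ d) = 0 := by
      rw [map_pow]
      change (constantCoeff L) ^ d = 0
      rw [hL, zero_pow hd]
    rw [this, smul_zero]

/-- The logarithmic derivative identity: if `exp(L) * Q = P` then `L' * (P * Q) = Q * P' - P * Q'`. -/
lemma logDeriv_identity (L : PowerSeries ℚ) (hL : constantCoeff L = 0) (P Q : Polynomial ℚ)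
    (h : (PowerSeries.exp ℚ).subst L * (Q : PowerSeries ℚ) = (P : PowerSeries ℚ)) :
    d⁄dX ℚ L * ((P * Q : Polynomial ℚ) : PowerSeries ℚ) =
      ((Q * Polynomial.derivative P - P * Polynomial.derivative Q : Polynomial ℚ) :
        PowerSeries ℚ) := by
  have hs : HasSubst L := HasSubst.of_constantCoeff_zero' hL
  set E := (PowerSeries.exp ℚ).subst L with hE
  have hdE : d⁄dX ℚ E = E * d⁄dX ℚ L := by
    rw [hE, derivative_subst hs, derivative_exp]
  have h1 := congrArg (d⁄dX ℚ) h
  rw [Derivation.leibniz, hdE, derivative_coe, derivative_coe, smul_eq_mul, smul_eq_mul] at h1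
  -- h1 : E * ↑Q' + ↑Q * (E * dL) = ↑P'
  have h2 : (Q : PowerSeries ℚ) * (E * (Polynomial.derivative Q : PowerSeries ℚ) +
      (Q : PowerSeries ℚ) * (E * d⁄dX ℚ L)) =
      (Q : PowerSeries ℚ) * (Polynomial.derivative P : PowerSeries ℚ) := by rw [h1]
  have h3 : (Q : PowerSeries ℚ) * (E * (Polynomial.derivative Q : PowerSeries ℚ) +
      (Q : PowerSeries ℚ) * (E * d⁄dX ℚ L)) =
      (E * Q) * (Polynomial.derivative Q : PowerSeries ℚ) + d⁄dX ℚ L * ((E * Q) * Q) := by ring
  rw [h3, h] at h2
  rw [Polynomial.coe_sub, Polynomial.coe_mul, Polynomial.coe_mul, Polynomial.coe_mul]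
  rw [eq_sub_iff_add_eq, add_comm]
  exact h2

/-- A power series which becomes a polynomial after multiplication by a nonzero polynomial has
linearly recurrent coefficients. -/
lemma recurrence (w : ℕ → ℚ) (R S : Polynomial ℚ) (hR : R ≠ 0)
    (h : PowerSeries.mk w * (R : PowerSeries ℚ) = (S : PowerSeries ℚ)) :
    ∃ (d m₀ : ℕ) (r : ℕ → ℚ), r 0 ≠ 0 ∧
      ∀ m, m₀ ≤ m → ∑ i ∈ Finset.range (d + 1), r i * w (m + i) = 0 := by
  refine ⟨R.natDegree, S.natDegree + 1, fun i => R.coeff (R.natDegree - i), ?_, ?_⟩
  · simpa using hR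
  · intro m hm
    have h1 := congrArg (PowerSeries.coeff (m + R.natDegree)) h
    rw [Polynomial.coeff_coe, Polynomial.coeff_eq_zero_of_natDegree_lt (by omega),
      PowerSeries.coeff_mul, Finset.Nat.sum_antidiagonal_eq_sum_range_succ_mk] at h1
    simp only [PowerSeries.coeff_mk, Polynomial.coeff_coe] at h1
    -- h1 : ∑ k ∈ range (m + d + 1), w k * R.coeff (m + d - k) = 0
    rw [← Finset.sum_range_reflect] at h1
    have h2 : ∑ j ∈ Finset.range (m + R.natDegree + 1),
        w (m + R.natDegree + 1 - 1 - j) * R.coeff (m + R.natDegree - (m + R.natDegree + 1 - 1 - j))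
        = ∑ j ∈ Finset.range (R.natDegree + 1), R.coeff j * w (m + R.natDegree - j) := by
      rw [← Finset.sum_subset (s₁ := Finset.range (R.natDegree + 1))
        (s₂ := Finset.range (m + R.natDegree + 1))]
      · apply Finset.sum_congr rfl
        intro j hj
        rw [Finset.mem_range] at hj
        have e1 : m + R.natDegree + 1 - 1 - j = m + R.natDegree - j := by omega
        have e2 : m + R.natDegree - (m + R.natDegree - j) = j := by omega
        rw [e1, e2, mul_comm]
      · intro j hj
        rw [Finset.mem_range] at hj ⊢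
        omega
      · intro j hj hj'
        rw [Finset.mem_range] at hj hj'
        have e2 : m + R.natDegree - (m + R.natDegree + 1 - 1 - j) = j := by omega
        rw [e2, Polynomial.coeff_eq_zero_of_natDegree_lt (by omega), mul_zero]
    rw [h2] at h1
    rw [← Finset.sum_range_reflect]
    rw [← h1]
    apply Finset.sum_congr rfl
    intro j hj
    rw [Finset.mem_range] at hj
    have e1 : R.natDegree - (R.natDegree + 1 - 1 - j) = j := by omega
    have e2 : m + (R.natDegree + 1 - 1 - j) = m + R.natDegree - j := by omega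
    show R.coeff (R.natDegree - (R.natDegree + 1 - 1 - j)) * w (m + (R.natDegree + 1 - 1 - j)) = _
    rw [e1, e2]

end Groth.Agent.Lib.Helper31.RatL
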