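import Mathlib

set_option autoImplicit false
set_option linter.unusedSectionVars false
set_option linter.unusedVariables false

namespace Groth.Agent.Lib.Helper31.RatL

open Polynomial

section Poly

variable (qq : ℚ)

/-- substitution `X ↦ qq^i X` -/
noncomputable def sc (i : ℕ) (p : ℚ[X]) : ℚ[X] := p.comp (C (qq ^ i) * X)

lemma sc_zero (p : ℚ[X]) : sc qq 0 p = p := by
  simp [sc]

lemma eval_sc (i : ℕ) (p : ℚ[X]) (x : ℚ) : (sc qq i p).eval x = p.eval (qq ^ i * x) := by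
  simp [sc, eval_comp]

lemma sc_mul (i : ℕ) (p p' : ℚ[X]) : sc qq i (p * p') = sc qq i p * sc qq i p' := by
  simp [sc, mul_comp]

lemma sc_pow (i : ℕ) (p : ℚ[X]) (n : ℕ) : sc qq i (p ^ n) = (sc qq i p) ^ n := by
  simp [sc, pow_comp]

lemma sc_X (i : ℕ) : sc qq i X = C (qq ^ i) * X := by
  simp [sc]

lemma sc_X_pow_sub_one (i N : ℕ) : sc qq i (X ^ N - 1) = C ((qq ^ i) ^ N) * X ^ N - 1 := by
  simp [sc, mul_pow]

lemma coprime_X (N : ℕ) (hN : 0 < N) (c : ℚ) (hc : c ≠ 0) :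
    IsCoprime (X ^ N - 1 : ℚ[X]) (C c * X) := by
  refine ⟨-1, C c⁻¹ * X ^ (N - 1), ?_⟩
  have h1 : (C c⁻¹ * X ^ (N - 1)) * (C c * X) = (C c⁻¹ * C c) * (X ^ (N - 1) * X : ℚ[X]) := by ring
  rw [h1, ← C_mul, inv_mul_cancel₀ hc, ← pow_succ, Nat.sub_add_cancel hN]
  simp

lemma coprime_scaled (N : ℕ) (e : ℚ) (he : e ≠ 1) :
    IsCoprime (X ^ N - 1 : ℚ[X]) (C e * X ^ N - 1) := by
  have h1 : (1 - e) ≠ 0 := sub_ne_zero.mpr (Ne.symm he)
  refine ⟨C (e / (1 - e)), C (-1 / (1 - e)), ?_⟩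
  have : C (e / (1 - e)) * (X ^ N - 1 : ℚ[X]) + C (-1 / (1 - e)) * (C e * X ^ N - 1)
      = C ((e / (1 - e)) + (-1 / (1 - e)) * e) * X ^ N + C (-(e / (1 - e)) + 1 / (1 - e)) := by
    simp only [C_add, C_mul, C_neg]
    have : (C (-1 / (1 - e)) : ℚ[X]) = - C (1 / (1 - e)) := by
      rw [← C_neg]; congr 1; ring
    rw [this]
    ring
  rw [this]
  have e1 : (e / (1 - e)) + (-1 / (1 - e)) * e = 0 := by field_simp; ring
  have e2 : -(e / (1 - e)) + 1 / (1 - e) = 1 := by field_simp; ring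
  rw [e1, e2]
  simp

/-- The main polynomial step: a linear recurrence for the values `G(q^v)/D(q^v)` forces
`(X^N-1)^s ∣ G`. -/
theorem dvd_of_recurrence (hq : 1 < qq) (G : ℚ[X]) (N a s : ℕ) (hN : 0 < N)
    (d m₀ : ℕ) (r : ℕ → ℚ) (hr : r 0 ≠ 0)
    (hrec : ∀ m, m₀ ≤ m → ∑ i ∈ Finset.range (d + 1), r i *
      (G.eval (qq ^ (m + i + 1)) / (X ^ a * (X ^ N - 1) ^ s : ℚ[X]).eval (qq ^ (m + i + 1))) = 0) :
    ((X ^ N - 1) ^ s : ℚ[X]) ∣ G := by
  have hq0 : qq ≠ 0 := by positivity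
  have hqpos : 0 < qq := by positivity
  set D : ℚ[X] := X ^ a * (X ^ N - 1) ^ s with hD
  -- D does not vanish at positive powers of qq
  have hDne : ∀ k : ℕ, D.eval (qq ^ (k + 1)) ≠ 0 := by
    intro k
    rw [hD]
    simp only [eval_mul, eval_pow, eval_X, eval_sub, eval_one]
    apply mul_ne_zero
    · positivity
    · apply pow_ne_zero
      rw [sub_ne_zero, ← pow_mul]
      apply ne_of_gt
      apply one_lt_pow₀ hq
      have : 0 < (k + 1) * N := Nat.mul_pos (Nat.succ_pos k) hN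
      omega
  set I := Finset.range (d + 1) with hI
  set Ψ : ℚ[X] := ∑ i ∈ I, C (r i) * sc qq i G * ∏ j ∈ I.erase i, sc qq j D with hΨ
  have hΨeval : ∀ m, m₀ ≤ m → Ψ.eval (qq ^ (m + 1)) = 0 := by
    intro m hm
    have h1 := hrec m hm
    rw [hΨ, eval_finsetSum]
    have h2 : ∀ i ∈ I, (C (r i) * sc qq i G * ∏ j ∈ I.erase i, sc qq j D).eval (qq ^ (m + 1))
        = (∏ j ∈ I, D.eval (qq ^ (m + j + 1))) *
          (r i * (G.eval (qq ^ (m + i + 1)) / D.eval (qq ^ (m + i + 1)))) := by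
      intro i hi
      rw [eval_mul, eval_mul, eval_C, eval_prod, eval_sc]
      have e1 : ∀ j, qq ^ j * qq ^ (m + 1) = qq ^ (m + j + 1) := by
        intro j; rw [← pow_add]; congr 1; omega
      rw [e1]
      have e2 : ∏ j ∈ I.erase i, (sc qq j D).eval (qq ^ (m + 1))
          = ∏ j ∈ I.erase i, D.eval (qq ^ (m + j + 1)) := by
        apply Finset.prod_congr rfl
        intro j _
        rw [eval_sc, e1]
      rw [e2, ← Finset.mul_prod_erase I _ hi]
      have := hDne (m + i)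
      field_simp
    rw [Finset.sum_congr rfl h2, ← Finset.mul_sum, h1, mul_zero]
  have hΨ0 : Ψ = 0 := by
    apply Polynomial.eq_zero_of_infinite_isRoot
    apply Set.infinite_of_injective_forall_mem (f := fun m : ℕ => qq ^ (m + m₀ + 1))
    · intro m m' hmm
      have := pow_right_injective₀ hqpos (ne_of_gt hq) hmm
      omega
    · intro m
      exact hΨeval (m + m₀) (Nat.le_add_left _ _)
  -- isolate the term i = 0
  have h0mem : 0 ∈ I := by rw [hI, Finset.mem_range]; omega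
  have hsplit : C (r 0) * G * ∏ j ∈ I.erase 0, sc qq j D
      = - ∑ i ∈ I.erase 0, C (r i) * sc qq i G * ∏ j ∈ I.erase i, sc qq j D := by
    have := Finset.add_sum_erase I
      (fun i => C (r i) * sc qq i G * ∏ j ∈ I.erase i, sc qq j D) h0mem
    rw [← hΨ, hΨ0, sc_zero] at this
    exact eq_neg_of_add_eq_zero_left this
  have hdvd1 : D ∣ C (r 0) * G * ∏ j ∈ I.erase 0, sc qq j D := by
    rw [hsplit]
    apply dvd_neg.mpr
    apply Finset.dvd_sum
    intro i hi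
    rw [Finset.mem_erase] at hi
    have h0i : 0 ∈ I.erase i := by
      rw [Finset.mem_erase]
      exact ⟨Ne.symm hi.1, h0mem⟩
    apply Dvd.dvd.mul_left
    have := Finset.dvd_prod_of_mem (fun j => sc qq j D) h0i
    rw [sc_zero] at this
    exact this
  have hdvd2 : ((X ^ N - 1) ^ s : ℚ[X]) ∣ C (r 0) * G * ∏ j ∈ I.erase 0, sc qq j D :=
    (Dvd.intro_left _ rfl).trans hdvd1
  have hcop : IsCoprime ((X ^ N - 1) ^ s : ℚ[X]) (∏ j ∈ I.erase 0, sc qq j D) := by
    apply IsCoprime.prod_right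
    intro j hj
    rw [Finset.mem_erase] at hj
    have hj0 : 0 < j := Nat.pos_of_ne_zero hj.1
    rw [hD, sc_mul, sc_pow, sc_pow, sc_X, sc_X_pow_sub_one]
    apply IsCoprime.mul_right
    · apply IsCoprime.pow
      exact coprime_X N hN _ (pow_ne_zero _ hq0)
    · apply IsCoprime.pow
      apply coprime_scaled
      rw [← pow_mul]
      apply ne_of_gt
      apply one_lt_pow₀ hq
      have : 0 < j * N := Nat.mul_pos hj0 hN
      omega
  have hdvd3 : ((X ^ N - 1) ^ s : ℚ[X]) ∣ C (r 0) * G := hcop.dvd_of_dvd_mul_right hdvd2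
  exact (IsUnit.dvd_mul_left (Polynomial.isUnit_C.mpr (isUnit_iff_ne_zero.mpr hr))).mp hdvd3

end Poly

end Groth.Agent.Lib.Helper31.RatL
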