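import Mathlib

set_option autoImplicit false
set_option linter.unusedSectionVars false
set_option linter.unusedVariables false

namespace Groth.Agent.Lib.Helper31.RatL

open Polynomial

/-- integer polynomials inside `RatFunc ℚ` -/
noncomputable def toRF : ℤ[X] →+* RatFunc ℚ :=
  (algebraMap ℚ[X] (RatFunc ℚ)).comp (mapRingHom (Int.castRingHom ℚ))

lemma toRF_apply (p : ℤ[X]) :
    toRF p = algebraMap ℚ[X] (RatFunc ℚ) (p.map (Int.castRingHom ℚ)) := rfl

lemma toRF_injective : Function.Injective toRF := by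
  intro p p' h
  rw [toRF_apply, toRF_apply] at h
  have h1 := RatFunc.algebraMap_injective ℚ h
  exact Polynomial.map_injective _ (RingHom.injective_int (Int.castRingHom ℚ)) h1

lemma toRF_X : toRF X = RatFunc.X := by
  rw [toRF_apply, Polynomial.map_X, RatFunc.algebraMap_X]

/-- the denominators -/
noncomputable def den (N a s : ℕ) : ℤ[X] := X ^ a * (X ^ N - 1) ^ s

lemma den_dvd {N a s N' a' s' : ℕ} (hN : N ∣ N') (ha : a ≤ a') (hs : s ≤ s') :
    den N a s ∣ den N' a' s' := by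
  unfold den
  apply mul_dvd_mul
  · exact pow_dvd_pow _ ha
  · obtain ⟨k, rfl⟩ := hN
    have h1 : (X ^ N - 1 : ℤ[X]) ∣ X ^ (N * k) - 1 := by
      have := sub_dvd_pow_sub_pow (X ^ N : ℤ[X]) 1 k
      rwa [one_pow, ← pow_mul] at this
    exact (pow_dvd_pow_of_dvd h1 s).trans (pow_dvd_pow _ hs)

lemma den_monic (N a s : ℕ) (hN : 0 < N) : (den N a s).Monic := by
  unfold den
  apply Monic.mul (monic_X_pow a)
  apply Monic.pow
  exact monic_X_pow_sub_C 1 (Nat.pos_iff_ne_zero.mp hN)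

lemma toRF_den_ne_zero (N a s : ℕ) (hN : 0 < N) : toRF (den N a s) ≠ 0 := by
  intro h
  rw [← map_zero toRF] at h
  exact (den_monic N a s hN).ne_zero (toRF_injective h)

/-- elements with denominators of the special shape -/
def Good (F : RatFunc ℚ) : Prop :=
  ∃ (N a s : ℕ) (G : ℤ[X]), 0 < N ∧ F * toRF (den N a s) = toRF G

lemma Good.mono {F : RatFunc ℚ} {N a s : ℕ} {G : ℤ[X]} (h : F * toRF (den N a s) = toRF G)
    {N' a' s' : ℕ} (hN : N ∣ N') (ha : a ≤ a') (hs : s ≤ s') :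
    ∃ G' : ℤ[X], F * toRF (den N' a' s') = toRF G' := by
  obtain ⟨c, hc⟩ := den_dvd hN ha hs
  refine ⟨G * c, ?_⟩
  rw [hc, map_mul, ← mul_assoc, h, map_mul]

lemma good_of_mem (F : RatFunc ℚ)
    (hF : F ∈ Subring.closure
      (({RatFunc.X, (RatFunc.X : RatFunc ℚ)⁻¹} : Set (RatFunc ℚ)) ∪
        Set.range fun n : ℕ => ((RatFunc.X : RatFunc ℚ) ^ (n + 1) - 1)⁻¹)) : Good F := by
  induction hF using Subring.closure_induction with
  | mem x hx =>
    rcases hx with hx | ⟨n, rfl⟩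
    · rcases hx with rfl | rfl
      · refine ⟨1, 0, 0, X, Nat.one_pos, ?_⟩
        simp [den, toRF_X]
      · refine ⟨1, 1, 0, 1, Nat.one_pos, ?_⟩
        simp only [den, pow_one, pow_zero, mul_one, toRF_X, map_one]
        exact inv_mul_cancel₀ RatFunc.X_ne_zero
    · refine ⟨n + 1, 0, 1, 1, Nat.succ_pos n, ?_⟩
      have h1 : toRF (den (n + 1) 0 1) = RatFunc.X ^ (n + 1) - 1 := by
        simp [den, toRF_X]
      have h2 := toRF_den_ne_zero (n + 1) 0 1 (Nat.succ_pos n)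
      rw [h1] at h2 ⊢
      rw [map_one]
      exact inv_mul_cancel₀ h2
  | zero => exact ⟨1, 0, 0, 0, Nat.one_pos, by simp⟩
  | one => exact ⟨1, 0, 0, 1, Nat.one_pos, by simp [den]⟩
  | add x y _ _ hx hy =>
    obtain ⟨N, a, s, G, hN, h⟩ := hx
    obtain ⟨N', a', s', G', hN', h'⟩ := hy
    obtain ⟨G₁, h₁⟩ := Good.mono h (Dvd.intro N' rfl) (Nat.le_add_right a a') (Nat.le_add_right s s')
    obtain ⟨G₂, h₂⟩ := Good.mono h' (Dvd.intro_left N rfl) (Nat.le_add_left a' a)
      (Nat.le_add_left s' s)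
    exact ⟨N * N', a + a', s + s', G₁ + G₂, Nat.mul_pos hN hN', by rw [add_mul, h₁, h₂, map_add]⟩
  | neg x _ hx =>
    obtain ⟨N, a, s, G, hN, h⟩ := hx
    exact ⟨N, a, s, -G, hN, by rw [neg_mul, h, map_neg]⟩
  | mul x y _ _ hx hy =>
    obtain ⟨N, a, s, G, hN, h⟩ := hx
    obtain ⟨N', a', s', G', hN', h'⟩ := hy
    obtain ⟨G₁, h₁⟩ := Good.mono h (Dvd.intro N' rfl) (le_refl a) (le_refl s)
    obtain ⟨G₂, h₂⟩ := Good.mono h' (Dvd.intro_left N rfl) (le_refl a') (le_refl s')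
    refine ⟨N * N', a + a', s + s', G₁ * G₂, Nat.mul_pos hN hN', ?_⟩
    have : den (N * N') (a + a') (s + s') = den (N * N') a s * den (N * N') a' s' := by
      unfold den; ring
    rw [this, map_mul, map_mul, ← h₁, ← h₂]
    ring

/-- evaluating a rational function written as a quotient -/
lemma eval_eq_div (F : RatFunc ℚ) (G D : ℚ[X])
    (h : F * algebraMap ℚ[X] (RatFunc ℚ) D = algebraMap ℚ[X] (RatFunc ℚ) G) (x : ℚ)
    (hx : D.eval x ≠ 0) : F.eval (RingHom.id ℚ) x = G.eval x / D.eval x := by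
  have hD : D ≠ 0 := by
    rintro rfl
    simp at hx
  have haD : algebraMap ℚ[X] (RatFunc ℚ) D ≠ 0 := by
    rw [Ne, ← map_zero (algebraMap ℚ[X] (RatFunc ℚ))]
    exact fun h' => hD (RatFunc.algebraMap_injective ℚ h')
  have hF : F = algebraMap ℚ[X] (RatFunc ℚ) G / algebraMap ℚ[X] (RatFunc ℚ) D := by
    rw [eq_div_iff haD, h]
  have hdvd : F.denom ∣ D := (RatFunc.denom_dvd hD).mpr ⟨G, hF⟩
  have hden : F.denom.eval x ≠ 0 := by
    intro h0
    exact hx (eval_eq_zero_of_dvd_of_eval_eq_zero hdvd h0)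
  have hnd := RatFunc.num_div_denom F
  have haden : algebraMap ℚ[X] (RatFunc ℚ) F.denom ≠ 0 := by
    rw [Ne, ← map_zero (algebraMap ℚ[X] (RatFunc ℚ))]
    exact fun h' => RatFunc.denom_ne_zero F (RatFunc.algebraMap_injective ℚ h')
  have hpoly : F.num * D = G * F.denom := by
    apply RatFunc.algebraMap_injective ℚ
    rw [map_mul, map_mul, ← h]
    have h1 : algebraMap ℚ[X] (RatFunc ℚ) F.num = F * algebraMap ℚ[X] (RatFunc ℚ) F.denom :=
      (div_eq_iff haden).mp hnd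
    rw [h1]
    ring
  have hev := congrArg (Polynomial.eval x) hpoly
  rw [eval_mul, eval_mul] at hev
  unfold RatFunc.eval
  rw [Polynomial.eval₂_id, Polynomial.eval₂_id, div_eq_div_iff hden hx, hev]

end Groth.Agent.Lib.Helper31.RatL
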