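import Groth.Agent.Lib.Helper31.RatL1
import Groth.Agent.Lib.Helper31.RatL2
import Groth.Agent.Lib.Helper31.RatL3

set_option autoImplicit false
set_option linter.unusedSectionVars false
set_option linter.unusedVariables false

namespace Groth.Agent.Lib.Helper31.RatL

open Polynomial

theorem main (q : ℤ) (hq : 1 < q) (F : RatFunc ℚ)
    (hF : F ∈ Subring.closure
      (({RatFunc.X, (RatFunc.X : RatFunc ℚ)⁻¹} : Set (RatFunc ℚ)) ∪
        Set.range fun n : ℕ => ((RatFunc.X : RatFunc ℚ) ^ (n + 1) - 1)⁻¹))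
    (hrat : ∃ P Q : Polynomial ℚ, Q ≠ 0 ∧
      (PowerSeries.exp ℚ).subst
          (PowerSeries.mk fun v : ℕ => if v = 0 then (0 : ℚ)
            else F.eval (RingHom.id ℚ) ((q : ℚ) ^ v) / (v : ℚ))
        * (Q : PowerSeries ℚ) = (P : PowerSeries ℚ)) :
    ∃ (P : Polynomial ℤ) (a : ℕ),
      F * RatFunc.X ^ a = algebraMap (Polynomial ℚ) (RatFunc ℚ) (P.map (Int.castRingHom ℚ)) := by
  obtain ⟨N, a, s, G, hN, hG⟩ := good_of_mem F hF
  obtain ⟨P, Q, hQ, hPQ⟩ := hrat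
  have hqq : (1 : ℚ) < (q : ℚ) := by exact_mod_cast hq
  set u : ℕ → ℚ := fun v : ℕ => if v = 0 then (0 : ℚ)
            else F.eval (RingHom.id ℚ) ((q : ℚ) ^ v) / (v : ℚ) with hu
  set L : PowerSeries ℚ := PowerSeries.mk u with hL
  have hL0 : PowerSeries.constantCoeff L = 0 := by
    rw [← PowerSeries.coeff_zero_eq_constantCoeff_apply, hL, PowerSeries.coeff_mk]
    simp [hu]
  have hE1 := constantCoeff_exp_subst L hL0
  have hP : P ≠ 0 := by
    rintro rfl
    rw [Polynomial.coe_zero, mul_eq_zero] at hPQ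
    rcases hPQ with h | h
    · rw [h] at hE1
      simp at hE1
    · exact hQ (Polynomial.coe_eq_zero_iff.mp h)
  have hid := logDeriv_identity L hL0 P Q hPQ
  set w : ℕ → ℚ := fun n => F.eval (RingHom.id ℚ) ((q : ℚ) ^ (n + 1)) with hw
  have hdL : PowerSeries.derivative ℚ L = PowerSeries.mk w := by
    ext n
    rw [PowerSeries.coeff_derivative, hL, PowerSeries.coeff_mk, PowerSeries.coeff_mk]
    simp only [hu, hw]
    rw [if_neg (Nat.succ_ne_zero n)]
    have : ((n + 1 : ℕ) : ℚ) ≠ 0 := by positivity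
    push_cast at this ⊢
    field_simp
  rw [hdL] at hid
  obtain ⟨d, m₀, r, hr0, hrec⟩ := recurrence w (P * Q) _ (mul_ne_zero hP hQ) hid
  -- rational polynomials
  set Gq : ℚ[X] := G.map (Int.castRingHom ℚ) with hGq
  have hDq : (den N a s).map (Int.castRingHom ℚ) = (X ^ a * (X ^ N - 1) ^ s : ℚ[X]) := by
    simp [den]
  have hG' : F * algebraMap ℚ[X] (RatFunc ℚ) (X ^ a * (X ^ N - 1) ^ s : ℚ[X])
      = algebraMap ℚ[X] (RatFunc ℚ) Gq := by
    rw [← hDq]
    exact hG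
  have hDne : ∀ k : ℕ, (X ^ a * (X ^ N - 1) ^ s : ℚ[X]).eval ((q : ℚ) ^ (k + 1)) ≠ 0 := by
    intro k
    simp only [eval_mul, eval_pow, eval_X, eval_sub, eval_one]
    apply mul_ne_zero
    · positivity
    · apply pow_ne_zero
      rw [sub_ne_zero, ← pow_mul]
      apply ne_of_gt
      apply one_lt_pow₀ hqq
      have : 0 < (k + 1) * N := Nat.mul_pos (Nat.succ_pos k) hN
      omega
  have hrec' : ∀ m, m₀ ≤ m → ∑ i ∈ Finset.range (d + 1), r i *
      (Gq.eval ((q : ℚ) ^ (m + i + 1)) /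
        (X ^ a * (X ^ N - 1) ^ s : ℚ[X]).eval ((q : ℚ) ^ (m + i + 1))) = 0 := by
    intro m hm
    rw [← hrec m hm]
    apply Finset.sum_congr rfl
    intro i _
    rw [← eval_eq_div F Gq _ hG' _ (hDne (m + i))]
  have hdvdQ := dvd_of_recurrence (q : ℚ) hqq Gq N a s hN d m₀ r hr0 hrec'
  have hmonic : ((X ^ N - 1) ^ s : ℤ[X]).Monic :=
    Monic.pow (monic_X_pow_sub_C 1 (Nat.pos_iff_ne_zero.mp hN)) s
  have hdvdZ : ((X ^ N - 1) ^ s : ℤ[X]) ∣ G := by
    rw [← Polynomial.map_dvd_map (Int.castRingHom ℚ) (RingHom.injective_int _) hmonic]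
    have : ((X ^ N - 1) ^ s : ℤ[X]).map (Int.castRingHom ℚ) = ((X ^ N - 1) ^ s : ℚ[X]) := by
      simp
    rw [this]
    exact hdvdQ
  obtain ⟨H, hH⟩ := hdvdZ
  refine ⟨H, a, ?_⟩
  have hc : toRF ((X ^ N - 1) ^ s) ≠ 0 := by
    intro h
    rw [← map_zero toRF] at h
    exact hmonic.ne_zero (toRF_injective h)
  have h1 : toRF (den N a s) = RatFunc.X ^ a * toRF ((X ^ N - 1) ^ s) := by
    unfold den
    rw [map_mul, map_pow, toRF_X]
  rw [h1, hH, map_mul] at hG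
  have h2 : (F * RatFunc.X ^ a) * toRF ((X ^ N - 1) ^ s) = toRF H * toRF ((X ^ N - 1) ^ s) := by
    rw [mul_assoc, hG, mul_comm]
  exact mul_right_cancel₀ hc h2

end Groth.Agent.Lib.Helper31.RatL
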