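import Mathlib
import Groth.Prelude.Def_RootCh2

/-!
# RootCh foundations I: fundamental weights as a basis, coefficients of (co)roots in a base,
the invariant form, and the root/coroot coefficient comparison.
-/

set_option autoImplicit false
set_option linter.unusedSectionVars false

open Module RootCh
open scoped Classical

namespace Groth.Agent.Lib.Helper31.RC

universe u v w x
variable {ι : Type u} {R : Type v} {M : Type w} {N : Type x}
  [Field R] [LinearOrder R] [IsStrictOrderedRing R]
  [AddCommGroup M] [Module R M] [AddCommGroup N] [Module R N] [Finite ι]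
  {P : RootPairing ι R M N} [P.IsRootSystem] [P.IsCrystallographic] [P.IsReduced]

theorem coroot'_fundWeight (b : P.Base) (i j : b.support) :
    P.coroot' j (fundWeight b i) = if j = i then 1 else 0 := by
  split_ifs with h
  · subst h; exact coroot'_fundWeight_self b j
  · exact coroot'_fundWeight_of_ne b i j h

theorem root'_fundCoweight (b : P.Base) (i j : b.support) :
    P.root' j (fundCoweight b i) = if j = i then 1 else 0 := by
  split_ifs with h
  · subst h; exact root'_fundCoweight_self b j
  · exact root'_fundCoweight_of_ne b i j h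

/-- Two vectors of `M` with the same pairings against the simple coroots are equal. -/
theorem ext_coroot' (b : P.Base) {ξ η : M} (h : ∀ j : b.support, P.coroot' j ξ = P.coroot' j η) :
    ξ = η := by
  apply P.toPerfPair.injective
  apply b.toCoweightBasis.ext
  intro j
  rw [b.toCoweightBasis_apply]
  exact h j

theorem ext_root' (b : P.Base) {x y : N} (h : ∀ j : b.support, P.root' j x = P.root' j y) :
    x = y := by
  apply P.flip.toPerfPair.injective
  apply b.toWeightBasis.ext
  intro j
  rw [b.toWeightBasis_apply]
  exact h j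

theorem eq_sum_fundWeight (b : P.Base) (ξ : M) :
    ξ = ∑ i : b.support, P.coroot' i ξ • fundWeight b i := by
  apply ext_coroot' b
  intro j
  rw [map_sum]
  simp only [map_smul, coroot'_fundWeight, smul_eq_mul, mul_ite, mul_one, mul_zero]
  rw [Finset.sum_ite_eq]
  simp

theorem eq_sum_fundCoweight (b : P.Base) (x : N) :
    x = ∑ i : b.support, P.root' i x • fundCoweight b i := by
  apply ext_root' b
  intro j
  rw [map_sum]
  simp only [map_smul, root'_fundCoweight, smul_eq_mul, mul_ite, mul_one, mul_zero]
  rw [Finset.sum_ite_eq]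
  simp

/-! ### The invariant form -/

variable (P) in
/-- The invariant form on `M`. -/
noncomputable def form : LinearMap.BilinForm R M :=
  @RootPairing.RootForm ι R M N _ _ _ _ _ P (Fintype.ofFinite ι)

theorem form_symm (x y : M) : form P x y = form P y x := by
  let _ : Fintype ι := Fintype.ofFinite ι
  have h := (P.rootForm_symmetric.eq x y)
  simp only [RingHom.id_apply] at h
  exact h

theorem form_pos {x : M} (hx : x ≠ 0) : 0 < form P x x := by
  let _ : Fintype ι := Fintype.ofFinite ι
  exact P.rootForm_pos_of_ne_zero (by simp) hx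

theorem form_nonneg (x : M) : 0 ≤ form P x x := by
  let _ : Fintype ι := Fintype.ofFinite ι
  exact P.zero_le_rootForm x

theorem form_reflection (i : ι) (x y : M) :
    form P (P.reflection i x) (P.reflection i y) = form P x y := by
  let _ : Fintype ι := Fintype.ofFinite ι
  exact P.rootForm_reflection_reflection_apply i x y

variable (P) in
/-- Squared length of a root. -/
noncomputable def len (k : ι) : R := form P (P.root k) (P.root k)

theorem len_pos (k : ι) : 0 < len P k := form_pos (P.ne_zero k)

theorem coroot'_mul_len (k : ι) (ξ : M) : P.coroot' k ξ * len P k = 2 * form P (P.root k) ξ := by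
  let _ : Fintype ι := Fintype.ofFinite ι
  have h := P.rootForm_self_smul_coroot k
  have h2 := congrArg (fun y => P.toLinearMap ξ y) h
  simp only [map_smul, LinearMap.map_smul_of_tower, P.toLinearMap_apply_apply_Polarization] at h2
  simp only [len, form]
  rw [mul_comm]
  simpa using h2

/-! ### Coefficients -/

/-- coefficient of the simple root `j` in the root `k` -/
noncomputable def rc (b : P.Base) (k : ι) (j : b.support) : R := P.root' k (fundCoweight b j)

/-- coefficient of the simple coroot `j` in the coroot `k` -/
noncomputable def cc (b : P.Base) (k : ι) (j : b.support) : R := P.coroot' k (fundWeight b j)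

theorem cc_eq_rc_flip (b : P.Base) (k : ι) (j : b.support) :
    cc b k j = rc (P := P.flip) b.flip k j := rfl

theorem rc_eq_cc_flip (b : P.Base) (k : ι) (j : b.support) :
    rc b k j = cc (P := P.flip) b.flip k j := rfl

theorem coroot'_eq_sum (b : P.Base) (k : ι) (ξ : M) :
    P.coroot' k ξ = ∑ j : b.support, cc b k j * P.coroot' j ξ := by
  conv_lhs => rw [eq_sum_fundWeight b ξ]
  rw [map_sum]
  refine Finset.sum_congr rfl fun j _ => ?_
  rw [map_smul, smul_eq_mul, mul_comm]
  rfl

theorem root'_eq_sum (b : P.Base) (k : ι) (x : N) :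
    P.root' k x = ∑ j : b.support, rc b k j * P.root' j x :=
  coroot'_eq_sum (P := P.flip) b.flip k x

theorem root_eq_sum (b : P.Base) (k : ι) : P.root k = ∑ j : b.support, rc b k j • P.root j := by
  apply P.toPerfPair.injective
  apply LinearMap.ext
  intro x
  change P.root' k x = P.toLinearMap (∑ j : b.support, rc b k j • P.root j) x
  rw [root'_eq_sum b, map_sum, LinearMap.sum_apply]
  refine Finset.sum_congr rfl fun j _ => ?_
  rw [map_smul, LinearMap.smul_apply, smul_eq_mul]

theorem coroot_eq_sum (b : P.Base) (k : ι) : P.coroot k = ∑ j : b.support, cc b k j • P.coroot j :=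
  root_eq_sum (P := P.flip) b.flip k

theorem rc_simple (b : P.Base) (l j : b.support) : rc b l j = if l = j then 1 else 0 := by
  unfold rc
  rw [root'_fundCoweight]

theorem cc_simple (b : P.Base) (l j : b.support) : cc b l j = if l = j then 1 else 0 := by
  unfold cc
  rw [coroot'_fundWeight]

/-- The comparison between root and coroot coefficients. -/
theorem cc_mul_len (b : P.Base) (k : ι) (j : b.support) :
    cc b k j * len P k = rc b k j * len P j := by
  unfold cc
  rw [coroot'_mul_len]
  conv_lhs => rw [root_eq_sum b k]
  rw [map_sum, LinearMap.sum_apply, Finset.mul_sum]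
  have : ∀ l : b.support, 2 * form P (rc b k l • P.root l) (fundWeight b j)
      = if l = j then rc b k j * len P j else 0 := by
    intro l
    rw [map_smul, LinearMap.smul_apply, smul_eq_mul, mul_left_comm, ← coroot'_mul_len,
      coroot'_fundWeight]
    split_ifs with h
    · subst h; ring
    · ring
  simp_rw [this]
  rw [Finset.sum_ite_eq']
  simp

theorem exists_int_rc (b : P.Base) (k : ι) :
    ∃ f : b.support → ℤ, (∀ j, rc b k j = f j) ∧
      ((b.IsPos k ∧ ∀ j, 0 ≤ f j) ∨ (¬ b.IsPos k ∧ ∀ j, f j ≤ 0)) := by
  obtain ⟨f, hf₀, hf₁, hf₂⟩ := b.exists_root_eq_sum_int k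
  refine ⟨fun j => f j, ?_, ?_⟩
  · intro j
    unfold rc
    change P.toLinearMap (P.root k) (fundCoweight b j) = _
    rw [hf₂, map_sum, LinearMap.sum_apply]
    rw [Finset.sum_eq_single_of_mem (j : ι) j.2]
    · rw [map_zsmul, LinearMap.smul_apply]
      have := root'_fundCoweight_self b j
      change P.toLinearMap (P.root j) (fundCoweight b j) = 1 at this
      rw [this]; simp
    · intro l hl hne
      rw [map_zsmul, LinearMap.smul_apply]
      have := root'_fundCoweight_of_ne b j ⟨l, hl⟩ (fun h => hne (congrArg Subtype.val h))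
      change P.toLinearMap (P.root l) (fundCoweight b j) = 0 at this
      rw [this]; simp
  · have hh : b.height k = ∑ j ∈ b.support, f j := RootPairing.Base.height_eq_sum hf₂
    rcases hf₁ with pos | neg
    · left
      refine ⟨?_, fun j => pos.le j⟩
      rw [RootPairing.Base.isPos_iff, hh]
      obtain ⟨hle, j, hj⟩ := Pi.lt_def.mp pos
      have hjs : j ∈ b.support := hf₀ (by simp only [Function.mem_support]; exact ne_of_gt hj)
      exact Finset.sum_pos' (fun i _ => hle i) ⟨j, hjs, hj⟩
    · right
      refine ⟨?_, fun j => neg.le j⟩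
      rw [RootPairing.Base.isPos_iff, hh, not_lt]
      exact Finset.sum_nonpos fun i _ => neg.le i

theorem rc_nonneg {b : P.Base} {k : ι} (hk : b.IsPos k) (j : b.support) : 0 ≤ rc b k j := by
  obtain ⟨f, hf, h | h⟩ := exists_int_rc b k
  · rw [hf]; exact_mod_cast h.2 j
  · exact absurd hk h.1

theorem rc_nonpos {b : P.Base} {k : ι} (hk : ¬ b.IsPos k) (j : b.support) : rc b k j ≤ 0 := by
  obtain ⟨f, hf, h | h⟩ := exists_int_rc b k
  · exact absurd h.1 hk
  · rw [hf]; exact_mod_cast h.2 j

theorem rc_int (b : P.Base) (k : ι) (j : b.support) : ∃ z : ℤ, rc b k j = z := by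
  obtain ⟨f, hf, -⟩ := exists_int_rc b k
  exact ⟨f j, hf j⟩

theorem cc_int (b : P.Base) (k : ι) (j : b.support) : ∃ z : ℤ, cc b k j = z :=
  rc_int (P := P.flip) b.flip k j

theorem cc_nonneg {b : P.Base} {k : ι} (hk : b.IsPos k) (j : b.support) : 0 ≤ cc b k j := by
  have h := cc_mul_len b k j
  have h1 : 0 ≤ rc b k j * len P j := mul_nonneg (rc_nonneg hk j) (len_pos (P := P) (j : ι)).le
  rw [← h] at h1
  exact nonneg_of_mul_nonneg_left h1 (len_pos (P := P) k)

theorem cc_nonpos {b : P.Base} {k : ι} (hk : ¬ b.IsPos k) (j : b.support) : cc b k j ≤ 0 := by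
  have h := cc_mul_len b k j
  have h1 : rc b k j * len P j ≤ 0 := mul_nonpos_of_nonpos_of_nonneg (rc_nonpos hk j) (len_pos (P := P) (j : ι)).le
  rw [← h] at h1
  by_contra hcon
  push Not at hcon
  exact absurd (mul_pos hcon (len_pos (P := P) k)) (not_lt.mpr h1)

theorem cc_eq_zero_iff (b : P.Base) (k : ι) (j : b.support) : cc b k j = 0 ↔ rc b k j = 0 := by
  have h := cc_mul_len b k j
  constructor
  · intro h0
    rw [h0, zero_mul] at h
    rcases mul_eq_zero.mp h.symm with h' | h'
    · exact h'
    · exact absurd h' (len_pos (P := P) (j : ι)).ne'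
  · intro h0
    rw [h0, zero_mul] at h
    rcases mul_eq_zero.mp h with h' | h'
    · exact h'
    · exact absurd h' (len_pos (P := P) k).ne'

theorem cc_pos_iff (b : P.Base) (k : ι) (j : b.support) : 0 < cc b k j ↔ 0 < rc b k j := by
  have h := cc_mul_len b k j
  constructor
  · intro h0
    have : 0 < rc b k j * len P j := by rw [← h]; exact mul_pos h0 (len_pos (P := P) k)
    exact (pos_iff_pos_of_mul_pos this).mpr (len_pos (P := P) (j : ι))
  · intro h0
    have : 0 < cc b k j * len P k := by rw [h]; exact mul_pos h0 (len_pos (P := P) (j : ι))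
    exact (pos_iff_pos_of_mul_pos this).mpr (len_pos (P := P) k)

end Groth.Agent.Lib.Helper31.RC
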