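import Mathlib
import Groth.Prelude.Def_RootCh2
import Groth.Agent.Lib.Helper31.RootChBasic

/-!
# RootCh foundations II: facets relative to an adjacent base.
-/

set_option autoImplicit false
set_option linter.unusedSectionVars false

open Module RootCh
open scoped Classical

namespace Groth.Agent.Lib.Helper31.RC

universe u v w x
variable {ι : Type u} {R : Type v} {M : Type w} {N : Type x}
  [Field R] [LinearOrder R] [IsStrictOrderedRing R]
  [AddCommGroup M] [Module R M] [AddCommGroup N] [Module R N] [Finite ι]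
  {P : RootPairing ι R M N} [P.IsRootSystem] [P.IsCrystallographic] [P.IsReduced]

/-- the simple indices of `b` on which `ξ` pairs positively -/
def J (b : P.Base) (ξ : M) : Set b.support := {j | 0 < P.coroot' j ξ}

theorem mem_J {b : P.Base} {ξ : M} {j : b.support} : j ∈ J b ξ ↔ 0 < P.coroot' j ξ := Iff.rfl

theorem mem_closedChamber {b : P.Base} {ξ : M} :
    ξ ∈ closedChamber b ↔ ∀ j : b.support, 0 ≤ P.coroot' j ξ :=
  ⟨fun h j => h j j.2, fun h i hi => h ⟨i, hi⟩⟩

theorem coroot'_eq_zero_of_not_mem_J {b : P.Base} {ξ : M} (hξ : ξ ∈ closedChamber b)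
    {j : b.support} (hj : j ∉ J b ξ) : P.coroot' j ξ = 0 :=
  le_antisymm (not_lt.mp hj) (mem_closedChamber.mp hξ j)

theorem coroot'_nonneg {b : P.Base} {ξ : M} (hξ : ξ ∈ closedChamber b) {k : ι} (hk : b.IsPos k) :
    0 ≤ P.coroot' k ξ := by
  rw [coroot'_eq_sum b]
  exact Finset.sum_nonneg fun j _ => mul_nonneg (cc_nonneg hk j) (mem_closedChamber.mp hξ j)

theorem coroot'_nonpos {b : P.Base} {ξ : M} (hξ : ξ ∈ closedChamber b) {k : ι} (hk : ¬ b.IsPos k) :
    P.coroot' k ξ ≤ 0 := by
  rw [coroot'_eq_sum b]
  exact Finset.sum_nonpos fun j _ =>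
    mul_nonpos_of_nonpos_of_nonneg (cc_nonpos hk j) (mem_closedChamber.mp hξ j)

theorem coroot'_eq_zero_iff {b : P.Base} {ξ : M} (hξ : ξ ∈ closedChamber b) (k : ι) :
    P.coroot' k ξ = 0 ↔ ∀ j ∈ J b ξ, cc b k j = 0 := by
  rw [coroot'_eq_sum b]
  have key : (∀ j ∈ (Finset.univ : Finset b.support), cc b k j * P.coroot' j ξ = 0) ↔
      ∀ j ∈ J b ξ, cc b k j = 0 := by
    constructor
    · intro h j hj
      rcases mul_eq_zero.mp (h j (Finset.mem_univ _)) with h' | h'
      · exact h'
      · exact absurd h' (ne_of_gt hj)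
    · intro h j _
      by_cases hj : j ∈ J b ξ
      · rw [h j hj, zero_mul]
      · rw [coroot'_eq_zero_of_not_mem_J hξ hj, mul_zero]
  by_cases hk : b.IsPos k
  · rw [Finset.sum_eq_zero_iff_of_nonneg
      (fun j _ => mul_nonneg (cc_nonneg hk j) (mem_closedChamber.mp hξ j))]
    exact key
  · rw [Finset.sum_eq_zero_iff_of_nonpos
      (fun j _ => mul_nonpos_of_nonpos_of_nonneg (cc_nonpos hk j) (mem_closedChamber.mp hξ j))]
    exact key

/-- The sign vector of a dominant vector depends only on its set `J`. -/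
theorem sgnVec_apply_eq {b : P.Base} {ξ : M} (hξ : ξ ∈ closedChamber b) (k : ι) :
    sgnVec P ξ k = if ∀ j ∈ J b ξ, cc b k j = 0 then 0 else if b.IsPos k then 1 else -1 := by
  unfold sgnVec
  split_ifs with h0 hk
  · rw [(coroot'_eq_zero_iff hξ k).mpr h0, sign_zero]
  · have : P.coroot' k ξ ≠ 0 := fun h => h0 ((coroot'_eq_zero_iff hξ k).mp h)
    exact sign_pos (lt_of_le_of_ne (coroot'_nonneg hξ hk) (Ne.symm this))
  · have : P.coroot' k ξ ≠ 0 := fun h => h0 ((coroot'_eq_zero_iff hξ k).mp h)
    exact sign_neg (lt_of_le_of_ne (coroot'_nonpos hξ hk) this)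

theorem sgnVec_eq_of_J_eq {b : P.Base} {ξ η : M} (hξ : ξ ∈ closedChamber b)
    (hη : η ∈ closedChamber b) (h : J b ξ = J b η) : sgnVec P ξ = sgnVec P η := by
  funext k
  rw [sgnVec_apply_eq hξ, sgnVec_apply_eq hη, h]

theorem mem_closedChamber_of_sgnVec_eq {b : P.Base} {ξ η : M} (hξ : ξ ∈ closedChamber b)
    (h : sgnVec P η = sgnVec P ξ) : η ∈ closedChamber b ∧ J b η = J b ξ := by
  have hs : ∀ j : b.support, SignType.sign (P.coroot' j η) = SignType.sign (P.coroot' j ξ) :=
    fun j => congrFun h j
  constructor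
  · rw [mem_closedChamber]
    intro j
    have h1 := mem_closedChamber.mp hξ j
    by_contra hneg
    push Not at hneg
    have := hs j
    rw [sign_neg hneg] at this
    rcases h1.eq_or_lt with h0 | h0
    · rw [← h0, sign_zero] at this; exact absurd this (by decide)
    · rw [sign_pos h0] at this; exact absurd this (by decide)
  · ext j
    rw [mem_J, mem_J, ← sign_eq_one_iff, ← sign_eq_one_iff, hs j]

/-- vectors in the closure of the facet of a dominant vector -/
theorem mem_closure_ofVec_iff {b : P.Base} {ξ η : M} (hξ : ξ ∈ closedChamber b) :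
    η ∈ (Facet.ofVec P ξ).closure ↔ η ∈ closedChamber b ∧ J b η ⊆ J b ξ := by
  constructor
  · intro h
    have hs : ∀ j : b.support, sgnVec P η j = 0 ∨ sgnVec P η j = sgnVec P ξ j := fun j => h j
    have hdom : η ∈ closedChamber b := by
      rw [mem_closedChamber]
      intro j
      have h1 := mem_closedChamber.mp hξ j
      by_contra hneg
      push Not at hneg
      rcases hs j with h0 | h0
      · unfold sgnVec at h0
        rw [sign_neg hneg] at h0; exact absurd h0 (by decide)
      · unfold sgnVec at h0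
        rw [sign_neg hneg] at h0
        rcases h1.eq_or_lt with h2 | h2
        · rw [← h2, sign_zero] at h0; exact absurd h0 (by decide)
        · rw [sign_pos h2] at h0; exact absurd h0 (by decide)
    refine ⟨hdom, ?_⟩
    intro j hj
    rw [mem_J] at hj ⊢
    rcases hs j with h0 | h0
    · unfold sgnVec at h0
      rw [sign_pos hj] at h0; exact absurd h0 (by decide)
    · unfold sgnVec at h0
      rw [sign_pos hj] at h0
      exact sign_eq_one_iff.mp h0.symm
  · rintro ⟨hη, hJ⟩ k
    change sgnVec P η k = 0 ∨ sgnVec P η k = sgnVec P ξ k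
    rw [sgnVec_apply_eq hη, sgnVec_apply_eq hξ]
    by_cases h0 : ∀ j ∈ J b η, cc b k j = 0
    · left; rw [if_pos h0]
    · right
      have h1 : ¬ ∀ j ∈ J b ξ, cc b k j = 0 := fun h => h0 fun j hj => h j (hJ hj)
      rw [if_neg h0, if_neg h1]

/-- the standard vector of a set of simple indices -/
noncomputable def stdVec (b : P.Base) (T : Set b.support) : M :=
  ∑ j : b.support, (if j ∈ T then (1 : R) else 0) • fundWeight b j

theorem coroot'_stdVec (b : P.Base) (T : Set b.support) (l : b.support) :
    P.coroot' l (stdVec b T) = if l ∈ T then 1 else 0 := by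
  unfold stdVec
  rw [map_sum]
  simp only [map_smul, coroot'_fundWeight, smul_eq_mul, mul_ite, mul_one, mul_zero]
  rw [Finset.sum_ite_eq]
  simp

theorem stdVec_mem_closedChamber (b : P.Base) (T : Set b.support) : stdVec b T ∈ closedChamber b := by
  rw [mem_closedChamber]
  intro j
  rw [coroot'_stdVec]
  split_ifs <;> simp

theorem J_stdVec (b : P.Base) (T : Set b.support) : J b (stdVec b T) = T := by
  ext j
  rw [mem_J, coroot'_stdVec]
  split_ifs with h <;> simp [h]

theorem fundWeight_mem_closedChamber (b : P.Base) (i : b.support) :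
    fundWeight b i ∈ closedChamber b := by
  rw [mem_closedChamber]
  intro j
  rw [coroot'_fundWeight]
  split_ifs <;> simp

theorem J_fundWeight (b : P.Base) (i : b.support) : J b (fundWeight b i) = {i} := by
  ext j
  rw [mem_J, coroot'_fundWeight, Set.mem_singleton_iff]
  split_ifs with h <;> simp [h]

theorem fundWeight_linearIndependent (b : P.Base) : LinearIndependent R (fundWeight b) := by
  rw [Fintype.linearIndependent_iff]
  intro g hg l
  have := congrArg (P.coroot' l) hg
  rw [map_sum, map_zero] at this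
  simp only [map_smul, coroot'_fundWeight, smul_eq_mul, mul_ite, mul_one, mul_zero] at this
  rw [Finset.sum_ite_eq] at this
  simpa using this

theorem fundWeight_injective (b : P.Base) : Function.Injective (fundWeight b) :=
  (fundWeight_linearIndependent b).injective

theorem fundWeight_ne_zero (b : P.Base) (i : b.support) : fundWeight b i ≠ 0 :=
  (fundWeight_linearIndependent b).ne_zero i

/-- A dominant vector is a nonnegative combination of the fundamental weights in its `J`. -/
theorem eq_sum_J {b : P.Base} {ξ : M} (hξ : ξ ∈ closedChamber b) :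
    ξ = ∑ j : b.support, (if j ∈ J b ξ then P.coroot' j ξ else 0) • fundWeight b j := by
  conv_lhs => rw [eq_sum_fundWeight b ξ]
  refine Finset.sum_congr rfl fun j _ => ?_
  split_ifs with h
  · rfl
  · rw [coroot'_eq_zero_of_not_mem_J hξ h]

theorem mem_span_of_J_subset {b : P.Base} {ξ : M} (hξ : ξ ∈ closedChamber b) {T : Set b.support}
    (h : J b ξ ⊆ T) : ξ ∈ Submodule.span R (fundWeight b '' T) := by
  rw [eq_sum_J hξ]
  refine Submodule.sum_mem _ fun j _ => ?_
  split_ifs with hj
  · exact Submodule.smul_mem _ _ (Submodule.subset_span ⟨j, h hj, rfl⟩)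
  · rw [zero_smul]; exact Submodule.zero_mem _

end Groth.Agent.Lib.Helper31.RC
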