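import Mathlib
import Groth.Prelude.Def_RootCh2
import Groth.Agent.Lib.Helper31.RootChChamber

/-!
# RootCh foundations III: description of a facet through an adjacent base; corners.
-/

set_option autoImplicit false
set_option linter.unusedSectionVars false

open Module RootCh
open scoped Classical

namespace Groth.Agent.Lib.Helper31.RC

universe u v w x
variable {ι : Type u} {R : Type v} {M : Type w} {N : Type x}
  [Field R] [LinearOrder R] [IsStrictOrderedRing R]
  [AddCommGroup M] [Module R M] [AddCommGroup N] [Module R N] [Finite ι]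
  {P : RootPairing ι R M N} [P.IsRootSystem] [P.IsCrystallographic] [P.IsReduced]

theorem eq_ofVec {F : Facet P} {ξ : M} (h : ξ ∈ F.carrier) : F = Facet.ofVec P ξ := by
  apply Facet.ext
  exact h.symm

theorem mem_carrier_ofVec (ξ : M) : ξ ∈ (Facet.ofVec P ξ).carrier := rfl

theorem mem_cham_iff {F : Facet P} {b : P.Base} :
    b ∈ F.cham ↔ ∃ ξ ∈ F.carrier, ξ ∈ closedChamber b := by
  constructor
  · intro h
    obtain ⟨ξ, hξ⟩ := F.exists_sgnVec_eq
    exact ⟨ξ, hξ, h hξ⟩
  · rintro ⟨ξ, hξ, hdom⟩ η hη
    have : sgnVec P η = sgnVec P ξ := by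
      rw [show sgnVec P η = F.sgn from hη, show sgnVec P ξ = F.sgn from hξ]
    exact (mem_closedChamber_of_sgnVec_eq hdom this).1

/-- type of a facet relative to a base: the simple indices on which it is positive -/
def ftype (F : Facet P) (b : P.Base) : Set b.support := {j | F.sgn j = 1}

theorem J_eq_ftype {F : Facet P} (b : P.Base) {ξ : M} (hξ : ξ ∈ F.carrier) :
    J b ξ = ftype F b := by
  ext j
  rw [mem_J]
  change _ ↔ F.sgn j = 1
  rw [← show sgnVec P ξ = F.sgn from hξ]
  exact sign_eq_one_iff.symm

theorem mem_carrier_iff {F : Facet P} {b : P.Base} (hb : b ∈ F.cham) {η : M} :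
    η ∈ F.carrier ↔ η ∈ closedChamber b ∧ J b η = ftype F b := by
  obtain ⟨ξ, hξ, hdom⟩ := mem_cham_iff.mp hb
  constructor
  · intro hη
    exact ⟨hb hη, J_eq_ftype b hη⟩
  · rintro ⟨hη, hJ⟩
    change sgnVec P η = F.sgn
    rw [← show sgnVec P ξ = F.sgn from hξ]
    exact sgnVec_eq_of_J_eq hη hdom (by rw [hJ, J_eq_ftype b hξ])

theorem mem_closure_iff {F : Facet P} {b : P.Base} (hb : b ∈ F.cham) {η : M} :
    η ∈ F.closure ↔ η ∈ closedChamber b ∧ J b η ⊆ ftype F b := by
  obtain ⟨ξ, hξ, hdom⟩ := mem_cham_iff.mp hb
  rw [← J_eq_ftype b hξ, ← mem_closure_ofVec_iff hdom, ← eq_ofVec hξ]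

theorem stdVec_mem_carrier {F : Facet P} {b : P.Base} (hb : b ∈ F.cham) :
    stdVec b (ftype F b) ∈ F.carrier :=
  (mem_carrier_iff hb).mpr ⟨stdVec_mem_closedChamber b _, J_stdVec b _⟩

theorem carrier_subset_closure (F : Facet P) : F.carrier ⊆ F.closure := by
  intro ξ hξ i
  right
  exact congrFun hξ i

theorem span_carrier {F : Facet P} {b : P.Base} (hb : b ∈ F.cham) :
    Submodule.span R F.carrier = Submodule.span R (fundWeight b '' ftype F b) := by
  apply le_antisymm
  · rw [Submodule.span_le]
    intro ξ hξ
    exact mem_span_of_J_subset (hb hξ) (J_eq_ftype b hξ).le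
  · rw [Submodule.span_le]
    rintro _ ⟨j, hj, rfl⟩
    -- ϖ_j = (ξ_T + ϖ_j) - ξ_T
    have h1 : stdVec b (ftype F b) ∈ F.carrier := stdVec_mem_carrier hb
    have h2 : stdVec b (ftype F b) + fundWeight b j ∈ F.carrier := by
      rw [mem_carrier_iff hb]
      constructor
      · rw [mem_closedChamber]
        intro l
        rw [map_add]
        exact add_nonneg (mem_closedChamber.mp (stdVec_mem_closedChamber b _) l)
          (mem_closedChamber.mp (fundWeight_mem_closedChamber b j) l)
      · ext l
        rw [mem_J, map_add, coroot'_stdVec, coroot'_fundWeight]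
        by_cases hl : l ∈ ftype F b
        · simp only [hl, if_true, iff_true]
          split_ifs <;> norm_num
        · have : l ≠ j := fun h => hl (h ▸ hj)
          simp [hl, this]
    have : fundWeight b j = (stdVec b (ftype F b) + fundWeight b j) - stdVec b (ftype F b) := by
      abel
    rw [this]
    exact Submodule.sub_mem _ (Submodule.subset_span h2) (Submodule.subset_span h1)

theorem fundWeight_mem_fundWeights (b : P.Base) (i : b.support) : fundWeight b i ∈ fundWeights P :=
  ⟨b, i, rfl⟩

theorem ofVec_fundWeight_cham (b : P.Base) (i : b.support) :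
    b ∈ (Facet.ofVec P (fundWeight b i)).cham :=
  mem_cham_iff.mpr ⟨_, mem_carrier_ofVec _, fundWeight_mem_closedChamber b i⟩

theorem ftype_ofVec (b : P.Base) (ξ : M) : ftype (Facet.ofVec P ξ) b = J b ξ :=
  (J_eq_ftype b (mem_carrier_ofVec ξ)).symm

/-- **S14227**: the corners of the chamber of `b` are the fundamental weights of `b`. -/
theorem baseCorners_eq (b : P.Base) : baseCorners b = Set.range (fundWeight b) := by
  apply Set.Subset.antisymm
  · rintro w ⟨⟨b', i, rfl⟩, hdom⟩
    -- the facet of w, seen from b' and from b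
    set F := Facet.ofVec P (fundWeight b' i) with hF
    have hb' : b' ∈ F.cham := ofVec_fundWeight_cham b' i
    have hb : b ∈ F.cham := mem_cham_iff.mpr ⟨_, mem_carrier_ofVec _, hdom⟩
    have hT' : ftype F b' = {i} := by rw [hF, ftype_ofVec, J_fundWeight]
    have hspan : Submodule.span R (fundWeight b '' ftype F b) = Submodule.span R {fundWeight b' i} := by
      rw [← span_carrier hb, span_carrier hb', hT', Set.image_singleton]
    -- every element of `ftype F b` gives a multiple of w
    have hmul : ∀ j ∈ ftype F b, ∃ a : R, a • fundWeight b' i = fundWeight b j := by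
      intro j hj
      have : fundWeight b j ∈ Submodule.span R {fundWeight b' i} := by
        rw [← hspan]; exact Submodule.subset_span ⟨j, hj, rfl⟩
      exact Submodule.mem_span_singleton.mp this
    -- at most one element
    have huniq : ∀ j ∈ ftype F b, ∀ j' ∈ ftype F b, j = j' := by
      intro j hj j' hj'
      by_contra hne
      obtain ⟨a, ha⟩ := hmul j hj
      obtain ⟨a', ha'⟩ := hmul j' hj'
      have ha0 : a ≠ 0 := by
        rintro rfl; rw [zero_smul] at ha; exact fundWeight_ne_zero b j ha.symm
      have ha0' : a' ≠ 0 := by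
        rintro rfl; rw [zero_smul] at ha'; exact fundWeight_ne_zero b j' ha'.symm
      have h1 := congrArg (P.coroot' j) ha
      have h2 := congrArg (P.coroot' j) ha'
      rw [map_smul, smul_eq_mul, coroot'_fundWeight_self] at h1
      rw [map_smul, smul_eq_mul, coroot'_fundWeight_of_ne b j' j hne] at h2
      rcases mul_eq_zero.mp h2 with h | h
      · exact ha0' h
      · rw [h, mul_zero] at h1; exact zero_ne_one h1
    -- nonempty
    have hne : (ftype F b).Nonempty := by
      by_contra hempty
      rw [Set.not_nonempty_iff_eq_empty] at hempty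
      have : fundWeight b' i ∈ Submodule.span R (fundWeight b '' ftype F b) := by
        rw [hspan]; exact Submodule.mem_span_singleton_self _
      rw [hempty, Set.image_empty, Submodule.span_empty, Submodule.mem_bot] at this
      exact fundWeight_ne_zero b' i this
    obtain ⟨j₀, hj₀⟩ := hne
    have hJ : J b (fundWeight b' i) = {j₀} := by
      rw [← ftype_ofVec]
      ext l
      constructor
      · intro hl; exact (huniq j₀ hj₀ l hl).symm
      · rintro rfl; exact hj₀
    -- w = c • ϖ_{j₀}
    have hw : fundWeight b' i = P.coroot' j₀ (fundWeight b' i) • fundWeight b j₀ := by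
      conv_lhs => rw [eq_sum_J hdom, hJ]
      rw [Finset.sum_eq_single j₀]
      · simp
      · intro l _ hl
        simp [hl]
      · intro h; exact absurd (Finset.mem_univ _) h
    set c := P.coroot' j₀ (fundWeight b' i) with hc
    have hcpos : 0 < c := by
      have : j₀ ∈ J b (fundWeight b' i) := by rw [hJ]; rfl
      exact this
    obtain ⟨z, hz⟩ := cc_int b' (j₀ : ι) i
    obtain ⟨z', hz'⟩ := cc_int b (i : ι) j₀
    have h1 : (1 : R) = c * cc b (i : ι) j₀ := by
      have := coroot'_fundWeight_self b' i
      rw [hw, map_smul, smul_eq_mul] at this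
      exact this.symm
    have hcz : c = z := hz
    rw [hcz, hz'] at h1
    have h1' : (z * z' : ℤ) = 1 := by exact_mod_cast h1.symm
    have hzpos : 0 < z := by
      rw [hcz] at hcpos; exact_mod_cast hcpos
    have hz1 : z = 1 := by
      rcases Int.eq_one_or_neg_one_of_mul_eq_one h1' with h | h
      · exact h
      · omega
    refine ⟨j₀, ?_⟩
    rw [hw, hcz, hz1]; simp
  · rintro _ ⟨i, rfl⟩
    exact ⟨fundWeight_mem_fundWeights b i, fundWeight_mem_closedChamber b i⟩

theorem closure_subset_closedChamber {F : Facet P} {b : P.Base} (hb : b ∈ F.cham) :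
    F.closure ⊆ closedChamber b := fun _ hη => ((mem_closure_iff hb).mp hη).1

/-- corners of a facet through an adjacent base -/
theorem corners_eq {F : Facet P} {b : P.Base} (hb : b ∈ F.cham) :
    F.corners = fundWeight b '' ftype F b := by
  apply Set.Subset.antisymm
  · rintro w ⟨hw, hcl⟩
    have : w ∈ baseCorners b := ⟨hw, closure_subset_closedChamber hb hcl⟩
    rw [baseCorners_eq] at this
    obtain ⟨j, rfl⟩ := this
    refine ⟨j, ?_, rfl⟩
    have := ((mem_closure_iff hb).mp hcl).2
    rw [J_fundWeight] at this
    exact this rfl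
  · rintro _ ⟨j, hj, rfl⟩
    refine ⟨fundWeight_mem_fundWeights b j, (mem_closure_iff hb).mpr
      ⟨fundWeight_mem_closedChamber b j, ?_⟩⟩
    rw [J_fundWeight]
    exact Set.singleton_subset_iff.mpr hj

end Groth.Agent.Lib.Helper31.RC
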