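import Mathlib
import Groth.Prelude.Def_RootCh2
import Groth.Agent.Lib.Helper31.RootChFacet

/-!
# RootCh foundations IV: every vector is dominant for some base.
-/

set_option autoImplicit false
set_option linter.unusedSectionVars false

open Module RootCh
open scoped Classical

namespace Groth.Agent.Lib.Helper31.RC

universe u v w x
variable {ι : Type u} {R : Type v} {M : Type w} {N : Type x}
  [Field R] [LinearOrder R] [IsStrictOrderedRing R]
  [AddCommGroup M] [Module R M] [AddCommGroup N] [Module R N] [Finite ι]
  {P : RootPairing ι R M N} [P.IsRootSystem] [P.IsCrystallographic] [P.IsReduced]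

variable (P) in
/-- a vector of `M` pairing non-trivially with every coroot -/
theorem exists_regular : ∃ η : M, ∀ i, P.coroot' i η ≠ 0 := by
  obtain ⟨f, hf⟩ := Module.exists_dual_forall_apply_ne_zero (K := R) P.coroot
    (fun i => P.ne_zero' i)
  refine ⟨P.toPerfPair.symm f, fun i => ?_⟩
  have : P.toLinearMap (P.toPerfPair.symm f) = f := P.toLinearMap.apply_symm_toPerfPair_self f
  change P.toLinearMap (P.toPerfPair.symm f) (P.coroot i) ≠ 0
  rw [this]
  exact hf i

/-- the base attached to a regular vector -/
theorem exists_base_of_regular (η : M) (hη : ∀ i, P.coroot' i η ≠ 0) :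
    ∃ b : P.Base, ∀ i ∈ b.support, 0 < P.coroot' i η := by
  let f : Dual R N := P.toLinearMap η
  have hf : ∀ i, f (P.flip.root i) ≠ 0 := hη
  let _i := P.flip.indexNeg
  have hli := RootPairing.linearIndepOn_root_baseOf' (P := P.flip) (S := R) f hf
  have hsp : ∀ i, P.flip.root i ∈ AddSubmonoid.closure
      (P.flip.root '' IsAddIndecomposable.baseOf P.flip.root (f : N →+ R)) ∨
      -P.flip.root i ∈ AddSubmonoid.closure
      (P.flip.root '' IsAddIndecomposable.baseOf P.flip.root (f : N →+ R)) :=
    fun i => IsAddIndecomposable.mem_or_neg_mem_closure_baseOf P.flip.root (f : N →+ R) i (hf i)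
      (by simp)
  let b' : P.flip.Base := RootPairing.Base.mk' P.flip _ hli hsp
  refine ⟨b'.flip, ?_⟩
  intro i hi
  have hi' : i ∈ IsAddIndecomposable.baseOf P.flip.root (f : N →+ R) := by
    have : i ∈ b'.support := hi
    simpa [b', RootPairing.Base.mk'] using this
  exact IsAddIndecomposable.baseOf_subset_pos P.flip.root (f : N →+ R) hi'

theorem exists_base_mem_closedChamber (ξ : M) : ∃ b : P.Base, ξ ∈ closedChamber b := by
  obtain ⟨η, hη⟩ := exists_regular P
  let _ : Fintype ι := Fintype.ofFinite ι
  -- bound on the pairings of η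
  set E : R := ∑ i, |P.coroot' i η| + 1 with hE
  have hEpos : 0 < E := by
    have : 0 ≤ ∑ i, |P.coroot' i η| := Finset.sum_nonneg fun i _ => abs_nonneg _
    linarith
  have hEle : ∀ i, |P.coroot' i η| ≤ E := by
    intro i
    have : |P.coroot' i η| ≤ ∑ i, |P.coroot' i η| :=
      Finset.single_le_sum (f := fun i => |P.coroot' i η|) (fun i _ => abs_nonneg _)
        (Finset.mem_univ i)
    linarith
  -- lower bound for the nonzero pairings of ξ
  let g : ι → R := fun i => if P.coroot' i ξ = 0 then 1 else |P.coroot' i ξ|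
  have hgpos : ∀ i, 0 < g i := by
    intro i
    simp only [g]
    split_ifs with h
    · exact one_pos
    · exact abs_pos.mpr h
  let s : Finset R := insert 1 (Finset.univ.image g)
  have hs : s.Nonempty := Finset.insert_nonempty _ _
  set δ := s.min' hs with hδ
  have hδpos : 0 < δ := by
    have : δ ∈ s := Finset.min'_mem s hs
    rcases Finset.mem_insert.mp this with h | h
    · rw [h]; exact one_pos
    · obtain ⟨i, -, hi⟩ := Finset.mem_image.mp h
      rw [← hi]; exact hgpos i
  have hδle : ∀ i, δ ≤ g i := fun i =>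
    Finset.min'_le s _ (Finset.mem_insert_of_mem (Finset.mem_image_of_mem g (Finset.mem_univ i)))
  set ε : R := δ / (2 * E) with hε
  have hεpos : 0 < ε := div_pos hδpos (by linarith)
  have hsmall : ∀ i, |ε * P.coroot' i η| < δ := by
    intro i
    rw [abs_mul, abs_of_pos hεpos]
    calc ε * |P.coroot' i η| ≤ ε * E := mul_le_mul_of_nonneg_left (hEle i) hεpos.le
      _ = δ / 2 := by rw [hε]; field_simp
      _ < δ := by linarith
  set ξ' := ξ + ε • η with hξ'
  have hpair : ∀ i, P.coroot' i ξ' = P.coroot' i ξ + ε * P.coroot' i η := by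
    intro i; rw [hξ', map_add, map_smul, smul_eq_mul]
  have hreg : ∀ i, P.coroot' i ξ' ≠ 0 := by
    intro i
    rw [hpair]
    by_cases h0 : P.coroot' i ξ = 0
    · rw [h0, zero_add]
      exact mul_ne_zero hεpos.ne' (hη i)
    · intro hcon
      have h1 : |P.coroot' i ξ| = |ε * P.coroot' i η| := by
        have : P.coroot' i ξ = -(ε * P.coroot' i η) := by linarith
        rw [this, abs_neg]
      have h2 : δ ≤ |P.coroot' i ξ| := by
        have := hδle i
        simp only [g, if_neg h0] at this
        exact this
      have := hsmall i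
      linarith
  obtain ⟨b, hb⟩ := exists_base_of_regular ξ' hreg
  refine ⟨b, fun i hi => ?_⟩
  have hpos := hb i hi
  rw [hpair] at hpos
  by_contra hneg
  push Not at hneg
  have h0 : P.coroot' i ξ ≠ 0 := ne_of_lt hneg
  have h2 : δ ≤ |P.coroot' i ξ| := by
    have := hδle i
    simp only [g, if_neg h0] at this
    exact this
  rw [abs_of_neg hneg] at h2
  have h3 := hsmall i
  have h4 : ε * P.coroot' i η ≤ |ε * P.coroot' i η| := le_abs_self _
  linarith

/-- every facet has an adjacent chamber -/
theorem exists_mem_cham (F : Facet P) : ∃ b : P.Base, b ∈ F.cham := by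
  obtain ⟨ξ, hξ⟩ := F.exists_sgnVec_eq
  obtain ⟨b, hb⟩ := exists_base_mem_closedChamber (P := P) ξ
  exact ⟨b, mem_cham_iff.mpr ⟨ξ, hξ, hb⟩⟩

end Groth.Agent.Lib.Helper31.RC
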