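import Mathlib
import Groth.Prelude.Def_RootCh2
import Groth.Agent.Lib.Helper31.RootChExists

/-!
# RootCh foundations V: positive combinations of corners; adding/removing a corner.
-/

set_option autoImplicit false
set_option linter.unusedSectionVars false

open Module RootCh
open scoped Classical

namespace Groth.Agent.Lib.Helper31.RC

universe u v w x
variable {ι : Type u} {R : Type v} {M : Type w} {N : Type x}
  [Field R] [LinearOrder R] [IsStrictOrderedRing R]
  [AddCommGroup M] [Module R M] [AddCommGroup N] [Module R N] [Finite ι]
  {P : RootPairing ι R M N} [P.IsRootSystem] [P.IsCrystallographic] [P.IsReduced]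

theorem ofVec_stdVec_cham (b : P.Base) (T : Set b.support) :
    b ∈ (Facet.ofVec P (stdVec b T)).cham :=
  mem_cham_iff.mpr ⟨_, mem_carrier_ofVec _, stdVec_mem_closedChamber b T⟩

theorem corners_ofVec_stdVec (b : P.Base) (T : Set b.support) :
    (Facet.ofVec P (stdVec b T)).corners = fundWeight b '' T := by
  rw [corners_eq (ofVec_stdVec_cham b T), ftype_ofVec, J_stdVec]

/-- **S14232** -/
theorem exists_facet_insert (F : Facet P) (m : M) (hm : m ∈ F.corners') :
    ∃ G : Facet P, G.corners = insert m F.corners := by
  simp only [Facet.corners', Set.mem_iUnion] at hm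
  obtain ⟨b, hb, hmb⟩ := hm
  rw [baseCorners_eq] at hmb
  obtain ⟨i, rfl⟩ := hmb
  refine ⟨Facet.ofVec P (stdVec b (insert i (ftype F b))), ?_⟩
  rw [corners_ofVec_stdVec, corners_eq hb, Set.image_insert_eq]

/-- **S14233** -/
theorem exists_facet_diff (F : Facet P) (m : M) (hm : m ∈ F.corners) :
    ∃ G : Facet P, G.corners = F.corners \ {m} := by
  obtain ⟨b, hb⟩ := exists_mem_cham F
  rw [corners_eq hb] at hm ⊢
  obtain ⟨i, hi, rfl⟩ := hm
  refine ⟨Facet.ofVec P (stdVec b (ftype F b \ {i})), ?_⟩
  rw [corners_ofVec_stdVec, Set.image_sdiff (fundWeight_injective b), Set.image_singleton]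

/-- **S14230**: the vectors of a facet are the strictly positive combinations of its corners. -/
theorem carrier_eq_posCombo (F : Facet P) :
    F.carrier = {ξ : M | ∃ c : M →₀ R, (c.support : Set M) ⊆ F.corners ∧
      (∀ m ∈ F.corners, 0 < c m) ∧ c.sum (fun m r => r • m) = ξ} := by
  obtain ⟨b, hb⟩ := exists_mem_cham F
  have hinj := fundWeight_injective b
  let _ : Fintype b.support := inferInstance
  ext ξ
  constructor
  · intro hξ
    have hdom : ξ ∈ closedChamber b := hb hξ
    have hJ : J b ξ = ftype F b := J_eq_ftype b hξ
    let c : M →₀ R := ∑ j : b.support,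
      if j ∈ ftype F b then Finsupp.single (fundWeight b j) (P.coroot' j ξ) else 0
    have hc : ∀ l : b.support, c (fundWeight b l) = if l ∈ ftype F b then P.coroot' l ξ else 0 := by
      intro l
      simp only [c, Finsupp.finsetSum_apply]
      rw [Finset.sum_eq_single l]
      · split_ifs <;> simp
      · intro j _ hjl
        split_ifs
        · rw [Finsupp.single_apply, if_neg (fun h => hjl (hinj h))]
        · simp
      · intro h; exact absurd (Finset.mem_univ _) h
    refine ⟨c, ?_, ?_, ?_⟩
    · intro m hm
      rw [corners_eq hb]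
      have hm' : c m ≠ 0 := Finsupp.mem_support_iff.mp hm
      simp only [c, Finsupp.finsetSum_apply] at hm'
      obtain ⟨j, -, hj⟩ := Finset.exists_ne_zero_of_sum_ne_zero hm'
      split_ifs at hj with hjT
      · rw [Finsupp.single_apply] at hj
        split_ifs at hj with hjm
        · exact ⟨j, hjT, hjm⟩
        · exact absurd rfl hj
      · simp at hj
    · intro m hm
      rw [corners_eq hb] at hm
      obtain ⟨j, hj, rfl⟩ := hm
      rw [hc, if_pos hj]
      rw [← hJ] at hj
      exact hj
    · simp only [c]
      rw [← Finsupp.sum_finsetSum_index (h := fun m r => r • m) (by simp)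
        (by intro m r s; rw [add_smul])]
      conv_rhs => rw [eq_sum_J hdom]
      refine Finset.sum_congr rfl fun j _ => ?_
      rw [hJ]
      split_ifs
      · rw [Finsupp.sum_single_index (by simp)]
      · simp
  · rintro ⟨c, hsupp, hpos, rfl⟩
    rw [corners_eq hb] at hsupp hpos
    rw [mem_carrier_iff hb]
    -- pairings
    have hpair : ∀ l : b.support, P.coroot' l (c.sum fun m r => r • m) = c (fundWeight b l) := by
      intro l
      rw [Finsupp.sum, map_sum]
      by_cases hl : fundWeight b l ∈ c.support
      · rw [Finset.sum_eq_single_of_mem _ hl]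
        · rw [map_smul, smul_eq_mul, coroot'_fundWeight_self, mul_one]
        · intro m hm hne
          obtain ⟨j, -, rfl⟩ := hsupp hm
          have : l ≠ j := fun h => hne (h ▸ rfl)
          rw [map_smul, smul_eq_mul, coroot'_fundWeight_of_ne b j l this, mul_zero]
      · rw [Finsupp.notMem_support_iff.mp hl]
        apply Finset.sum_eq_zero
        intro m hm
        obtain ⟨j, -, rfl⟩ := hsupp hm
        have : l ≠ j := fun h => hl (h ▸ hm)
        rw [map_smul, smul_eq_mul, coroot'_fundWeight_of_ne b j l this, mul_zero]
    have hzero : ∀ l : b.support, l ∉ ftype F b → c (fundWeight b l) = 0 := by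
      intro l hl
      by_contra hne
      obtain ⟨j, hj, hjl⟩ := hsupp (Finsupp.mem_support_iff.mpr hne)
      exact hl (hinj hjl ▸ hj)
    constructor
    · rw [mem_closedChamber]
      intro l
      rw [hpair]
      by_cases hl : l ∈ ftype F b
      · exact (hpos _ ⟨l, hl, rfl⟩).le
      · rw [hzero l hl]
    · ext l
      rw [mem_J, hpair]
      constructor
      · intro h
        by_contra hl
        rw [hzero l hl] at h
        exact lt_irrefl _ h
      · intro hl
        exact hpos _ ⟨l, hl, rfl⟩

end Groth.Agent.Lib.Helper31.RC
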