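import Mathlib
import Groth.Prelude.Def_RootCh2
import Groth.Agent.Lib.Helper31.RootChCorners

/-!
# RootCh foundations VI: the dual facet, corresponding coweights.
-/

set_option autoImplicit false
set_option linter.unusedSectionVars false

open Module RootCh
open scoped Classical

namespace Groth.Agent.Lib.Helper31.RC

universe u v w x
variable {ι : Type u} {R : Type v} {M : Type w} {N : Type x}
  [Field R] [LinearOrder R] [IsStrictOrderedRing R]
  [AddCommGroup M] [Module R M] [AddCommGroup N] [Module R N] [Finite ι]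
  {P : RootPairing ι R M N} [P.IsRootSystem] [P.IsCrystallographic] [P.IsReduced]

theorem sign_cc_eq_sign_rc (b : P.Base) (k : ι) (j : b.support) :
    SignType.sign (cc b k j) = SignType.sign (rc b k j) := by
  have h := cc_mul_len b k j
  have h1 : SignType.sign (cc b k j * len P k) = SignType.sign (cc b k j) := by
    rw [sign_mul, sign_pos (len_pos (P := P) k), mul_one]
  have h2 : SignType.sign (rc b k j * len P j) = SignType.sign (rc b k j) := by
    rw [sign_mul, sign_pos (len_pos (P := P) (j : ι)), mul_one]
  rw [← h1, h, h2]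

theorem sgnVec_fundWeight_eq (b : P.Base) (i : b.support) :
    sgnVec P (fundWeight b i) = cosgnVec P (fundCoweight b i) := by
  funext k
  exact sign_cc_eq_sign_rc b k i

theorem fundWeight_mem_closure_iff (F : Facet P) (b : P.Base) (i : b.support) :
    fundWeight b i ∈ F.closure ↔ fundCoweight b i ∈ F.dualClosure := by
  unfold Facet.closure Facet.dualClosure
  simp only [Set.mem_ofPred_eq, sgnVec_fundWeight_eq]

theorem coroot_neg (k : ι) : P.coroot (P.reflectionPerm k k) = -P.coroot k := by
  simp

theorem root_neg (k : ι) : P.root (P.reflectionPerm k k) = -P.root k := by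
  simp

theorem sgn_neg (F : Facet P) (k : ι) : F.sgn (P.reflectionPerm k k) = -F.sgn k := by
  obtain ⟨ξ, hξ⟩ := F.exists_sgnVec_eq
  rw [← hξ]
  unfold sgnVec
  have : P.coroot' (P.reflectionPerm k k) ξ = -P.coroot' k ξ := by
    change P.toLinearMap ξ (P.coroot (P.reflectionPerm k k)) = -P.toLinearMap ξ (P.coroot k)
    rw [coroot_neg, map_neg]
  rw [this, Left.sign_neg]

/-- positivity with respect to a base and its flip agree -/
theorem isPos_flip_iff (b : P.Base) (k : ι) : b.flip.IsPos k ↔ b.IsPos k := by
  have hne : ∃ j : b.support, cc b k j ≠ 0 := by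
    by_contra hcon
    push Not at hcon
    have := coroot_eq_sum b k
    simp only [hcon, zero_smul, Finset.sum_const_zero] at this
    exact P.ne_zero' k this
  obtain ⟨j, hj⟩ := hne
  constructor
  · intro h
    by_contra hk
    have h1 : 0 ≤ cc b k j := rc_nonneg (P := P.flip) (b := b.flip) h j
    have h2 := cc_nonpos hk j
    exact hj (le_antisymm h2 h1)
  · intro h
    by_contra hk
    have h1 : cc b k j ≤ 0 := rc_nonpos (P := P.flip) (b := b.flip) hk j
    have h2 := cc_nonneg h j
    exact hj (le_antisymm h1 h2)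

/-- the standard covector of a set of simple indices -/
noncomputable def costdVec (b : P.Base) (T : Set b.support) : N :=
  stdVec (P := P.flip) b.flip T

theorem root'_costdVec (b : P.Base) (T : Set b.support) (l : b.support) :
    P.root' l (costdVec b T) = if l ∈ T then 1 else 0 :=
  coroot'_stdVec (P := P.flip) b.flip T l

theorem cosgnVec_costdVec (b : P.Base) (T : Set b.support) :
    cosgnVec P (costdVec b T) = sgnVec P (stdVec b T) := by
  funext k
  unfold cosgnVec sgnVec
  rw [root'_eq_sum b, coroot'_eq_sum b]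
  simp only [root'_costdVec, coroot'_stdVec]
  have hz : (∀ j ∈ (Finset.univ : Finset b.support), rc b k j * (if j ∈ T then (1 : R) else 0) = 0) ↔
      ∀ j ∈ (Finset.univ : Finset b.support), cc b k j * (if j ∈ T then (1 : R) else 0) = 0 := by
    refine forall₂_congr fun j _ => ?_
    by_cases hj : j ∈ T
    · simp only [hj, if_true, mul_one]
      exact (cc_eq_zero_iff b k j).symm
    · simp [hj]
  have h01 : ∀ j : b.support, (0 : R) ≤ (if j ∈ T then (1 : R) else 0) := by
    intro j; split_ifs <;> simp
  by_cases hk : b.IsPos k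
  · have hA : ∀ j ∈ (Finset.univ : Finset b.support),
        0 ≤ rc b k j * (if j ∈ T then (1 : R) else 0) :=
      fun j _ => mul_nonneg (rc_nonneg hk j) (h01 j)
    have hB : ∀ j ∈ (Finset.univ : Finset b.support),
        0 ≤ cc b k j * (if j ∈ T then (1 : R) else 0) :=
      fun j _ => mul_nonneg (cc_nonneg hk j) (h01 j)
    by_cases h0 : ∑ j : b.support, rc b k j * (if j ∈ T then (1 : R) else 0) = 0
    · have h0' : ∑ j : b.support, cc b k j * (if j ∈ T then (1 : R) else 0) = 0 :=
        (Finset.sum_eq_zero_iff_of_nonneg hB).mpr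
          (hz.mp ((Finset.sum_eq_zero_iff_of_nonneg hA).mp h0))
      rw [h0, h0']
    · have h0' : ∑ j : b.support, cc b k j * (if j ∈ T then (1 : R) else 0) ≠ 0 := fun h =>
        h0 ((Finset.sum_eq_zero_iff_of_nonneg hA).mpr
          (hz.mpr ((Finset.sum_eq_zero_iff_of_nonneg hB).mp h)))
      rw [sign_pos (lt_of_le_of_ne (Finset.sum_nonneg hA) (Ne.symm h0)),
        sign_pos (lt_of_le_of_ne (Finset.sum_nonneg hB) (Ne.symm h0'))]
  · have hA : ∀ j ∈ (Finset.univ : Finset b.support),
        rc b k j * (if j ∈ T then (1 : R) else 0) ≤ 0 :=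
      fun j _ => mul_nonpos_of_nonpos_of_nonneg (rc_nonpos hk j) (h01 j)
    have hB : ∀ j ∈ (Finset.univ : Finset b.support),
        cc b k j * (if j ∈ T then (1 : R) else 0) ≤ 0 :=
      fun j _ => mul_nonpos_of_nonpos_of_nonneg (cc_nonpos hk j) (h01 j)
    by_cases h0 : ∑ j : b.support, rc b k j * (if j ∈ T then (1 : R) else 0) = 0
    · have h0' : ∑ j : b.support, cc b k j * (if j ∈ T then (1 : R) else 0) = 0 :=
        (Finset.sum_eq_zero_iff_of_nonpos hB).mpr
          (hz.mp ((Finset.sum_eq_zero_iff_of_nonpos hA).mp h0))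
      rw [h0, h0']
    · have h0' : ∑ j : b.support, cc b k j * (if j ∈ T then (1 : R) else 0) ≠ 0 := fun h =>
        h0 ((Finset.sum_eq_zero_iff_of_nonpos hA).mpr
          (hz.mpr ((Finset.sum_eq_zero_iff_of_nonpos hB).mp h)))
      rw [sign_neg (lt_of_le_of_ne (Finset.sum_nonpos hA) h0),
        sign_neg (lt_of_le_of_ne (Finset.sum_nonpos hB) h0')]

/-- The dual facet, as a facet of the dual root system. -/
noncomputable def dualFacet (F : Facet P) : Facet P.flip where
  sgn := F.sgn
  exists_sgnVec_eq := by
    obtain ⟨b, hb⟩ := exists_mem_cham F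
    refine ⟨costdVec b (ftype F b), ?_⟩
    change cosgnVec P (costdVec b (ftype F b)) = F.sgn
    rw [cosgnVec_costdVec]
    exact stdVec_mem_carrier hb

theorem dualFacet_carrier (F : Facet P) : (dualFacet F).carrier = F.dualCarrier := rfl

theorem dualFacet_closure (F : Facet P) : (dualFacet F).closure = F.dualClosure := rfl

theorem dualFacet_corners (F : Facet P) : (dualFacet F).corners = F.dualCorners := rfl

theorem costdVec_mem_dualCarrier {F : Facet P} {b : P.Base} (hb : b ∈ F.cham) :
    costdVec b (ftype F b) ∈ F.dualCarrier := by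
  change cosgnVec P (costdVec b (ftype F b)) = F.sgn
  rw [cosgnVec_costdVec]
  exact stdVec_mem_carrier hb

theorem flip_mem_cham_dualFacet {F : Facet P} {b : P.Base} (hb : b ∈ F.cham) :
    b.flip ∈ (dualFacet F).cham :=
  mem_cham_iff.mpr ⟨costdVec b (ftype F b), costdVec_mem_dualCarrier hb,
    stdVec_mem_closedChamber (P := P.flip) b.flip _⟩

theorem ftype_dualFacet (F : Facet P) (b : P.Base) : ftype (dualFacet F) b.flip = ftype F b := rfl

/-- dual corners through an adjacent base -/
theorem dualCorners_eq {F : Facet P} {b : P.Base} (hb : b ∈ F.cham) :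
    F.dualCorners = fundCoweight b '' ftype F b := by
  rw [← dualFacet_corners, corners_eq (flip_mem_cham_dualFacet hb)]
  rfl

/-- description of the dual facet through an adjacent base -/
theorem mem_dualCarrier_iff {F : Facet P} {b : P.Base} (hb : b ∈ F.cham) {x : N} :
    x ∈ F.dualCarrier ↔ (∀ j : b.support, 0 ≤ P.root' j x) ∧
      {j : b.support | 0 < P.root' j x} = ftype F b := by
  rw [← dualFacet_carrier, mem_carrier_iff (flip_mem_cham_dualFacet hb), mem_closedChamber]
  rfl

theorem span_dualCarrier {F : Facet P} {b : P.Base} (hb : b ∈ F.cham) :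
    Submodule.span R F.dualCarrier = Submodule.span R (fundCoweight b '' ftype F b) := by
  rw [← dualFacet_carrier, span_carrier (flip_mem_cham_dualFacet hb)]
  rfl

/-- **Uniqueness of the corresponding coweight.** -/
theorem fundCoweight_eq_of_fundWeight_eq {b b' : P.Base} {i : b.support} {i' : b'.support}
    (h : fundWeight b i = fundWeight b' i') : fundCoweight b i = fundCoweight b' i' := by
  -- len i • ϖ̌_i = len i' • ϖ̌_{i'}
  have hk : ∀ k : ι, rc b k i * len P i = rc b' k i' * len P i' := by
    intro k
    rw [← cc_mul_len, ← cc_mul_len]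
    unfold cc
    rw [h]
  have hprop : len P (i : ι) • fundCoweight b i = len P (i' : ι) • fundCoweight b' i' := by
    apply ext_root' b
    intro k
    rw [map_smul, map_smul, smul_eq_mul, smul_eq_mul]
    have := hk k
    unfold rc at this
    linarith
  set c : R := len P (i' : ι) / len P (i : ι) with hc
  have hcpos : 0 < c := div_pos (len_pos _) (len_pos _)
  have hprop' : fundCoweight b i = c • fundCoweight b' i' := by
    have hl : len P (i : ι) ≠ 0 := (len_pos _).ne'
    rw [hc, div_eq_inv_mul, mul_smul, ← hprop, smul_smul, inv_mul_cancel₀ hl, one_smul]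
  -- integrality
  obtain ⟨z, hz⟩ := rc_int b (i' : ι) i
  obtain ⟨z', hz'⟩ := rc_int b' (i : ι) i'
  have h1 : c = z := by
    rw [← hz]; unfold rc
    rw [hprop', map_smul, smul_eq_mul, root'_fundCoweight_self, mul_one]
  have h2 : c * z' = 1 := by
    rw [← hz']; unfold rc
    have := root'_fundCoweight_self b i
    rw [hprop', map_smul, smul_eq_mul] at this
    exact this
  rw [h1] at h2 hcpos
  have h2' : z * z' = 1 := by exact_mod_cast h2
  have hzpos : 0 < z := by exact_mod_cast hcpos
  have hz1 : z = 1 := by
    rcases Int.eq_one_or_neg_one_of_mul_eq_one h2' with h | h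
    · exact h
    · omega
  rw [hprop', h1, hz1]; simp

theorem corr_fundWeight_iff (b : P.Base) (i : b.support) (y : N) :
    Corr P (fundWeight b i) y ↔ y = fundCoweight b i := by
  constructor
  · rintro ⟨b', i', h1, h2⟩
    rw [← h2]
    exact fundCoweight_eq_of_fundWeight_eq h1
  · rintro rfl
    exact ⟨b, i, rfl, rfl⟩

theorem corr_unique {w : M} {x x' : N} (h : Corr P w x) (h' : Corr P w x') : x = x' := by
  obtain ⟨b, i, rfl, rfl⟩ := h
  exact ((corr_fundWeight_iff b i x').mp h').symm

/-- **S14231** -/
theorem dualCorners_eq_corr (F : Facet P) :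
    F.dualCorners = {y : N | ∃ m ∈ F.corners, Corr P m y} := by
  obtain ⟨b, hb⟩ := exists_mem_cham F
  rw [dualCorners_eq hb, corners_eq hb]
  ext y
  constructor
  · rintro ⟨j, hj, rfl⟩
    exact ⟨fundWeight b j, ⟨j, hj, rfl⟩, b, j, rfl, rfl⟩
  · rintro ⟨_, ⟨j, hj, rfl⟩, hc⟩
    exact ⟨j, hj, ((corr_fundWeight_iff b j y).mp hc).symm⟩

end Groth.Agent.Lib.Helper31.RC
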