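import Mathlib
import Groth.Prelude.Def_RootCh2
import Groth.Agent.Lib.Helper31.RootChDual

/-!
# RootCh foundations VII: corners through the parabolic set.
-/

set_option autoImplicit false
set_option linter.unusedSectionVars false

open Module RootCh
open scoped Classical

namespace Groth.Agent.Lib.Helper31.RC

universe u v w x
variable {ι : Type u} {R : Type v} {M : Type w} {N : Type x}
  [Field R] [LinearOrder R] [IsStrictOrderedRing R]
  [AddCommGroup M] [Module R M] [AddCommGroup N] [Module R N] [Finite ι]
  {P : RootPairing ι R M N} [P.IsRootSystem] [P.IsCrystallographic] [P.IsReduced]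

theorem root'_neg (k : ι) (y : N) : P.root' (P.reflectionPerm k k) y = -P.root' k y := by
  change P.toLinearMap (P.root (P.reflectionPerm k k)) y = -P.toLinearMap (P.root k) y
  rw [root_neg, map_neg, LinearMap.neg_apply]

theorem coroot'_neg (k : ι) (ξ : M) : P.coroot' (P.reflectionPerm k k) ξ = -P.coroot' k ξ := by
  change P.toLinearMap ξ (P.coroot (P.reflectionPerm k k)) = -P.toLinearMap ξ (P.coroot k)
  rw [coroot_neg, map_neg]

/-- membership in the dual closure through the parabolic set -/
theorem mem_dualClosure_iff_parab (F : Facet P) (y : N) :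
    y ∈ F.dualClosure ↔ ∀ k ∈ F.parab, 0 ≤ P.root' k y := by
  constructor
  · intro hy k hk
    have hk' : F.sgn k ≠ -1 := hk
    rcases hy k with h | h
    · exact (sign_eq_zero_iff.mp h).ge
    · unfold cosgnVec at h
      by_contra hneg
      push Not at hneg
      rw [sign_neg hneg] at h
      exact hk' h.symm
  · intro h k
    unfold cosgnVec
    have hcases : F.sgn k = 0 ∨ F.sgn k = 1 ∨ F.sgn k = -1 := by
      cases F.sgn k <;> simp
    rcases hcases with h0 | h1 | hm
    · left
      have hk : k ∈ F.parab := by change F.sgn k ≠ -1; rw [h0]; decide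
      have hk' : P.reflectionPerm k k ∈ F.parab := by
        change F.sgn _ ≠ -1; rw [sgn_neg, h0]; decide
      have a := h k hk
      have b := h _ hk'
      rw [root'_neg] at b
      rw [sign_eq_zero_iff]
      linarith
    · have hk : k ∈ F.parab := by change F.sgn k ≠ -1; rw [h1]; decide
      have a := h k hk
      rcases a.eq_or_lt with e | e
      · left; rw [← e, sign_zero]
      · right; rw [sign_pos e, h1]
    · have hk' : P.reflectionPerm k k ∈ F.parab := by
        change F.sgn _ ≠ -1; rw [sgn_neg, hm]; decide
      have b := h _ hk'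
      rw [root'_neg] at b
      have b' : P.root' k y ≤ 0 := by linarith
      rcases b'.eq_or_lt with e | e
      · left; rw [e, sign_zero]
      · right; rw [sign_neg e, hm]

/-- **S14234** -/
theorem corners_eq_parab (F : Facet P) :
    F.corners = {m : M | m ∈ fundWeights P ∧
      ∀ y : N, Corr P m y → ∀ i ∈ F.parab, 0 ≤ P.root' i y} := by
  ext m
  constructor
  · rintro ⟨hm, hcl⟩
    refine ⟨hm, ?_⟩
    obtain ⟨b', i, rfl⟩ := hm
    intro y hy
    rw [(corr_fundWeight_iff b' i y).mp hy]
    exact (mem_dualClosure_iff_parab F _).mp ((fundWeight_mem_closure_iff F b' i).mp hcl)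
  · rintro ⟨hm, h⟩
    refine ⟨hm, ?_⟩
    obtain ⟨b', i, rfl⟩ := hm
    rw [fundWeight_mem_closure_iff, mem_dualClosure_iff_parab]
    exact h _ ⟨b', i, rfl, rfl⟩

end Groth.Agent.Lib.Helper31.RC
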