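import Mathlib
import Groth.Prelude.Def_RootCh2
import Groth.Agent.Lib.Helper31.RootChParab1

/-!
# RootCh foundations VIII: sums of roots over reflection-stable sets; 2ρ; the sum of the
parabolic set lies in the facet.
-/

set_option autoImplicit false
set_option linter.unusedSectionVars false

open Module RootCh
open scoped Classical

namespace Groth.Agent.Lib.Helper31.RC

universe u v w x
variable {ι : Type u} {R : Type v} {M : Type w} {N : Type x}
  [Field R] [LinearOrder R] [IsStrictOrderedRing R]
  [AddCommGroup M] [Module R M] [AddCommGroup N] [Module R N] [Finite ι]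
  {P : RootPairing ι R M N} [P.IsRootSystem] [P.IsCrystallographic] [P.IsReduced]

theorem pairing_simple_le_zero (b : P.Base) {j l : b.support} (h : j ≠ l) :
    P.pairing j l ≤ 0 := by
  have h1 : P.pairingIn ℤ (j : ι) (l : ι) ≤ 0 :=
    b.pairingIn_le_zero_of_ne (fun e => h (Subtype.ext e)) j.2 l.2
  rw [← P.algebraMap_pairingIn ℤ]
  simpa using (Int.cast_nonpos (R := R)).mpr h1

/-- the sum of the roots of a set stable under a reflection is orthogonal to the coroot -/
theorem coroot'_sum_eq_zero_of_invariant (S : Finset ι) (l : ι)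
    (h : ∀ k ∈ S, P.reflectionPerm l k ∈ S) : P.coroot' l (∑ k ∈ S, P.root k) = 0 := by
  have hinv : P.reflection l (∑ k ∈ S, P.root k) = ∑ k ∈ S, P.root k := by
    rw [map_sum]
    simp only [← P.root_reflectionPerm]
    refine Finset.sum_bij' (fun k _ => P.reflectionPerm l k) (fun k _ => P.reflectionPerm l k)
      h h ?_ ?_ ?_
    · intro k _; exact P.reflectionPerm_self l k
    · intro k _; exact P.reflectionPerm_self l k
    · intro k _; rfl
  rw [P.reflection_apply] at hinv
  have : P.coroot' l (∑ k ∈ S, P.root k) • P.root l = 0 := by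
    have := sub_eq_self.mp hinv
    exact this
  rcases smul_eq_zero.mp this with h0 | h0
  · exact h0
  · exact absurd h0 (P.ne_zero l)

theorem coroot'_root_self (l : ι) : P.coroot' l (P.root l) = 2 := by
  change P.toLinearMap (P.root l) (P.coroot l) = 2
  exact P.root_coroot_two l

theorem isPos_neg_iff (b : P.Base) (k : ι) : b.IsPos (P.reflectionPerm k k) ↔ ¬ b.IsPos k := by
  let _ := P.indexNeg
  exact RootPairing.Base.IsPos.neg_iff_not b k

/-- `⟨2ρ, α̌_l⟩ = 2` -/
theorem coroot'_two_rho (b : P.Base) (l : b.support) (S : Finset ι) (hS : ∀ k, k ∈ S ↔ b.IsPos k) :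
    P.coroot' l (∑ k ∈ S, P.root k) = 2 := by
  have hl : (l : ι) ∈ S := (hS l).mpr (RootPairing.Base.isPos_of_mem_support l.2)
  rw [← Finset.add_sum_erase S _ hl, map_add, coroot'_root_self]
  rw [coroot'_sum_eq_zero_of_invariant, add_zero]
  intro k hk
  rw [Finset.mem_erase] at hk ⊢
  have hkpos : b.IsPos k := (hS k).mp hk.2
  refine ⟨?_, (hS _).mpr (hkpos.reflectionPerm l.2 hk.1)⟩
  intro heq
  -- k = s_l l = -l, not positive
  have : k = P.reflectionPerm l l := by
    have := congrArg (P.reflectionPerm l) heq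
    rwa [P.reflectionPerm_self] at this
  rw [this, isPos_neg_iff] at hkpos
  exact hkpos (RootPairing.Base.isPos_of_mem_support l.2)

theorem pairing_eq_sum_rc (b : P.Base) (k : ι) (l : ι) :
    P.pairing k l = ∑ j : b.support, rc b k j * P.pairing j l := by
  have := root'_eq_sum b k (P.coroot l)
  exact this

variable (F : Facet P)

theorem sgn_eq_sign {ξ : M} (hξ : ξ ∈ F.carrier) (k : ι) :
    F.sgn k = SignType.sign (P.coroot' k ξ) := (congrFun hξ k).symm

/-- a root vanishing on a facet has no coefficient on the type of the facet -/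
theorem rc_eq_zero_of_sgn_eq_zero {b : P.Base} (hb : b ∈ F.cham) {k : ι} (hk : F.sgn k = 0)
    {j : b.support} (hj : j ∈ ftype F b) : rc b k j = 0 := by
  have hξ := stdVec_mem_carrier hb
  have h0 : P.coroot' k (stdVec b (ftype F b)) = 0 := by
    rw [sgn_eq_sign F hξ] at hk
    exact sign_eq_zero_iff.mp hk
  rw [coroot'_eq_zero_iff (stdVec_mem_closedChamber b _), J_stdVec] at h0
  exact (cc_eq_zero_iff b k j).mp (h0 j hj)

theorem isPos_of_sgn_eq_one {b : P.Base} (hb : b ∈ F.cham) {k : ι} (hk : F.sgn k = 1) :
    b.IsPos k := by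
  have hξ := stdVec_mem_carrier hb
  rw [sgn_eq_sign F hξ] at hk
  have hpos : 0 < P.coroot' k (stdVec b (ftype F b)) := sign_eq_one_iff.mp hk
  by_contra hneg
  exact absurd hpos (not_lt.mpr (coroot'_nonpos (stdVec_mem_closedChamber b _) hneg))

theorem sgn_nonneg_of_isPos {b : P.Base} (hb : b ∈ F.cham) {k : ι} (hk : b.IsPos k) :
    F.sgn k ≠ -1 := by
  have hξ := stdVec_mem_carrier hb
  rw [sgn_eq_sign F hξ]
  intro h
  have := sign_eq_neg_one_iff.mp h
  exact absurd this (not_lt.mpr (coroot'_nonneg (stdVec_mem_closedChamber b _) hk))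

theorem sgn_simple {b : P.Base} (hb : b ∈ F.cham) (l : b.support) :
    F.sgn l = if l ∈ ftype F b then 1 else 0 := by
  have hξ := stdVec_mem_carrier hb
  rw [sgn_eq_sign F hξ, coroot'_stdVec]
  split_ifs <;> simp

/-- a simple reflection outside the type preserves the sign vector -/
theorem sgn_reflectionPerm {l : ι} (hl : F.sgn l = 0) (k : ι) :
    F.sgn (P.reflectionPerm l k) = F.sgn k := by
  obtain ⟨ξ, hξ⟩ := F.exists_sgnVec_eq
  rw [sgn_eq_sign F hξ, sgn_eq_sign F hξ]
  have h0 : P.coroot' l ξ = 0 := by
    rw [sgn_eq_sign F hξ] at hl; exact sign_eq_zero_iff.mp hl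
  congr 1
  change P.toLinearMap ξ (P.coroot (P.reflectionPerm l k)) = P.toLinearMap ξ (P.coroot k)
  rw [P.coroot_reflectionPerm, P.coreflection_apply, map_sub, map_smul]
  change _ - _ • P.coroot' l ξ = _
  rw [h0, smul_zero, sub_zero]

/-- **S14237**: the sum of the roots of the parabolic set of a facet lies in the facet. -/
theorem sum_parab_mem_carrier :
    (∑ i ∈ (Set.toFinite F.parab).toFinset, P.root i) ∈ F.carrier := by
  obtain ⟨b, hb⟩ := exists_mem_cham F
  let _ : Fintype ι := Fintype.ofFinite ι
  set S := (Set.toFinite F.parab).toFinset with hS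
  have hSmem : ∀ k, k ∈ S ↔ F.sgn k ≠ -1 := fun k => Set.Finite.mem_toFinset _
  -- positive roots and the Levi negative roots
  set Spos : Finset ι := Finset.univ.filter (fun k => b.IsPos k) with hSpos
  set Sln : Finset ι := Finset.univ.filter (fun k => ¬ b.IsPos k ∧ F.sgn k = 0) with hSln
  set Slp : Finset ι := Finset.univ.filter (fun k => b.IsPos k ∧ F.sgn k = 0) with hSlp
  have hdisj : Disjoint Spos Sln := by
    rw [Finset.disjoint_left]
    intro k h1 h2
    simp only [hSpos, hSln, Finset.mem_filter, Finset.mem_univ, true_and] at h1 h2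
    exact h2.1 h1
  have hunion : S = Spos ∪ Sln := by
    ext k
    rw [hSmem, Finset.mem_union]
    simp only [hSpos, hSln, Finset.mem_filter, Finset.mem_univ, true_and]
    constructor
    · intro hk
      by_cases hp : b.IsPos k
      · exact Or.inl hp
      · right
        refine ⟨hp, ?_⟩
        -- -k positive, so sgn(-k) ≠ -1, so sgn k ≠ 1
        have hp' : b.IsPos (P.reflectionPerm k k) := (isPos_neg_iff b k).mpr hp
        have h1 := sgn_nonneg_of_isPos F hb hp'
        rw [sgn_neg] at h1
        have hcases : F.sgn k = 0 ∨ F.sgn k = 1 ∨ F.sgn k = -1 := by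
          cases F.sgn k <;> simp
        rcases hcases with h | h | h
        · exact h
        · rw [h] at h1; exact absurd rfl h1
        · exact absurd h hk
    · rintro (hp | ⟨_, h0⟩)
      · exact sgn_nonneg_of_isPos F hb hp
      · rw [h0]; decide
  -- the Levi negative sum is minus the Levi positive sum
  have hneg : ∑ k ∈ Sln, P.root k = -∑ k ∈ Slp, P.root k := by
    rw [← Finset.sum_neg_distrib]
    refine Finset.sum_bij' (fun k _ => P.reflectionPerm k k) (fun k _ => P.reflectionPerm k k)
      ?_ ?_ ?_ ?_ ?_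
    · intro k hk
      simp only [hSln, hSlp, Finset.mem_filter, Finset.mem_univ, true_and] at hk ⊢
      refine ⟨(isPos_neg_iff b k).mpr hk.1, ?_⟩
      rw [sgn_neg, hk.2]; rfl
    · intro k hk
      simp only [hSln, hSlp, Finset.mem_filter, Finset.mem_univ, true_and] at hk ⊢
      refine ⟨?_, ?_⟩
      · rw [isPos_neg_iff]; exact not_not.mpr hk.1
      · rw [sgn_neg, hk.2]; rfl
    · intro k _
      let _ := P.indexNeg
      exact neg_neg k
    · intro k _
      let _ := P.indexNeg
      exact neg_neg k
    · intro k _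
      rw [root_neg, neg_neg]
  have hv : ∑ i ∈ S, P.root i = ∑ k ∈ Spos, P.root k - ∑ k ∈ Slp, P.root k := by
    rw [hunion, Finset.sum_union hdisj, hneg, sub_eq_add_neg]
  rw [mem_carrier_iff hb]
  -- compute pairings with simple coroots
  have hpair : ∀ l : b.support, l ∉ ftype F b → P.coroot' l (∑ i ∈ S, P.root i) = 0 := by
    intro l hl
    have hl0 : F.sgn l = 0 := by rw [sgn_simple F hb l, if_neg hl]
    apply coroot'_sum_eq_zero_of_invariant
    intro k hk
    rw [hSmem] at hk ⊢
    rwa [sgn_reflectionPerm F hl0]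
  have hpair' : ∀ l : b.support, l ∈ ftype F b → 2 ≤ P.coroot' l (∑ i ∈ S, P.root i) := by
    intro l hl
    rw [hv, map_sub, coroot'_two_rho b l Spos (by intro k; simp [hSpos])]
    have : P.coroot' l (∑ k ∈ Slp, P.root k) ≤ 0 := by
      rw [map_sum]
      apply Finset.sum_nonpos
      intro k hk
      simp only [hSlp, Finset.mem_filter, Finset.mem_univ, true_and] at hk
      change P.toLinearMap (P.root k) (P.coroot l) ≤ 0
      rw [P.root_coroot_eq_pairing, pairing_eq_sum_rc b]
      apply Finset.sum_nonpos
      intro j _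
      by_cases hj : j ∈ ftype F b
      · rw [rc_eq_zero_of_sgn_eq_zero F hb hk.2 hj, zero_mul]
      · have hjl : j ≠ l := fun e => hj (e ▸ hl)
        exact mul_nonpos_of_nonneg_of_nonpos (rc_nonneg hk.1 j) (pairing_simple_le_zero b hjl)
    linarith
  constructor
  · rw [mem_closedChamber]
    intro l
    by_cases hl : l ∈ ftype F b
    · have := hpair' l hl; linarith
    · rw [hpair l hl]
  · ext l
    rw [mem_J]
    constructor
    · intro h
      by_contra hl
      rw [hpair l hl] at h
      exact lt_irrefl _ h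
    · intro hl
      have := hpair' l hl; linarith

end Groth.Agent.Lib.Helper31.RC
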