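import Mathlib
import Groth.Prelude.Def_RootCh2
import Groth.Agent.Lib.Helper31.RootChSum

/-!
# RootCh foundations IX: the elementary sets of roots Ψ(F, m).
-/

set_option autoImplicit false
set_option linter.unusedSectionVars false

open Module RootCh
open scoped Classical

namespace Groth.Agent.Lib.Helper31.RC

universe u v w x
variable {ι : Type u} {R : Type v} {M : Type w} {N : Type x}
  [Field R] [LinearOrder R] [IsStrictOrderedRing R]
  [AddCommGroup M] [Module R M] [AddCommGroup N] [Module R N] [Finite ι]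
  {P : RootPairing ι R M N} [P.IsRootSystem] [P.IsCrystallographic] [P.IsReduced]

theorem mem_span_fundWeight_of_forall (b : P.Base) (T : Set b.support) (v : M)
    (h : ∀ l : b.support, l ∉ T → P.coroot' l v = 0) :
    v ∈ Submodule.span R (fundWeight b '' T) := by
  rw [eq_sum_fundWeight b v]
  refine Submodule.sum_mem _ fun j _ => ?_
  by_cases hj : j ∈ T
  · exact Submodule.smul_mem _ _ (Submodule.subset_span ⟨j, hj, rfl⟩)
  · rw [h j hj, zero_smul]; exact Submodule.zero_mem _

theorem rc_reflectionPerm (b : P.Base) (l k : ι) (j : b.support) :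
    rc b (P.reflectionPerm l k) j = rc b k j - P.pairing k l * rc b l j := by
  unfold rc
  change P.toLinearMap (P.root (P.reflectionPerm l k)) _ = P.toLinearMap (P.root k) _ -
    _ * P.toLinearMap (P.root l) _
  rw [P.root_reflectionPerm, P.reflection_apply_root, map_sub, map_smul, LinearMap.sub_apply,
    LinearMap.smul_apply, smul_eq_mul]

theorem mem_Psi_iff {F : Facet P} {b : P.Base} (hb : b ∈ F.cham) {j₀ : b.support}
    (k : ι) :
    k ∈ F.Psi (fundWeight b j₀) ↔
      rc b k j₀ = 1 ∧ ∀ j ∈ ftype F b, j ≠ j₀ → rc b k j = 0 := by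
  unfold Facet.Psi
  rw [Set.mem_ofPred_eq, corners_eq hb]
  constructor
  · rintro ⟨h1, h2⟩
    refine ⟨h1 _ ⟨b, j₀, rfl, rfl⟩, ?_⟩
    intro j hj hne
    exact h2 _ ⟨j, hj, rfl⟩ (fun e => hne (fundWeight_injective b e)) _ ⟨b, j, rfl, rfl⟩
  · rintro ⟨h1, h2⟩
    refine ⟨?_, ?_⟩
    · intro x hx
      rw [(corr_fundWeight_iff b j₀ x).mp hx]
      exact h1
    · rintro _ ⟨j, hj, rfl⟩ hne x hx
      rw [(corr_fundWeight_iff b j x).mp hx]
      exact h2 j hj (fun e => hne (e ▸ rfl))

/-- **S14242** -/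
theorem sum_Psi_mem_span (F : Facet P) (m : M) (hm : m ∈ F.corners) :
    (∑ i ∈ (Set.toFinite (F.Psi m)).toFinset, P.root i) ∈ Submodule.span R F.corners := by
  obtain ⟨b, hb⟩ := exists_mem_cham F
  rw [corners_eq hb] at hm ⊢
  obtain ⟨j₀, hj₀, rfl⟩ := hm
  apply mem_span_fundWeight_of_forall
  intro l hl
  apply coroot'_sum_eq_zero_of_invariant
  intro k hk
  rw [Set.Finite.mem_toFinset] at hk ⊢
  rw [mem_Psi_iff hb] at hk ⊢
  have hlj₀ : l ≠ j₀ := fun e => hl (e ▸ hj₀)
  refine ⟨?_, ?_⟩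
  · rw [rc_reflectionPerm, rc_simple, if_neg hlj₀, mul_zero, sub_zero]
    exact hk.1
  · intro j hj hne
    have hlj : l ≠ j := fun e => hl (e ▸ hj)
    rw [rc_reflectionPerm, rc_simple, if_neg hlj, mul_zero, sub_zero]
    exact hk.2 j hj hne

end Groth.Agent.Lib.Helper31.RC
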