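import Mathlib
import Groth.Prelude.Def_RootCh2
import Groth.Agent.Lib.Helper31.RootChPsi

/-!
# RootCh CCS I: independence of degree and numerical invariants from the adjacent chamber.
-/

set_option autoImplicit false
set_option linter.unusedSectionVars false

open Module RootCh
open scoped Classical

namespace Groth.Agent.Lib.Helper31.RC

universe u v w x
variable {ι : Type u} {R : Type v} {M : Type w} {N : Type x}
  [Field R] [LinearOrder R] [IsStrictOrderedRing R]
  [AddCommGroup M] [Module R M] [AddCommGroup N] [Module R N] [Finite ι]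
  {P : RootPairing ι R M N} [P.IsRootSystem] [P.IsCrystallographic] [P.IsReduced]

theorem corners_subset_baseCorners {F : Facet P} {b : P.Base} (hb : b ∈ F.cham) :
    F.corners ⊆ baseCorners b :=
  fun _ hw => ⟨hw.1, closure_subset_closedChamber hb hw.2⟩

theorem pair_eq_of_mem_span_corners {d : P.Base → N} (hd : IsCCS d) {F : Facet P}
    {b b' : P.Base} (hb : b ∈ F.cham) (hb' : b' ∈ F.cham) {v : M}
    (hv : v ∈ Submodule.span R F.corners) :
    P.toLinearMap v (d b) = P.toLinearMap v (d b') := by
  have key : ∀ w ∈ F.corners, P.toLinearMap.flip (d b - d b') w = 0 := by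
    intro w hw
    rw [LinearMap.flip_apply, map_sub, sub_eq_zero]
    exact hd.corner_eq b b' w (corners_subset_baseCorners hb hw) (corners_subset_baseCorners hb' hw)
  have : P.toLinearMap.flip (d b - d b') v = 0 := by
    refine Submodule.span_induction (p := fun v _ => P.toLinearMap.flip (d b - d b') v = 0)
      key (map_zero _) ?_ ?_ hv
    · intro x y _ _ hx hy; rw [map_add, hx, hy, add_zero]
    · intro a x _ hx; rw [map_smul, hx, smul_zero]
  rw [LinearMap.flip_apply, map_sub, sub_eq_zero] at this
  exact this

theorem deg_eq_pair (d : P.Base → N) (F : Facet P) (b : P.Base) :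
    F.deg d b = P.toLinearMap (∑ i ∈ (Set.toFinite F.parab).toFinset, P.root i) (d b) := by
  unfold Facet.deg
  rw [map_sum, LinearMap.sum_apply]

theorem numInv_eq_pair (d : P.Base → N) (F : Facet P) (m : M) (b : P.Base) :
    F.numInv d m b = P.toLinearMap (∑ i ∈ (Set.toFinite (F.Psi m)).toFinset, P.root i) (d b) := by
  unfold Facet.numInv
  rw [map_sum, LinearMap.sum_apply]

theorem carrier_subset_span_corners (F : Facet P) :
    F.carrier ⊆ Submodule.span R F.corners := by
  obtain ⟨b, hb⟩ := exists_mem_cham F
  intro ξ hξ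
  have : ξ ∈ Submodule.span R F.carrier := Submodule.subset_span hξ
  rwa [span_carrier hb, ← corners_eq hb] at this

/-- **S14249** -/
theorem deg_indep {d : P.Base → N} (hd : IsCCS d) (F : Facet P) {b b' : P.Base}
    (hb : b ∈ F.cham) (hb' : b' ∈ F.cham) : F.deg d b = F.deg d b' := by
  rw [deg_eq_pair, deg_eq_pair]
  exact pair_eq_of_mem_span_corners hd hb hb'
    (carrier_subset_span_corners F (sum_parab_mem_carrier F))

/-- **S14250** -/
theorem numInv_indep {d : P.Base → N} (hd : IsCCS d) (F : Facet P) {m : M} (hm : m ∈ F.corners)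
    {b b' : P.Base} (hb : b ∈ F.cham) (hb' : b' ∈ F.cham) : F.numInv d m b = F.numInv d m b' := by
  rw [numInv_eq_pair, numInv_eq_pair]
  exact pair_eq_of_mem_span_corners hd hb hb' (sum_Psi_mem_span F m hm)

end Groth.Agent.Lib.Helper31.RC
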