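import Mathlib
import Groth.Prelude.Def_RootCh2
import Groth.Agent.Lib.Helper31.RootChCCS1

/-!
# RootCh CCS II: the point y(F); special facets versus numerical invariants.
-/

set_option autoImplicit false
set_option linter.unusedSectionVars false

open Module RootCh
open scoped Classical

namespace Groth.Agent.Lib.Helper31.RC

universe u v w x
variable {ι : Type u} {R : Type v} {M : Type w} {N : Type x}
  [Field R] [LinearOrder R] [IsStrictOrderedRing R]
  [AddCommGroup M] [Module R M] [AddCommGroup N] [Module R N] [Finite ι]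
  {P : RootPairing ι R M N} [P.IsRootSystem] [P.IsCrystallographic] [P.IsReduced]

variable (P) in
/-- the invariant form on `N` -/
noncomputable def coform : LinearMap.BilinForm R N := form P.flip

variable (P) in
/-- squared length of a coroot -/
noncomputable def colen (k : ι) : R := len P.flip k

theorem colen_pos (k : ι) : 0 < colen P k := len_pos (P := P.flip) k

theorem coform_symm (x y : N) : coform P x y = coform P y x := form_symm (P := P.flip) x y

theorem coform_pos {x : N} (hx : x ≠ 0) : 0 < coform P x x := form_pos (P := P.flip) hx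

theorem root'_mul_colen (k : ι) (x : N) : P.root' k x * colen P k = 2 * coform P (P.coroot k) x :=
  coroot'_mul_len (P := P.flip) k x

/-- the pairing with a fundamental weight is the form against the fundamental coweight -/
theorem pair_fundWeight_mul_colen (b : P.Base) (j : b.support) (x : N) :
    P.toLinearMap (fundWeight b j) x * colen P j = 2 * coform P (fundCoweight b j) x := by
  have key : (colen P (j : ι)) • P.toLinearMap (fundWeight b j) =
      (2 : R) • coform P (fundCoweight b j) := by
    apply b.toCoweightBasis.ext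
    intro l
    rw [b.toCoweightBasis_apply, LinearMap.smul_apply, LinearMap.smul_apply, smul_eq_mul,
      smul_eq_mul, coform_symm, ← root'_mul_colen]
    have h1 : P.toLinearMap (fundWeight b j) (P.coroot l) = if l = j then 1 else 0 :=
      coroot'_fundWeight b j l
    rw [h1, root'_fundCoweight]
    split_ifs with h
    · subst h; ring
    · ring
  have := congrArg (fun f => f x) key
  simp only [LinearMap.smul_apply, smul_eq_mul] at this
  linarith

theorem eq_zero_of_mem_span_of_pair_eq_zero (b : P.Base) (T : Set b.support) {z : N}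
    (hz : z ∈ Submodule.span R (fundCoweight b '' T))
    (h0 : ∀ j ∈ T, P.toLinearMap (fundWeight b j) z = 0) : z = 0 := by
  by_contra hne
  have hpos := coform_pos (P := P) hne
  have hB : ∀ j ∈ T, coform P (fundCoweight b j) z = 0 := by
    intro j hj
    have := pair_fundWeight_mul_colen b j z
    rw [h0 j hj, zero_mul] at this
    linarith
  have : coform P z z = 0 := by
    have key : ∀ y ∈ Submodule.span R (fundCoweight b '' T), coform P y z = 0 := by
      intro y hy
      refine Submodule.span_induction (p := fun y _ => coform P y z = 0) ?_ ?_ ?_ ?_ hy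
      · rintro _ ⟨j, hj, rfl⟩; exact hB j hj
      · simp
      · intro x y _ _ hx hy; rw [map_add, LinearMap.add_apply, hx, hy, add_zero]
      · intro a x _ hx; rw [map_smul, LinearMap.smul_apply, hx, smul_zero]
    exact key z hz
  rw [this] at hpos
  exact lt_irrefl _ hpos

variable {d : P.Base → N}

theorem convex_hyper (d : P.Base → N) (w : M) : Convex R (hyper d w) := by
  have : hyper d w = ⋂ b : P.Base, ⋂ _ : w ∈ baseCorners b,
      {x | P.toLinearMap w x = P.toLinearMap w (d b)} := by
    ext x; simp [hyper]
  rw [this]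
  refine convex_iInter fun b => convex_iInter fun _ => ?_
  exact convex_hyperplane (P.toLinearMap w).isLinear _

theorem dualSolid_subset_hyper (hd : IsCCS d) (F : Facet P) {w : M} (hw : w ∈ F.corners) :
    dualSolid d F ⊆ hyper d w := by
  apply convexHull_min _ (convex_hyper d w)
  rintro _ ⟨b₀, hb₀, rfl⟩ b hb
  exact hd.corner_eq b₀ b w (corners_subset_baseCorners hb₀ hw) hb

theorem yLocus_subsingleton (F : Facet P) {y y' : N} (hy : y ∈ yLocus d F) (hy' : y' ∈ yLocus d F) :
    y = y' := by
  obtain ⟨b, hb⟩ := exists_mem_cham F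
  have hz : y - y' ∈ Submodule.span R (fundCoweight b '' ftype F b) := by
    rw [← span_dualCarrier hb]
    exact Submodule.sub_mem _ hy.2 hy'.2
  have h0 : ∀ j ∈ ftype F b, P.toLinearMap (fundWeight b j) (y - y') = 0 := by
    intro j hj
    have hw : fundWeight b j ∈ F.corners := by rw [corners_eq hb]; exact ⟨j, hj, rfl⟩
    have hbc : fundWeight b j ∈ baseCorners b := corners_subset_baseCorners hb hw
    have h1 := Set.mem_iInter₂.mp hy.1 _ hw b hbc
    have h2 := Set.mem_iInter₂.mp hy'.1 _ hw b hbc
    rw [map_sub, h1, h2, sub_self]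
  exact sub_eq_zero.mp (eq_zero_of_mem_span_of_pair_eq_zero b _ hz h0)

theorem dualSolid_inter_span_subset_yLocus (hd : IsCCS d) (F : Facet P) :
    dualSolid d F ∩ (Submodule.span R F.dualCarrier : Set N) ⊆ yLocus d F := by
  rintro y ⟨hy1, hy2⟩
  refine ⟨Set.mem_iInter₂.mpr fun w hw => dualSolid_subset_hyper hd F hw hy1, hy2⟩

/-- **S14251** -/
theorem yLocus_eq_of_special (hd : IsCCS d) (F : Facet P) (hF : IsSpecial d F) :
    ∃ y₀ : N, yLocus d F = {y₀} ∧ F.dualCarrier ∩ dualSolid d F = {y₀} := by
  obtain ⟨y₀, hy1, hy2⟩ := hF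
  have hy0 : y₀ ∈ yLocus d F :=
    dualSolid_inter_span_subset_yLocus hd F ⟨hy2, Submodule.subset_span hy1⟩
  refine ⟨y₀, ?_, ?_⟩
  · ext y
    constructor
    · intro hy; exact yLocus_subsingleton F hy hy0
    · rintro rfl; exact hy0
  · ext y
    constructor
    · rintro ⟨h1, h2⟩
      exact yLocus_subsingleton F
        (dualSolid_inter_span_subset_yLocus hd F ⟨h2, Submodule.subset_span h1⟩) hy0
    · rintro rfl; exact ⟨hy1, hy2⟩

/-- numerical invariant computed at a point of the yLocus -/
theorem numInv_eq_card_mul {F : Facet P} {b : P.Base} (hb : b ∈ F.cham)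
    {j₀ : b.support} (hj₀ : j₀ ∈ ftype F b) {y : N} (hy : y ∈ yLocus d F) :
    F.numInv d (fundWeight b j₀) b =
      ((Set.toFinite (F.Psi (fundWeight b j₀))).toFinset.card : R) * P.root' j₀ y := by
  have hm : fundWeight b j₀ ∈ F.corners := by rw [corners_eq hb]; exact ⟨j₀, hj₀, rfl⟩
  -- replace d b by y
  have h1 : F.numInv d (fundWeight b j₀) b =
      P.toLinearMap (∑ i ∈ (Set.toFinite (F.Psi (fundWeight b j₀))).toFinset, P.root i) y := by
    rw [numInv_eq_pair]
    have hv := sum_Psi_mem_span F _ hm
    have key : ∀ w ∈ F.corners, P.toLinearMap.flip (d b - y) w = 0 := by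
      intro w hw
      rw [LinearMap.flip_apply, map_sub, sub_eq_zero]
      exact (Set.mem_iInter₂.mp hy.1 w hw b (corners_subset_baseCorners hb hw)).symm
    have : P.toLinearMap.flip (d b - y)
        (∑ i ∈ (Set.toFinite (F.Psi (fundWeight b j₀))).toFinset, P.root i) = 0 := by
      refine Submodule.span_induction (p := fun v _ => P.toLinearMap.flip (d b - y) v = 0)
        key (map_zero _) ?_ ?_ hv
      · intro x y _ _ hx hy; rw [map_add, hx, hy, add_zero]
      · intro a x _ hx; rw [map_smul, hx, smul_zero]
    rw [LinearMap.flip_apply, map_sub, sub_eq_zero] at this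
    exact this
  rw [h1, map_sum, LinearMap.sum_apply]
  -- y vanishes against simple roots outside the type
  have hy0 : ∀ l : b.support, l ∉ ftype F b → P.root' l y = 0 := by
    intro l hl
    have hz := hy.2
    rw [span_dualCarrier hb] at hz
    refine Submodule.span_induction (p := fun y _ => P.root' l y = 0) ?_ (map_zero _) ?_ ?_ hz
    · rintro _ ⟨j, hj, rfl⟩
      exact root'_fundCoweight_of_ne b j l (fun e => hl (e ▸ hj))
    · intro x y _ _ hx hy; rw [map_add, hx, hy, add_zero]
    · intro a x _ hx; rw [map_smul, hx, smul_zero]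
  have hterm : ∀ k ∈ (Set.toFinite (F.Psi (fundWeight b j₀))).toFinset,
      P.toLinearMap (P.root k) y = P.root' j₀ y := by
    intro k hk
    rw [Set.Finite.mem_toFinset, mem_Psi_iff hb] at hk
    change P.root' k y = _
    rw [root'_eq_sum b k y, Finset.sum_eq_single j₀]
    · rw [hk.1, one_mul]
    · intro l _ hl
      by_cases hlT : l ∈ ftype F b
      · rw [hk.2 l hlT hl, zero_mul]
      · rw [hy0 l hlT, mul_zero]
    · intro h; exact absurd (Finset.mem_univ _) h
  rw [Finset.sum_congr rfl hterm, Finset.sum_const, nsmul_eq_mul]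

theorem simple_mem_Psi {F : Facet P} {b : P.Base} (hb : b ∈ F.cham) (j₀ : b.support) :
    (j₀ : ι) ∈ F.Psi (fundWeight b j₀) := by
  rw [mem_Psi_iff hb]
  refine ⟨by rw [rc_simple, if_pos rfl], fun j _ hne => by rw [rc_simple, if_neg (Ne.symm hne)]⟩

/-- **S14243** -/
theorem special_iff_numInv (hd : IsCCS d) (F : Facet P) :
    ((∀ m ∈ F.corners, ∀ b ∈ F.cham, 0 < F.numInv d m b) ∧
        (dualSolid d F ∩ (Submodule.span R F.dualCarrier : Set N)).Nonempty) ↔
      IsSpecial d F := by
  constructor
  · rintro ⟨h1, y, hy⟩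
    obtain ⟨b, hb⟩ := exists_mem_cham F
    have hyL : y ∈ yLocus d F := dualSolid_inter_span_subset_yLocus hd F hy
    refine ⟨y, ?_, hy.1⟩
    rw [mem_dualCarrier_iff hb]
    have hpos : ∀ j ∈ ftype F b, 0 < P.root' j y := by
      intro j hj
      have hm : fundWeight b j ∈ F.corners := by rw [corners_eq hb]; exact ⟨j, hj, rfl⟩
      have := h1 _ hm b hb
      rw [numInv_eq_card_mul hb hj hyL] at this
      have hc : (0 : R) ≤ ((Set.toFinite (F.Psi (fundWeight b j))).toFinset.card : R) :=
        Nat.cast_nonneg _
      exact pos_of_mul_pos_left (by rwa [mul_comm] at this) hc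
    have hzero : ∀ l : b.support, l ∉ ftype F b → P.root' l y = 0 := by
      intro l hl
      have hz := hy.2
      rw [SetLike.mem_coe, span_dualCarrier hb] at hz
      refine Submodule.span_induction (p := fun y _ => P.root' l y = 0) ?_ (map_zero _) ?_ ?_ hz
      · rintro _ ⟨j, hj, rfl⟩
        exact root'_fundCoweight_of_ne b j l (fun e => hl (e ▸ hj))
      · intro x y _ _ hx hy; rw [map_add, hx, hy, add_zero]
      · intro a x _ hx; rw [map_smul, hx, smul_zero]
    constructor
    · intro j
      by_cases hj : j ∈ ftype F b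
      · exact (hpos j hj).le
      · rw [hzero j hj]
    · ext j
      constructor
      · intro h
        by_contra hj
        rw [Set.mem_ofPred_eq, hzero j hj] at h
        exact lt_irrefl _ h
      · intro hj; exact hpos j hj
  · rintro ⟨y, hy1, hy2⟩
    have hyL : y ∈ yLocus d F :=
      dualSolid_inter_span_subset_yLocus hd F ⟨hy2, Submodule.subset_span hy1⟩
    refine ⟨?_, y, hy2, Submodule.subset_span hy1⟩
    intro m hm b hb
    rw [corners_eq hb] at hm
    obtain ⟨j, hj, rfl⟩ := hm
    rw [numInv_eq_card_mul hb hj hyL]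
    have hpos : 0 < P.root' j y := by
      have := ((mem_dualCarrier_iff hb).mp hy1).2
      have hj' : j ∈ {j : b.support | 0 < P.root' j y} := by rw [this]; exact hj
      exact hj'
    have hcard : 0 < (Set.toFinite (F.Psi (fundWeight b j))).toFinset.card :=
      Finset.card_pos.mpr ⟨j, (Set.Finite.mem_toFinset _).mpr (simple_mem_Psi hb j)⟩
    exact mul_pos (Nat.cast_pos.mpr hcard) hpos

end Groth.Agent.Lib.Helper31.RC
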