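import Mathlib
import Groth.Prelude.Def_RootCh2
import Groth.Agent.Lib.Helper31.RootChCCS2

/-!
# RootCh foundations X: the reflection of a base in a root.
-/

set_option autoImplicit false
set_option linter.unusedSectionVars false

open Module RootCh
open scoped Classical

namespace Groth.Agent.Lib.Helper31.RC

universe u v w x
variable {ι : Type u} {R : Type v} {M : Type w} {N : Type x}
  [Field R] [LinearOrder R] [IsStrictOrderedRing R]
  [AddCommGroup M] [Module R M] [AddCommGroup N] [Module R N] [Finite ι]
  {P : RootPairing ι R M N} [P.IsRootSystem] [P.IsCrystallographic] [P.IsReduced]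

theorem root_comp_reflectionPerm (i : ι) :
    P.root ∘ P.reflectionPerm i = P.reflection i ∘ P.root := by
  funext k
  simp

theorem reflBase_hli (b : P.Base) (i : ι) :
    LinearIndepOn R P.root (P.reflectionPerm i '' (b.support : Set ι)) := by
  apply LinearIndepOn.image_of_comp
  rw [root_comp_reflectionPerm]
  exact b.linearIndepOn_root.map_injOn (P.reflection i : M →ₗ[R] M)
    ((P.reflection i).injective.injOn)

theorem reflBase_hsp (b : P.Base) (i : ι) (k : ι) :
    P.root k ∈ AddSubmonoid.closure (P.root '' (P.reflectionPerm i '' (b.support : Set ι))) ∨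
    -P.root k ∈ AddSubmonoid.closure (P.root '' (P.reflectionPerm i '' (b.support : Set ι))) := by
  have himg : P.root '' (P.reflectionPerm i '' (b.support : Set ι)) =
      (P.reflection i : M →+ M) '' (P.root '' (b.support : Set ι)) := by
    rw [← Set.image_comp, ← Set.image_comp]
    congr 1
    exact root_comp_reflectionPerm i
  have hmap : ∀ x ∈ AddSubmonoid.closure (P.root '' (b.support : Set ι)),
      P.reflection i x ∈
        AddSubmonoid.closure (P.root '' (P.reflectionPerm i '' (b.support : Set ι))) := by
    intro x hx
    rw [himg, ← AddMonoidHom.map_mclosure]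
    exact AddSubmonoid.mem_map_of_mem _ hx
  have hk : P.reflection i (P.root (P.reflectionPerm i k)) = P.root k := by
    rw [← P.root_reflectionPerm, P.reflectionPerm_self]
  rcases b.root_mem_or_neg_mem (P.reflectionPerm i k) with h | h
  · left
    have := hmap _ h
    rwa [hk] at this
  · right
    have := hmap _ h
    rwa [map_neg, hk] at this

/-- the reflection of a base in a root -/
noncomputable def reflBase (b : P.Base) (i : ι) : P.Base :=
  RootPairing.Base.mk' P (P.reflectionPerm i '' (b.support : Set ι)) (reflBase_hli b i)
    (reflBase_hsp b i)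

theorem mem_reflBase_support (b : P.Base) (i k : ι) :
    k ∈ (reflBase b i).support ↔ P.reflectionPerm i k ∈ b.support := by
  unfold reflBase RootPairing.Base.mk'
  simp only [Set.Finite.mem_toFinset, Set.mem_image, Finset.mem_coe]
  constructor
  · rintro ⟨j, hj, rfl⟩
    rwa [P.reflectionPerm_self]
  · intro h
    exact ⟨_, h, P.reflectionPerm_self i k⟩

theorem reflectionPerm_mem_reflBase_support (b : P.Base) (i : ι) {j : ι} (hj : j ∈ b.support) :
    P.reflectionPerm i j ∈ (reflBase b i).support := by
  rw [mem_reflBase_support, P.reflectionPerm_self]; exact hj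

/-- the equivalence between the supports -/
noncomputable def reflEquiv (b : P.Base) (i : ι) : b.support ≃ (reflBase b i).support where
  toFun j := ⟨P.reflectionPerm i j, reflectionPerm_mem_reflBase_support b i j.2⟩
  invFun j := ⟨P.reflectionPerm i j, (mem_reflBase_support b i j).mp j.2⟩
  left_inv j := Subtype.ext (P.reflectionPerm_self i j)
  right_inv j := Subtype.ext (P.reflectionPerm_self i j)

theorem coroot'_reflection_apply (i l : ι) (y : M) :
    P.coroot' l (P.reflection i y) = P.coroot' (P.reflectionPerm i l) y :=
  P.coroot'_reflection y

/-- the fundamental weights of the reflected base -/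
theorem fundWeight_reflBase (b : P.Base) (i : ι) (j : b.support) :
    fundWeight (reflBase b i) (reflEquiv b i j) = P.reflection i (fundWeight b j) := by
  apply ext_coroot' (reflBase b i)
  intro l
  rw [coroot'_fundWeight, coroot'_reflection_apply]
  have hl : P.reflectionPerm i l ∈ b.support := (mem_reflBase_support b i l).mp l.2
  have := coroot'_fundWeight b j ⟨_, hl⟩
  rw [this]
  have e : (l = reflEquiv b i j) ↔ ((⟨_, hl⟩ : b.support) = j) := by
    constructor
    · intro h
      apply Subtype.ext
      have := congrArg (fun t : (reflBase b i).support => P.reflectionPerm i t) h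
      simp only [reflEquiv, Equiv.coe_fn_mk, P.reflectionPerm_self] at this
      exact this
    · intro h
      apply Subtype.ext
      have := congrArg (fun t : b.support => P.reflectionPerm i t) h
      simp only [P.reflectionPerm_self] at this
      exact this
  simp only [e]

theorem fundWeight_reflBase_of_ne (b : P.Base) (i : b.support) (j : b.support) (hj : j ≠ i) :
    fundWeight (reflBase b i) (reflEquiv b i j) = fundWeight b j := by
  rw [fundWeight_reflBase, P.reflection_apply, coroot'_fundWeight_of_ne b j i (Ne.symm hj),
    zero_smul, sub_zero]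

theorem fundWeight_reflBase_self (b : P.Base) (i : b.support) :
    fundWeight (reflBase b i) (reflEquiv b i i) = fundWeight b i - P.root i := by
  rw [fundWeight_reflBase, P.reflection_apply, coroot'_fundWeight_self, one_smul]

/-- positivity for the reflected base -/
theorem reflBase_isPos_iff (b : P.Base) (i k : ι) :
    (reflBase b i).IsPos k ↔ b.IsPos (P.reflectionPerm i k) := by
  obtain ⟨f, hf₀, -, hf₂⟩ := b.exists_root_eq_sum_int (P.reflectionPerm i k)
  -- expansion of root k in the reflected base
  have hk : P.root k = ∑ j ∈ (reflBase b i).support, f (P.reflectionPerm i j) • P.root j := by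
    have h1 : P.root k = P.reflection i (P.root (P.reflectionPerm i k)) := by
      rw [← P.root_reflectionPerm, P.reflectionPerm_self]
    rw [h1, hf₂, map_sum]
    simp only [map_zsmul, ← P.root_reflectionPerm]
    refine Finset.sum_bij' (fun j _ => P.reflectionPerm i j) (fun j _ => P.reflectionPerm i j)
      ?_ ?_ ?_ ?_ ?_
    · intro j hj; exact reflectionPerm_mem_reflBase_support b i hj
    · intro j hj; exact (mem_reflBase_support b i j).mp hj
    · intro j _; exact P.reflectionPerm_self i j
    · intro j _; exact P.reflectionPerm_self i j
    · intro j _; rw [P.reflectionPerm_self]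
  rw [RootPairing.Base.isPos_iff, RootPairing.Base.isPos_iff,
    RootPairing.Base.height_eq_sum hk, RootPairing.Base.height_eq_sum hf₂]
  have : ∑ j ∈ (reflBase b i).support, f (P.reflectionPerm i j) = ∑ j ∈ b.support, f j := by
    refine Finset.sum_bij' (fun j _ => P.reflectionPerm i j) (fun j _ => P.reflectionPerm i j)
      ?_ ?_ ?_ ?_ ?_
    · intro j hj; exact (mem_reflBase_support b i j).mp hj
    · intro j hj; exact reflectionPerm_mem_reflBase_support b i hj
    · intro j _; exact P.reflectionPerm_self i j
    · intro j _; exact P.reflectionPerm_self i j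
    · intro j _; rfl
  rw [this]

/-- positive roots of the reflection of `b` in a simple root `i`: those of `b` except `i`,
and `-i`. -/
theorem reflBase_isPos_iff_of_simple (b : P.Base) (i : b.support) (k : ι) :
    (reflBase b i).IsPos k ↔ (b.IsPos k ∧ k ≠ i) ∨ k = P.reflectionPerm i i := by
  rw [reflBase_isPos_iff]
  constructor
  · intro h
    by_cases hk : k = P.reflectionPerm i i
    · exact Or.inr hk
    · left
      have hne : P.reflectionPerm i k ≠ i := by
        intro e
        apply hk
        have := congrArg (P.reflectionPerm i) e
        rwa [P.reflectionPerm_self] at this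
      have := h.reflectionPerm i.2 hne
      rw [P.reflectionPerm_self] at this
      refine ⟨this, ?_⟩
      rintro rfl
      rw [isPos_neg_iff] at h
      exact h (RootPairing.Base.isPos_of_mem_support i.2)
  · rintro (⟨hk, hne⟩ | rfl)
    · exact hk.reflectionPerm i.2 hne
    · rw [P.reflectionPerm_self]
      exact RootPairing.Base.isPos_of_mem_support i.2

theorem isPos_and_not_reflBase_isPos_iff (b : P.Base) (i : b.support) (j : ι) :
    (b.IsPos j ∧ ¬ (reflBase b i).IsPos j) ↔ j = i := by
  rw [reflBase_isPos_iff_of_simple]
  constructor
  · rintro ⟨h1, h2⟩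
    by_contra hne
    exact h2 (Or.inl ⟨h1, hne⟩)
  · rintro rfl
    refine ⟨RootPairing.Base.isPos_of_mem_support i.2, ?_⟩
    rintro (⟨_, h⟩ | h)
    · exact h rfl
    · have hpos := RootPairing.Base.isPos_of_mem_support i.2
      rw [h, isPos_neg_iff] at hpos
      exact hpos (RootPairing.Base.isPos_of_mem_support i.2)

end Groth.Agent.Lib.Helper31.RC
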