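import Mathlib
import Groth.Prelude.Def_RootCh2
import Groth.Agent.Lib.Helper31.RootChReflect
import Groth.Agent.Lib.Helper31.QuadMin

/-!
# RootCh CCS III: wall crossing, descent to a dominant chamber, the half-space inequalities.
-/

set_option autoImplicit false
set_option linter.unusedSectionVars false

open Module RootCh
open scoped Classical

namespace Groth.Agent.Lib.Helper31.RC

universe u v w x
variable {ι : Type u} {R : Type v} {M : Type w} {N : Type x}
  [Field R] [LinearOrder R] [IsStrictOrderedRing R]
  [AddCommGroup M] [Module R M] [AddCommGroup N] [Module R N] [Finite ι]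
  {P : RootPairing ι R M N} [P.IsRootSystem] [P.IsCrystallographic] [P.IsReduced]

/-- two covectors with the same pairings against the fundamental weights are equal -/
theorem ext_fundWeight (b : P.Base) {x y : N}
    (h : ∀ l : b.support, P.toLinearMap (fundWeight b l) x = P.toLinearMap (fundWeight b l) y) :
    x = y := by
  apply P.flip.toPerfPair.injective
  apply LinearMap.ext
  intro ξ
  change P.toLinearMap ξ x = P.toLinearMap ξ y
  rw [eq_sum_fundWeight b ξ, map_sum, LinearMap.sum_apply, LinearMap.sum_apply]
  refine Finset.sum_congr rfl fun l _ => ?_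
  rw [map_smul, LinearMap.smul_apply, LinearMap.smul_apply, h l]

theorem eq_sum_coroot (b : P.Base) (x : N) :
    x = ∑ l : b.support, P.toLinearMap (fundWeight b l) x • P.coroot l := by
  apply ext_fundWeight b
  intro j
  rw [map_sum]
  have : ∀ l : b.support, P.toLinearMap (fundWeight b j)
      (P.toLinearMap (fundWeight b l) x • P.coroot l) =
      if l = j then P.toLinearMap (fundWeight b j) x else 0 := by
    intro l
    rw [map_smul, smul_eq_mul]
    have h1 : P.toLinearMap (fundWeight b j) (P.coroot l) = if l = j then 1 else 0 :=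
      coroot'_fundWeight b j l
    rw [h1]
    split_ifs with h
    · subst h; ring
    · ring
  simp_rw [this]
  rw [Finset.sum_ite_eq']
  simp

theorem base_support_injective : Function.Injective (fun b : P.Base => b.support) := by
  intro b b' h
  cases b; cases b'
  simp only at h
  subst h
  rfl

instance : Finite P.Base := Finite.of_injective _ base_support_injective

variable {d : P.Base → N}

/-- the corners common to a base and its reflection in a simple root -/
theorem baseCorners_inter_reflBase (b : P.Base) (i : b.support) :
    baseCorners b ∩ baseCorners (reflBase b i) = fundWeight b '' {j | j ≠ i} := by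
  rw [baseCorners_eq, baseCorners_eq]
  ext w
  constructor
  · rintro ⟨⟨j, rfl⟩, ⟨j', hj'⟩⟩
    refine ⟨j, ?_, rfl⟩
    rintro rfl
    -- ϖ_i is not a fundamental weight of the reflected base
    obtain ⟨l, rfl⟩ := (reflEquiv b j).surjective j'
    by_cases hl : l = j
    · subst hl
      rw [fundWeight_reflBase_self] at hj'
      have : P.root (l : ι) = 0 := by
        have := sub_eq_self.mp hj'
        exact this
      exact P.ne_zero _ this
    · rw [fundWeight_reflBase_of_ne b j l hl] at hj'
      exact hl (fundWeight_injective b hj')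
  · rintro ⟨j, hj, rfl⟩
    refine ⟨⟨j, rfl⟩, ⟨reflEquiv b i j, fundWeight_reflBase_of_ne b i j hj⟩⟩

theorem ncard_baseCorners_inter_reflBase (b : P.Base) (i : b.support) :
    (baseCorners b ∩ baseCorners (reflBase b i)).ncard + 1 = b.support.card := by
  rw [baseCorners_inter_reflBase, Set.ncard_image_of_injective _ (fundWeight_injective b)]
  have h1 : ({j | j ≠ i} : Set b.support) = {i}ᶜ := by ext j; simp
  rw [h1]
  have h2 := Set.ncard_add_ncard_compl ({i} : Set b.support)
  rw [Set.ncard_singleton, Nat.card_eq_fintype_card, Fintype.card_coe] at h2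
  omega

/-- crossing a wall: `d b - d b' = c • α̌_i` with `c ≤ 0` -/
theorem exists_wall (hd : IsCCS d) (b : P.Base) (i : b.support) :
    ∃ c : R, c ≤ 0 ∧ d b - d (reflBase b i) = c • P.coroot i := by
  set b' := reflBase b i with hb'
  set c := P.toLinearMap (fundWeight b i) (d b - d b') with hc
  have hzero : ∀ j : b.support, j ≠ i → P.toLinearMap (fundWeight b j) (d b - d b') = 0 := by
    intro j hj
    rw [map_sub, sub_eq_zero]
    apply hd.corner_eq b b' (fundWeight b j)
    · rw [baseCorners_eq]; exact ⟨j, rfl⟩
    · rw [baseCorners_eq]; exact ⟨reflEquiv b i j, fundWeight_reflBase_of_ne b i j hj⟩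
  have hexp : d b - d b' = c • P.coroot i := by
    conv_lhs => rw [eq_sum_coroot b (d b - d b')]
    rw [Finset.sum_eq_single i]
    · intro j _ hj
      rw [hzero j hj, zero_smul]
    · intro h; exact absurd (Finset.mem_univ _) h
  refine ⟨c, ?_, hexp⟩
  have hB2 := hd.wall_le b b' i (ncard_baseCorners_inter_reflBase b i)
    (isPos_and_not_reflBase_isPos_iff b i)
  have : P.root' i (d b - d b') ≤ 0 := by
    rw [map_sub]; linarith
  rw [hexp, map_smul, smul_eq_mul] at this
  have h2 : P.root' i (P.coroot i) = 2 := P.root_coroot_two i
  rw [h2] at this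
  linarith

theorem pair_reflBase_le (hd : IsCCS d) (b : P.Base) (i : b.support) (m : M)
    (hm : P.coroot' i m ≤ 0) :
    P.toLinearMap m (d (reflBase b i)) ≤ P.toLinearMap m (d b) := by
  obtain ⟨c, hc, hexp⟩ := exists_wall hd b i
  have := congrArg (P.toLinearMap m) hexp
  rw [map_sub, map_smul, smul_eq_mul] at this
  have h : 0 ≤ c * P.toLinearMap m (P.coroot i) := mul_nonneg_of_nonpos_of_nonpos hc hm
  linarith

/-- descent to a chamber containing `m` -/
theorem exists_dominant_le (hd : IsCCS d) (b : P.Base) (m : M) :
    ∃ b₀ : P.Base, m ∈ closedChamber b₀ ∧ P.toLinearMap m (d b₀) ≤ P.toLinearMap m (d b) := by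
  let _ : Fintype ι := Fintype.ofFinite ι
  let A : P.Base → Finset ι := fun b => Finset.univ.filter (fun k => b.IsPos k ∧ P.coroot' k m < 0)
  induction' hn : (A b).card using Nat.strong_induction_on with n ih generalizing b
  by_cases hdom : m ∈ closedChamber b
  · exact ⟨b, hdom, le_refl _⟩
  · rw [mem_closedChamber] at hdom
    push Not at hdom
    obtain ⟨i, hi⟩ := hdom
    have hlt : (A (reflBase b i)).card < (A b).card := by
      apply Finset.card_lt_card
      rw [Finset.ssubset_iff_of_subset]
      · refine ⟨i, ?_, ?_⟩
        · simp only [A, Finset.mem_filter, Finset.mem_univ, true_and]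
          exact ⟨RootPairing.Base.isPos_of_mem_support i.2, hi⟩
        · simp only [A, Finset.mem_filter, Finset.mem_univ, true_and, not_and]
          intro h
          rw [reflBase_isPos_iff_of_simple] at h
          rcases h with ⟨_, h⟩ | h
          · exact absurd rfl h
          · exfalso
            have hpos := RootPairing.Base.isPos_of_mem_support i.2
            rw [h, isPos_neg_iff] at hpos
            exact hpos (RootPairing.Base.isPos_of_mem_support i.2)
      · intro k hk
        simp only [A, Finset.mem_filter, Finset.mem_univ, true_and] at hk ⊢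
        rw [reflBase_isPos_iff_of_simple] at hk
        rcases hk with ⟨⟨hk1, _⟩ | rfl, hk2⟩
        · exact ⟨hk1, hk2⟩
        · rw [coroot'_neg] at hk2
          linarith
    obtain ⟨b₀, h1, h2⟩ := ih _ (by rw [← hn]; exact hlt) (reflBase b i) rfl
    exact ⟨b₀, h1, h2.trans (pair_reflBase_le hd b i m hi.le)⟩

/-- a corner pairs minimally with `d` at its own chambers -/
theorem pair_corner_le (hd : IsCCS d) {b₁ : P.Base} {w : M} (hw : w ∈ baseCorners b₁)
    (b : P.Base) : P.toLinearMap w (d b₁) ≤ P.toLinearMap w (d b) := by
  obtain ⟨b₀, h1, h2⟩ := exists_dominant_le hd b w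
  have : w ∈ baseCorners b₀ := ⟨hw.1, h1⟩
  rw [hd.corner_eq b₁ b₀ w hw this]
  exact h2

theorem convex_halfClosed (d : P.Base → N) (w : M) : Convex R (halfClosed d w) := by
  have : halfClosed d w = ⋂ b : P.Base, ⋂ _ : w ∈ baseCorners b,
      {x | P.toLinearMap w (d b) ≤ P.toLinearMap w x} := by
    ext x; simp [halfClosed]
  rw [this]
  refine convex_iInter fun b => convex_iInter fun _ => ?_
  exact convex_halfSpace_ge (P.toLinearMap w).isLinear _

/-- every value of `d` lies in every closed half space -/
theorem d_mem_halfClosed (hd : IsCCS d) (b : P.Base) (w : M) : d b ∈ halfClosed d w :=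
  fun _ hw => pair_corner_le hd hw b

theorem dualSolid_subset_halfClosed (hd : IsCCS d) (F : Facet P) (w : M) :
    dualSolid d F ⊆ halfClosed d w := by
  apply convexHull_min _ (convex_halfClosed d w)
  rintro _ ⟨b, -, rfl⟩
  exact d_mem_halfClosed hd b w

theorem solid_subset_halfClosed (hd : IsCCS d) (w : M) : solid d ⊆ halfClosed d w := by
  apply convexHull_min _ (convex_halfClosed d w)
  rintro _ ⟨b, rfl⟩
  exact d_mem_halfClosed hd b w

end Groth.Agent.Lib.Helper31.RC
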