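import Mathlib
import Groth.Prelude.Def_RootCh2
import Groth.Agent.Lib.Helper31.RootChCCS3

/-!
# RootCh CCS IV: the dual solid as an intersection of half spaces; semistability criteria.
-/

set_option autoImplicit false
set_option linter.unusedSectionVars false

open Module RootCh
open scoped Classical

namespace Groth.Agent.Lib.Helper31.RC

universe u v w x
variable {ι : Type u} {R : Type v} {M : Type w} {N : Type x}
  [Field R] [LinearOrder R] [IsStrictOrderedRing R]
  [AddCommGroup M] [Module R M] [AddCommGroup N] [Module R N] [Finite ι]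
  {P : RootPairing ι R M N} [P.IsRootSystem] [P.IsCrystallographic] [P.IsReduced]

theorem exists_small (ξ η : M) :
    ∃ ε : R, 0 < ε ∧ ∀ k, P.coroot' k ξ ≠ 0 → |ε * P.coroot' k η| < |P.coroot' k ξ| := by
  let _ : Fintype ι := Fintype.ofFinite ι
  set E : R := ∑ i, |P.coroot' i η| + 1 with hE
  have hEpos : 0 < E := by
    have : 0 ≤ ∑ i, |P.coroot' i η| := Finset.sum_nonneg fun i _ => abs_nonneg _
    linarith
  have hEle : ∀ i, |P.coroot' i η| ≤ E := by
    intro i
    have : |P.coroot' i η| ≤ ∑ i, |P.coroot' i η| :=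
      Finset.single_le_sum (f := fun i => |P.coroot' i η|) (fun i _ => abs_nonneg _)
        (Finset.mem_univ i)
    linarith
  let g : ι → R := fun i => if P.coroot' i ξ = 0 then 1 else |P.coroot' i ξ|
  have hgpos : ∀ i, 0 < g i := by
    intro i
    simp only [g]
    split_ifs with h
    · exact one_pos
    · exact abs_pos.mpr h
  let s : Finset R := insert 1 (Finset.univ.image g)
  have hs : s.Nonempty := Finset.insert_nonempty _ _
  set δ := s.min' hs with hδ
  have hδpos : 0 < δ := by
    have : δ ∈ s := Finset.min'_mem s hs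
    rcases Finset.mem_insert.mp this with h | h
    · rw [h]; exact one_pos
    · obtain ⟨i, -, hi⟩ := Finset.mem_image.mp h
      rw [← hi]; exact hgpos i
  have hδle : ∀ i, δ ≤ g i := fun i =>
    Finset.min'_le s _ (Finset.mem_insert_of_mem (Finset.mem_image_of_mem g (Finset.mem_univ i)))
  refine ⟨δ / (2 * E), div_pos hδpos (by linarith), ?_⟩
  intro k hk
  have hεpos : 0 < δ / (2 * E) := div_pos hδpos (by linarith)
  rw [abs_mul, abs_of_pos hεpos]
  have h2 : δ ≤ |P.coroot' k ξ| := by
    have := hδle k
    simp only [g, if_neg hk] at this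
    exact this
  calc δ / (2 * E) * |P.coroot' k η| ≤ δ / (2 * E) * E :=
        mul_le_mul_of_nonneg_left (hEle k) hεpos.le
    _ = δ / 2 := by field_simp
    _ < δ := by linarith
    _ ≤ _ := h2

/-- a chamber containing a small perturbation of a vector of `F` is adjacent to `F` -/
theorem mem_cham_of_perturb {F : Facet P} {ξ η : M} (hξ : ξ ∈ F.carrier) {ε : R}
    (hε : ∀ k, P.coroot' k ξ ≠ 0 → |ε * P.coroot' k η| < |P.coroot' k ξ|) {b : P.Base}
    (hb : ξ + ε • η ∈ closedChamber b) : b ∈ F.cham := by
  rw [mem_cham_iff]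
  refine ⟨ξ, hξ, ?_⟩
  rw [mem_closedChamber] at hb ⊢
  intro j
  by_contra hneg
  push Not at hneg
  have h1 := hb j
  rw [map_add, map_smul, smul_eq_mul] at h1
  have h2 := hε j (ne_of_lt hneg)
  rw [abs_of_neg hneg] at h2
  have h3 : ε * P.coroot' j η ≤ |ε * P.coroot' j η| := le_abs_self _
  linarith

theorem pair_eq_of_mem_span {s : Set M} {x x' : N}
    (h : ∀ w ∈ s, P.toLinearMap w x = P.toLinearMap w x') {v : M}
    (hv : v ∈ Submodule.span R s) : P.toLinearMap v x = P.toLinearMap v x' := by
  have key : ∀ w ∈ s, P.toLinearMap.flip (x - x') w = 0 := by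
    intro w hw
    rw [LinearMap.flip_apply, map_sub, sub_eq_zero]
    exact h w hw
  have : P.toLinearMap.flip (x - x') v = 0 := by
    refine Submodule.span_induction (p := fun v _ => P.toLinearMap.flip (x - x') v = 0)
      key (map_zero _) ?_ ?_ hv
    · intro a b _ _ ha hb; rw [map_add, ha, hb, add_zero]
    · intro a b _ hb; rw [map_smul, hb, smul_zero]
  rw [LinearMap.flip_apply, map_sub, sub_eq_zero] at this
  exact this

theorem finiteDimensional_N (P' : RootPairing ι R M N) [P'.IsRootSystem] [P'.IsCrystallographic]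
    [P'.IsReduced] : FiniteDimensional R N := by
  obtain ⟨b, -⟩ := exists_base_mem_closedChamber (P := P') 0
  exact Module.Finite.of_basis b.toCoweightBasis

variable {d : P.Base → N}

/-- **S14238** -/
theorem dualSolid_eq (hd : IsCCS d) (F : Facet P) :
    dualSolid d F = (⋂ m ∈ F.corners, hyper d m) ∩ ⋂ m ∈ F.corners', halfClosed d m := by
  apply Set.Subset.antisymm
  · intro y hy
    refine ⟨Set.mem_iInter₂.mpr fun m hm => dualSolid_subset_hyper hd F hm hy,
      Set.mem_iInter₂.mpr fun m _ => dualSolid_subset_halfClosed hd F m hy⟩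
  · rintro y ⟨hy1, hy2⟩
    by_contra hnot
    have _ : FiniteDimensional R N := finiteDimensional_N P
    obtain ⟨b₀, hb₀⟩ := exists_mem_cham F
    set S : Finset N := (Set.toFinite (d '' F.cham)).toFinset with hS
    have hScoe : (S : Set N) = d '' F.cham := Set.Finite.coe_toFinset _
    have hSne : S.Nonempty := ⟨d b₀, (Set.Finite.mem_toFinset _).mpr ⟨b₀, hb₀, rfl⟩⟩
    have hnot' : y ∉ convexHull R (S : Set N) := by rw [hScoe]; exact hnot
    obtain ⟨f, hf⟩ := QuadMin.exists_separating (coform P) coform_symm
      (fun y hy => coform_pos hy) S hSne hnot'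
    have hf' : ∀ b ∈ F.cham, f y < f (d b) := fun b hb =>
      hf _ ((Set.Finite.mem_toFinset _).mpr ⟨b, hb, rfl⟩)
    set η : M := P.toPerfPair.symm f with hη
    have hηf : P.toLinearMap η = f := P.toLinearMap.apply_symm_toPerfPair_self f
    obtain ⟨ξ, hξ⟩ := F.exists_sgnVec_eq
    have hξF : ξ ∈ F.carrier := hξ
    obtain ⟨ε, hεpos, hε⟩ := exists_small (P := P) ξ η
    obtain ⟨b', hb'⟩ := exists_base_mem_closedChamber (P := P) (ξ + ε • η)
    have hb'F : b' ∈ F.cham := mem_cham_of_perturb hξF hε hb'
    -- ⟨ξ, y⟩ = ⟨ξ, d b'⟩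
    have h1 : P.toLinearMap ξ y = P.toLinearMap ξ (d b') := by
      apply pair_eq_of_mem_span (s := F.corners) _ (carrier_subset_span_corners F hξF)
      intro w hw
      exact (Set.mem_iInter₂.mp hy1 w hw) b' (corners_subset_baseCorners hb'F hw)
    -- strict inequality
    have h2 : P.toLinearMap (ξ + ε • η) y < P.toLinearMap (ξ + ε • η) (d b') := by
      rw [map_add, LinearMap.add_apply, LinearMap.add_apply, h1, map_smul,
        LinearMap.smul_apply, LinearMap.smul_apply, hηf, smul_eq_mul, smul_eq_mul]
      have := mul_lt_mul_of_pos_left (hf' b' hb'F) hεpos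
      linarith
    -- reverse inequality
    have h3 : P.toLinearMap (ξ + ε • η) (d b') ≤ P.toLinearMap (ξ + ε • η) y := by
      rw [eq_sum_fundWeight b' (ξ + ε • η), map_sum, LinearMap.sum_apply, LinearMap.sum_apply]
      apply Finset.sum_le_sum
      intro j _
      rw [map_smul, LinearMap.smul_apply, LinearMap.smul_apply, smul_eq_mul, smul_eq_mul]
      apply mul_le_mul_of_nonneg_left _ (mem_closedChamber.mp hb' j)
      have hbc : fundWeight b' j ∈ baseCorners b' := by rw [baseCorners_eq]; exact ⟨j, rfl⟩
      have hc' : fundWeight b' j ∈ F.corners' := by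
        simp only [Facet.corners', Set.mem_iUnion]
        exact ⟨b', hb'F, hbc⟩
      exact (Set.mem_iInter₂.mp hy2 _ hc') b' hbc
    exact absurd h2 (not_lt.mpr h3)

theorem cham_origin : (Facet.origin P).cham = Set.univ := by
  ext b
  simp only [Set.mem_univ, iff_true]
  rw [mem_cham_iff]
  refine ⟨0, rfl, ?_⟩
  rw [mem_closedChamber]
  intro j; simp

theorem solid_eq_dualSolid_origin (d : P.Base → N) : solid d = dualSolid d (Facet.origin P) := by
  unfold solid dualSolid
  rw [cham_origin, Set.image_univ]

theorem fundWeights_ne_zero {w : M} (hw : w ∈ fundWeights P) : w ≠ 0 := by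
  obtain ⟨b, i, rfl⟩ := hw
  exact fundWeight_ne_zero b i

theorem corners_origin : (Facet.origin P).corners = ∅ := by
  obtain ⟨b, hb⟩ := exists_mem_cham (Facet.origin P)
  rw [corners_eq hb]
  have : ftype (Facet.origin P) b = ∅ := by
    ext j
    simp only [ftype, Set.mem_ofPred_eq, Set.mem_empty_iff_false, iff_false]
    change sgnVec P 0 j ≠ 1
    unfold sgnVec
    simp
  rw [this, Set.image_empty]

theorem corners'_origin : (Facet.origin P).corners' = fundWeights P := by
  ext w
  simp only [Facet.corners', Set.mem_iUnion, cham_origin, Set.mem_univ, exists_true_left]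
  constructor
  · rintro ⟨b, hb⟩; exact hb.1
  · rintro ⟨b, i, rfl⟩
    exact ⟨b, by rw [baseCorners_eq]; exact ⟨i, rfl⟩⟩

/-- **S14241** -/
theorem semistable_iff_corners (hd : IsCCS d) :
    (∀ (b : P.Base), ∀ m ∈ baseCorners b, P.toLinearMap m (d b) ≤ 0) ↔ IsSemistable d := by
  unfold IsSemistable
  constructor
  · intro h
    rw [solid_eq_dualSolid_origin, dualSolid_eq hd, corners_origin]
    refine ⟨by simp, Set.mem_iInter₂.mpr fun m _ b hb => ?_⟩
    rw [map_zero]
    exact h b m hb
  · intro h b m hm
    have := solid_subset_halfClosed hd m h b hm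
    rwa [map_zero] at this

/-- the degree of a facet as a positive combination of pairings with its corners -/
theorem deg_le_zero_of_corners
    (h : ∀ (b : P.Base), ∀ m ∈ baseCorners b, P.toLinearMap m (d b) ≤ 0)
    (F : Facet P) {b : P.Base} (hb : b ∈ F.cham) : F.deg d b ≤ 0 := by
  rw [deg_eq_pair]
  set v := ∑ i ∈ (Set.toFinite F.parab).toFinset, P.root i with hv
  have hvF : v ∈ F.carrier := sum_parab_mem_carrier F
  have hdom : v ∈ closedChamber b := hb hvF
  rw [eq_sum_fundWeight b v, map_sum, LinearMap.sum_apply]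
  apply Finset.sum_nonpos
  intro j _
  rw [map_smul, LinearMap.smul_apply, smul_eq_mul]
  apply mul_nonpos_of_nonneg_of_nonpos (mem_closedChamber.mp hdom j)
  exact h b _ (by rw [baseCorners_eq]; exact ⟨j, rfl⟩)

theorem dim_ofVec_fundWeight (b : P.Base) (j : b.support) :
    (Facet.ofVec P (fundWeight b j)).dim = 1 := by
  unfold Facet.dim
  rw [span_carrier (ofVec_fundWeight_cham b j), ftype_ofVec, J_fundWeight, Set.image_singleton]
  exact finrank_span_singleton (fundWeight_ne_zero b j)

/-- the degree of the ray of a fundamental weight -/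
theorem corner_le_zero_of_deg (b : P.Base) (j : b.support)
    (h : (Facet.ofVec P (fundWeight b j)).deg d b ≤ 0) :
    P.toLinearMap (fundWeight b j) (d b) ≤ 0 := by
  set F := Facet.ofVec P (fundWeight b j) with hF
  have hb : b ∈ F.cham := ofVec_fundWeight_cham b j
  rw [deg_eq_pair] at h
  set v := ∑ i ∈ (Set.toFinite F.parab).toFinset, P.root i with hv
  have hvF : v ∈ F.carrier := sum_parab_mem_carrier F
  have hdom : v ∈ closedChamber b := hb hvF
  have hJ : J b v = {j} := by rw [J_eq_ftype b hvF, hF, ftype_ofVec, J_fundWeight]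
  have hexp : v = P.coroot' j v • fundWeight b j := by
    conv_lhs => rw [eq_sum_J hdom, hJ]
    rw [Finset.sum_eq_single j]
    · simp
    · intro l _ hl; simp [hl]
    · intro h; exact absurd (Finset.mem_univ _) h
  have hpos : 0 < P.coroot' j v := by
    have : j ∈ J b v := by rw [hJ]; rfl
    exact this
  rw [hexp, map_smul, LinearMap.smul_apply, smul_eq_mul] at h
  by_contra hcon
  push Not at hcon
  exact absurd (mul_pos hpos hcon) (not_lt.mpr h)

/-- **S14239** -/
theorem semistable_iff_deg (hd : IsCCS d) :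
    (∀ (F : Facet P) (b : P.Base), b ∈ F.cham → F.deg d b ≤ 0) ↔ IsSemistable d := by
  rw [← semistable_iff_corners hd]
  constructor
  · intro h b m hm
    rw [baseCorners_eq] at hm
    obtain ⟨j, rfl⟩ := hm
    exact corner_le_zero_of_deg b j (h _ b (ofVec_fundWeight_cham b j))
  · intro h F b hb
    exact deg_le_zero_of_corners h F hb

/-- **S14240** -/
theorem semistable_iff_deg_dim_one (hd : IsCCS d) :
    (∀ (F : Facet P) (b : P.Base), F.dim = 1 → b ∈ F.cham → F.deg d b ≤ 0) ↔
      IsSemistable d := by
  rw [← semistable_iff_corners hd]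
  constructor
  · intro h b m hm
    rw [baseCorners_eq] at hm
    obtain ⟨j, rfl⟩ := hm
    exact corner_le_zero_of_deg b j
      (h _ b (dim_ofVec_fundWeight b j) (ofVec_fundWeight_cham b j))
  · intro h F b _ hb
    exact deg_le_zero_of_corners h F hb

end Groth.Agent.Lib.Helper31.RC
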