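import Mathlib
import Groth.Prelude.Def_RootCh2
import Groth.Agent.Lib.Helper31.RootChCCS4

/-!
# RootCh CCS V: the special facet — maximal degree, closest point, existence and uniqueness.
-/

set_option autoImplicit false
set_option linter.unusedSectionVars false

open Module RootCh
open scoped Classical

namespace Groth.Agent.Lib.Helper31.RC

universe u v w x
variable {ι : Type u} {R : Type v} {M : Type w} {N : Type x}
  [Field R] [LinearOrder R] [IsStrictOrderedRing R]
  [AddCommGroup M] [Module R M] [AddCommGroup N] [Module R N] [Finite ι]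
  {P : RootPairing ι R M N} [P.IsRootSystem] [P.IsCrystallographic] [P.IsReduced]

theorem sgn_cases (F : Facet P) (k : ι) : F.sgn k = 0 ∨ F.sgn k = 1 ∨ F.sgn k = -1 := by
  cases F.sgn k <;> simp

/-- the closure order through parabolic sets -/
theorem le_iff_parab_subset (F G : Facet P) : F ≤ G ↔ F.parab ⊆ G.parab := by
  constructor
  · intro h k hk
    have hk' : F.sgn k ≠ -1 := hk
    change G.sgn k ≠ -1
    rcases h k with h0 | h0
    · rw [h0]; decide
    · rw [h0]; exact hk'
  · intro h k
    rcases sgn_cases G k with h0 | h1 | hm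
    · exact Or.inl h0
    · right
      -- -k ∉ G.parab
      have : P.reflectionPerm k k ∉ G.parab := by
        intro hk
        have : G.sgn (P.reflectionPerm k k) ≠ -1 := hk
        rw [sgn_neg, h1] at this
        exact this rfl
      have h2 : P.reflectionPerm k k ∉ F.parab := fun hk => this (h hk)
      have h3 : F.sgn (P.reflectionPerm k k) = -1 := by
        by_contra hne; exact h2 hne
      rw [sgn_neg] at h3
      rw [h1]
      rcases sgn_cases F k with e | e | e
      · rw [e] at h3; exact absurd h3 (by decide)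
      · exact e.symm
      · rw [e] at h3; exact absurd h3 (by decide)
    · right
      have : k ∉ G.parab := by
        intro hk
        have : G.sgn k ≠ -1 := hk
        exact this hm
      have h2 : k ∉ F.parab := fun hk => this (h hk)
      have h3 : F.sgn k = -1 := by
        by_contra hne; exact h2 hne
      rw [hm, h3]

variable {d : P.Base → N}

theorem dualSolid_subset_solid (d : P.Base → N) (F : Facet P) : dualSolid d F ⊆ solid d :=
  convexHull_mono (Set.image_subset_range _ _)

/-- the pairing of a dominant vector with `d b` is at most its pairing with any point of the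
solid -/
theorem pair_le_of_mem_solid (hd : IsCCS d) {b : P.Base} {v : M} (hv : v ∈ closedChamber b)
    {y : N} (hy : y ∈ solid d) : P.toLinearMap v (d b) ≤ P.toLinearMap v y := by
  rw [eq_sum_fundWeight b v, map_sum, LinearMap.sum_apply, LinearMap.sum_apply]
  apply Finset.sum_le_sum
  intro j _
  rw [map_smul, LinearMap.smul_apply, LinearMap.smul_apply, smul_eq_mul, smul_eq_mul]
  apply mul_le_mul_of_nonneg_left _ (mem_closedChamber.mp hv j)
  have hbc : fundWeight b j ∈ baseCorners b := by rw [baseCorners_eq]; exact ⟨j, rfl⟩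
  exact solid_subset_halfClosed hd _ hy b hbc

/-- pairing of a vector of the span of the corners with a point of the yLocus -/
theorem pair_eq_of_mem_yLocus {F : Facet P} {b : P.Base} (hb : b ∈ F.cham) {v : M}
    (hv : v ∈ Submodule.span R F.corners) {y : N} (hy : y ∈ yLocus d F) :
    P.toLinearMap v (d b) = P.toLinearMap v y := by
  apply pair_eq_of_mem_span (s := F.corners) _ hv
  intro w hw
  exact ((Set.mem_iInter₂.mp hy.1 w hw) b (corners_subset_baseCorners hb hw)).symm

theorem sign_root'_of_mem_dualCarrier {F : Facet P} {y : N} (hy : y ∈ F.dualCarrier) (k : ι) :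
    SignType.sign (P.root' k y) = F.sgn k := congrFun hy k

/-- **S14248** -/
theorem special_max_deg (hd : IsCCS d) (F : Facet P) {b : P.Base} (hb : b ∈ F.cham)
    (hF : IsSpecial d F) :
    (∀ (G : Facet P) (c : P.Base), c ∈ G.cham → G.deg d c ≤ F.deg d b) ∧
      ∀ (G : Facet P) (c : P.Base), c ∈ G.cham → G.deg d c = F.deg d b → G ≤ F := by
  obtain ⟨y₀, hy1, hy2⟩ := hF
  have hyL : y₀ ∈ yLocus d F :=
    dualSolid_inter_span_subset_yLocus hd F ⟨hy2, Submodule.subset_span hy1⟩
  have hysolid : y₀ ∈ solid d := dualSolid_subset_solid d F hy2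
  let _ : Fintype ι := Fintype.ofFinite ι
  let r : ι → R := fun k => P.root' k y₀
  have hr : ∀ k, SignType.sign (r k) = F.sgn k := sign_root'_of_mem_dualCarrier hy1
  -- deg F b = Σ_{parab F} r
  have hdegF : F.deg d b = ∑ k ∈ (Set.toFinite F.parab).toFinset, r k := by
    rw [deg_eq_pair, pair_eq_of_mem_yLocus hb
      (carrier_subset_span_corners F (sum_parab_mem_carrier F)) hyL, map_sum, LinearMap.sum_apply]
  -- Σ_{parab F} r = Σ_all max (r k) 0
  have hsumF : ∑ k ∈ (Set.toFinite F.parab).toFinset, r k = ∑ k, max (r k) 0 := by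
    rw [← Finset.sum_subset (Finset.subset_univ (Set.toFinite F.parab).toFinset)]
    · refine Finset.sum_congr rfl fun k hk => ?_
      rw [Set.Finite.mem_toFinset] at hk
      have hk' : F.sgn k ≠ -1 := hk
      rw [← hr k] at hk'
      have : 0 ≤ r k := by
        by_contra hneg
        push Not at hneg
        exact hk' (sign_neg hneg)
      rw [max_eq_left this]
    · intro k _ hk
      rw [Set.Finite.mem_toFinset] at hk
      have hk' : F.sgn k = -1 := by by_contra hne; exact hk hne
      rw [← hr k] at hk'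
      have : r k < 0 := sign_eq_neg_one_iff.mp hk'
      rw [max_eq_right this.le]
  have hdegG : ∀ (G : Facet P) (c : P.Base), c ∈ G.cham →
      G.deg d c ≤ ∑ k ∈ (Set.toFinite G.parab).toFinset, r k := by
    intro G c hc
    rw [deg_eq_pair]
    have := pair_le_of_mem_solid hd (hc (sum_parab_mem_carrier G)) hysolid
    have e : P.toLinearMap (∑ k ∈ (Set.toFinite G.parab).toFinset, P.root k) y₀ =
        ∑ k ∈ (Set.toFinite G.parab).toFinset, r k := by
      rw [map_sum, LinearMap.sum_apply]
    rw [← e]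
    exact this
  have hsumG : ∀ G : Facet P, ∑ k ∈ (Set.toFinite G.parab).toFinset, r k ≤ ∑ k, max (r k) 0 := by
    intro G
    calc ∑ k ∈ (Set.toFinite G.parab).toFinset, r k
        ≤ ∑ k ∈ (Set.toFinite G.parab).toFinset, max (r k) 0 :=
          Finset.sum_le_sum fun k _ => le_max_left _ _
      _ ≤ ∑ k, max (r k) 0 :=
          Finset.sum_le_sum_of_subset_of_nonneg (Finset.subset_univ _)
            (fun k _ _ => le_max_right _ _)
  refine ⟨fun G c hc => ?_, fun G c hc heq => ?_⟩
  · rw [hdegF, hsumF]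
    exact (hdegG G c hc).trans (hsumG G)
  · rw [le_iff_parab_subset]
    intro k hk
    -- equality forces r k ≥ 0 on parab G
    have h1 : ∑ k ∈ (Set.toFinite G.parab).toFinset, r k = ∑ k, max (r k) 0 := by
      apply le_antisymm (hsumG G)
      rw [← hsumF, ← hdegF, ← heq]
      exact hdegG G c hc
    have h2 : ∑ k ∈ (Set.toFinite G.parab).toFinset, r k =
        ∑ k ∈ (Set.toFinite G.parab).toFinset, max (r k) 0 := by
      apply le_antisymm (Finset.sum_le_sum fun k _ => le_max_left _ _)
      rw [h1]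
      exact Finset.sum_le_sum_of_subset_of_nonneg (Finset.subset_univ _)
        (fun k _ _ => le_max_right _ _)
    have h3 := (Finset.sum_eq_sum_iff_of_le (fun k _ => le_max_left (r k) 0)).mp h2 k
      ((Set.Finite.mem_toFinset _).mpr hk)
    have h4 : 0 ≤ r k := by rw [h3]; exact le_max_right _ _
    change F.sgn k ≠ -1
    rw [← hr k]
    intro hneg
    exact absurd (sign_eq_neg_one_iff.mp hneg) (not_lt.mpr h4)

section Metric

variable (B : LinearMap.BilinForm R N) (hBs : ∀ y z : N, B y z = B z y)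
  (hBp : ∀ y : N, y ≠ 0 → 0 < B y y)
  (hBi : ∀ (i : ι) (y z : N), B (P.coreflection i y) (P.coreflection i z) = B y z)

include hBi in
theorem two_mul_B_coroot (y : N) (k : ι) :
    2 * B y (P.coroot k) = P.root' k y * B (P.coroot k) (P.coroot k) := by
  have h := hBi k y (P.coroot k)
  rw [P.coreflection_apply_self, P.coreflection_apply, map_neg, map_sub, LinearMap.sub_apply,
    map_smul, LinearMap.smul_apply, smul_eq_mul] at h
  linarith

/-- the vector of `M` representing `B y₀` -/
noncomputable def dualVec (y₀ : N) : M := P.toPerfPair.symm (B y₀)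

theorem pair_dualVec (y₀ y : N) : P.toLinearMap (dualVec (P := P) B y₀) y = B y₀ y := by
  have : P.toLinearMap (P.toPerfPair.symm (B y₀)) = B y₀ :=
    P.toLinearMap.apply_symm_toPerfPair_self _
  unfold dualVec
  rw [this]

include hBp hBi in
theorem sgnVec_dualVec (y₀ : N) : sgnVec P (dualVec (P := P) B y₀) = cosgnVec P y₀ := by
  funext k
  unfold sgnVec cosgnVec
  change SignType.sign (P.toLinearMap (dualVec (P := P) B y₀) (P.coroot k)) = _
  rw [pair_dualVec]
  have h := two_mul_B_coroot B hBi y₀ k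
  have hpos : 0 < B (P.coroot k) (P.coroot k) := hBp _ (P.ne_zero' k)
  have h1 : SignType.sign (2 * B y₀ (P.coroot k)) = SignType.sign (B y₀ (P.coroot k)) := by
    rw [sign_mul, sign_pos (by norm_num : (0 : R) < 2), one_mul]
  have h2 : SignType.sign (P.root' k y₀ * B (P.coroot k) (P.coroot k)) =
      SignType.sign (P.root' k y₀) := by
    rw [sign_mul, sign_pos hpos, mul_one]
  rw [← h1, h, h2]

include hBp hBi in
theorem dualVec_mem_carrier {F : Facet P} {y₀ : N} (hy : y₀ ∈ F.dualCarrier) :
    dualVec (P := P) B y₀ ∈ F.carrier := by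
  change sgnVec P _ = F.sgn
  rw [sgnVec_dualVec B hBp hBi]
  exact hy

include hBs hBp hBi in
/-- **S14244** -/
theorem special_closest (hd : IsCCS d) (F : Facet P) (hF : IsSpecial d F) :
    ∃ y₀ : N, yLocus d F = {y₀} ∧ y₀ ∈ solid d ∧
      ∀ y ∈ solid d, y ≠ y₀ → B y₀ y₀ < B y y := by
  obtain ⟨y₀, hyL, hyI⟩ := yLocus_eq_of_special hd F hF
  have hy0 : y₀ ∈ F.dualCarrier ∩ dualSolid d F := by rw [hyI]; rfl
  have hy0L : y₀ ∈ yLocus d F := by rw [hyL]; rfl
  refine ⟨y₀, hyL, dualSolid_subset_solid d F hy0.2, ?_⟩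
  intro y hy hne
  obtain ⟨b, hb⟩ := exists_mem_cham F
  set ξ₀ := dualVec (P := P) B y₀ with hξ₀
  have hξF : ξ₀ ∈ F.carrier := dualVec_mem_carrier B hBp hBi hy0.1
  have h1 : B y₀ y₀ ≤ B y₀ y := by
    rw [← pair_dualVec (P := P) B y₀ y, ← pair_dualVec (P := P) B y₀ y₀,
      ← pair_eq_of_mem_yLocus hb (carrier_subset_span_corners F hξF) hy0L]
    exact pair_le_of_mem_solid hd (hb hξF) hy
  have h2 : 0 < B (y - y₀) (y - y₀) := hBp _ (sub_ne_zero.mpr hne)
  have h3 : B y y = B y₀ y₀ + 2 * (B y₀ y - B y₀ y₀) + B (y - y₀) (y - y₀) := by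
    simp only [map_sub, LinearMap.sub_apply]
    rw [hBs y y₀]; ring
  linarith

include hBs hBp hBi in
/-- **S14245** -/
theorem closest_special (hd : IsCCS d) (y₀ : N) (hy₀ : y₀ ∈ solid d)
    (hmin : ∀ y ∈ solid d, B y₀ y₀ ≤ B y y) (F : Facet P) (hF : y₀ ∈ F.dualCarrier) :
    IsSpecial d F ∧ yLocus d F = {y₀} := by
  have _ : FiniteDimensional R N := finiteDimensional_N P
  obtain ⟨b, hb⟩ := exists_mem_cham F
  set ξ₀ := dualVec (P := P) B y₀ with hξ₀
  have hξF : ξ₀ ∈ F.carrier := dualVec_mem_carrier B hBp hBi hF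
  have hdom : ξ₀ ∈ closedChamber b := hb hξF
  -- variational inequality
  have hvar : ∀ y ∈ solid d, 0 ≤ B y₀ (y - y₀) := fun y hy =>
    QuadMin.variational B hBs hBp (convex_convexHull R _) hy₀ hmin hy
  have hdb : d b ∈ solid d := subset_convexHull R _ ⟨b, rfl⟩
  have h1 : P.toLinearMap ξ₀ y₀ ≤ P.toLinearMap ξ₀ (d b) := by
    rw [pair_dualVec, pair_dualVec]
    have := hvar _ hdb
    rw [map_sub] at this
    linarith
  -- termwise equality
  have hterm : ∀ j : b.support, P.toLinearMap (fundWeight b j) (d b) ≤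
      P.toLinearMap (fundWeight b j) y₀ := fun j =>
    solid_subset_halfClosed hd _ hy₀ b (by rw [baseCorners_eq]; exact ⟨j, rfl⟩)
  have hsum : ∑ j : b.support, P.coroot' j ξ₀ *
      (P.toLinearMap (fundWeight b j) y₀ - P.toLinearMap (fundWeight b j) (d b)) ≤ 0 := by
    have e : ∀ y : N, P.toLinearMap ξ₀ y =
        ∑ j : b.support, P.coroot' j ξ₀ * P.toLinearMap (fundWeight b j) y := by
      intro y
      conv_lhs => rw [eq_sum_fundWeight b ξ₀, map_sum, LinearMap.sum_apply]
      refine Finset.sum_congr rfl fun j _ => ?_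
      rw [map_smul, LinearMap.smul_apply, smul_eq_mul]
    rw [e y₀, e (d b)] at h1
    simp only [mul_sub, Finset.sum_sub_distrib]
    linarith
  have hzero : ∀ j ∈ (Finset.univ : Finset b.support), P.coroot' j ξ₀ *
      (P.toLinearMap (fundWeight b j) y₀ - P.toLinearMap (fundWeight b j) (d b)) = 0 := by
    have hnn : ∀ j ∈ (Finset.univ : Finset b.support), 0 ≤ P.coroot' j ξ₀ *
        (P.toLinearMap (fundWeight b j) y₀ - P.toLinearMap (fundWeight b j) (d b)) :=
      fun j _ => mul_nonneg (mem_closedChamber.mp hdom j) (sub_nonneg.mpr (hterm j))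
    exact (Finset.sum_eq_zero_iff_of_nonneg hnn).mp (le_antisymm hsum (Finset.sum_nonneg hnn))
  have hhyper : y₀ ∈ ⋂ m ∈ F.corners, hyper d m := by
    refine Set.mem_iInter₂.mpr fun m hm => ?_
    have hm' := hm
    rw [corners_eq hb] at hm'
    obtain ⟨j, hj, rfl⟩ := hm'
    have hpos : 0 < P.coroot' j ξ₀ := by
      have : j ∈ J b ξ₀ := by rw [J_eq_ftype b hξF]; exact hj
      exact this
    have h0 := hzero j (Finset.mem_univ _)
    have heq : P.toLinearMap (fundWeight b j) y₀ = P.toLinearMap (fundWeight b j) (d b) := by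
      rcases mul_eq_zero.mp h0 with h | h
      · exact absurd h hpos.ne'
      · exact sub_eq_zero.mp h
    intro b' hb'
    rw [heq]
    exact hd.corner_eq b b' _ (corners_subset_baseCorners hb hm) hb'
  have hmem : y₀ ∈ dualSolid d F := by
    rw [dualSolid_eq hd]
    exact ⟨hhyper, Set.mem_iInter₂.mpr fun m _ => solid_subset_halfClosed hd m hy₀⟩
  have hspec : IsSpecial d F := ⟨y₀, hF, hmem⟩
  refine ⟨hspec, ?_⟩
  obtain ⟨y₁, hyL, hyI⟩ := yLocus_eq_of_special hd F hspec
  have : y₀ ∈ F.dualCarrier ∩ dualSolid d F := ⟨hF, hmem⟩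
  rw [hyI] at this
  rw [hyL, Set.mem_singleton_iff.mp this]

end Metric

theorem coform_coreflection (i : ι) (y z : N) :
    coform P (P.coreflection i y) (P.coreflection i z) = coform P y z :=
  form_reflection (P := P.flip) i y z

/-- **S14246** -/
theorem existsUnique_special (hd : IsCCS d) : ∃! F : Facet P, IsSpecial d F := by
  have _ : FiniteDimensional R N := finiteDimensional_N P
  -- existence
  obtain ⟨b₀, -⟩ := exists_base_mem_closedChamber (P := P) 0
  set S : Finset N := (Set.toFinite (Set.range d)).toFinset with hS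
  have hScoe : (S : Set N) = Set.range d := Set.Finite.coe_toFinset _
  have hSne : S.Nonempty := ⟨d b₀, (Set.Finite.mem_toFinset _).mpr ⟨b₀, rfl⟩⟩
  obtain ⟨y₀, hy₀, hmin⟩ := QuadMin.exists_min (coform P) coform_symm
    (fun y hy => coform_pos hy) S hSne
  rw [hScoe] at hy₀ hmin
  set F : Facet P := Facet.ofVec P (dualVec (P := P) (coform P) y₀) with hF
  have hyF : y₀ ∈ F.dualCarrier := by
    change cosgnVec P y₀ = sgnVec P _
    rw [sgnVec_dualVec (coform P) (fun y hy => coform_pos hy) coform_coreflection]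
  have hspec := (closest_special (coform P) coform_symm (fun y hy => coform_pos hy)
    coform_coreflection hd y₀ hy₀ hmin F hyF).1
  refine ⟨F, hspec, ?_⟩
  intro G hG
  obtain ⟨b, hb⟩ := exists_mem_cham F
  obtain ⟨c, hc⟩ := exists_mem_cham G
  have h1 := special_max_deg hd F hb hspec
  have h2 := special_max_deg hd G hc hG
  have heq : G.deg d c = F.deg d b := le_antisymm (h1.1 G c hc) (h2.1 F b hb)
  exact le_antisymm (h1.2 G c hc heq) (h2.2 F b hb heq.symm)

/-- **S14247** -/
theorem special_of_max (hd : IsCCS d) (F : Facet P) (b : P.Base) (hb : b ∈ F.cham)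
    (hmax : ∀ (G : Facet P) (c : P.Base), c ∈ G.cham → G.deg d c ≤ F.deg d b)
    (hmaxl : ∀ (G : Facet P) (c : P.Base), c ∈ G.cham → G.deg d c = F.deg d b → F ≤ G → G = F) :
    IsSpecial d F := by
  obtain ⟨F₀, hF₀, -⟩ := existsUnique_special hd
  obtain ⟨b₀, hb₀⟩ := exists_mem_cham F₀
  have h1 := special_max_deg hd F₀ hb₀ hF₀
  have heq : F₀.deg d b₀ = F.deg d b := le_antisymm (hmax F₀ b₀ hb₀) (h1.1 F b hb)
  have hle : F ≤ F₀ := h1.2 F b hb heq.symm
  rw [← hmaxl F₀ b₀ hb₀ heq hle]
  exact hF₀

end Groth.Agent.Lib.Helper31.RC
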