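import Mathlib
import Groth.Prelude.Def_RootCh2
import Groth.Agent.Lib.Helper31.RootChCCS5

/-!
# RootCh: parabolic sets of roots ↔ facets (S14235, S14236)
-/

set_option autoImplicit false
set_option linter.unusedSectionVars false

open Module RootCh
open scoped Classical

namespace Groth.Agent.Lib.Helper31.RC

universe u v w x
variable {ι : Type u} {R : Type v} {M : Type w} {N : Type x}
  [Field R] [LinearOrder R] [IsStrictOrderedRing R]
  [AddCommGroup M] [Module R M] [AddCommGroup N] [Module R N] [Finite ι]
  {P : RootPairing ι R M N} [P.IsRootSystem] [P.IsCrystallographic] [P.IsReduced]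

theorem wt_add (ξ : M) {i j k : ι} (h : P.root k = P.root i + P.root j) :
    P.coroot' k ξ * len P k = P.coroot' i ξ * len P i + P.coroot' j ξ * len P j := by
  rw [coroot'_mul_len, coroot'_mul_len, coroot'_mul_len, h, map_add, LinearMap.add_apply]
  ring

theorem len_neg (k : ι) : len P (P.reflectionPerm k k) = len P k := by
  simp only [len, root_neg, map_neg, LinearMap.neg_apply, neg_neg]

theorem neg_neg_idx (k : ι) :
    P.reflectionPerm (P.reflectionPerm k k) (P.reflectionPerm k k) = k := by
  apply P.root.injective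
  rw [root_neg, root_neg, neg_neg]

theorem nonneg_of_sign_ne {a : R} (h : SignType.sign a ≠ -1) : 0 ≤ a := by
  by_contra hneg
  push Not at hneg
  exact h (sign_neg hneg)

/-- the parabolic set of a facet is a parabolic set of roots -/
theorem parab_isParabolic (F : Facet P) : IsParabolicSubset P F.parab := by
  constructor
  · intro i j k hi hj hk
    obtain ⟨ξ, hξ⟩ := F.exists_sgnVec_eq
    have hs : ∀ l, F.sgn l = SignType.sign (P.coroot' l ξ) := fun l => by rw [← hξ]; rfl
    change F.sgn i ≠ -1 at hi
    change F.sgn j ≠ -1 at hj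
    change F.sgn k ≠ -1
    rw [hs] at hi hj ⊢
    have hi' : 0 ≤ P.coroot' i ξ := nonneg_of_sign_ne hi
    have hj' : 0 ≤ P.coroot' j ξ := nonneg_of_sign_ne hj
    have hadd := wt_add ξ hk
    intro hneg
    have hk' : P.coroot' k ξ < 0 := sign_eq_neg_one_iff.mp hneg
    have h1 : P.coroot' k ξ * len P k < 0 := mul_neg_of_neg_of_pos hk' (len_pos k)
    have h2 : 0 ≤ P.coroot' i ξ * len P i := mul_nonneg hi' (len_pos i).le
    have h3 : 0 ≤ P.coroot' j ξ * len P j := mul_nonneg hj' (len_pos j).le
    linarith
  · intro i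
    by_cases h : F.sgn i = -1
    · right
      change F.sgn _ ≠ -1
      rw [sgn_neg, h]
      decide
    · left
      exact h

/-- a parabolic set contains the positive roots of some base -/
theorem exists_base_pos_subset {S : Set ι} (hS : IsParabolicSubset P S) :
    ∃ b : P.Base, ∀ k, b.IsPos k → k ∈ S := by
  let _ : Fintype ι := Fintype.ofFinite ι
  obtain ⟨b₀, -⟩ := exists_base_mem_closedChamber (P := P) 0
  have : Nonempty P.Base := ⟨b₀⟩
  let cnt : P.Base → ℕ := fun b => (Finset.univ.filter (fun k => b.IsPos k ∧ k ∈ S)).card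
  obtain ⟨b, hb⟩ := Finite.exists_max cnt
  have hsimple : ∀ i ∈ b.support, i ∈ S := by
    intro i hi
    by_contra hiS
    have hneg : P.reflectionPerm i i ∈ S := (hS.2 i).resolve_left hiS
    have hlt : cnt b < cnt (reflBase b i) := by
      have hset : Finset.univ.filter (fun k => (reflBase b i).IsPos k ∧ k ∈ S) =
          insert (P.reflectionPerm i i) (Finset.univ.filter (fun k => b.IsPos k ∧ k ∈ S)) := by
        ext k
        simp only [Finset.mem_filter, Finset.mem_univ, true_and, Finset.mem_insert]
        rw [reflBase_isPos_iff_of_simple b ⟨i, hi⟩ k]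
        constructor
        · rintro ⟨h | h, hk⟩
          · exact Or.inr ⟨h.1, hk⟩
          · exact Or.inl h
        · rintro (h | ⟨h1, h2⟩)
          · exact ⟨Or.inr h, by rw [h]; exact hneg⟩
          · refine ⟨Or.inl ⟨h1, ?_⟩, h2⟩
            rintro rfl
            exact hiS h2
      have hnot : P.reflectionPerm i i ∉ Finset.univ.filter (fun k => b.IsPos k ∧ k ∈ S) := by
        simp only [Finset.mem_filter, Finset.mem_univ, true_and, not_and]
        intro h
        exact absurd (b.isPos_of_mem_support hi) ((isPos_neg_iff b i).mp h)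
      change (Finset.univ.filter (fun k => b.IsPos k ∧ k ∈ S)).card <
        (Finset.univ.filter (fun k => (reflBase b i).IsPos k ∧ k ∈ S)).card
      rw [hset, Finset.card_insert_of_notMem hnot]
      exact Nat.lt_succ_self _
    exact absurd (hb (reflBase b i)) (not_le.mpr hlt)
  refine ⟨b, fun k hk => ?_⟩
  exact hk.induction_on_add hsimple (fun i j k hk hi hj => hS.1 i j k hi (hsimple j hj) hk)

/-- a parabolic set containing the positive roots of `b` is the parabolic set of a standard
facet of `b` -/
theorem parab_ofVec_stdVec_eq {S : Set ι} (hS : IsParabolicSubset P S) {b : P.Base}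
    (hb : ∀ k, b.IsPos k → k ∈ S) :
    (Facet.ofVec P (stdVec b {j : b.support | P.reflectionPerm j j ∉ S})).parab = S := by
  set T : Set b.support := {j | P.reflectionPerm j j ∉ S} with hT
  set ξ := stdVec b T with hξdef
  have hξ : ξ ∈ closedChamber b := stdVec_mem_closedChamber b T
  let f : ι → R := fun k => P.coroot' k ξ * len P k
  have hf_add : ∀ {i j k : ι}, P.root k = P.root i + P.root j → f k = f i + f j :=
    fun h => wt_add ξ h
  have hf_neg : ∀ k, f (P.reflectionPerm k k) = - f k := by
    intro k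
    simp only [f]
    rw [coroot'_neg, len_neg]
    ring
  have hf_nonneg : ∀ k, b.IsPos k → 0 ≤ f k :=
    fun k hk => mul_nonneg (coroot'_nonneg hξ hk) (len_pos k).le
  have hf_simple : ∀ j : b.support, f j = 0 ↔ P.reflectionPerm j j ∈ S := by
    intro j
    simp only [f]
    rw [hξdef, coroot'_stdVec]
    by_cases h : j ∈ T
    · rw [if_pos h, one_mul]
      constructor
      · intro h0; exact absurd h0 (len_pos (P := P) j).ne'
      · intro h'; exact absurd h' h
    · rw [if_neg h, zero_mul]
      simp only [true_iff]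
      exact not_not.mp h
  have hmem : ∀ k, k ∈ (Facet.ofVec P ξ).parab ↔ 0 ≤ f k := by
    intro k
    change sgnVec P ξ k ≠ -1 ↔ _
    unfold sgnVec
    rw [Ne, sign_eq_neg_one_iff, not_lt]
    constructor
    · intro h; exact mul_nonneg h (len_pos k).le
    · intro h
      by_contra hneg
      push Not at hneg
      have := mul_neg_of_neg_of_pos hneg (len_pos (P := P) k)
      simp only [f] at h
      linarith
  have hnegroot : ∀ {i j k : ι}, P.root k = P.root i + P.root j →
      P.root (P.reflectionPerm k k) =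
        P.root (P.reflectionPerm i i) + P.root (P.reflectionPerm j j) := by
    intro i j k hk
    rw [root_neg, root_neg, root_neg, hk, neg_add]
  have key1 : ∀ β, b.IsPos β → (b.IsPos β ∧ (f β = 0 → P.reflectionPerm β β ∈ S)) := by
    intro β hβ
    refine hβ.induction_on_add
      (p := fun β => b.IsPos β ∧ (f β = 0 → P.reflectionPerm β β ∈ S)) ?_ ?_
    · intro j hj
      exact ⟨b.isPos_of_mem_support hj, fun h0 => (hf_simple ⟨j, hj⟩).mp h0⟩
    · rintro i j k hk ⟨hi, hi'⟩ hj
      have hjpos := b.isPos_of_mem_support hj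
      refine ⟨hi.add hjpos hk, fun h0 => ?_⟩
      rw [hf_add hk] at h0
      have h1 := hf_nonneg i hi
      have h2 := hf_nonneg j hjpos
      have hi0 : f i = 0 := by linarith
      have hj0 : f j = 0 := by linarith
      exact hS.1 _ _ _ (hi' hi0) ((hf_simple ⟨j, hj⟩).mp hj0) (hnegroot hk)
  have key2 : ∀ β, b.IsPos β → (b.IsPos β ∧ (P.reflectionPerm β β ∈ S → f β = 0)) := by
    intro β hβ
    refine hβ.induction_on_add
      (p := fun β => b.IsPos β ∧ (P.reflectionPerm β β ∈ S → f β = 0)) ?_ ?_
    · intro j hj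
      exact ⟨b.isPos_of_mem_support hj, fun h0 => (hf_simple ⟨j, hj⟩).mpr h0⟩
    · rintro i j k hk ⟨hi, hi'⟩ hj
      have hjpos := b.isPos_of_mem_support hj
      refine ⟨hi.add hjpos hk, fun hkS => ?_⟩
      -- -i = -k + j
      have hiS : P.reflectionPerm i i ∈ S := by
        refine hS.1 (P.reflectionPerm k k) j _ hkS (hb j hjpos) ?_
        rw [root_neg, root_neg, hk]
        abel
      have hjS : P.reflectionPerm j j ∈ S := by
        refine hS.1 (P.reflectionPerm k k) i _ hkS (hb i hi) ?_
        rw [root_neg, root_neg, hk]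
        abel
      rw [hf_add hk, hi' hiS, (hf_simple ⟨j, hj⟩).mpr hjS, add_zero]
  have hposcase : ∀ β, b.IsPos β →
      (β ∈ (Facet.ofVec P ξ).parab ↔ β ∈ S) ∧
      (P.reflectionPerm β β ∈ (Facet.ofVec P ξ).parab ↔ P.reflectionPerm β β ∈ S) := by
    intro β hβ
    constructor
    · rw [hmem]
      exact ⟨fun _ => hb β hβ, fun _ => hf_nonneg β hβ⟩
    · rw [hmem, hf_neg]
      constructor
      · intro h
        have h0 : f β = 0 := le_antisymm (by linarith) (hf_nonneg β hβ)
        exact (key1 β hβ).2 h0
      · intro h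
        rw [(key2 β hβ).2 h, neg_zero]
  ext k
  by_cases hk : b.IsPos k
  · exact (hposcase k hk).1
  · have hk' : b.IsPos (P.reflectionPerm k k) := (isPos_neg_iff b k).mpr hk
    have := (hposcase _ hk').2
    rw [neg_neg_idx] at this
    exact this

/-- every parabolic set is the parabolic set of a facet -/
theorem exists_facet_parab_eq {S : Set ι} (hS : IsParabolicSubset P S) :
    ∃ F : Facet P, F.parab = S := by
  obtain ⟨b, hb⟩ := exists_base_pos_subset hS
  exact ⟨_, parab_ofVec_stdVec_eq hS hb⟩

theorem parab_injective {F G : Facet P} (h : F.parab = G.parab) : F = G :=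
  le_antisymm ((le_iff_parab_subset F G).mpr h.le) ((le_iff_parab_subset G F).mpr h.ge)

/-- **S14236** -/
theorem parabolic_iff_existsUnique :
    (∀ S : Set ι, IsParabolicSubset P S ↔ ∃! F : Facet P, F.parab = S) ∧
      ∀ F G : Facet P, F ≤ G ↔ F.parab ⊆ G.parab := by
  refine ⟨fun S => ⟨fun hS => ?_, ?_⟩, le_iff_parab_subset⟩
  · obtain ⟨F, hF⟩ := exists_facet_parab_eq hS
    exact ⟨F, hF, fun G hG => parab_injective (hG.trans hF.symm)⟩
  · rintro ⟨F, rfl, -⟩
    exact parab_isParabolic F

theorem eq_of_corners_eq {F G : Facet P} (h : G.corners = F.corners) : G = F := by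
  have hc : G.carrier = F.carrier := by
    rw [carrier_eq_posCombo G, carrier_eq_posCombo F, h]
  obtain ⟨ξ, hξ⟩ := G.exists_sgnVec_eq
  have hξG : ξ ∈ G.carrier := hξ
  rw [hc] at hξG
  have hξF : sgnVec P ξ = F.sgn := hξG
  ext k
  rw [← hξ, ← hξF]

/-- **S14235** -/
theorem exists_facet_of_parabolic {S : Set ι} (hS : IsParabolicSubset P S) :
    ∃ F : Facet P,
      (F.corners = {m : M | m ∈ fundWeights P ∧
          ∀ y : N, Corr P m y → ∀ i ∈ S, 0 ≤ P.root' i y} ∧ F.parab = S) ∧
      ∀ G : Facet P,
        G.corners = {m : M | m ∈ fundWeights P ∧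
          ∀ y : N, Corr P m y → ∀ i ∈ S, 0 ≤ P.root' i y} → G = F := by
  obtain ⟨F, hF⟩ := exists_facet_parab_eq hS
  have hc : F.corners = {m : M | m ∈ fundWeights P ∧
      ∀ y : N, Corr P m y → ∀ i ∈ S, 0 ≤ P.root' i y} := by
    rw [corners_eq_parab F, hF]
  exact ⟨F, ⟨hc, hF⟩, fun G hG => eq_of_corners_eq (hG.trans hc.symm)⟩

end Groth.Agent.Lib.Helper31.RC
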