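import Mathlib


set_option autoImplicit false
set_option linter.unusedSectionVars false
universe u v w


namespace Groth.Agent.Lib.Helper31.RC

open RootPairing

variable {ι : Type u} [Finite ι] [DecidableEq ι] {k : Type v} [Field k] [CharZero k]
    {M : Type w} [AddCommGroup M] [Module k M] {N : Type w} [AddCommGroup N] [Module k N]
    (P : RootPairing ι k M N) [P.IsCrystallographic]

lemma pairingIn_of_sum (S : Finset ι) (c : ι → ℕ) (j l : ι)
    (h : P.root j = ∑ i ∈ S, c i • P.root i) :
    P.pairingIn ℤ j l = ∑ i ∈ S, (c i : ℤ) * P.pairingIn ℤ i l := by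
  apply FaithfulSMul.algebraMap_injective ℤ k
  rw [algebraMap_pairingIn, ← P.root_coroot'_eq_pairing, h, map_sum, map_sum]
  refine Finset.sum_congr rfl fun i _ => ?_
  rw [map_nsmul, P.root_coroot'_eq_pairing, map_mul, algebraMap_pairingIn]
  simp

/-- pairing of a nonneg combination of simple roots in `S` with a simple root outside `S`
is nonpositive, and negative if some simple root in the support is adjacent -/
lemma pairingIn_sum_neg (b : P.Base) (S : Finset ι) (hS : S ⊆ b.support) (c : ι → ℕ) (j l i : ι)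
    (h : P.root j = ∑ i ∈ S, c i • P.root i) (hl : l ∈ b.support) (hlS : ∀ i ∈ S, c i ≠ 0 → i ≠ l)
    (hi : i ∈ S) (hci : c i ≠ 0) (hil : P.pairingIn ℤ i l ≠ 0) :
    P.pairingIn ℤ j l < 0 := by
  rw [pairingIn_of_sum P S c j l h]
  have hle : ∀ i ∈ S, (c i : ℤ) * P.pairingIn ℤ i l ≤ 0 := by
    intro i' hi'
    by_cases hc : c i' = 0
    · simp [hc]
    · exact mul_nonpos_of_nonneg_of_nonpos (by positivity)
        (b.pairingIn_le_zero_of_ne (hlS i' hi' hc) (hS hi') hl)
  have hlt : (c i : ℤ) * P.pairingIn ℤ i l < 0 := by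
    have h1 : P.pairingIn ℤ i l ≤ 0 := b.pairingIn_le_zero_of_ne (hlS i hi hci) (hS hi) hl
    have h2 : P.pairingIn ℤ i l < 0 := lt_of_le_of_ne h1 hil
    have h3 : (0 : ℤ) < c i := by positivity
    exact mul_neg_of_pos_of_neg h3 h2
  exact Finset.sum_neg' hle ⟨i, hi, hlt⟩

lemma coeff_zero (b : P.Base) (S : Finset ι) (hS : S ⊆ b.support) (f : ι → k)
    (h : ∑ i ∈ S, f i • P.root i = 0) : ∀ i ∈ S, f i = 0 :=
  linearIndepOn_finset_iff.mp (b.linearIndepOn_root.mono (by exact_mod_cast hS)) f h

theorem main [P.IsReduced] [P.IsIrreducible] (b : P.Base)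
    (I A B : Finset ι) (hcover : I ∪ A ∪ B = b.support) (hIA : Disjoint I A) (hIB : Disjoint I B)
    (hAB : Disjoint A B) (hA : A.Nonempty) (hB : B.Nonempty) :
    ∃ l ∈ A, ∃ j : ι, P.root j ∈ AddSubmonoid.closure (P.root '' ↑(I ∪ B)) ∧
      P.root j ∉ Submodule.span k (P.root '' ↑I) ∧ P.pairingIn ℤ j l < 0 := by
  by_contra hcon
  push Not at hcon
  have hsub : I ∪ B ⊆ b.support := by
    rw [← hcover]
    intro x hx
    simp only [Finset.mem_union] at hx ⊢
    tauto
  let Good : ι → (ι → ℕ) → Prop := fun j c =>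
    P.root j = ∑ i ∈ I ∪ B, c i • P.root i ∧ ∃ i ∈ B, c i ≠ 0
  have hgood : ∀ j c, Good j c → P.root j ∈ AddSubmonoid.closure (P.root '' ↑(I ∪ B)) ∧
      P.root j ∉ Submodule.span k (P.root '' ↑I) := by
    rintro j c ⟨hj, i0, hi0, hci0⟩
    refine ⟨?_, ?_⟩
    · rw [hj]
      exact AddSubmonoid.sum_mem _ fun i hi => AddSubmonoid.nsmul_mem _
        (AddSubmonoid.subset_closure (Set.mem_image_of_mem _ hi)) _
    · intro hmem
      rw [Submodule.mem_span_image_finset_iff_exists_fun'] at hmem
      obtain ⟨d, hd⟩ := hmem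
      have hsum : ∑ i ∈ I ∪ B, ((c i : k) - (if i ∈ I then d i else 0)) • P.root i = 0 := by
        simp_rw [sub_smul]
        rw [Finset.sum_sub_distrib]
        have h1 : ∑ i ∈ I ∪ B, (c i : k) • P.root i = P.root j := by
          rw [hj]
          refine Finset.sum_congr rfl fun i _ => ?_
          rw [Nat.cast_smul_eq_nsmul]
        have h2 : ∑ i ∈ I ∪ B, (if i ∈ I then d i else 0) • P.root i = P.root j := by
          rw [← hd]
          simp_rw [ite_smul, zero_smul]
          rw [← Finset.sum_filter]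
          congr 1
          ext x
          simp only [Finset.mem_filter, Finset.mem_union]
          tauto
        rw [h1, h2, sub_self]
      have := coeff_zero P b (I ∪ B) hsub _ hsum i0 (by simp [hi0])
      have hi0I : i0 ∉ I := fun h => (Finset.disjoint_left.mp hIB h) hi0
      simp only [hi0I, if_false, sub_zero] at this
      exact hci0 (by exact_mod_cast this)
  let p : b.support → Prop := fun i => (i : ι) ∈ I ∪ B ∧ ∃ j c, Good j c ∧ c i ≠ 0
  obtain ⟨b0, hb0⟩ := hB
  obtain ⟨a0, ha0⟩ := hA
  have hb0s : b0 ∈ b.support := by rw [← hcover]; simp [hb0]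
  have ha0s : a0 ∈ b.support := by rw [← hcover]; simp [ha0]
  have hp0 : p ⟨b0, hb0s⟩ := by
    refine ⟨by simp [hb0], b0, Pi.single b0 1, ⟨?_, b0, hb0, by simp⟩, by simp⟩
    rw [Finset.sum_eq_single b0]
    · simp
    · intro i _ hi
      simp [hi]
    · intro h
      exact absurd (by simp [hb0]) h
  have key : p ⟨a0, ha0s⟩ := by
    refine b.induction_on_cartanMatrix p hp0 ?_
    rintro i j' ⟨hiIB, j, c, ⟨hj, i0, hi0, hci0⟩, hci⟩ hcart
    have hne : P.pairingIn ℤ i j' ≠ 0 := by
      have : b.cartanMatrix i j' ≠ 0 := by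
        rwa [ne_eq, RootPairing.Base.cartanMatrix_apply_eq_zero_iff_symm]
      exact this
    by_cases hcj : (j' : ι) ∈ I ∪ B ∧ c j' ≠ 0
    · exact ⟨hcj.1, j, c, ⟨hj, i0, hi0, hci0⟩, hcj.2⟩
    · have hneg : P.pairingIn ℤ j j' < 0 :=
        pairingIn_sum_neg P b (I ∪ B) hsub c j j' i hj j'.2
          (fun i' hi' hc' => by rintro rfl; exact hcj ⟨hi', hc'⟩) hiIB hci hne
      by_cases hjA : (j' : ι) ∈ A
      · have hg := hgood j c ⟨hj, i0, hi0, hci0⟩
        exact absurd hneg (not_lt.mpr (hcon j' hjA j hg.1 hg.2))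
      · have hjIB : (j' : ι) ∈ I ∪ B := by
          have hmem : ∀ x ∈ b.support, x ∈ I ∪ A ∪ B := fun x hx => by rw [hcover]; exact hx
          have := hmem _ j'.2
          simp only [Finset.mem_union] at this ⊢
          tauto
        have hcj0 : c j' = 0 := by
          by_contra h
          exact hcj ⟨hjIB, h⟩
        -- the new coefficient function
        let c' : ι → ℕ := c + Pi.single (j' : ι) 1
        have hsum' : P.root j + P.root j' = ∑ i ∈ I ∪ B, c' i • P.root i := by
          simp only [c', Pi.add_apply, add_smul]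
          rw [Finset.sum_add_distrib, ← hj]
          congr 1
          rw [Finset.sum_eq_single (j' : ι)]
          · simp
          · intro i _ hi
            simp [hi]
          · intro h
            exact absurd hjIB h
        have hne' : P.root j ≠ - P.root j' := by
          intro h
          have h0 : ∑ i ∈ I ∪ B, (c' i : k) • P.root i = 0 := by
            have : ∑ i ∈ I ∪ B, (c' i : k) • P.root i = ∑ i ∈ I ∪ B, c' i • P.root i :=
              Finset.sum_congr rfl fun i _ => by rw [Nat.cast_smul_eq_nsmul]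
            rw [this, ← hsum', h]
            simp
          have := coeff_zero P b (I ∪ B) hsub _ h0 j' hjIB
          simp [c', hcj0] at this
        obtain ⟨j'', hj''⟩ := P.root_add_root_mem_of_pairingIn_neg hneg hne'
        refine ⟨hjIB, j'', c', ⟨by rw [hj'', hsum'], i0, hi0, ?_⟩, ?_⟩
        · simp only [c', Pi.add_apply]
          omega
        · simp [c']
  have ha0IB := key.1
  simp only [Finset.mem_union] at ha0IB
  rcases ha0IB with h | h
  · exact Finset.disjoint_left.mp hIA h ha0
  · exact Finset.disjoint_left.mp hAB ha0 h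

end Groth.Agent.Lib.Helper31.RC
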