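import Mathlib
import Groth.Agent.Lib.Helper16.RootD11

/-!
# Dominant homomorphisms form a fundamental domain for the Weyl group (root data over ℤ)
-/

set_option autoImplicit false
set_option linter.unusedSectionVars false

open RootD RootPairing Groth.Agent.Lib.Helper16

namespace Groth.Agent.Lib.Helper31.RDD

variable {ι M N : Type*} [AddCommGroup M] [AddCommGroup N] {P : RootPairing ι ℤ M N} [Finite ι]
  {Γ : Type*} [AddCommGroup Γ] [LinearOrder Γ] [IsOrderedAddMonoid Γ]

theorem f_smul_reflection (f : M →+ Γ) (g : P.Aut) (l : ι) (m : M) :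
    f ((g * Equiv.reflection P l) • m) = f (g • m) - (P.coroot' l m) • f (g • P.root l) := by
  rw [mul_smul, Equiv.reflection_smul, P.reflection_apply, smul_sub, map_sub, smul_comm g,
    map_zsmul]

theorem exists_weyl_dominant {S : Set ι} (hS : IsPosSys P S) (f : M →+ Γ) :
    ∃ g : P.Aut, g ∈ P.weylGroup ∧ ∀ i ∈ S, 0 ≤ f (g • P.root i) := by
  obtain ⟨Δ, hΔ, hpos⟩ := exists_simpleSys_posOf_eq hS
  let P' : Set ι := {i | 0 < f (P.root i) ∨ (f (P.root i) = 0 ∧ i ∈ S)}
  have hcl : IsClosedSub P P' := by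
    intro i j k hi hj hk
    have hfk : f (P.root k) = f (P.root i) + f (P.root j) := by rw [hk, map_add]
    have hi0 : 0 ≤ f (P.root i) := by
      rcases hi with h | h
      · exact h.le
      · exact h.1.ge
    have hj0 : 0 ≤ f (P.root j) := by
      rcases hj with h | h
      · exact h.le
      · exact h.1.ge
    rcases hi with hi | hi
    · left
      rw [hfk]
      exact add_pos_of_pos_of_nonneg hi hj0
    · rcases hj with hj | hj
      · left
        rw [hfk]
        exact add_pos_of_nonneg_of_pos hi0 hj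
      · right
        exact ⟨by rw [hfk, hi.1, hj.1, add_zero], isPosSys_closed hS hi.2 hj.2 hk⟩
  have hcov : ∀ i, i ∈ P' ∨ P.reflectionPerm i i ∈ P' := by
    intro i
    have hneg : f (P.root (P.reflectionPerm i i)) = - f (P.root i) := by
      rw [root_negIdx, map_neg]
    rcases lt_trichotomy (f (P.root i)) 0 with h | h | h
    · right; left
      rw [hneg]
      exact neg_pos.mpr h
    · rcases hS.cover i with hi | hi
      · left; right
        exact ⟨h, hi⟩
      · right; right
        exact ⟨by rw [hneg, h, neg_zero], hi⟩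
    · left; left
      exact h
  obtain ⟨g, hgW, hg⟩ := exists_weyl_pos_subset hΔ hcl hcov
  refine ⟨g, hgW, fun i hi => ?_⟩
  have := hg i (hpos ▸ hi)
  rw [← root_smul]
  rcases this with h | h
  · exact h.le
  · exact h.1.ge

theorem dominant_fixed {S : Set ι} (hS : IsPosSys P S) (f : M →+ Γ)
    (hf : ∀ i ∈ S, 0 ≤ f (P.root i)) :
    ∀ g : P.Aut, g ∈ P.weylGroup → (∀ i ∈ S, 0 ≤ f (g • P.root i)) →
      ∀ m : M, f (g • m) = f m := by
  obtain ⟨Δ, hΔ, hpos⟩ := exists_simpleSys_posOf_eq hS
  intro g
  induction' hn : (invSet P Δ g).ncard using Nat.strong_induction_on with n ih generalizing g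
  intro hgW hdom m
  by_cases hall : ∀ l ∈ Δ, g • l ∈ posOf P Δ
  · have : g = 1 := eq_one_of_preserves_pos hΔ hgW (preserves_pos_of_simple hall)
    rw [this, one_smul]
  · push Not at hall
    obtain ⟨l, hl, hgl⟩ := hall
    have hlS : l ∈ S := hpos ▸ simple_mem_posOf l hl
    have h1 : 0 ≤ f (g • P.root l) := hdom l hlS
    have h2 : f (g • P.root l) ≤ 0 := by
      have hneg : P.reflectionPerm (g • l) (g • l) ∈ S := by
        rw [← hpos]
        exact (not_mem_posOf_iff hΔ _).mp hgl
      have := hf _ hneg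
      rw [root_negIdx, root_smul, map_neg] at this
      exact neg_nonneg.mp this
    have h0 : f (g • P.root l) = 0 := le_antisymm h2 h1
    have hg'W : g * Equiv.reflection P l ∈ P.weylGroup :=
      mul_mem hgW (P.reflection_mem_weylGroup l)
    have hlt := invSet_mul_reflection_lt hΔ l hl hgl
    have key : ∀ m, f ((g * Equiv.reflection P l) • m) = f (g • m) := by
      intro m
      rw [f_smul_reflection, h0, smul_zero, sub_zero]
    rw [← key]
    exact ih _ (hn ▸ hlt) (g * Equiv.reflection P l) rfl hg'W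
      (fun i hi => by rw [key]; exact hdom i hi) m

/-- **S19155** -/
theorem fundamental_domain {S : Set ι} (hS : IsPosSys P S) (f : M →+ Γ) :
    (∃ g : P.Aut, g ∈ P.weylGroup ∧ ∀ i ∈ S, 0 ≤ f (RootPairing.Equiv.weightHom P g (P.root i))) ∧
    (∀ g : P.Aut, g ∈ P.weylGroup → (∀ i ∈ S, 0 ≤ f (P.root i)) →
      (∀ i ∈ S, 0 ≤ f (RootPairing.Equiv.weightHom P g (P.root i))) →
      ∀ m : M, f (RootPairing.Equiv.weightHom P g m) = f m) :=
  ⟨exists_weyl_dominant hS f, fun g hg hf hdom => dominant_fixed hS f hf g hg hdom⟩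

end Groth.Agent.Lib.Helper31.RDD
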