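import Mathlib
import Groth.Agent.Lib.Helper31.RootDDom

/-!
# Strong and weak dominance (root data over ℤ) -- S19156
-/

set_option autoImplicit false
set_option linter.unusedSectionVars false

open RootD RootPairing Groth.Agent.Lib.Helper16
open scoped Classical

namespace Groth.Agent.Lib.Helper31.RDD

variable {ι M N : Type*} [AddCommGroup M] [AddCommGroup N] {P : RootPairing ι ℤ M N} [Fintype ι]
  {Γ : Type*} [AddCommGroup Γ] [LinearOrder Γ] [IsOrderedAddMonoid Γ]

/-- the sum of the positive roots -/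
noncomputable def twoRho (P : RootPairing ι ℤ M N) (S : Set ι) : M :=
  ∑ k ∈ Finset.univ.filter (fun k => k ∈ S), P.root k

theorem coroot'_twoRho (S : Set ι) (j : ι) :
    P.coroot' j (twoRho P S) = ∑ k ∈ Finset.univ.filter (fun k => k ∈ S), P.pairing k j := by
  unfold twoRho
  rw [map_sum]
  rfl

/-- if `k ∈ S` and `s_j k ∉ S` then the pairing is positive -/
theorem pairing_pos_of_reflection_not_mem {S : Set ι} (hS : IsPosSys P S) {j k : ι} (hj : j ∈ S)
    (hk : k ∈ S) (hjk : P.reflectionPerm j k ∉ S) : 0 < P.pairing k j := by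
  by_contra hle
  push Not at hle
  apply hjk
  apply hS.sat 1 Nat.one_pos
  rw [one_smul, P.root_reflectionPerm, P.reflection_apply]
  obtain ⟨n, hn⟩ := Int.eq_ofNat_of_zero_le (show 0 ≤ -P.pairing k j by omega)
  have : P.root k - (P.coroot' j (P.root k)) • P.root j = P.root k + n • P.root j := by
    have h1 : P.coroot' j (P.root k) = P.pairing k j := rfl
    rw [h1, sub_eq_add_neg, ← neg_smul, hn, natCast_zsmul]
  rw [this]
  exact add_mem (AddSubmonoid.subset_closure (Set.mem_image_of_mem P.root hk))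
    (nsmul_mem (AddSubmonoid.subset_closure (Set.mem_image_of_mem P.root hj)) n)

theorem twoRho_pos {S : Set ι} (hS : IsPosSys P S) {j : ι} (hj : j ∈ S) :
    0 < P.coroot' j (twoRho P S) := by
  rw [coroot'_twoRho]
  set F := Finset.univ.filter (fun k => k ∈ S) with hF
  have hmemF : ∀ k, k ∈ F ↔ k ∈ S := fun k => by simp [hF]
  rw [← Finset.sum_filter_add_sum_filter_not F (fun k => P.reflectionPerm j k ∈ S)]
  have h1 : ∑ k ∈ F.filter (fun k => P.reflectionPerm j k ∈ S), P.pairing k j = 0 := by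
    apply Finset.sum_involution (fun k _ => P.reflectionPerm j k)
    · intro k _
      rw [← P.pairing_reflectionPerm, P.pairing_reflectionPerm_self_right]
      ring
    · intro k _ hne heq
      apply hne
      have h1 := P.pairing_reflectionPerm j k j
      rw [heq, P.pairing_reflectionPerm_self_right] at h1
      omega
    · intro k hk
      rw [Finset.mem_filter, hmemF] at hk ⊢
      refine ⟨hk.2, ?_⟩
      rw [P.reflectionPerm_self]
      exact hk.1
    · intro k _
      exact P.reflectionPerm_self j k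
  rw [h1, zero_add]
  have hjmem : j ∈ F.filter (fun k => ¬ P.reflectionPerm j k ∈ S) := by
    rw [Finset.mem_filter, hmemF]
    exact ⟨hj, hS.disjoint hj⟩
  have hnn : ∀ k ∈ F.filter (fun k => ¬ P.reflectionPerm j k ∈ S), 0 ≤ P.pairing k j := by
    intro k hk
    rw [Finset.mem_filter, hmemF] at hk
    exact (pairing_pos_of_reflection_not_mem hS hj hk.1 hk.2).le
  calc (0 : ℤ) < P.pairing j j := by rw [P.pairing_same]; norm_num
    _ ≤ ∑ k ∈ F.filter (fun k => ¬ P.reflectionPerm j k ∈ S), P.pairing k j :=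
      Finset.single_le_sum hnn hjmem

/-- strong dominance -/
theorem strong_dominance {S : Set ι} (hS : IsPosSys P S) (f : M →+ Γ)
    (hf : ∀ i ∈ S, 0 ≤ f (P.root i)) :
    ∀ g : P.Aut, g ∈ P.weylGroup → ∃ c : ι → Γ, (∀ i, 0 ≤ c i) ∧ (∀ i, i ∉ S → c i = 0) ∧
      ∀ m : M, f m - f (g • m) = ∑ i, (P.coroot' i m) • c i := by
  obtain ⟨Δ, hΔ, hpos⟩ := exists_simpleSys_posOf_eq hS
  intro g
  induction' hn : (invSet P Δ g).ncard using Nat.strong_induction_on with n ih generalizing g
  intro hgW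
  by_cases hall : ∀ l ∈ Δ, g • l ∈ posOf P Δ
  · have : g = 1 := eq_one_of_preserves_pos hΔ hgW (preserves_pos_of_simple hall)
    refine ⟨fun _ => 0, fun _ => le_rfl, fun _ _ => rfl, fun m => ?_⟩
    rw [this, one_smul, sub_self]
    simp
  · push Not at hall
    obtain ⟨l, hl, hgl⟩ := hall
    have hlS : l ∈ S := hpos ▸ simple_mem_posOf l hl
    have hneg : P.reflectionPerm (g • l) (g • l) ∈ S := by
      rw [← hpos]
      exact (not_mem_posOf_iff hΔ _).mp hgl
    have ha : 0 ≤ -f (g • P.root l) := by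
      have := hf _ hneg
      rw [root_negIdx, root_smul, map_neg] at this
      exact this
    have hg'W : g * Equiv.reflection P l ∈ P.weylGroup :=
      mul_mem hgW (P.reflection_mem_weylGroup l)
    have hlt := invSet_mul_reflection_lt hΔ l hl hgl
    obtain ⟨c', hc'0, hc'S, hc'⟩ := ih _ (hn ▸ hlt) (g * Equiv.reflection P l) rfl hg'W
    refine ⟨fun i => c' i + (Pi.single l (-f (g • P.root l)) : ι → Γ) i, fun i => ?_,
      fun i hi => ?_, fun m => ?_⟩
    · dsimp only
      apply add_nonneg (hc'0 i)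
      by_cases h : i = l
      · subst h; rw [Pi.single_eq_same]; exact ha
      · rw [Pi.single_eq_of_ne h]
    · have h : i ≠ l := fun h => hi (h ▸ hlS)
      dsimp only
      rw [hc'S i hi, Pi.single_eq_of_ne h, add_zero]
    · have h1 := hc' m
      rw [f_smul_reflection] at h1
      simp only [smul_add, Finset.sum_add_distrib]
      rw [← h1, Finset.sum_eq_single l]
      · rw [Pi.single_eq_same, smul_neg]
        abel
      · intro i _ hi
        rw [Pi.single_eq_of_ne hi, smul_zero]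
      · intro h
        exact absurd (Finset.mem_univ l) h

/-- weak dominance implies dominance -/
theorem dominant_of_weak {S : Set ι} (hS : IsPosSys P S) (f : M →+ Γ)
    (h : ∀ g : P.Aut, g ∈ P.weylGroup → ∀ m : M, (∀ i ∈ S, 0 ≤ P.coroot' i m) →
      f (g • m) ≤ f m) : ∀ i ∈ S, 0 ≤ f (P.root i) := by
  intro i hi
  have hdom : ∀ j ∈ S, 0 ≤ P.coroot' j (twoRho P S) := fun j hj => (twoRho_pos hS hj).le
  have h1 := h (Equiv.reflection P i) (P.reflection_mem_weylGroup i) (twoRho P S) hdom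
  rw [Equiv.reflection_smul, P.reflection_apply, map_sub, map_zsmul] at h1
  have hpos := twoRho_pos hS hi
  by_contra hneg
  push Not at hneg
  have : (P.coroot' i (twoRho P S)) • f (P.root i) < 0 := by
    obtain ⟨n, hn⟩ : ∃ n : ℕ, P.coroot' i (twoRho P S) = n := ⟨_, (Int.toNat_of_nonneg hpos.le).symm⟩
    rw [hn, natCast_zsmul]
    have hn0 : n ≠ 0 := by rintro rfl; rw [hn] at hpos; exact lt_irrefl _ hpos
    exact nsmul_neg hneg hn0
  have h2 : f (twoRho P S) < f (twoRho P S) - (P.coroot' i (twoRho P S)) • f (P.root i) := by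
    rw [lt_sub_iff_add_lt]
    exact add_lt_of_neg_right _ this
  exact absurd h1 (not_le.mpr h2)

theorem weak_of_strong {S : Set ι} (f : M →+ Γ) (g : P.Aut)
    (h : ∃ c : ι → Γ, (∀ i, 0 ≤ c i) ∧ (∀ i, i ∉ S → c i = 0) ∧
      ∀ m : M, f m - f (g • m) = ∑ i, (P.coroot' i m) • c i) (m : M)
    (hm : ∀ i ∈ S, 0 ≤ P.coroot' i m) : f (g • m) ≤ f m := by
  obtain ⟨c, hc0, hcS, hc⟩ := h
  rw [← sub_nonneg, hc m]
  apply Finset.sum_nonneg
  intro i _
  by_cases hi : i ∈ S
  · exact zsmul_nonneg (hc0 i) (hm i hi)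
  · rw [hcS i hi, smul_zero]

/-- **S19156** -/
theorem dominance_iff {S : Set ι} (hS : IsPosSys P S) (f : M →+ Γ) :
    ((∀ i ∈ S, 0 ≤ f (P.root i)) ↔
      ∀ g : P.Aut, g ∈ P.weylGroup → ∃ c : ι → Γ, (∀ i, 0 ≤ c i) ∧ (∀ i, i ∉ S → c i = 0) ∧
        ∀ m : M, f m - f (RootPairing.Equiv.weightHom P g m) = ∑ i, (P.coroot' i m) • c i) ∧
    ((∀ i ∈ S, 0 ≤ f (P.root i)) ↔
      ∀ g : P.Aut, g ∈ P.weylGroup → ∀ m : M, (∀ i ∈ S, 0 ≤ P.coroot' i m) →
        f (RootPairing.Equiv.weightHom P g m) ≤ f m) := by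
  refine ⟨⟨fun hf => strong_dominance hS f hf, fun h => ?_⟩, ⟨fun hf g hg m hm => ?_, fun h => ?_⟩⟩
  · exact dominant_of_weak hS f (fun g hg m hm => weak_of_strong f g (h g hg) m hm)
  · exact weak_of_strong f g (strong_dominance hS f hf g hg) m hm
  · exact dominant_of_weak hS f h

end Groth.Agent.Lib.Helper31.RDD
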