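import Mathlib
import Groth.Agent.Lib.Helper31.RootDDom2

/-!
# Weak dominance order through W-stable finite sets -- S19161
-/

set_option autoImplicit false
set_option linter.unusedSectionVars false

open RootD RootPairing Groth.Agent.Lib.Helper16
open scoped Classical

namespace Groth.Agent.Lib.Helper31.RDD

variable {ι M N : Type*} [AddCommGroup M] [AddCommGroup N] {P : RootPairing ι ℤ M N} [Finite ι]
  {Γ : Type*} [AddCommGroup Γ] [LinearOrder Γ] [IsOrderedAddMonoid Γ]

/-- weak dominance for a dominant hom (Finite version) -/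
theorem weak_dominance {S : Set ι} (hS : IsPosSys P S) (f : M →+ Γ)
    (hf : ∀ i ∈ S, 0 ≤ f (P.root i)) (g : P.Aut) (hg : g ∈ P.weylGroup) (m : M)
    (hm : ∀ i ∈ S, 0 ≤ P.coroot' i m) : f (g • m) ≤ f m := by
  let _ : Fintype ι := Fintype.ofFinite ι
  exact weak_of_strong f g (strong_dominance hS f hf g hg) m hm

/-- the invariant form as an additive map in the second variable -/
noncomputable def formHom (P : RootPairing ι ℤ M N) (m : M) : M →+ ℤ :=
  ((@RootPairing.RootForm ι ℤ M N _ _ _ _ _ P (Fintype.ofFinite ι)) m).toAddMonoidHom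

theorem formHom_apply (m x : M) :
    formHom P m x = (@RootPairing.RootForm ι ℤ M N _ _ _ _ _ P (Fintype.ofFinite ι)) m x := rfl

theorem formHom_smul_smul (g : P.Aut) (hg : g ∈ P.weylGroup) (m x : M) :
    formHom P (g • m) (g • x) = formHom P m x := by
  let _ : Fintype ι := Fintype.ofFinite ι
  induction hg using Subgroup.closure_induction generalizing m x with
  | mem g hg =>
    obtain ⟨i, rfl⟩ := hg
    rw [formHom_apply, formHom_apply, Equiv.reflection_smul, Equiv.reflection_smul]
    exact P.rootForm_reflection_reflection_apply i m x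
  | one => rw [one_smul, one_smul]
  | mul g h _ _ ihg ihh => rw [mul_smul, mul_smul, ihg, ihh]
  | inv g _ ih =>
    have := ih (g⁻¹ • m) (g⁻¹ • x)
    rw [smul_inv_smul, smul_inv_smul] at this
    exact this.symm

theorem coroot'_mul_len (i : ι) (x : M) :
    P.coroot' i x * formHom P (P.root i) (P.root i) = 2 * formHom P x (P.root i) := by
  let _ : Fintype ι := Fintype.ofFinite ι
  have h := P.rootForm_self_smul_coroot i
  have h2 := congrArg (fun y => P.toLinearMap x y) h
  simp only [map_smul, LinearMap.map_smul_of_tower, P.toLinearMap_apply_apply_Polarization] at h2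
  rw [formHom_apply, formHom_apply]
  have hsymm : P.RootForm x (P.root i) = P.RootForm (P.root i) x := by
    have := P.rootForm_symmetric.eq x (P.root i)
    simpa using this
  rw [hsymm, mul_comm]
  simpa using h2

theorem len_pos (i : ι) : 0 < formHom P (P.root i) (P.root i) := by
  let _ : Fintype ι := Fintype.ofFinite ι
  rw [formHom_apply, P.rootForm_root_self]
  calc (0 : ℤ) < P.pairing i i * P.pairing i i := by rw [P.pairing_same]; norm_num
    _ ≤ ∑ j, P.pairing i j * P.pairing i j :=
      Finset.single_le_sum (f := fun j => P.pairing i j * P.pairing i j)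
        (fun j _ => mul_self_nonneg _) (Finset.mem_univ i)

/-- every vector of `M` has a dominant Weyl conjugate -/
theorem exists_weyl_smul_dominant {S : Set ι} (hS : IsPosSys P S) (m : M) :
    ∃ g : P.Aut, g ∈ P.weylGroup ∧ ∀ i ∈ S, 0 ≤ P.coroot' i (g • m) := by
  obtain ⟨g, hg, hdom⟩ := exists_weyl_dominant hS (formHom P m)
  refine ⟨g⁻¹, inv_mem hg, fun i hi => ?_⟩
  have h1 := hdom i hi
  have h2 : formHom P m (g • P.root i) = formHom P (g⁻¹ • m) (P.root i) := by
    have := formHom_smul_smul g hg (g⁻¹ • m) (P.root i)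
    rw [smul_inv_smul] at this
    exact this
  rw [h2] at h1
  have h3 := coroot'_mul_len (P := P) i (g⁻¹ • m)
  by_contra hneg
  push Not at hneg
  have := mul_neg_of_neg_of_pos hneg (len_pos (P := P) i)
  omega

theorem finite_weylGroup : Finite P.weylGroup := by
  let φ : P.weylGroup → Equiv.Perm ι := fun g => MulAction.toPerm (g : P.Aut)
  apply Finite.of_injective φ
  intro g h hgh
  apply Subtype.ext
  apply weyl_ext g.2 h.2
  intro k
  have := congrArg (fun σ : Equiv.Perm ι => σ k) hgh
  exact this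

/-- **S19161** -/
theorem weakLE_iff {S : Set ι} (hS : IsPosSys P S) (f₁ f₂ : M →+ Γ)
    (hf₁ : ∀ i ∈ S, 0 ≤ f₁ (P.root i)) (hf₂ : ∀ i ∈ S, 0 ≤ f₂ (P.root i)) :
    (∀ m : M, (∀ i ∈ S, 0 ≤ P.coroot' i m) → f₁ m ≤ f₂ m) ↔
    ∀ (X : Finset M) (hX : X.Nonempty),
      (∀ g : P.Aut, g ∈ P.weylGroup → ∀ m ∈ X, RootPairing.Equiv.weightHom P g m ∈ X) →
      X.sup' hX f₁ ≤ X.sup' hX f₂ := by
  constructor
  · intro h X hX hstab
    rw [Finset.sup'_le_iff]
    intro m₀ hm₀
    obtain ⟨g, hg, hdom⟩ := exists_weyl_smul_dominant hS m₀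
    have h1 : f₁ m₀ ≤ f₁ (g • m₀) := by
      have := weak_dominance hS f₁ hf₁ g⁻¹ (inv_mem hg) (g • m₀) hdom
      rw [inv_smul_smul] at this
      exact this
    have h2 : f₁ (g • m₀) ≤ f₂ (g • m₀) := h _ hdom
    have h3 : f₂ (g • m₀) ≤ X.sup' hX f₂ := Finset.le_sup' f₂ (hstab g hg m₀ hm₀)
    exact h1.trans (h2.trans h3)
  · intro h m hm
    have _ : Finite P.weylGroup := finite_weylGroup
    have hfin : (Set.range (fun g : P.weylGroup => (g : P.Aut) • m)).Finite := Set.finite_range _
    let X : Finset M := hfin.toFinset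
    have hmemX : ∀ x, x ∈ X ↔ ∃ g : P.Aut, g ∈ P.weylGroup ∧ g • m = x := by
      intro x
      rw [Set.Finite.mem_toFinset, Set.mem_range]
      constructor
      · rintro ⟨g, rfl⟩
        exact ⟨g, g.2, rfl⟩
      · rintro ⟨g, hg, rfl⟩
        exact ⟨⟨g, hg⟩, rfl⟩
    have hmX : m ∈ X := (hmemX m).mpr ⟨1, one_mem _, one_smul _ m⟩
    have hX : X.Nonempty := ⟨m, hmX⟩
    have hstab : ∀ g : P.Aut, g ∈ P.weylGroup → ∀ x ∈ X,
        RootPairing.Equiv.weightHom P g x ∈ X := by
      intro g hg x hx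
      change g • x ∈ X
      obtain ⟨w, hw, rfl⟩ := (hmemX x).mp hx
      exact (hmemX _).mpr ⟨g * w, mul_mem hg hw, mul_smul g w m⟩
    have h1 := h X hX hstab
    have h2 : f₁ m ≤ X.sup' hX f₁ := Finset.le_sup' f₁ hmX
    have h3 : X.sup' hX f₂ ≤ f₂ m := by
      rw [Finset.sup'_le_iff]
      intro b hb
      obtain ⟨w, hw, rfl⟩ := (hmemX b).mp hb
      exact weak_dominance hS f₂ hf₂ w hw m hm
    exact h2.trans (h1.trans h3)

end Groth.Agent.Lib.Helper31.RDD
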