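import Mathlib
import Groth.Prelude.Def_RedSub

set_option autoImplicit false
set_option linter.unusedSectionVars false

namespace Groth.Agent.Lib.Helper31.RX

open RedSub

variable {idx M N : Type} [AddCommGroup M] [AddCommGroup N] [Finite idx]
  (P : RootPairing idx ℤ M N) (b : P.Base)

/-- elements of the positive cone are natural combinations of simple roots -/
theorem exists_sum_of_mem_closure (m : M)
    (hm : m ∈ AddSubmonoid.closure (P.root '' (b.support : Set idx))) :
    ∃ f : idx → ℕ, m = ∑ j ∈ b.support, f j • P.root j := by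
  classical
  refine AddSubmonoid.closure_induction ?_ ⟨0, by simp⟩ ?_ hm
  · rintro - ⟨j, hj, rfl⟩
    refine ⟨Pi.single j 1, ?_⟩
    rw [Finset.sum_eq_single j]
    · simp
    · intro k _ hk
      simp [hk]
    · intro h; exact absurd hj h
  · intro _ _ _ _ ⟨f, hf'⟩ ⟨g, hg'⟩
    exact ⟨f + g, by simp [hf', hg', add_smul, Finset.sum_add_distrib]⟩

theorem pos_iff_height (a : idx) : a ∈ posRoots P b ↔ 0 < b.height a := by
  constructor
  · intro h
    obtain ⟨f, hf⟩ := exists_sum_of_mem_closure P b _ h
    have h1 : P.root a = ∑ j ∈ b.support, ((f j : ℕ) : ℤ) • P.root j := by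
      rw [hf]; exact Finset.sum_congr rfl fun j _ => by rw [natCast_zsmul]
    have h2 := RootPairing.Base.height_eq_sum (b := b) h1
    have h3 : 0 ≤ b.height a := by
      rw [h2]; exact Finset.sum_nonneg fun j _ => by positivity
    exact lt_of_le_of_ne h3 (b.height_ne_zero a).symm
  · intro h
    rcases b.root_mem_or_neg_mem a with h1 | h1
    · exact h1
    · exfalso
      obtain ⟨f, hf⟩ := exists_sum_of_mem_closure P b _ h1
      have h1 : P.root a = ∑ j ∈ b.support, (-((f j : ℕ) : ℤ)) • P.root j := by
        rw [← neg_neg (P.root a), hf, ← Finset.sum_neg_distrib]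
        exact Finset.sum_congr rfl fun j _ => by rw [neg_smul, natCast_zsmul]
      have h2 := RootPairing.Base.height_eq_sum (b := b) h1
      have h3 : b.height a ≤ 0 := by
        rw [h2]; exact Finset.sum_nonpos fun j _ => by simp
      omega

theorem neg_iff_height (a : idx) : a ∈ negRoots P b ↔ b.height a < 0 := by
  constructor
  · intro h
    obtain ⟨f, hf⟩ := exists_sum_of_mem_closure P b _ h
    have h1 : P.root a = ∑ j ∈ b.support, (-((f j : ℕ) : ℤ)) • P.root j := by
      rw [← neg_neg (P.root a), hf, ← Finset.sum_neg_distrib]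
      exact Finset.sum_congr rfl fun j _ => by rw [neg_smul, natCast_zsmul]
    have h2 := RootPairing.Base.height_eq_sum (b := b) h1
    have h3 : b.height a ≤ 0 := by
      rw [h2]; exact Finset.sum_nonpos fun j _ => by simp
    exact lt_of_le_of_ne h3 (b.height_ne_zero a)
  · intro h
    rcases b.root_mem_or_neg_mem a with h1 | h1
    · exfalso
      have := (pos_iff_height P b a).mp h1
      omega
    · exact h1

theorem pos_or_neg (a : idx) : a ∈ posRoots P b ∨ a ∈ negRoots P b := b.root_mem_or_neg_mem a

theorem not_pos_and_neg (a : idx) (h1 : a ∈ posRoots P b) (h2 : a ∈ negRoots P b) : False := by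
  have := (pos_iff_height P b a).mp h1
  have := (neg_iff_height P b a).mp h2
  omega

/-- permutations of the roots behaving like Weyl group elements -/
def WL (w : Equiv.Perm idx) : Prop :=
  (∀ a c, P.pairing (w a) (w c) = P.pairing a c) ∧
    ∀ a c, w (P.reflectionPerm c a) = P.reflectionPerm (w c) (w a)

theorem WL_one : WL P 1 := ⟨fun _ _ => rfl, fun _ _ => rfl⟩

theorem pairing_refl_refl (i a c : idx) :
    P.pairing (P.reflectionPerm i a) (P.reflectionPerm i c) = P.pairing a c := by
  rw [P.pairing_reflectionPerm i (P.reflectionPerm i a) c, P.reflectionPerm_self]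

theorem WL_refl (i : idx) : WL P (P.reflectionPerm i) := by
  refine ⟨pairing_refl_refl P i, fun a c => ?_⟩
  apply P.root.injective
  have hL : P.root (P.reflectionPerm i (P.reflectionPerm c a)) =
      P.reflection i (P.root a) - P.pairing a c • P.reflection i (P.root c) := by
    rw [P.root_reflectionPerm i, P.root_reflectionPerm c, P.reflection_apply_root (i := c) (j := a),
      map_sub, map_smul]
  have hR : P.root (P.reflectionPerm (P.reflectionPerm i c) (P.reflectionPerm i a)) =
      P.reflection i (P.root a) - P.pairing a c • P.reflection i (P.root c) := by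
    rw [P.root_reflectionPerm (P.reflectionPerm i c),
      P.reflection_apply_root (i := P.reflectionPerm i c) (j := P.reflectionPerm i a),
      pairing_refl_refl, P.root_reflectionPerm i, P.root_reflectionPerm i]
  rw [hL, hR]

theorem WL.mul {w w' : Equiv.Perm idx} (h : WL P w) (h' : WL P w') : WL P (w * w') := by
  refine ⟨fun a c => ?_, fun a c => ?_⟩
  · simp only [Equiv.Perm.coe_mul, Function.comp_apply]
    rw [h.1, h'.1]
  · simp only [Equiv.Perm.coe_mul, Function.comp_apply]
    rw [h'.2, h.2]

theorem WL.inv {w : Equiv.Perm idx} (h : WL P w) : WL P w⁻¹ := by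
  refine ⟨fun a c => ?_, fun a c => ?_⟩
  · rw [← h.1 (w⁻¹ a) (w⁻¹ c)]
    simp
  · apply w.injective
    rw [h.2]
    simp

theorem WL_wordPerm (l : List idx) : WL P (wordPerm P l) := by
  unfold wordPerm
  induction l with
  | nil => exact WL_one P
  | cons a l ih =>
    rw [List.map_cons, List.prod_cons]
    exact (WL_refl P a).mul P ih

end Groth.Agent.Lib.Helper31.RX
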