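import Mathlib
import Groth.Prelude.Def_RedSub
import Groth.Agent.Lib.Helper31.RootExchange1

set_option autoImplicit false
set_option linter.unusedSectionVars false

namespace Groth.Agent.Lib.Helper31.RX

open RedSub

variable {idx M N : Type} [AddCommGroup M] [AddCommGroup N] [Finite idx]
  (P : RootPairing idx ℤ M N) (b : P.Base)

/-- inversion set -/
def Inv (w : Equiv.Perm idx) : Set idx := {a | a ∈ posRoots P b ∧ w a ∈ negRoots P b}

theorem root_refl_self (c : idx) : P.root (P.reflectionPerm c c) = -P.root c := by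
  rw [P.root_reflectionPerm, P.reflection_apply_self]

theorem neg_refl_self_of_pos (c : idx) (hc : c ∈ posRoots P b) :
    P.reflectionPerm c c ∈ negRoots P b := by
  show -P.root (P.reflectionPerm c c) ∈ AddSubmonoid.closure (P.root '' (b.support : Set idx))
  rw [root_refl_self, neg_neg]
  exact hc

theorem pos_refl_self_of_neg (c : idx) (hc : c ∈ negRoots P b) :
    P.reflectionPerm c c ∈ posRoots P b := by
  show P.root (P.reflectionPerm c c) ∈ AddSubmonoid.closure (P.root '' (b.support : Set idx))
  rw [root_refl_self]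
  exact hc

theorem ncard_lt (w : Equiv.Perm idx) (hw : WL P w) (c : idx) (hc : c ∈ posRoots P b)
    (hc' : w⁻¹ c ∈ posRoots P b) :
    (Inv P b w).ncard < (Inv P b (P.reflectionPerm c * w)).ncard := by
  set C := AddSubmonoid.closure (P.root '' (b.support : Set idx)) with hC
  set c' := w⁻¹ c with hc'def
  have hwc' : w c' = c := by simp [hc'def]
  set S₁ := Inv P b w with hS₁
  set S₂ := Inv P b (P.reflectionPerm c * w) with hS₂
  have hfin : ∀ S : Set idx, S.Finite := fun S => Set.toFinite S
  -- claim 2
  have hclaim2 : c' ∈ S₂ \ S₁ := by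
    refine ⟨⟨hc', ?_⟩, ?_⟩
    · show (P.reflectionPerm c * w) c' ∈ negRoots P b
      rw [Equiv.Perm.coe_mul, Function.comp_apply, hwc']
      exact neg_refl_self_of_pos P b c hc
    · rintro ⟨-, h⟩
      rw [hwc'] at h
      exact not_pos_and_neg P b c hc h
  -- claim 1
  have hclaim1 : ∀ a ∈ S₁ \ S₂, P.reflectionPerm c' a ∈ (S₂ \ S₁) \ {c'} := by
    rintro a ⟨⟨hapos, hwaneg⟩, hnot⟩
    have htwa : P.reflectionPerm c (w a) ∈ posRoots P b := by
      rcases pos_or_neg P b (P.reflectionPerm c (w a)) with h | h
      · exact h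
      · exact absurd ⟨hapos, h⟩ hnot
    set p := P.pairing (w a) c with hp
    have hroot : P.root (P.reflectionPerm c (w a)) = P.root (w a) - p • P.root c := by
      rw [P.root_reflectionPerm, P.reflection_apply_root]
    have hpneg : p < 0 := by
      by_contra hp0
      push Not at hp0
      apply not_pos_and_neg P b _ htwa
      show -P.root (P.reflectionPerm c (w a)) ∈ C
      rw [hroot, neg_sub, sub_eq_add_neg]
      refine C.add_mem ?_ hwaneg
      have : p • P.root c = p.toNat • P.root c := by
        rw [← natCast_zsmul, Int.toNat_of_nonneg hp0]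
      rw [this]
      exact C.nsmul_mem hc _
    have hpair : P.pairing a c' = p := by
      rw [hp, ← hwc', hw.1]
    have hroot' : P.root (P.reflectionPerm c' a) = P.root a + (-p).toNat • P.root c' := by
      have hnat : (((-p).toNat : ℕ) : ℤ) = -p := Int.toNat_of_nonneg (by omega)
      rw [P.root_reflectionPerm, P.reflection_apply_root, hpair, ← natCast_zsmul, hnat, neg_smul,
        sub_eq_add_neg]
    have ht'apos : P.reflectionPerm c' a ∈ posRoots P b := by
      show P.root (P.reflectionPerm c' a) ∈ C
      rw [hroot']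
      exact C.add_mem hapos (C.nsmul_mem hc' _)
    have hwt'a : w (P.reflectionPerm c' a) = P.reflectionPerm c (w a) := by
      rw [hw.2, hwc']
    refine ⟨⟨⟨ht'apos, ?_⟩, ?_⟩, ?_⟩
    · show (P.reflectionPerm c * w) (P.reflectionPerm c' a) ∈ negRoots P b
      rw [Equiv.Perm.coe_mul, Function.comp_apply, hwt'a, P.reflectionPerm_self]
      exact hwaneg
    · rintro ⟨-, h⟩
      rw [hwt'a] at h
      exact not_pos_and_neg P b _ htwa h
    · intro h
      rw [Set.mem_singleton_iff] at h
      have ha : a = P.reflectionPerm c' c' := by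
        have := congrArg (P.reflectionPerm c') h
        rw [P.reflectionPerm_self] at this
        exact this
      apply not_pos_and_neg P b a hapos
      rw [ha]
      exact neg_refl_self_of_pos P b c' hc'
  have h1 : (S₁ \ S₂).ncard ≤ ((S₂ \ S₁) \ {c'}).ncard :=
    Set.ncard_le_ncard_of_injOn (P.reflectionPerm c') hclaim1
      (fun x _ y _ h => (P.reflectionPerm c').injective h) (hfin _)
  have h2 : ((S₂ \ S₁) \ {c'}).ncard + 1 = (S₂ \ S₁).ncard :=
    Set.ncard_sdiff_singleton_add_one hclaim2 (hfin _)
  have h3 := Set.ncard_inter_add_ncard_sdiff_eq_ncard S₁ S₂ (hfin _)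
  have h4 := Set.ncard_inter_add_ncard_sdiff_eq_ncard S₂ S₁ (hfin _)
  rw [Set.inter_comm] at h4
  omega

theorem S15245 [P.IsReduced] (l : List idx) (c : idx)
    (hc : c ∈ RedSub.posRoots P b) :
    Set.ncard {a : idx | a ∈ RedSub.posRoots P b ∧ RedSub.wordPerm P l a ∈ RedSub.negRoots P b} <
        Set.ncard {a : idx | a ∈ RedSub.posRoots P b ∧
          (P.reflectionPerm c * RedSub.wordPerm P l) a ∈ RedSub.negRoots P b} ↔
      (RedSub.wordPerm P l)⁻¹ c ∈ RedSub.posRoots P b := by
  set w := wordPerm P l with hw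
  have hWL : WL P w := WL_wordPerm P l
  constructor
  · intro hlt
    by_contra hnot
    have hneg : w⁻¹ c ∈ negRoots P b := (pos_or_neg P b _).resolve_left hnot
    set t := P.reflectionPerm c with ht
    have hWL2 : WL P (t * w) := (WL_refl P c).mul P hWL
    have hinv : (t * w)⁻¹ c = P.reflectionPerm (w⁻¹ c) (w⁻¹ c) := by
      rw [mul_inv_rev, Equiv.Perm.coe_mul, Function.comp_apply]
      have : t⁻¹ c = P.reflectionPerm c c := by
        rw [ht, Equiv.Perm.inv_eq_iff_eq, P.reflectionPerm_self]
      rw [this, (hWL.inv P).2]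
    have hpos2 : (t * w)⁻¹ c ∈ posRoots P b := by
      rw [hinv]
      exact pos_refl_self_of_neg P b _ hneg
    have h := ncard_lt P b (t * w) hWL2 c hc hpos2
    have htt : P.reflectionPerm c * (t * w) = w := by
      rw [← mul_assoc, ht]
      ext x
      simp [P.reflectionPerm_self]
    rw [htt] at h
    exact absurd hlt (not_lt.mpr h.le)
  · intro hpos
    exact ncard_lt P b w hWL c hc hpos

end Groth.Agent.Lib.Helper31.RX
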