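import Mathlib

/-!
# Integral bases for finite crystallographic reduced root pairings over a domain

We work in the `ℤ`-span of the roots (`P.rootSpan ℤ`).
-/

set_option autoImplicit false
set_option linter.unusedSectionVars false

namespace Groth.Agent.Lib.Helper31.RPres

open Set Function Submodule IsAddIndecomposable Module
open scoped Classical

universe u v w x
variable {ι : Type u} {R : Type v} {M : Type w} {N : Type x} [CommRing R] [IsDomain R] [CharZero R]
  [AddCommGroup M] [Module R M] [AddCommGroup N] [Module R N] (P : RootPairing ι R M N)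
  [Finite ι] [P.IsCrystallographic]

/-- A `ℤ`-linear functional on the root lattice not vanishing on any root. -/
theorem exists_generic : ∃ f : Dual ℤ (P.rootSpan ℤ), ∀ i, f (P.rootSpanMem ℤ i) ≠ 0 := by
  have : Fintype ι := Fintype.ofFinite ι
  let e : ι ≃ Fin (Fintype.card ι) := Fintype.equivFin ι
  let p : ι → Polynomial ℤ := fun i =>
    ∑ j, Polynomial.C (P.pairingIn ℤ i j) * Polynomial.X ^ (e j : ℕ)
  have hp : ∀ i, p i ≠ 0 := by
    intro i h
    have h1 : (p i).coeff (e i : ℕ) = 2 := by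
      simp only [p, Polynomial.finsetSum_coeff, Polynomial.coeff_C_mul, Polynomial.coeff_X_pow]
      rw [Finset.sum_eq_single i]
      · simp
      · intro j _ hj
        have : (e i : ℕ) ≠ (e j : ℕ) := fun h' => hj (e.injective (Fin.ext h')).symm
        simp [this]
      · simp
    rw [h] at h1
    simp at h1
  have hprod : ∏ i, p i ≠ 0 := Finset.prod_ne_zero_iff.mpr (fun i _ => hp i)
  obtain ⟨t, ht⟩ := Infinite.exists_notMem_finset (∏ i, p i).roots.toFinset
  have ht' : (∏ i, p i).eval t ≠ 0 := by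
    intro h
    apply ht
    rw [Multiset.mem_toFinset, Polynomial.mem_roots hprod]
    exact h
  rw [Polynomial.eval_prod, Finset.prod_ne_zero_iff] at ht'
  refine ⟨∑ j, (t ^ (e j : ℕ)) • P.coroot'In ℤ j, fun i => ?_⟩
  have := ht' i (Finset.mem_univ i)
  simp only [p, Polynomial.eval_finsetSum, Polynomial.eval_mul, Polynomial.eval_C,
    Polynomial.eval_pow, Polynomial.eval_X] at this
  simp only [LinearMap.sum_apply, LinearMap.smul_apply,
    RootPairing.coroot'In_rootSpanMem_eq_pairingIn, smul_eq_mul]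
  rw [Finset.sum_congr rfl (fun j _ => mul_comm _ _)]
  exact this

/-- An integral base: simple roots w.r.t. a generic integral functional. -/
theorem exists_intBase : ∃ (s : Set ι) (f : Dual ℤ (P.rootSpan ℤ)),
    (∀ i ∈ s, 0 < f (P.rootSpanMem ℤ i)) ∧ (∀ i, f (P.rootSpanMem ℤ i) ≠ 0) ∧
    LinearIndependent ℤ (fun i : s => P.rootSpanMem ℤ i) ∧
    (∀ i, 0 < f (P.rootSpanMem ℤ i) →
      P.rootSpanMem ℤ i ∈ AddSubmonoid.closure (P.rootSpanMem ℤ '' s)) := by
  let _i := P.indexNeg
  have : Fintype ι := Fintype.ofFinite ι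
  obtain ⟨f, hf⟩ := exists_generic P
  set v : ι → P.rootSpan ℤ := P.rootSpanMem ℤ with hv
  have hneg : ∀ i, v (-i) = - v i := fun i => P.rootSpanMem_reflectionPerm_self ℤ i
  refine ⟨baseOf v (f : P.rootSpan ℤ →+ ℤ), f, ?_, hf, ?_, ?_⟩
  · intro i hi
    exact IsAddIndecomposable.baseOf_subset_pos v (f : P.rootSpan ℤ →+ ℤ) hi
  · have hpair : (baseOf v (f : P.rootSpan ℤ →+ ℤ)).Pairwise fun i j => P.pairingIn ℤ i j ≤ 0 := by
      intro i hi j hj hne
      have h1 := IsAddIndecomposable.pairwise_baseOf_sub_notMem v hneg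
        (f : P.rootSpan ℤ →+ ℤ) hf hi hj hne
      by_contra hcon
      push Not at hcon
      obtain ⟨k, hk⟩ := P.root_sub_root_mem_of_pairingIn_pos hcon hne
      apply h1
      refine ⟨k, Subtype.ext ?_⟩
      simp [hv, hk]
    obtain ⟨B, hB⟩ : ∃ B : P.RootPositiveForm ℤ, B.posForm.toQuadraticMap.PosDef :=
      ⟨P.posRootForm ℤ, by simpa using P.posRootForm_rootFormIn_posDef ℤ⟩
    have hp (i : baseOf v (f : P.rootSpan ℤ →+ ℤ)) : 0 < f (v i) :=
      IsAddIndecomposable.baseOf_subset_pos v (f : P.rootSpan ℤ →+ ℤ) i.2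
    have hn : Pairwise fun (i j : baseOf v (f : P.rootSpan ℤ →+ ℤ)) ↦
        B.posForm (v i) (v j) ≤ 0 := by
      rintro ⟨i, hi⟩ ⟨j, hj⟩ hij
      rw [B.posForm_apply_root_root_le_zero_iff]
      exact hpair hi hj (by simpa using hij)
    exact LinearMap.BilinForm.linearIndependent_of_pairwise_le_zero B.posForm hB f
      (fun i : baseOf v (f : P.rootSpan ℤ →+ ℤ) => v i) hp hn
  · intro i hi
    rw [AddSubmonoid.closure_image_isAddIndecomposable_baseOf v (f : P.rootSpan ℤ →+ ℤ)]
    exact AddSubmonoid.subset_closure ⟨i, hi, rfl⟩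

end Groth.Agent.Lib.Helper31.RPres
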