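import Mathlib
import Groth.Agent.Lib.Helper31.RootPres1

/-!
# Reachability of all roots from an integral base by simple reflections
-/

set_option autoImplicit false
set_option linter.unusedSectionVars false

namespace Groth.Agent.Lib.Helper31.RPres

open Set Function Submodule Module
open scoped Classical

universe u v w x
variable {ι : Type u} {R : Type v} {M : Type w} {N : Type x} [CommRing R] [IsDomain R] [CharZero R]
  [AddCommGroup M] [Module R M] [AddCommGroup N] [Module R N] (P : RootPairing ι R M N)
  [Finite ι] [P.IsCrystallographic]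

section
variable [Fintype ι] (s : Set ι) (f : Dual ℤ (P.rootSpan ℤ))

/-- nonnegative integral coefficients for elements of the closure -/
theorem exists_coeff_of_mem_closure (x : P.rootSpan ℤ)
    (hx : x ∈ AddSubmonoid.closure (P.rootSpanMem ℤ '' s)) :
    ∃ k : ι → ℕ, (∀ j, j ∉ s → k j = 0) ∧ x = ∑ j, k j • P.rootSpanMem ℤ j := by
  induction hx using AddSubmonoid.closure_induction with
  | mem x hx =>
    obtain ⟨j, hj, rfl⟩ := hx
    refine ⟨Pi.single j 1, fun j' hj' => ?_, ?_⟩
    · rw [Pi.single_apply, if_neg]; rintro rfl; exact hj' hj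
    · rw [Finset.sum_eq_single j]
      · simp
      · intro j' _ hj'; simp [hj']
      · simp
  | zero => exact ⟨0, fun _ _ => rfl, by simp⟩
  | add x y _ _ hx hy =>
    obtain ⟨k, hk, rfl⟩ := hx
    obtain ⟨l, hl, rfl⟩ := hy
    refine ⟨k + l, fun j hj => by simp [hk j hj, hl j hj], ?_⟩
    simp only [Pi.add_apply, add_smul, Finset.sum_add_distrib]

theorem coeff_zero (hli : LinearIndependent ℤ (fun i : s => P.rootSpanMem ℤ i))
    (c : ι → ℤ) (hc : ∀ j, j ∉ s → c j = 0) (h : ∑ j, c j • P.rootSpanMem ℤ j = 0) :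
    ∀ j, c j = 0 := by
  intro j
  by_cases hj : j ∈ s
  · have h1 : ∑ j : s, c j • P.rootSpanMem ℤ (j : ι) = 0 := by
      rw [← h]
      symm
      rw [← Finset.sum_subtype (Finset.univ.filter (· ∈ s)) (p := (· ∈ s)) (by simp)
        (fun j => c j • P.rootSpanMem ℤ j)]
      symm
      apply Finset.sum_subset (Finset.subset_univ _)
      intro j _ hj
      rw [Finset.mem_filter] at hj
      rw [hc j (fun h' => hj ⟨Finset.mem_univ _, h'⟩), zero_smul]
    exact Fintype.linearIndependent_iff.mp hli (fun j : s => c j) h1 ⟨j, hj⟩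
  · exact hc j hj

end

variable [P.IsReduced]

/-- the key descent step -/
theorem exists_descent (s : Set ι) (f : Dual ℤ (P.rootSpan ℤ))
    (hpos : ∀ i ∈ s, 0 < f (P.rootSpanMem ℤ i)) (hf : ∀ i, f (P.rootSpanMem ℤ i) ≠ 0)
    (hli : LinearIndependent ℤ (fun i : s => P.rootSpanMem ℤ i))
    (hcl : ∀ i, 0 < f (P.rootSpanMem ℤ i) →
      P.rootSpanMem ℤ i ∈ AddSubmonoid.closure (P.rootSpanMem ℤ '' s))
    (β : ι) (hβ : 0 < f (P.rootSpanMem ℤ β)) (hβs : β ∉ s) :
    ∃ α ∈ s, 0 < P.pairingIn ℤ β α ∧ 0 < f (P.rootSpanMem ℤ (P.reflectionPerm α β)) := by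
  have : Fintype ι := Fintype.ofFinite ι
  set v : ι → P.rootSpan ℤ := P.rootSpanMem ℤ with hv
  obtain ⟨k, hk, hkβ⟩ := exists_coeff_of_mem_closure P s (v β) (hcl β hβ)
  set B := (P.posRootForm ℤ) with hB
  have h1 : 0 < B.posForm (v β) (v β) := B.zero_lt_posForm_apply_root β
  have h2 : B.posForm (v β) (v β) = ∑ j, (k j : ℤ) * B.posForm (v β) (v j) := by
    calc B.posForm (v β) (v β) = B.posForm (v β) (∑ j, k j • P.rootSpanMem ℤ j) := by
          rw [← hkβ]
      _ = ∑ j, (k j : ℤ) * B.posForm (v β) (v j) := by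
          rw [map_sum]
          apply Finset.sum_congr rfl
          intro j _
          rw [← Nat.cast_smul_eq_nsmul ℤ, map_smul, smul_eq_mul]
  rw [h2] at h1
  obtain ⟨α, -, hα⟩ := Finset.exists_lt_of_sum_lt (s := Finset.univ)
    (f := fun _ => (0 : ℤ)) (g := fun j => (k j : ℤ) * B.posForm (v β) (v j)) (by simpa using h1)
  have hkα : 0 < k α := by
    rcases Nat.eq_zero_or_pos (k α) with h | h
    · rw [h] at hα; simp at hα
    · exact h
  have hαs : α ∈ s := by
    by_contra h; exact absurd (hk α h) hkα.ne'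
  have hBpos : 0 < B.posForm (v β) (v α) := by
    have : (0 : ℤ) < k α := by exact_mod_cast hkα
    exact (mul_pos_iff_of_pos_left this).mp hα
  have hpair : 0 < P.pairingIn ℤ β α := (B.zero_lt_apply_root_root_iff (i := β) (j := α)).mp hBpos
  refine ⟨α, hαs, hpair, ?_⟩
  -- positivity of the reflected root
  set γ := P.reflectionPerm α β with hγ
  have hvγ : v γ = v β - P.pairingIn ℤ β α • v α := by
    apply Subtype.ext
    simp only [hv, hγ, RootPairing.root_reflectionPerm]
    rw [P.reflection_apply_root' ℤ]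
    rfl
  rcases lt_or_gt_of_ne (hf γ) with hneg | hpos'
  · exfalso
    let _i := P.indexNeg
    have hneg' : 0 < f (v (-γ)) := by
      have : v (-γ) = - v γ := P.rootSpanMem_reflectionPerm_self ℤ γ
      rw [this, map_neg]; linarith
    obtain ⟨l, hl, hlγ⟩ := exists_coeff_of_mem_closure P s (v (-γ)) (hcl (-γ) hneg')
    have hvnγ : v (-γ) = - v γ := P.rootSpanMem_reflectionPerm_self ℤ γ
    -- coefficients
    have hsum : ∑ j, ((k j : ℤ) + (l j : ℤ) - (if j = α then P.pairingIn ℤ β α else 0)) • v j
        = 0 := by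
      have e1 : ∑ j, ((k j : ℤ) + (l j : ℤ) - (if j = α then P.pairingIn ℤ β α else 0)) • v j
          = ∑ j, k j • v j + ∑ j, l j • v j - P.pairingIn ℤ β α • v α := by
        simp only [sub_smul, add_smul, Finset.sum_sub_distrib, Finset.sum_add_distrib,
          Nat.cast_smul_eq_nsmul, ite_smul, zero_smul, Finset.sum_ite_eq', Finset.mem_univ,
          if_true]
      rw [e1, ← hkβ, ← hlγ, hvnγ, hvγ]
      abel
    have hzero := coeff_zero P s hli _ (by
      intro j hj
      have : j ≠ α := by rintro rfl; exact hj hαs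
      simp [hk j hj, hl j hj, this]) hsum
    have hkj : ∀ j, j ≠ α → k j = 0 := by
      intro j hj
      have := hzero j
      rw [if_neg hj, sub_zero] at this
      omega
    have hβα : P.root β = (k α) • P.root α := by
      have h3 : v β = k α • v α := by
        rw [hkβ]
        apply Finset.sum_eq_single α
        · intro j _ hj; rw [hkj j hj, zero_smul]
        · simp
      have := congrArg Subtype.val h3
      simpa [hv] using this
    have hdep : ¬ LinearIndependent R ![P.root β, P.root α] := by
      rw [LinearIndependent.pair_iff]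
      push Not
      refine ⟨1, -(k α : R), ?_, fun h => absurd h one_ne_zero⟩
      rw [hβα, one_smul, neg_smul, Nat.cast_smul_eq_nsmul, add_neg_cancel]
    rcases RootPairing.IsReduced.eq_or_eq_neg (P := P) β α hdep with h | h
    · have : β = α := P.root.injective h
      exact hβs (this ▸ hαs)
    · have h4 : v β = - v α := Subtype.ext (by simpa [hv] using h)
      have := hpos α hαs
      rw [h4, map_neg] at hβ
      linarith
  · exact hpos'

/-- reachability: every index is obtained from the base by simple reflections and negation. -/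
theorem induction_reflect (s : Set ι) (f : Dual ℤ (P.rootSpan ℤ))
    (hpos : ∀ i ∈ s, 0 < f (P.rootSpanMem ℤ i)) (hf : ∀ i, f (P.rootSpanMem ℤ i) ≠ 0)
    (hli : LinearIndependent ℤ (fun i : s => P.rootSpanMem ℤ i))
    (hcl : ∀ i, 0 < f (P.rootSpanMem ℤ i) →
      P.rootSpanMem ℤ i ∈ AddSubmonoid.closure (P.rootSpanMem ℤ '' s))
    {p : ι → Prop}
    (h₀ : ∀ i, p i → p (P.reflectionPerm i i))
    (h₁ : ∀ i ∈ s, p i)
    (h₂ : ∀ i j, p i → j ∈ s → p (P.reflectionPerm j i)) (i : ι) : p i := by
  set v : ι → P.rootSpan ℤ := P.rootSpanMem ℤ with hv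
  have hposcase : ∀ n : ℕ, ∀ β, 0 < f (v β) → (f (v β)).toNat = n → p β := by
    intro n
    induction n using Nat.strong_induction_on with
    | _ n ih =>
      intro β hβ hn
      by_cases hβs : β ∈ s
      · exact h₁ β hβs
      · obtain ⟨α, hαs, hpair, hγ⟩ := exists_descent P s f hpos hf hli hcl β hβ hβs
        set γ := P.reflectionPerm α β with hγdef
        have hvγ : v γ = v β - P.pairingIn ℤ β α • v α := by
          apply Subtype.ext
          simp only [hv, hγdef, RootPairing.root_reflectionPerm]
          rw [P.reflection_apply_root' ℤ]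
          rfl
        have hlt : f (v γ) < f (v β) := by
          rw [hvγ, map_sub, map_smul, smul_eq_mul]
          have := mul_pos hpair (hpos α hαs)
          linarith
        have hpγ : p γ := ih (f (v γ)).toNat (by omega) γ hγ rfl
        have := h₂ γ α hpγ hαs
        rwa [hγdef, P.reflectionPerm_self] at this
  rcases lt_or_gt_of_ne (hf i) with hneg | hpos'
  · have h1 : v (P.reflectionPerm i i) = - v i := P.rootSpanMem_reflectionPerm_self ℤ i
    have h2 : 0 < f (v (P.reflectionPerm i i)) := by rw [h1, map_neg]; linarith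
    have h3 := hposcase _ _ h2 rfl
    have h4 := h₀ _ h3
    have h5 : P.reflectionPerm (P.reflectionPerm i i) (P.reflectionPerm i i) = i := by
      let _i := P.indexNeg
      exact neg_neg i
    rwa [h5] at h4
  · exact hposcase _ i hpos' rfl

end Groth.Agent.Lib.Helper31.RPres
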