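import Mathlib
import Groth.Agent.Lib.Helper31.RootPres2

/-!
# Presentation of the root lattice (and coroot lattice) by reflection relations
-/

set_option autoImplicit false
set_option linter.unusedSectionVars false

namespace Groth.Agent.Lib.Helper31.RPres

open Set Function Submodule Module
open scoped Classical

universe u v w x
variable {ι : Type u} {R : Type v} {M : Type w} {N : Type x} [CommRing R] [IsDomain R] [CharZero R]
  [AddCommGroup M] [Module R M] [AddCommGroup N] [Module R N] (P : RootPairing ι R M N)
  [Finite ι] [P.IsCrystallographic] [P.IsReduced]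

/-- the reflection relation `[s_α β] - [β] + ⟨β, α^∨⟩ [α]` -/
noncomputable def rel (p : ι × ι) : ι →₀ ℤ :=
  Finsupp.single (P.reflectionPerm p.1 p.2) (1 : ℤ) - Finsupp.single p.2 1 +
    P.pairingIn ℤ p.2 p.1 • Finsupp.single p.1 1

theorem linearCombination_rel (p : ι × ι) :
    Finsupp.linearCombination ℤ (fun i : ι => (P.root i : M)) (rel P p) = 0 := by
  simp only [rel, map_add, map_sub, map_smul, Finsupp.linearCombination_single, one_smul,
    RootPairing.root_reflectionPerm]
  rw [P.reflection_apply_root' ℤ]
  abel

theorem ker_root_eq_span :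
    LinearMap.ker (Finsupp.linearCombination ℤ (fun i : ι => (P.root i : M))) =
      Submodule.span ℤ (Set.range (rel P)) := by
  have : Fintype ι := Fintype.ofFinite ι
  apply le_antisymm
  · obtain ⟨s, f, hpos, hf, hli, hcl⟩ := exists_intBase P
    set Rel := Submodule.span ℤ (Set.range (rel P)) with hRel
    set T := Rel ⊔ Submodule.span ℤ ((fun j : ι => Finsupp.single j (1 : ℤ)) '' s) with hT
    have hRT : ∀ p, rel P p ∈ T := fun p =>
      Submodule.mem_sup_left (Submodule.subset_span (Set.mem_range_self p))
    have hsingle : ∀ β : ι, Finsupp.single β (1 : ℤ) ∈ T := by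
      intro β
      refine induction_reflect P s f hpos hf hli hcl (p := fun β => Finsupp.single β (1 : ℤ) ∈ T)
        ?_ ?_ ?_ β
      · intro i hi
        have h1 := hRT (i, i)
        have h2 : rel P (i, i) = Finsupp.single (P.reflectionPerm i i) (1 : ℤ)
            - Finsupp.single i 1 + (2 : ℤ) • Finsupp.single i 1 := by
          simp only [rel, RootPairing.pairingIn_same]
        have h3 : Finsupp.single (P.reflectionPerm i i) (1 : ℤ)
            = rel P (i, i) + Finsupp.single i 1 - (2 : ℤ) • Finsupp.single i 1 := by
          rw [h2]; abel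
        rw [h3]
        exact T.sub_mem (T.add_mem h1 hi) (T.smul_mem _ hi)
      · intro i hi
        exact Submodule.mem_sup_right (Submodule.subset_span ⟨i, hi, rfl⟩)
      · intro i j hi hj
        have h1 := hRT (j, i)
        have hjT : Finsupp.single j (1 : ℤ) ∈ T :=
          Submodule.mem_sup_right (Submodule.subset_span ⟨j, hj, rfl⟩)
        have h3 : Finsupp.single (P.reflectionPerm j i) (1 : ℤ)
            = rel P (j, i) + Finsupp.single i 1 - P.pairingIn ℤ i j • Finsupp.single j 1 := by
          simp only [rel]; abel
        rw [h3]
        exact T.sub_mem (T.add_mem h1 hi) (T.smul_mem _ hjT)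
    have hTtop : T = ⊤ := by
      rw [eq_top_iff]
      intro x _
      rw [← Finsupp.sum_single x]
      apply Submodule.sum_mem
      intro β _
      have : Finsupp.single β (x β) = (x β) • Finsupp.single β (1 : ℤ) := by
        rw [Finsupp.smul_single, smul_eq_mul, mul_one]
      rw [this]
      exact T.smul_mem _ (hsingle β)
    intro x hx
    have hxT : x ∈ T := by rw [hTtop]; trivial
    obtain ⟨r, hr, y, hy, rfl⟩ := Submodule.mem_sup.mp hxT
    have hΦr : Finsupp.linearCombination ℤ (fun i : ι => (P.root i : M)) r = 0 := by
      have hle : Rel ≤ LinearMap.ker (Finsupp.linearCombination ℤ (fun i : ι => (P.root i : M))) := by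
        rw [hRel, Submodule.span_le]
        rintro - ⟨p, rfl⟩
        exact linearCombination_rel P p
      exact hle hr
    have hΦy : Finsupp.linearCombination ℤ (fun i : ι => (P.root i : M)) y = 0 := by
      have := LinearMap.mem_ker.mp hx
      rw [map_add, hΦr, zero_add] at this
      exact this
    rw [← Finsupp.supported_eq_span_single, Finsupp.mem_supported'] at hy
    have hy0 : ∀ j, y j = 0 := by
      apply coeff_zero P s hli (fun j => y j) hy
      apply Subtype.ext
      rw [Finsupp.linearCombination_apply, Finsupp.sum_fintype _ _ (fun i => by simp)] at hΦy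
      simp only [Submodule.coe_sum, Submodule.coe_smul, Submodule.coe_zero]
      exact hΦy
    have : y = 0 := Finsupp.ext hy0
    rw [this, add_zero]
    exact hr
  · rw [Submodule.span_le]
    rintro - ⟨p, rfl⟩
    exact linearCombination_rel P p

/-- The coroot version (S19011). -/
theorem ker_coroot_eq_span :
    LinearMap.ker (Finsupp.linearCombination ℤ (fun i : ι => (P.coroot i : N))) =
      Submodule.span ℤ (Set.range fun p : ι × ι =>
        Finsupp.single (P.reflectionPerm p.1 p.2) (1 : ℤ) - Finsupp.single p.2 1 +
          P.pairingIn ℤ p.1 p.2 • Finsupp.single p.1 1) := by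
  have : IsReflexive R M := .of_isPerfPair P.toLinearMap
  have : IsReflexive R N := .of_isPerfPair P.flip.toLinearMap
  exact ker_root_eq_span P.flip

end Groth.Agent.Lib.Helper31.RPres
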