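import Mathlib

set_option autoImplicit false

namespace Groth.Agent.Lib.Helper31.SL1

variable (A : Type*) [Ring A] (P : Type*) [AddCommGroup P] [Module A P]

/-- The trace ideal of `P`, as a left ideal. -/
def T : Ideal A := Submodule.span A {a | ∃ (f : P →ₗ[A] A) (x : P), f x = a}

variable {A P}

lemma gen_mem_T (f : P →ₗ[A] A) (x : P) : f x ∈ T A P :=
  Submodule.subset_span ⟨f, x, rfl⟩

/-- right multiplication of a functional -/
def mulR (f : P →ₗ[A] A) (b : A) : P →ₗ[A] A where
  toFun y := f y * b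
  map_add' y z := by simp [add_mul]
  map_smul' c y := by simp [mul_assoc]

lemma T_mul_right {a : A} (ha : a ∈ T A P) (b : A) : a * b ∈ T A P := by
  unfold T at ha
  induction ha using Submodule.span_induction with
  | mem x hx =>
    obtain ⟨f, y, rfl⟩ := hx
    exact gen_mem_T (mulR f b) y
  | zero => simp
  | add x y _ _ hx hy => rw [add_mul]; exact add_mem hx hy
  | smul c x _ hx => rw [smul_eq_mul, mul_assoc]; exact (T A P).mul_mem_left c hx

lemma T_le_of_forall {S : Ideal A} (h : ∀ (f : P →ₗ[A] A) (x : P), f x ∈ S) : T A P ≤ S := by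
  apply Submodule.span_le.mpr
  rintro _ ⟨f, x, rfl⟩
  exact h f x

/-- If `T ≤ J` then `P = J P`. -/
lemma top_le_smul_of_T_le [Module.Projective A P] {J : Ideal A} (h : T A P ≤ J) :
    (⊤ : Submodule A P) ≤ J • ⊤ := by
  obtain ⟨s, hs⟩ := (Module.projective_def' (R := A) (P := P)).mp inferInstance
  intro x _
  have hx : x = Finsupp.linearCombination A id (s x) := by
    have := LinearMap.congr_fun hs x
    simpa using this.symm
  rw [hx, Finsupp.linearCombination_apply]
  apply Submodule.sum_mem
  intro p _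
  apply Submodule.smul_mem_smul _ Submodule.mem_top
  apply h
  have : (s x) p = ((Finsupp.lapply p).comp s) x := rfl
  rw [this]
  exact gen_mem_T _ _

lemma one_mem_T [Module.Projective A P] [Module.Finite A P] [Nontrivial P]
    [IsSimpleRing (A ⧸ Ring.jacobson A)] : (1 : A) ∈ T A P := by
  set J := Ring.jacobson A with hJ
  -- image of T in A/J as a two-sided ideal
  let Tbar : TwoSidedIdeal (A ⧸ J) := TwoSidedIdeal.mk'
    {a | ∃ t ∈ T A P, Ideal.Quotient.mk J t = a}
    ⟨0, zero_mem _, by simp⟩
    (by rintro _ _ ⟨t, ht, rfl⟩ ⟨t', ht', rfl⟩; exact ⟨t + t', add_mem ht ht', by simp⟩)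
    (by rintro _ ⟨t, ht, rfl⟩; exact ⟨-t, neg_mem ht, by simp⟩)
    (by
      rintro x _ ⟨t, ht, rfl⟩
      obtain ⟨b, rfl⟩ := Ideal.Quotient.mk_surjective x
      exact ⟨b * t, (T A P).mul_mem_left b ht, by simp⟩)
    (by
      rintro _ y ⟨t, ht, rfl⟩
      obtain ⟨b, rfl⟩ := Ideal.Quotient.mk_surjective y
      exact ⟨t * b, T_mul_right ht b, by simp⟩)
  rcases eq_bot_or_eq_top Tbar with h | h
  · -- T ≤ J, contradiction
    exfalso
    have hle : T A P ≤ J := by
      intro t ht
      have : Ideal.Quotient.mk J t ∈ Tbar := by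
        rw [TwoSidedIdeal.mem_mk']
        exact ⟨t, ht, rfl⟩
      rw [h] at this
      have h0 : Ideal.Quotient.mk J t = 0 := by simpa using this
      exact Ideal.Quotient.eq_zero_iff_mem.mp h0
    have h1 := top_le_smul_of_T_le (P := P) hle
    have hfg : (⊤ : Submodule A P).FG := Module.Finite.fg_top
    have := Submodule.FG.eq_bot_of_le_jacobson_smul hfg h1
    exact top_ne_bot this
  · have h1 : (1 : A ⧸ J) ∈ Tbar := by rw [h]; trivial
    rw [TwoSidedIdeal.mem_mk'] at h1
    obtain ⟨t, ht, ht1⟩ := h1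
    by_contra hne
    have hT : T A P ≠ ⊤ := fun h => hne (h ▸ Submodule.mem_top)
    obtain ⟨m, hm, hTm⟩ := Ideal.exists_le_maximal _ hT
    have hJm : J ≤ m := Ring.jacobson_le_of_isMaximal m
    have h2 : (1 : A) - t ∈ J := by
      rw [← Ideal.Quotient.eq_zero_iff_mem]
      simp [ht1]
    have h3 : (1 : A) ∈ m := by
      have : (1 : A) = (1 - t) + t := by abel
      rw [this]
      exact add_mem (hJm h2) (hTm ht)
    exact hm.ne_top ((Ideal.eq_top_iff_one _).mpr h3)

/-- faithfulness -/
lemma eq_zero_of_forall_smul (h1 : (1 : A) ∈ T A P) (c : A) (hc : ∀ x : P, c • x = 0) : c = 0 := by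
  have key : ∀ t ∈ T A P, ∀ b : A, c * (b * t) = 0 := by
    intro t ht
    unfold T at ht
    induction ht using Submodule.span_induction with
    | mem x hx =>
      obtain ⟨f, y, rfl⟩ := hx
      intro b
      have : c * (b * f y) = f (c • (b • y)) := by simp [mul_assoc]
      rw [this, hc, map_zero]
    | zero => simp
    | add x y _ _ hx hy => intro b; rw [mul_add, mul_add, hx, hy, add_zero]
    | smul a x _ hx => intro b; rw [smul_eq_mul, ← mul_assoc b a x]; exact hx _
  simpa using key 1 h1 1

theorem main [Module.Projective A P] [Module.Finite A P] [Nontrivial P]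
    [IsSimpleRing (A ⧸ Ring.jacobson A)] (u : P ≃ₗ[A] P)
    (hu : ∀ f : Module.End A P, (u : P →ₗ[A] P) ∘ₗ f = f ∘ₗ (u : P →ₗ[A] P)) :
    ∃! a : A, (∀ b : A, a * b = b * a) ∧ ∀ x : P, u x = a • x := by
  have h1 : (1 : A) ∈ T A P := one_mem_T
  -- existence of a
  let S : Ideal A :=
    { carrier := {a | ∃ a' : A, ∀ x : P, a • u x = a' • x}
      zero_mem' := ⟨0, by simp⟩
      add_mem' := by
        rintro a b ⟨a', ha⟩ ⟨b', hb⟩
        exact ⟨a' + b', fun x => by rw [add_smul, add_smul, ha, hb]⟩
      smul_mem' := by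
        rintro c a ⟨a', ha⟩
        exact ⟨c * a', fun x => by rw [smul_eq_mul, mul_smul, mul_smul, ha]⟩ }
  have hTS : T A P ≤ S := by
    apply T_le_of_forall
    intro f y
    refine ⟨f (u y), fun x => ?_⟩
    -- endomorphism e z = f z • x
    let e : Module.End A P :=
      { toFun := fun z => f z • x
        map_add' := fun z w => by simp [add_smul]
        map_smul' := fun c z => by simp [mul_smul] }
    have := LinearMap.congr_fun (hu e) y
    simp only [LinearMap.coe_comp, Function.comp_apply, LinearEquiv.coe_coe] at this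
    change u (f y • x) = f (u y) • x at this
    rw [← this, map_smul]
  obtain ⟨a, ha⟩ := hTS h1
  simp only [one_smul] at ha
  have hcent : ∀ b : A, a * b = b * a := by
    intro b
    have : a * b - b * a = 0 := by
      apply eq_zero_of_forall_smul (P := P) h1
      intro x
      rw [sub_smul, mul_smul, mul_smul, ← ha, ← ha, map_smul, sub_self]
    exact sub_eq_zero.mp this
  refine ⟨a, ⟨hcent, ha⟩, ?_⟩
  rintro a' ⟨_, ha'⟩
  have : a' - a = 0 := by
    apply eq_zero_of_forall_smul (P := P) h1
    intro x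
    rw [sub_smul, ← ha, ← ha', sub_self]
  exact sub_eq_zero.mp this

end Groth.Agent.Lib.Helper31.SL1
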