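import Mathlib

set_option autoImplicit false
set_option linter.unusedSectionVars false
set_option linter.unusedVariables false

namespace Groth.Agent.Lib.Helper31.Schub1

open Matrix

universe u
variable {K : Type u} [Field K] {n d : ℕ}

/-- generic: codimension-one bound. -/
lemma finrank_le_succ {E : Type*} [AddCommGroup E] [Module K E] [FiniteDimensional K E]
    (U U' : Submodule K E) (φ : E →ₗ[K] K) (h : ∀ x ∈ U', φ x = 0 → x ∈ U) :
    Module.finrank K U' ≤ Module.finrank K U + 1 := by
  let ψ : U' →ₗ[K] K := φ.domRestrict U'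
  have h1 := LinearMap.finrank_range_add_finrank_ker ψ
  have h2 : Module.finrank K (LinearMap.range ψ) ≤ 1 := by
    have := Submodule.finrank_le (LinearMap.range ψ)
    simpa using this
  have h3 : Module.finrank K (LinearMap.ker ψ) ≤ Module.finrank K U := by
    let ι : LinearMap.ker ψ →ₗ[K] U :=
      { toFun := fun x => ⟨x.1.1, h x.1.1 x.1.2 (by
          have := x.2
          rw [LinearMap.mem_ker] at this
          exact this)⟩
        map_add' := fun x y => rfl
        map_smul' := fun c x => rfl }
    apply LinearMap.finrank_le_finrank_of_injective (f := ι)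
    intro x y hxy
    have : x.1.1 = y.1.1 := congrArg (fun z : U => z.1) hxy
    exact Subtype.ext (Subtype.ext this)
  omega

/-- a non-injective map out of a too-big space -/
lemma exists_ne_zero_ker {E F : Type*} [AddCommGroup E] [Module K E] [FiniteDimensional K E]
    [AddCommGroup F] [Module K F] [FiniteDimensional K F] (ψ : E →ₗ[K] F)
    (h : Module.finrank K F < Module.finrank K E) : ∃ x : E, x ≠ 0 ∧ ψ x = 0 := by
  by_contra hcon
  push Not at hcon
  have hinj : Function.Injective ψ := by
    rw [injective_iff_map_eq_zero]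
    intro x hx
    by_contra hx0
    exact hcon x hx0 hx
  have := LinearMap.finrank_le_finrank_of_injective hinj
  omega

section main

variable (V : ℕ → Submodule K (Fin n → K))
    (hV : ∀ (j : ℕ) (v : Fin n → K), v ∈ V j ↔ ∀ l : Fin n, j ≤ (l : ℕ) → v l = 0)
    (A : Matrix (Fin d) (Fin n) K)

/-- the row space -/
abbrev W : Submodule K (Fin n → K) := Submodule.span K (Set.range fun i : Fin d => A i)

/-- the dimension function -/
noncomputable def f (j : ℕ) : ℕ := Module.finrank K ↥(W A ⊓ V j)

include hV

lemma V_mono {j j' : ℕ} (h : j ≤ j') : V j ≤ V j' := by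
  intro v hv
  rw [hV] at hv ⊢
  intro l hl
  exact hv l (le_trans h hl)

lemma V_zero : V 0 = ⊥ := by
  rw [eq_bot_iff]
  intro v hv
  rw [hV] at hv
  rw [Submodule.mem_bot]
  funext l
  exact hv l (Nat.zero_le _)

lemma V_top : V n = ⊤ := by
  rw [eq_top_iff]
  intro v _
  rw [hV]
  intro l hl
  exact absurd l.2 (by omega)

lemma f_mono {j j' : ℕ} (h : j ≤ j') : f V A j ≤ f V A j' := by
  unfold f
  exact Submodule.finrank_mono (inf_le_inf_left _ (V_mono V hV h))

lemma f_zero : f V A 0 = 0 := by
  unfold f
  rw [V_zero V hV, inf_bot_eq]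
  exact finrank_bot K _

lemma f_succ_le {j : ℕ} (hj : j < n) : f V A (j + 1) ≤ f V A j + 1 := by
  unfold f
  apply finrank_le_succ (W A ⊓ V j) (W A ⊓ V (j + 1)) (LinearMap.proj ⟨j, hj⟩)
  intro x hx h0
  refine ⟨hx.1, ?_⟩
  have hx2 : x ∈ V (j + 1) := hx.2
  show x ∈ V j
  rw [hV] at hx2 ⊢
  intro l hl
  rcases Nat.lt_or_ge j l with h | h
  · exact hx2 l h
  · have : l = ⟨j, hj⟩ := Fin.ext (by simp only []; omega)
    rw [this]
    exact h0

lemma f_lt_of_mem {j : ℕ} (hj : j < n) (w : Fin n → K) (hw : w ∈ W A)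
    (hw1 : w ∈ V (j + 1)) (hw2 : w ⟨j, hj⟩ ≠ 0) : f V A j < f V A (j + 1) := by
  unfold f
  apply Submodule.finrank_lt_finrank_of_lt
  refine lt_of_le_of_ne (inf_le_inf_left _ (V_mono V hV (Nat.le_succ j))) ?_
  intro heq
  have : w ∈ W A ⊓ V j := by
    rw [heq]
    exact ⟨hw, hw1⟩
  have h2 : w ∈ V j := this.2
  rw [hV] at h2
  exact hw2 (h2 ⟨j, hj⟩ le_rfl)

/-- jump set -/
noncomputable def T : Finset (Fin n) :=
  Finset.univ.filter (fun j : Fin n => f V A (j : ℕ) < f V A ((j : ℕ) + 1))

lemma f_eq_card (m : ℕ) (hm : m ≤ n) :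
    f V A m = ((T V A).filter (fun j : Fin n => (j : ℕ) < m)).card := by
  induction m with
  | zero =>
    rw [f_zero V hV]
    symm
    rw [Finset.card_eq_zero, Finset.filter_eq_empty_iff]
    intro j _
    omega
  | succ m ih =>
    have hm' : m < n := hm
    have ih' := ih (le_of_lt hm')
    have hle := f_succ_le V hV A hm'
    have hge := f_mono V hV A (Nat.le_add_right m 1)
    by_cases hT : (⟨m, hm'⟩ : Fin n) ∈ T V A
    · have hlt : f V A m < f V A (m + 1) := by
        unfold T at hT
        rw [Finset.mem_filter] at hT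
        exact hT.2
      have hset : (T V A).filter (fun j : Fin n => (j : ℕ) < m + 1) =
          insert (⟨m, hm'⟩ : Fin n) ((T V A).filter (fun j : Fin n => (j : ℕ) < m)) := by
        ext j
        simp only [Finset.mem_filter, Finset.mem_insert]
        constructor
        · rintro ⟨h1, h2⟩
          rcases Nat.lt_or_ge (j : ℕ) m with h | h
          · exact Or.inr ⟨h1, h⟩
          · exact Or.inl (Fin.ext (by simp only []; omega))
        · rintro (h | ⟨h1, h2⟩)
          · rw [h]
            exact ⟨hT, by simp⟩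
          · exact ⟨h1, by omega⟩
      rw [hset, Finset.card_insert_of_notMem, ← ih']
      · omega
      · simp
    · have hnlt : ¬ f V A m < f V A (m + 1) := by
        intro h
        apply hT
        unfold T
        rw [Finset.mem_filter]
        exact ⟨Finset.mem_univ _, h⟩
      have hset : (T V A).filter (fun j : Fin n => (j : ℕ) < m + 1) =
          (T V A).filter (fun j : Fin n => (j : ℕ) < m) := by
        ext j
        simp only [Finset.mem_filter]
        constructor
        · rintro ⟨h1, h2⟩
          refine ⟨h1, ?_⟩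
          rcases Nat.lt_or_ge (j : ℕ) m with h | h
          · exact h
          · exfalso
            apply hT
            have : j = ⟨m, hm'⟩ := Fin.ext (by simp only []; omega)
            rw [← this]
            exact h1
        · rintro ⟨h1, h2⟩
          exact ⟨h1, by omega⟩
      rw [hset, ← ih']
      omega

variable (hA : LinearIndependent K (fun i : Fin d => A i))
include hA

lemma f_top : f V A n = d := by
  unfold f
  rw [V_top V hV, inf_top_eq]
  have := finrank_span_eq_card hA
  simpa using this

lemma card_T : (T V A).card = d := by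
  have h := f_eq_card V hV A n le_rfl
  have h2 := f_top V hV A hA
  have h3 : (T V A).filter (fun j : Fin n => (j : ℕ) < n) = T V A := by
    ext j
    simp only [Finset.mem_filter, and_iff_left_iff_imp]
    intro _
    exact j.2
  rw [h3] at h
  exact h.symm.trans h2

/-- nonzero coefficient vectors give nonzero combinations. -/
lemma vecMul_ne_zero (u : Fin d → K) (hu : u ≠ 0) : u ᵥ* A ≠ 0 := by
  intro h
  apply hu
  rw [Matrix.vecMul_eq_sum] at h
  have := (Fintype.linearIndependent_iff.mp hA) u h
  funext i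
  exact this i

omit hA in
lemma vecMul_mem (u : Fin d → K) : u ᵥ* A ∈ W A := by
  rw [Matrix.vecMul_eq_sum]
  exact Submodule.sum_mem _ (fun i _ => Submodule.smul_mem _ _ (Submodule.subset_span ⟨i, rfl⟩))

omit hA hV in
lemma vecMul_submatrix (u : Fin d → K) (J : Fin d → Fin n) (c : Fin d) :
    (u ᵥ* A.submatrix id J) c = (u ᵥ* A) (J c) := by
  simp [Matrix.vecMul, dotProduct]

/-- The Plücker coordinate on the jump set does not vanish. -/
theorem minor_T_ne_zero :
    (A.submatrix id ((T V A).orderEmbOfFin (card_T V hV A hA))).det ≠ 0 := by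
  classical
  intro hdet
  obtain ⟨u, hu, hu0⟩ := Matrix.exists_vecMul_eq_zero_iff.mpr hdet
  set t := (T V A).orderEmbOfFin (card_T V hV A hA) with ht
  set w := u ᵥ* A with hw
  have hw0 : w ≠ 0 := vecMul_ne_zero V hV A hA u hu
  have hwW : w ∈ W A := vecMul_mem V hV A u
  have hwt : ∀ c, w (t c) = 0 := by
    intro c
    rw [hw, ← vecMul_submatrix, hu0]
    rfl
  -- the largest nonzero coordinate
  have hne : (Finset.univ.filter (fun l : Fin n => w l ≠ 0)).Nonempty := by
    by_contra hemp
    rw [Finset.not_nonempty_iff_eq_empty, Finset.filter_eq_empty_iff] at hemp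
    apply hw0
    funext l
    have := hemp (Finset.mem_univ l)
    push Not at this
    exact this
  set j := (Finset.univ.filter (fun l : Fin n => w l ≠ 0)).max' hne with hj
  have hjmem : j ∈ Finset.univ.filter (fun l : Fin n => w l ≠ 0) := Finset.max'_mem _ hne
  have hwj : w j ≠ 0 := (Finset.mem_filter.mp hjmem).2
  have hjmax : ∀ l : Fin n, w l ≠ 0 → l ≤ j := by
    intro l hl
    exact Finset.le_max' _ l (Finset.mem_filter.mpr ⟨Finset.mem_univ _, hl⟩)
  have hwV : w ∈ V ((j : ℕ) + 1) := by
    rw [hV]
    intro l hl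
    by_contra hl0
    have := hjmax l hl0
    have : (l : ℕ) ≤ (j : ℕ) := this
    omega
  have hlt : f V A (j : ℕ) < f V A ((j : ℕ) + 1) :=
    f_lt_of_mem V hV A j.2 w hwW hwV hwj
  have hjT : j ∈ T V A := by
    unfold T
    rw [Finset.mem_filter]
    exact ⟨Finset.mem_univ _, hlt⟩
  have hrange : j ∈ Set.range t := by
    rw [ht, Finset.range_orderEmbOfFin]
    exact hjT
  obtain ⟨c, hc⟩ := hrange
  apply hwj
  rw [← hc]
  exact hwt c

/-- (⇐) direction. -/
theorem schubert_of_minors (D : Fin d → ℕ)
    (h : ∀ J : Fin d → Fin n, StrictMono J → (∃ i : Fin d, D i < (J i : ℕ) + 1) →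
      (A.submatrix id J).det = 0) (i : Fin d) :
    (i : ℕ) + 1 ≤ f V A (D i) := by
  set t := (T V A).orderEmbOfFin (card_T V hV A hA) with ht
  have htm : StrictMono t := t.strictMono
  have hne := minor_T_ne_zero V hV A hA
  have hti : (t i : ℕ) + 1 ≤ D i := by
    by_contra hcon
    push Not at hcon
    exact hne (h t htm ⟨i, hcon⟩)
  have hDn : (t i : ℕ) + 1 ≤ n := (t i).2
  calc (i : ℕ) + 1 ≤ f V A ((t i : ℕ) + 1) := by
        rw [f_eq_card V hV A _ hDn]
        have himg : (Finset.univ.filter (fun c : Fin d => c ≤ i)).image t ⊆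
            (T V A).filter (fun j : Fin n => (j : ℕ) < (t i : ℕ) + 1) := by
          intro j hj
          rw [Finset.mem_image] at hj
          obtain ⟨c, hc, rfl⟩ := hj
          rw [Finset.mem_filter] at hc ⊢
          refine ⟨Finset.orderEmbOfFin_mem _ _ c, ?_⟩
          have : t c ≤ t i := htm.monotone hc.2
          have : (t c : ℕ) ≤ (t i : ℕ) := this
          omega
        have hcard := Finset.card_le_card himg
        rw [Finset.card_image_of_injective _ t.injective] at hcard
        have hc2 : (Finset.univ.filter (fun c : Fin d => c ≤ i)).card = (i : ℕ) + 1 := by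
          have : Finset.univ.filter (fun c : Fin d => c ≤ i) = Finset.Iic i := by
            ext c
            simp
          rw [this, Fin.card_Iic]
        omega
    _ ≤ f V A (D i) := f_mono V hV A hti

omit hA in
/-- (⇒) direction. -/
theorem minors_of_schubert (D : Fin d → ℕ)
    (h : ∀ i : Fin d, (i : ℕ) + 1 ≤ f V A (D i))
    (J : Fin d → Fin n) (hJ : StrictMono J) (hex : ∃ i : Fin d, D i < (J i : ℕ) + 1) :
    (A.submatrix id J).det = 0 := by
  obtain ⟨i₀, hi₀⟩ := hex
  have hi := h i₀
  unfold f at hi
  let ψ : ↥(W A ⊓ V (D i₀)) →ₗ[K] (Fin (i₀ : ℕ) → K) :=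
    { toFun := fun w c => w.1 (J ⟨c, lt_trans c.2 i₀.2⟩)
      map_add' := fun x y => rfl
      map_smul' := fun a x => rfl }
  obtain ⟨w, hw0, hwψ⟩ := exists_ne_zero_ker ψ (by
    rw [Module.finrank_fin_fun]
    omega)
  have hwW : w.1 ∈ W A := w.2.1
  have hwV : w.1 ∈ V (D i₀) := w.2.2
  rw [hV] at hwV
  obtain ⟨u, hu⟩ := (Submodule.mem_span_range_iff_exists_fun K).mp hwW
  rw [← Matrix.vecMul_eq_sum] at hu
  have hu0 : u ≠ 0 := by
    rintro rfl
    apply hw0
    apply Subtype.ext
    rw [← hu]
    simp
  apply Matrix.exists_vecMul_eq_zero_iff.mp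
  refine ⟨u, hu0, ?_⟩
  funext c
  rw [vecMul_submatrix, hu]
  rcases lt_or_ge c i₀ with hc | hc
  · have := congrFun hwψ ⟨c, hc⟩
    exact this
  · apply hwV
    have : J i₀ ≤ J c := hJ.monotone hc
    have : (J i₀ : ℕ) ≤ (J c : ℕ) := this
    omega

end main

end Groth.Agent.Lib.Helper31.Schub1
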