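import Mathlib

set_option autoImplicit false
universe u v

namespace Groth.Agent.Lib.Helper31

open Polynomial

/-- The subalgebra of elements of a finite-dimensional commutative algebra over a perfect field
whose multiplication endomorphism is semisimple. -/
noncomputable def ssSubalgebra (k : Type u) [Field k] [PerfectField k]
    (A : Type v) [CommRing A] [Algebra k A] [Module.Finite k A] : Subalgebra k A where
  carrier := {a | (Algebra.lmul k A a).IsSemisimple}
  mul_mem' {a b} ha hb := by
    show (Algebra.lmul k A (a * b)).IsSemisimple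
    rw [map_mul]
    refine Module.End.IsSemisimple.mul_of_commute ?_ ha hb
    rw [Commute, SemiconjBy, ← map_mul, ← map_mul, mul_comm]
  add_mem' {a b} ha hb := by
    show (Algebra.lmul k A (a + b)).IsSemisimple
    rw [map_add]
    refine Module.End.IsSemisimple.add_of_commute ?_ ha hb
    rw [Commute, SemiconjBy, ← map_mul, ← map_mul, mul_comm]
  algebraMap_mem' c := by
    show (Algebra.lmul k A (algebraMap k A c)).IsSemisimple
    rw [AlgHom.commutes, Algebra.algebraMap_eq_smul_one]
    exact Module.End.IsSemisimple_smul c Module.End.isSemisimple_id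

theorem mem_ssSubalgebra (k : Type u) [Field k] [PerfectField k]
    (A : Type v) [CommRing A] [Algebra k A] [Module.Finite k A] (a : A) :
    a ∈ ssSubalgebra k A ↔ (Algebra.lmul k A a).IsSemisimple := Iff.rfl

theorem eq_zero_of_mem_ssSubalgebra_of_isNilpotent (k : Type u) [Field k] [PerfectField k]
    (A : Type v) [CommRing A] [Algebra k A] [Module.Finite k A] (a : A)
    (ha : a ∈ ssSubalgebra k A) (hn : IsNilpotent a) : a = 0 := by
  have h1 : IsNilpotent (Algebra.lmul k A a) := hn.map (Algebra.lmul k A)
  have h2 := Module.End.eq_zero_of_isNilpotent_isSemisimple h1 ha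
  exact Algebra.lmul_injective (R := k) (A := A) (by rw [h2, map_zero])

theorem ssSubalgebra_isReduced (k : Type u) [Field k] [PerfectField k]
    (A : Type v) [CommRing A] [Algebra k A] [Module.Finite k A] :
    IsReduced ↥(ssSubalgebra k A) := by
  refine ⟨fun b hb => ?_⟩
  have hb' : IsNilpotent (b : A) := hb.map (ssSubalgebra k A).val
  exact Subtype.ext (eq_zero_of_mem_ssSubalgebra_of_isNilpotent k A b b.2 hb')

theorem le_ssSubalgebra_of_isReduced (k : Type u) [Field k] [PerfectField k]
    (A : Type v) [CommRing A] [Algebra k A] [Module.Finite k A]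
    (C : Subalgebra k A) (hC : IsReduced ↥C) : C ≤ ssSubalgebra k A := by
  intro x hx
  obtain ⟨g, n, hg, -, hdvd⟩ :=
    exists_squarefree_dvd_pow_of_ne_zero (minpoly.ne_zero_of_finite k x)
  have h1 : (aeval x g) ^ n = 0 := by
    rw [← map_pow]
    obtain ⟨q, hq⟩ := hdvd
    rw [hq, map_mul, minpoly.aeval, zero_mul]
  have h2 : aeval (⟨x, hx⟩ : C) g = 0 := by
    apply IsNilpotent.eq_zero
    refine ⟨n, Subtype.ext ?_⟩
    rw [SubmonoidClass.coe_pow, ← Subalgebra.aeval_coe]
    exact h1
  have h3 : aeval x g = 0 := by
    have := congrArg (Subtype.val) h2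
    rwa [← Subalgebra.aeval_coe] at this
  rw [mem_ssSubalgebra]
  refine Module.End.isSemisimple_of_squarefree_aeval_eq_zero hg ?_
  rw [aeval_algHom_apply, h3, map_zero]

theorem ssSubalgebra_bijective (k : Type u) [Field k] [PerfectField k]
    (A : Type v) [CommRing A] [Algebra k A] [Module.Finite k A] :
    Function.Bijective ((Ideal.Quotient.mkₐ k (nilradical A)).comp (ssSubalgebra k A).val) := by
  constructor
  · rw [injective_iff_map_eq_zero]
    intro b hb
    have hb' : (b : A) ∈ nilradical A := by
      rw [← Ideal.Quotient.eq_zero_iff_mem]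
      exact hb
    rw [mem_nilradical] at hb'
    exact Subtype.ext (eq_zero_of_mem_ssSubalgebra_of_isNilpotent k A b b.2 hb')
  · intro q
    obtain ⟨a, rfl⟩ := Ideal.Quotient.mk_surjective q
    obtain ⟨n, hn, s, hs, hnil, hss, hf⟩ :=
      (Algebra.lmul k A a).exists_isNilpotent_isSemisimple
    rw [Algebra.adjoin_singleton_eq_range_aeval] at hs
    obtain ⟨P, hP⟩ := hs
    have hP' : s = Algebra.lmul k A (aeval a P) := by
      rw [← hP]
      exact aeval_algHom_apply (Algebra.lmul k A) a P
    have hmem : aeval a P ∈ ssSubalgebra k A := by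
      rw [mem_ssSubalgebra, ← hP']
      exact hss
    refine ⟨⟨aeval a P, hmem⟩, ?_⟩
    show Ideal.Quotient.mk (nilradical A) (aeval a P) = Ideal.Quotient.mk (nilradical A) a
    rw [eq_comm, Ideal.Quotient.eq, mem_nilradical]
    have hn' : n = Algebra.lmul k A (a - aeval a P) := by
      rw [map_sub, ← hP']
      exact eq_sub_of_add_eq hf.symm
    obtain ⟨m, hm⟩ := hnil
    refine ⟨m, ?_⟩
    apply Algebra.lmul_injective (R := k) (A := A)
    rw [map_pow, ← hn', hm, map_zero]

end Groth.Agent.Lib.Helper31
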