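import Mathlib

/-! The cone `V(σ₂, σ₄) ⊂ 𝔸⁵` (helper31): irreducibility of the auxiliary polynomials. -/

set_option linter.unusedSectionVars false
set_option linter.unusedVariables false

namespace Groth.Agent.Lib.Helper31.Sig

open MvPolynomial

variable (k : Type*) [Field k]

theorem not_dvd_of_eval {k : Type*} [Field k] {n : ℕ} (y : Fin n → k) {p q : MvPolynomial (Fin n) k}
    (hp : eval y p = 0) (hq : eval y q ≠ 0) : ¬ p ∣ q := by
  rintro ⟨c, rfl⟩
  apply hq
  rw [map_mul, hp, zero_mul]

/-- `B = ab + bc + ca` in three variables -/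
noncomputable def B3 : MvPolynomial (Fin 3) k := X 0 * X 1 + X 0 * X 2 + X 1 * X 2

theorem B3_image : finSuccEquiv k 2 (B3 k) =
    Polynomial.C (X 0 + X 1) * Polynomial.X + Polynomial.C (X 0 * X 1) := by
  unfold B3
  have h1 : (1 : Fin 3) = Fin.succ (0 : Fin 2) := rfl
  have h2 : (2 : Fin 3) = Fin.succ (1 : Fin 2) := rfl
  rw [h1, h2]
  simp only [map_add, map_mul, finSuccEquiv_X_zero, finSuccEquiv_X_succ]
  ring

theorem X0_not_dvd_X1 : ¬ (X 0 : MvPolynomial (Fin 2) k) ∣ X 1 := by
  apply not_dvd_of_eval ![0, 1]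
  · simp
  · simp

theorem B3_irreducible : Irreducible (B3 k) := by
  rw [← MulEquiv.irreducible_iff (finSuccEquiv k 2), B3_image]
  have hP : (Ideal.span {(X 0 : MvPolynomial (Fin 2) k)}).IsPrime := by
    rw [Ideal.span_singleton_prime (X_ne_zero 0)]
    exact X_prime
  have hne : (X 0 + X 1 : MvPolynomial (Fin 2) k) ≠ 0 := by
    intro h
    have := congrArg (eval ![0, 1]) h
    simp at this
  apply Polynomial.irreducible_of_eisenstein_criterion hP
  · rw [Polynomial.leadingCoeff_linear hne, Ideal.mem_span_singleton]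
    intro h
    exact X0_not_dvd_X1 k ((dvd_add_right (dvd_refl _)).1 h)
  · intro n hn
    rw [Polynomial.degree_linear hne] at hn
    have : n = 0 := by
      have : (n : WithBot ℕ) < 1 := hn
      exact_mod_cast Nat.lt_one_iff.1 (by exact_mod_cast this)
    subst this
    simp only [Polynomial.coeff_add, Polynomial.coeff_C_mul, Polynomial.coeff_X_zero, mul_zero,
      Polynomial.coeff_C_zero, zero_add]
    exact Ideal.mul_mem_right _ _ (Ideal.subset_span rfl)
  · rw [Polynomial.degree_linear hne]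
    exact zero_lt_one
  · simp only [Polynomial.coeff_add, Polynomial.coeff_C_mul, Polynomial.coeff_X_zero, mul_zero,
      Polynomial.coeff_C_zero, zero_add]
    rw [Ideal.span_singleton_pow, Ideal.mem_span_singleton, pow_two]
    intro h
    exact X0_not_dvd_X1 k ((mul_dvd_mul_iff_left (X_ne_zero 0)).1 h)
  · rw [Polynomial.isPrimitive_iff_isUnit_of_C_dvd]
    intro r hr
    rw [Polynomial.C_dvd_iff_dvd_coeff] at hr
    have h1 := hr 1
    have h0 := hr 0
    simp only [Polynomial.coeff_add, Polynomial.coeff_C_mul, Polynomial.coeff_X_one, mul_one,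
      Polynomial.coeff_C_succ, add_zero] at h1
    simp only [Polynomial.coeff_add, Polynomial.coeff_C_mul, Polynomial.coeff_X_zero, mul_zero,
      Polynomial.coeff_C_zero, zero_add] at h0
    have hrel : IsRelPrime (X 0 * X 1 : MvPolynomial (Fin 2) k) (X 0 + X 1) := by
      apply IsRelPrime.mul_left
      · rw [(X_prime (i := (0 : Fin 2)) (R := k)).irreducible.isRelPrime_iff_not_dvd]
        intro h
        exact X0_not_dvd_X1 k ((dvd_add_right (dvd_refl _)).1 h)
      · rw [(X_prime (i := (1 : Fin 2)) (R := k)).irreducible.isRelPrime_iff_not_dvd]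
        intro h
        have h' : (X 1 : MvPolynomial (Fin 2) k) ∣ X 0 := (dvd_add_left (dvd_refl _)).1 h
        revert h'
        apply not_dvd_of_eval ![1, 0]
        · simp
        · simp
    exact hrel h0 h1

theorem B3_prime : Prime (B3 k) :=
  (B3_irreducible k).prime

variable [CharZero k]

/-- `A = (a+b)(b+c)(c+a)` -/
noncomputable def A3 : MvPolynomial (Fin 3) k := (X 0 + X 1) * (X 1 + X 2) * (X 0 + X 2)

/-- `C = abc` -/
noncomputable def C3 : MvPolynomial (Fin 3) k := X 0 * X 1 * X 2

/-- the evaluation point `(2, 2, -1)` -/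
def pt3 : Fin 3 → k := ![2, 2, -1]

theorem eval_B3 : eval (pt3 k) (B3 k) = 0 := by
  unfold B3 pt3
  simp
  norm_num

theorem eval_A3 : eval (pt3 k) (A3 k) ≠ 0 := by
  unfold A3 pt3
  simp
  norm_num

theorem eval_C3 : eval (pt3 k) (C3 k) ≠ 0 := by
  unfold C3 pt3
  simp

theorem B3_not_dvd_A3 : ¬ B3 k ∣ A3 k := not_dvd_of_eval (pt3 k) (eval_B3 k) (eval_A3 k)

theorem B3_not_dvd_C3 : ¬ B3 k ∣ C3 k := not_dvd_of_eval (pt3 k) (eval_B3 k) (eval_C3 k)

theorem A3_ne_zero : A3 k ≠ 0 := by
  intro h
  apply eval_A3 k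
  rw [h, map_zero]

theorem B3_ne_zero : B3 k ≠ 0 := (B3_prime k).ne_zero

/-- `F = e₁e₄ - e₂e₃` in four variables -/
noncomputable def F4 : MvPolynomial (Fin 4) k :=
  (X 0 + X 1 + X 2 + X 3) * (X 0 * X 1 * X 2 * X 3) -
    (X 0 * X 1 + X 0 * X 2 + X 0 * X 3 + X 1 * X 2 + X 1 * X 3 + X 2 * X 3) *
      (X 0 * X 1 * X 2 + X 0 * X 1 * X 3 + X 0 * X 2 * X 3 + X 1 * X 2 * X 3)

/-- `-F` as a quadratic in the first variable -/
noncomputable def G4 : Polynomial (MvPolynomial (Fin 3) k) :=
  Polynomial.C (A3 k) * Polynomial.X ^ 2 + Polynomial.C (B3 k ^ 2) * Polynomial.X +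
    Polynomial.C (B3 k * C3 k)

theorem F4_image : finSuccEquiv k 3 (F4 k) = - G4 k := by
  unfold F4 G4 A3 B3 C3
  have h1 : (1 : Fin 4) = Fin.succ (0 : Fin 3) := rfl
  have h2 : (2 : Fin 4) = Fin.succ (1 : Fin 3) := rfl
  have h3 : (3 : Fin 4) = Fin.succ (2 : Fin 3) := rfl
  rw [h1, h2, h3]
  simp only [map_add, map_mul, map_sub, map_pow, finSuccEquiv_X_zero, finSuccEquiv_X_succ]
  ring

theorem G4_irreducible : Irreducible (G4 k) := by
  have hP : (Ideal.span {B3 k}).IsPrime := by
    rw [Ideal.span_singleton_prime (B3_ne_zero k)]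
    exact B3_prime k
  have hA := A3_ne_zero k
  unfold G4
  apply Polynomial.irreducible_of_eisenstein_criterion hP
  · rw [Polynomial.leadingCoeff_quadratic hA, Ideal.mem_span_singleton]
    exact B3_not_dvd_A3 k
  · intro n hn
    rw [Polynomial.degree_quadratic hA] at hn
    have hn' : n < 2 := by exact_mod_cast hn
    interval_cases n
    · simp only [Polynomial.coeff_add, Polynomial.coeff_C_mul, Polynomial.coeff_X_pow,
        Polynomial.coeff_X_zero, Polynomial.coeff_C_zero]
      simp only [show (0 : ℕ) ≠ 2 by norm_num, if_false, mul_zero, zero_add]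
      exact Ideal.mul_mem_right _ _ (Ideal.subset_span rfl)
    · simp only [Polynomial.coeff_add, Polynomial.coeff_C_mul, Polynomial.coeff_X_pow,
        Polynomial.coeff_X_one, Polynomial.coeff_C_succ]
      simp only [show (1 : ℕ) ≠ 2 by norm_num, if_false, mul_zero, zero_add, mul_one, add_zero]
      rw [pow_two]
      exact Ideal.mul_mem_right _ _ (Ideal.subset_span rfl)
  · rw [Polynomial.degree_quadratic hA]
    norm_num
  · simp only [Polynomial.coeff_add, Polynomial.coeff_C_mul, Polynomial.coeff_X_pow,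
      Polynomial.coeff_X_zero, Polynomial.coeff_C_zero]
    simp only [show (0 : ℕ) ≠ 2 by norm_num, if_false, mul_zero, zero_add]
    rw [Ideal.span_singleton_pow, Ideal.mem_span_singleton, pow_two]
    intro h
    exact B3_not_dvd_C3 k ((mul_dvd_mul_iff_left (B3_ne_zero k)).1 h)
  · rw [Polynomial.isPrimitive_iff_isUnit_of_C_dvd]
    intro r hr
    rw [Polynomial.C_dvd_iff_dvd_coeff] at hr
    have h2 := hr 2
    have h1 := hr 1
    simp only [Polynomial.coeff_add, Polynomial.coeff_C_mul, Polynomial.coeff_X_pow,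
      Polynomial.coeff_X, Polynomial.coeff_C] at h2 h1
    norm_num at h2 h1
    have hrel : IsRelPrime (B3 k ^ 2) (A3 k) := by
      apply IsRelPrime.pow_left
      rw [(B3_irreducible k).isRelPrime_iff_not_dvd]
      exact B3_not_dvd_A3 k
    exact hrel h1 h2

theorem F4_prime : Prime (F4 k) := by
  have h1 : Irreducible (F4 k) := by
    rw [← MulEquiv.irreducible_iff (finSuccEquiv k 3), F4_image]
    exact (Associated.refl (G4 k)).neg_right.irreducible (G4_irreducible k)
  exact h1.prime

end Groth.Agent.Lib.Helper31.Sig
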