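import Mathlib
import Groth.Agent.Lib.Helper31.SigA

/-! The cone `V(σ₂, σ₄) ⊂ 𝔸⁵` (helper31): the elementary symmetric polynomials. -/

set_option linter.unusedSectionVars false
set_option linter.unusedVariables false

namespace Groth.Agent.Lib.Helper31.Sig

open MvPolynomial

variable (k : Type*) [Field k]

noncomputable def e1 : MvPolynomial (Fin 4) k := X 0 + X 1 + X 2 + X 3
noncomputable def e2 : MvPolynomial (Fin 4) k :=
  X 0 * X 1 + X 0 * X 2 + X 0 * X 3 + X 1 * X 2 + X 1 * X 3 + X 2 * X 3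
noncomputable def e3 : MvPolynomial (Fin 4) k :=
  X 0 * X 1 * X 2 + X 0 * X 1 * X 3 + X 0 * X 2 * X 3 + X 1 * X 2 * X 3
noncomputable def e4 : MvPolynomial (Fin 4) k := X 0 * X 1 * X 2 * X 3

/-- inclusion of the first four variables -/
noncomputable def iota : MvPolynomial (Fin 4) k →ₐ[k] MvPolynomial (Fin 5) k :=
  aeval ![X 0, X 1, X 2, X 3]

theorem iota_X0 : iota k (X 0) = X 0 := by unfold iota; simp
theorem iota_X1 : iota k (X 1) = X 1 := by unfold iota; simp
theorem iota_X2 : iota k (X 2) = X 2 := by unfold iota; simp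
theorem iota_X3 : iota k (X 3) = X 3 := by unfold iota; simp

theorem iota_e1 : iota k (e1 k) = X 0 + X 1 + X 2 + X 3 := by
  unfold e1
  simp only [map_add, iota_X0, iota_X1, iota_X2, iota_X3]

theorem iota_e2 : iota k (e2 k) =
    X 0 * X 1 + X 0 * X 2 + X 0 * X 3 + X 1 * X 2 + X 1 * X 3 + X 2 * X 3 := by
  unfold e2
  simp only [map_add, map_mul, iota_X0, iota_X1, iota_X2, iota_X3]

theorem iota_e3 : iota k (e3 k) =
    X 0 * X 1 * X 2 + X 0 * X 1 * X 3 + X 0 * X 2 * X 3 + X 1 * X 2 * X 3 := by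
  unfold e3
  simp only [map_add, map_mul, iota_X0, iota_X1, iota_X2, iota_X3]

theorem iota_e4 : iota k (e4 k) = X 0 * X 1 * X 2 * X 3 := by
  unfold e4
  simp only [map_mul, iota_X0, iota_X1, iota_X2, iota_X3]

theorem powerset2 : Finset.powersetCard 2 (Finset.univ : Finset (Fin 5)) =
    {{0, 1}, {0, 2}, {0, 3}, {0, 4}, {1, 2}, {1, 3}, {1, 4}, {2, 3}, {2, 4}, {3, 4}} := by
  decide

theorem powerset4 : Finset.powersetCard 4 (Finset.univ : Finset (Fin 5)) =
    {{0, 1, 2, 3}, {0, 1, 2, 4}, {0, 1, 3, 4}, {0, 2, 3, 4}, {1, 2, 3, 4}} := by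
  decide

theorem sigma2_eq : esymm (Fin 5) k 2 = iota k (e2 k) + X 4 * iota k (e1 k) := by
  rw [iota_e1, iota_e2, esymm, powerset2]
  simp (disch := decide) only [Finset.sum_insert, Finset.prod_insert, Finset.sum_singleton,
    Finset.prod_singleton]
  ring

theorem sigma4_eq : esymm (Fin 5) k 4 = iota k (e4 k) + X 4 * iota k (e3 k) := by
  rw [iota_e3, iota_e4, esymm, powerset4]
  simp (disch := decide) only [Finset.sum_insert, Finset.prod_insert, Finset.sum_singleton,
    Finset.prod_singleton]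
  ring

theorem F4_eq : F4 k = e1 k * e4 k - e2 k * e3 k := by
  unfold F4 e1 e2 e3 e4
  rfl

theorem iota_F4 : iota k (F4 k) =
    iota k (e1 k) * esymm (Fin 5) k 4 - iota k (e3 k) * esymm (Fin 5) k 2 := by
  rw [F4_eq, sigma2_eq, sigma4_eq, map_sub, map_mul, map_mul]
  ring

/-- the ideal `(σ₂, σ₄)` -/
noncomputable def II : Ideal (MvPolynomial (Fin 5) k) :=
  Ideal.span {esymm (Fin 5) k 2, esymm (Fin 5) k 4}

theorem sigma2_mem : esymm (Fin 5) k 2 ∈ II k := Ideal.subset_span (by simp)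
theorem sigma4_mem : esymm (Fin 5) k 4 ∈ II k := Ideal.subset_span (by simp)

theorem iota_F4_mem : iota k (F4 k) ∈ II k := by
  rw [iota_F4]
  exact Ideal.sub_mem _ (Ideal.mul_mem_left _ _ (sigma4_mem k)) (Ideal.mul_mem_left _ _ (sigma2_mem k))

/-- reduction to the first four variables after multiplying by a power of `e₁` -/
theorem reduce (f : MvPolynomial (Fin 5) k) : ∃ (N : ℕ) (g : MvPolynomial (Fin 4) k),
    iota k (e1 k) ^ N * f - iota k g ∈ Ideal.span {esymm (Fin 5) k 2} := by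
  induction f using MvPolynomial.induction_on with
  | C c =>
    refine ⟨0, C c, ?_⟩
    have : iota k (C c) = C c := by
      unfold iota
      rw [aeval_C]
      rfl
    rw [this, pow_zero, one_mul, sub_self]
    exact Ideal.zero_mem _
  | add p q hp hq =>
    obtain ⟨N1, g1, h1⟩ := hp
    obtain ⟨N2, g2, h2⟩ := hq
    refine ⟨N1 + N2, e1 k ^ N2 * g1 + e1 k ^ N1 * g2, ?_⟩
    have : iota k (e1 k) ^ (N1 + N2) * (p + q) - iota k (e1 k ^ N2 * g1 + e1 k ^ N1 * g2) =
        iota k (e1 k) ^ N2 * (iota k (e1 k) ^ N1 * p - iota k g1) +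
        iota k (e1 k) ^ N1 * (iota k (e1 k) ^ N2 * q - iota k g2) := by
      rw [map_add, map_mul, map_mul, map_pow, map_pow, pow_add]
      ring
    rw [this]
    exact Ideal.add_mem _ (Ideal.mul_mem_left _ _ h1) (Ideal.mul_mem_left _ _ h2)
  | mul_X p i hp =>
    obtain ⟨N, g, h⟩ := hp
    have key : ∀ j : Fin 4, (X i : MvPolynomial (Fin 5) k) = iota k (X j) →
        ∃ (N : ℕ) (g : MvPolynomial (Fin 4) k),
          iota k (e1 k) ^ N * (p * X i) - iota k g ∈ Ideal.span {esymm (Fin 5) k 2} := by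
      intro j hj
      refine ⟨N, g * X j, ?_⟩
      have : iota k (e1 k) ^ N * (p * X i) - iota k (g * X j) =
          X i * (iota k (e1 k) ^ N * p - iota k g) := by
        rw [map_mul, ← hj]
        ring
      rw [this]
      exact Ideal.mul_mem_left _ _ h
    fin_cases i
    · exact key 0 (iota_X0 k).symm
    · exact key 1 (iota_X1 k).symm
    · exact key 2 (iota_X2 k).symm
    · exact key 3 (iota_X3 k).symm
    · refine ⟨N + 1, -(g * e2 k), ?_⟩
      have : iota k (e1 k) ^ (N + 1) * (p * X 4) - iota k (-(g * e2 k)) =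
          (X 4 * iota k (e1 k)) * (iota k (e1 k) ^ N * p - iota k g) +
            iota k g * esymm (Fin 5) k 2 := by
        rw [sigma2_eq, map_neg, map_mul, pow_succ]
        ring
      show iota k (e1 k) ^ (N + 1) * (p * X 4) - iota k (-(g * e2 k)) ∈ _
      rw [this]
      exact Ideal.add_mem _ (Ideal.mul_mem_left _ _ h)
        (Ideal.mul_mem_left _ _ (Ideal.subset_span rfl))

end Groth.Agent.Lib.Helper31.Sig
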