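import Mathlib
import Groth.Agent.Lib.Helper31.SigB

/-! The cone `V(σ₂, σ₄) ⊂ 𝔸⁵` (helper31): the map to the function field. -/

set_option linter.unusedSectionVars false
set_option linter.unusedVariables false

namespace Groth.Agent.Lib.Helper31.Sig

open MvPolynomial

variable (k : Type*) [Field k] [CharZero k]

/-- the coordinate ring of the hypersurface `F = 0` -/
abbrev DD : Type _ := MvPolynomial (Fin 4) k ⧸ Ideal.span {F4 k}

instance : (Ideal.span {F4 k}).IsPrime :=
  (Ideal.span_singleton_prime (F4_prime k).ne_zero).2 (F4_prime k)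

instance : IsDomain (DD k) := Ideal.Quotient.isDomain _

/-- its function field -/
abbrev LL : Type _ := FractionRing (DD k)

/-- `k[a,b,c,d] → L` -/
noncomputable def toL : MvPolynomial (Fin 4) k →ₐ[k] LL k :=
  (IsScalarTower.toAlgHom k (DD k) (LL k)).comp (Ideal.Quotient.mkₐ k _)

theorem toL_apply (q : MvPolynomial (Fin 4) k) :
    toL k q = algebraMap (DD k) (LL k) (Ideal.Quotient.mk _ q) := rfl

theorem toL_eq_zero {q : MvPolynomial (Fin 4) k} : toL k q = 0 ↔ F4 k ∣ q := by
  rw [toL_apply, map_eq_zero_iff _ (IsFractionRing.injective (DD k) (LL k)),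
    Ideal.Quotient.eq_zero_iff_mem, Ideal.mem_span_singleton]

/-- the evaluation point `(2, 2, -1, 0)` -/
def pt4 : Fin 4 → k := ![2, 2, -1, 0]

theorem eval_F4 : eval (pt4 k) (F4 k) = 0 := by
  unfold F4 pt4
  simp
  norm_num

theorem toL_ne_zero {q : MvPolynomial (Fin 4) k} (hq : eval (pt4 k) q ≠ 0) : toL k q ≠ 0 := by
  rw [Ne, toL_eq_zero]
  exact not_dvd_of_eval (pt4 k) (eval_F4 k) hq

theorem toL_e1_ne_zero : toL k (e1 k) ≠ 0 := by
  apply toL_ne_zero
  unfold e1 pt4
  simp
  norm_num

/-- the images of the five variables -/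
noncomputable def vals : Fin 5 → LL k :=
  ![toL k (X 0), toL k (X 1), toL k (X 2), toL k (X 3), -(toL k (e2 k) / toL k (e1 k))]

/-- the map to the function field -/
noncomputable def phi : MvPolynomial (Fin 5) k →ₐ[k] LL k := aeval (vals k)

theorem phi_iota (q : MvPolynomial (Fin 4) k) : phi k (iota k q) = toL k q := by
  have : (phi k).comp (iota k) = toL k := by
    apply MvPolynomial.algHom_ext
    intro i
    fin_cases i <;> simp [phi, iota, vals]
  exact DFunLike.congr_fun this q

theorem phi_X4 : phi k (X 4) = -(toL k (e2 k) / toL k (e1 k)) := by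
  unfold phi vals
  simp

theorem phi_sigma2 : phi k (esymm (Fin 5) k 2) = 0 := by
  rw [sigma2_eq, map_add, map_mul, phi_iota, phi_iota, phi_X4]
  have := toL_e1_ne_zero k
  field_simp
  ring

theorem phi_sigma4 : phi k (esymm (Fin 5) k 4) = 0 := by
  rw [sigma4_eq, map_add, map_mul, phi_iota, phi_iota, phi_X4]
  have h1 := toL_e1_ne_zero k
  have h2 : toL k (e1 k * e4 k - e2 k * e3 k) = 0 := by
    rw [toL_eq_zero, ← F4_eq]
  rw [map_sub, map_mul, map_mul] at h2
  field_simp
  linear_combination h2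

/-- the prime ideal -/
noncomputable def PP : Ideal (MvPolynomial (Fin 5) k) := RingHom.ker (phi k).toRingHom

instance : (PP k).IsPrime := RingHom.ker_isPrime _

theorem mem_PP {f : MvPolynomial (Fin 5) k} : f ∈ PP k ↔ phi k f = 0 := Iff.rfl

theorem II_le_PP : II k ≤ PP k := by
  unfold II
  rw [Ideal.span_le]
  intro f hf
  rcases hf with rfl | rfl
  · exact phi_sigma2 k
  · exact phi_sigma4 k

/-- elements of the prime ideal are killed modulo `(σ₂, σ₄)` by a power of `e₁` -/
theorem PP_pow_mem {f : MvPolynomial (Fin 5) k} (hf : f ∈ PP k) :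
    ∃ N : ℕ, iota k (e1 k) ^ N * f ∈ II k := by
  obtain ⟨N, g, hg⟩ := reduce k f
  refine ⟨N, ?_⟩
  have h1 : Ideal.span {esymm (Fin 5) k 2} ≤ II k := by
    rw [Ideal.span_le, Set.singleton_subset_iff]
    exact sigma2_mem k
  have h2 : phi k (iota k (e1 k) ^ N * f - iota k g) = 0 := II_le_PP k (h1 hg)
  rw [map_sub, map_mul, (mem_PP k).1 hf, mul_zero, zero_sub, neg_eq_zero, phi_iota,
    toL_eq_zero] at h2
  obtain ⟨h, rfl⟩ := h2
  have : iota k (e1 k) ^ N * f =
      (iota k (e1 k) ^ N * f - iota k (F4 k * h)) + iota k h * iota k (F4 k) := by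
    rw [map_mul]; ring
  rw [this]
  exact Ideal.add_mem _ (h1 hg) (Ideal.mul_mem_left _ _ (iota_F4_mem k))

end Groth.Agent.Lib.Helper31.Sig
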