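import Mathlib
import Groth.Agent.Lib.Helper31.SigC

/-! The cone `V(σ₂, σ₄) ⊂ 𝔸⁵` (helper31): symmetry and the final argument. -/

set_option linter.unusedSectionVars false
set_option linter.unusedVariables false

namespace Groth.Agent.Lib.Helper31.Sig

open MvPolynomial

variable (k : Type*) [Field k] [CharZero k]

/-- the transposition `(i 4)` acting on the variables -/
noncomputable def tau (i : Fin 5) : MvPolynomial (Fin 5) k →ₐ[k] MvPolynomial (Fin 5) k :=
  rename (Equiv.swap i 4)

theorem tau_tau (i : Fin 5) (f : MvPolynomial (Fin 5) k) : tau k i (tau k i f) = f := by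
  unfold tau
  rw [rename_rename]
  have : (Equiv.swap i 4 : Fin 5 → Fin 5) ∘ (Equiv.swap i 4) = id := by
    ext x
    simp
  rw [this, rename_id_apply]

theorem tau_sigma (i : Fin 5) (n : ℕ) : tau k i (esymm (Fin 5) k n) = esymm (Fin 5) k n :=
  rename_esymm (Fin 5) k n (Equiv.swap i 4)

theorem tau_II (i : Fin 5) {f : MvPolynomial (Fin 5) k} (hf : f ∈ II k) : tau k i f ∈ II k := by
  have : Ideal.map (tau k i) (II k) ≤ II k := by
    unfold II
    rw [Ideal.map_span, Ideal.span_le]
    rintro _ ⟨g, hg, rfl⟩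
    rcases hg with rfl | rfl
    · show tau k i _ ∈ _
      rw [tau_sigma]
      exact sigma2_mem k
    · show tau k i _ ∈ _
      rw [tau_sigma]
      exact sigma4_mem k
  exact this (Ideal.mem_map_of_mem _ hf)

/-- the linear forms `u_i = s - X_i` -/
noncomputable def uu (i : Fin 5) : MvPolynomial (Fin 5) k := tau k i (iota k (e1 k))

theorem uu0 : uu k 0 = X 4 + X 1 + X 2 + X 3 := by
  unfold uu tau
  rw [iota_e1]
  simp only [map_add, rename_X]
  rfl

theorem uu1 : uu k 1 = X 0 + X 4 + X 2 + X 3 := by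
  unfold uu tau
  rw [iota_e1]
  simp only [map_add, rename_X]
  rfl

theorem uu2 : uu k 2 = X 0 + X 1 + X 4 + X 3 := by
  unfold uu tau
  rw [iota_e1]
  simp only [map_add, rename_X]
  rfl

theorem uu3 : uu k 3 = X 0 + X 1 + X 2 + X 4 := by
  unfold uu tau
  rw [iota_e1]
  simp only [map_add, rename_X]
  rfl

theorem uu4 : uu k 4 = X 0 + X 1 + X 2 + X 3 := by
  unfold uu tau
  rw [iota_e1]
  simp only [map_add, rename_X]
  rfl

theorem phi_X0 : phi k (X 0) = toL k (X 0) := by rw [← iota_X0, phi_iota]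
theorem phi_X1 : phi k (X 1) = toL k (X 1) := by rw [← iota_X1, phi_iota]
theorem phi_X2 : phi k (X 2) = toL k (X 2) := by rw [← iota_X2, phi_iota]
theorem phi_X3 : phi k (X 3) = toL k (X 3) := by rw [← iota_X3, phi_iota]

theorem phi_uu_ne (i : Fin 5) : phi k (uu k i) ≠ 0 := by
  have h1 := toL_e1_ne_zero k
  have he1 : toL k (e1 k) = toL k (X 0) + toL k (X 1) + toL k (X 2) + toL k (X 3) := by
    unfold e1
    simp only [map_add]
  have key : ∀ (q : MvPolynomial (Fin 4) k) (z : LL k), eval (pt4 k) q ≠ 0 →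
      toL k q = toL k (e1 k) * z → z ≠ 0 := by
    intro q z hq hz h0
    apply toL_ne_zero k hq
    rw [hz, h0, mul_zero]
  fin_cases i
  · apply key (e1 k * (X 1 + X 2 + X 3) - e2 k)
    · unfold e1 e2 pt4
      simp
      norm_num
    · show _ = _ * phi k (uu k 0)
      rw [uu0]
      simp only [map_add, map_sub, map_mul, phi_X4, phi_X1, phi_X2, phi_X3]
      field_simp
      ring
  · apply key (e1 k * (X 0 + X 2 + X 3) - e2 k)
    · unfold e1 e2 pt4
      simp
      norm_num
    · show _ = _ * phi k (uu k 1)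
      rw [uu1]
      simp only [map_add, map_sub, map_mul, phi_X4, phi_X0, phi_X2, phi_X3]
      field_simp
      ring
  · apply key (e1 k * (X 0 + X 1 + X 3) - e2 k)
    · unfold e1 e2 pt4
      simp
      norm_num
    · show _ = _ * phi k (uu k 2)
      rw [uu2]
      simp only [map_add, map_sub, map_mul, phi_X4, phi_X0, phi_X1, phi_X3]
      field_simp
      ring
  · apply key (e1 k * (X 0 + X 1 + X 2) - e2 k)
    · unfold e1 e2 pt4
      simp
      norm_num
    · show _ = _ * phi k (uu k 3)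
      rw [uu3]
      simp only [map_add, map_sub, map_mul, phi_X4, phi_X0, phi_X1, phi_X2]
      field_simp
      ring
  · show phi k (uu k 4) ≠ 0
    rw [uu4, ← iota_e1, phi_iota]
    exact h1

theorem tau_PP (i : Fin 5) {f : MvPolynomial (Fin 5) k} (hf : f ∈ PP k) : tau k i f ∈ PP k := by
  obtain ⟨N, hN⟩ := PP_pow_mem k hf
  have h1 := II_le_PP k (tau_II k i hN)
  rw [map_mul, map_pow, mem_PP, map_mul, map_pow] at h1
  rcases mul_eq_zero.1 h1 with h | h
  · exact absurd (eq_zero_of_pow_eq_zero h) (phi_uu_ne k i)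
  · exact h

theorem uu_pow_mem (i : Fin 5) {f : MvPolynomial (Fin 5) k} (hf : f ∈ PP k) :
    ∃ N : ℕ, uu k i ^ N * f ∈ II k := by
  obtain ⟨N, hN⟩ := PP_pow_mem k (tau_PP k i hf)
  refine ⟨N, ?_⟩
  have := tau_II k i hN
  rwa [map_mul, map_pow, tau_tau] at this

end Groth.Agent.Lib.Helper31.Sig
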