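import Mathlib
import Groth.Agent.Lib.Helper31.SigD

/-! The cone `V(σ₂, σ₄) ⊂ 𝔸⁵` (helper31): the vertex and the conclusion. -/

set_option linter.unusedSectionVars false
set_option linter.unusedVariables false

namespace Groth.Agent.Lib.Helper31.Sig

open MvPolynomial

variable (k : Type*) [Field k] [CharZero k]

/-- restriction to the line through the vertex and the point `(2, 2, -1, 0, 0)` -/
noncomputable def eps : MvPolynomial (Fin 5) k →ₐ[k] Polynomial k :=
  aeval ![2 * Polynomial.X, 2 * Polynomial.X, -Polynomial.X, 0, 0]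

theorem eps_iota_e1 : eps k (iota k (e1 k)) = 3 * Polynomial.X := by
  rw [iota_e1]
  unfold eps
  simp
  ring

theorem eps_sigma2 : eps k (esymm (Fin 5) k 2) = 0 := by
  rw [sigma2_eq, iota_e1, iota_e2]
  unfold eps
  simp
  ring

theorem eps_sigma4 : eps k (esymm (Fin 5) k 4) = 0 := by
  rw [sigma4_eq, iota_e3, iota_e4]
  unfold eps
  simp

theorem eps_II {f : MvPolynomial (Fin 5) k} (hf : f ∈ II k) : eps k f = 0 := by
  have : II k ≤ RingHom.ker (eps k).toRingHom := by
    unfold II
    rw [Ideal.span_le]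
    intro g hg
    rcases hg with rfl | rfl
    · exact eps_sigma2 k
    · exact eps_sigma4 k
  exact this hf

theorem constantCoeff_eq (f : MvPolynomial (Fin 5) k) :
    constantCoeff f = Polynomial.eval 0 (eps k f) := by
  have : (constantCoeff : MvPolynomial (Fin 5) k →+* k) =
      (Polynomial.evalRingHom (0 : k)).comp (eps k).toRingHom := by
    apply MvPolynomial.ringHom_ext
    · intro c
      simp [eps]
    · intro i
      fin_cases i <;> simp [eps]
  exact DFunLike.congr_fun this f

theorem PP_constantCoeff {f : MvPolynomial (Fin 5) k} (hf : f ∈ PP k) : constantCoeff f = 0 := by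
  obtain ⟨N, hN⟩ := PP_pow_mem k hf
  have h1 := eps_II k hN
  rw [map_mul, map_pow, eps_iota_e1] at h1
  have h3 : (3 * Polynomial.X : Polynomial k) ≠ 0 :=
    mul_ne_zero (by norm_num) Polynomial.X_ne_zero
  rcases mul_eq_zero.1 h1 with h | h
  · exact absurd (eq_zero_of_pow_eq_zero h) h3
  · rw [constantCoeff_eq, h, Polynomial.eval_zero]

theorem sub_C_mem (f : MvPolynomial (Fin 5) k) :
    f - C (constantCoeff f) ∈ Ideal.span (Set.range (X : Fin 5 → MvPolynomial (Fin 5) k)) := by
  induction f using MvPolynomial.induction_on with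
  | C c =>
    rw [constantCoeff_C, sub_self]
    exact Ideal.zero_mem _
  | add p q hp hq =>
    have : p + q - C (constantCoeff (p + q)) =
        (p - C (constantCoeff p)) + (q - C (constantCoeff q)) := by
      rw [map_add, map_add]; ring
    rw [this]
    exact Ideal.add_mem _ hp hq
  | mul_X p i _ =>
    rw [map_mul, constantCoeff_X, mul_zero, map_zero, sub_zero]
    exact Ideal.mul_mem_left _ _ (Ideal.subset_span ⟨i, rfl⟩)

theorem PP_le_radical : PP k ≤ (II k).radical := by
  intro f hf
  set J : Ideal (MvPolynomial (Fin 5) k) := (II k).colon {f} with hJ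
  have hmemJ : ∀ g, g ∈ J ↔ g * f ∈ II k := by
    intro g
    rw [hJ, Submodule.mem_colon_singleton, smul_eq_mul]
  have hu : ∀ i, uu k i ∈ J.radical := by
    intro i
    obtain ⟨N, hN⟩ := uu_pow_mem k i hf
    exact ⟨N, (hmemJ _).2 hN⟩
  set s : MvPolynomial (Fin 5) k := X 0 + X 1 + X 2 + X 3 + X 4 with hs
  have h4 : (C (4 : k)⁻¹ : MvPolynomial (Fin 5) k) * 4 = 1 := by
    have : (4 : MvPolynomial (Fin 5) k) = C 4 := (map_ofNat C 4).symm
    rw [this, ← C_mul, inv_mul_cancel₀ (by norm_num), C_1]
  have hsmem : s ∈ J.radical := by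
    have : s = C (4 : k)⁻¹ * (uu k 0 + uu k 1 + uu k 2 + uu k 3 + uu k 4) := by
      rw [uu0, uu1, uu2, uu3, uu4, hs]
      linear_combination (-(X 0 + X 1 + X 2 + X 3 + X 4 : MvPolynomial (Fin 5) k)) * h4
    rw [this]
    exact Ideal.mul_mem_left _ _ (Ideal.add_mem _ (Ideal.add_mem _ (Ideal.add_mem _
      (Ideal.add_mem _ (hu 0) (hu 1)) (hu 2)) (hu 3)) (hu 4))
  have hX : Ideal.span (Set.range (X : Fin 5 → MvPolynomial (Fin 5) k)) ≤ J.radical := by
    rw [Ideal.span_le]
    rintro _ ⟨j, rfl⟩
    have key : ∀ j : Fin 5, (X j : MvPolynomial (Fin 5) k) = s - uu k j → X j ∈ J.radical := by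
      intro j h
      rw [h]
      exact Ideal.sub_mem _ hsmem (hu j)
    fin_cases j
    · apply key 0; rw [uu0, hs]; ring
    · apply key 1; rw [uu1, hs]; ring
    · apply key 2; rw [uu2, hs]; ring
    · apply key 3; rw [uu3, hs]; ring
    · apply key 4; rw [uu4, hs]; ring
  have hfmem : f ∈ J.radical := by
    apply hX
    have := sub_C_mem k f
    rwa [PP_constantCoeff k hf, map_zero, sub_zero] at this
  obtain ⟨K, hK⟩ := hfmem
  refine ⟨K + 1, ?_⟩
  rw [pow_succ]
  exact (hmemJ _).1 hK

/-- the radical of `(σ₂, σ₄)` is prime -/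
theorem main : (Ideal.span ({esymm (Fin 5) k 2, esymm (Fin 5) k 4} :
    Set (MvPolynomial (Fin 5) k))).radical.IsPrime := by
  have h : (II k).radical = PP k := by
    apply le_antisymm
    · rw [Ideal.IsPrime.radical_le_iff (inferInstance : (PP k).IsPrime)]
      exact II_le_PP k
    · exact PP_le_radical k
  show (II k).radical.IsPrime
  rw [h]
  infer_instance

end Groth.Agent.Lib.Helper31.Sig
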