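import Mathlib

/-!
# Finite type algebras over an algebraically closed field: finite iff finitely many points
-/

set_option autoImplicit false

universe u

namespace Groth.Agent.Lib.Helper31.StabFin

section Ring

variable (Ω : Type u) [Field Ω] [IsAlgClosed Ω] (A : Type u) [CommRing A] [Algebra Ω A]

omit [IsAlgClosed Ω] in
/-- Distinct `Ω`-points of a finite `Ω`-algebra are linearly independent: finitely many points. -/
theorem finite_algHom_of_finite [Module.Finite Ω A] : Finite (A →ₐ[Ω] Ω) := by
  classical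
  have h1 : LinearIndependent Ω (fun f : A →* Ω => (f : A → Ω)) :=
    linearIndependent_monoidHom A Ω
  let j : (A →ₐ[Ω] Ω) → (A →* Ω) := fun s => (s : A →* Ω)
  have hj : Function.Injective j := by
    intro s t hst
    ext a
    exact congrArg (fun f : A →* Ω => f a) hst
  have h2 : LinearIndependent Ω (fun s : A →ₐ[Ω] Ω => ((j s : A →* Ω) : A → Ω)) :=
    h1.comp j hj
  let c : Module.Dual Ω A →ₗ[Ω] (A → Ω) :=
    { toFun := fun f => f
      map_add' := fun _ _ => rfl
      map_smul' := fun _ _ => rfl }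
  have h3 : LinearIndependent Ω (fun s : A →ₐ[Ω] Ω => (s.toLinearMap : Module.Dual Ω A)) := by
    apply LinearIndependent.of_comp c
    exact h2
  exact h3.finite

variable [Algebra.FiniteType Ω A]

/-- The `Ω`-point attached to a maximal ideal (Nullstellensatz). -/
theorem exists_algHom_ker_eq (m : Ideal A) [m.IsMaximal] :
    ∃ s : A →ₐ[Ω] Ω, RingHom.ker s.toRingHom = m := by
  let _ : Field (A ⧸ m) := Ideal.Quotient.field m
  have : Algebra.FiniteType Ω (A ⧸ m) :=
    Algebra.FiniteType.of_surjective (Ideal.Quotient.mkₐ Ω m) Ideal.Quotient.mk_surjective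
  have : Module.Finite Ω (A ⧸ m) := finite_of_finite_type_of_isJacobsonRing Ω (A ⧸ m)
  have : Algebra.IsIntegral Ω (A ⧸ m) := Algebra.IsIntegral.of_finite Ω (A ⧸ m)
  have hb : Function.Bijective (algebraMap Ω (A ⧸ m)) :=
    IsAlgClosed.algebraMap_bijective_of_isIntegral
  let e : Ω ≃ₐ[Ω] (A ⧸ m) := AlgEquiv.ofBijective (Algebra.ofId Ω (A ⧸ m)) hb
  refine ⟨(e.symm : (A ⧸ m) →ₐ[Ω] Ω).comp (Ideal.Quotient.mkₐ Ω m), ?_⟩
  ext a
  simp only [RingHom.mem_ker, AlgHom.toRingHom_eq_coe, RingHom.coe_coe, AlgHom.comp_apply,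
    AlgEquiv.coe_toAlgHom, Ideal.Quotient.mkₐ_eq_mk]
  rw [EmbeddingLike.map_eq_zero_iff, Ideal.Quotient.eq_zero_iff_mem]

/-- Finitely many `Ω`-points imply finitely many maximal ideals. -/
theorem finite_maximal_of_finite_algHom [Finite (A →ₐ[Ω] Ω)] :
    Finite {m : Ideal A // m.IsMaximal} := by
  classical
  let F : {m : Ideal A // m.IsMaximal} → (A →ₐ[Ω] Ω) := fun m =>
    haveI := m.2
    (exists_algHom_ker_eq Ω A m.1).choose
  have hF : ∀ m : {m : Ideal A // m.IsMaximal}, RingHom.ker (F m).toRingHom = m.1 := fun m =>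
    haveI := m.2
    (exists_algHom_ker_eq Ω A m.1).choose_spec
  apply Finite.of_injective F
  intro m m' h
  apply Subtype.ext
  rw [← hF m, ← hF m', h]

/-- Lemma F, ring form. -/
theorem finite_iff_finite_algHom : Module.Finite Ω A ↔ Finite (A →ₐ[Ω] Ω) := by
  constructor
  · intro h
    exact finite_algHom_of_finite Ω A
  · intro h
    rw [Module.finite_iff_krullDimLE_zero, Ring.krullDimLE_zero_iff]
    intro p hp
    have : Finite {m : Ideal A // m.IsMaximal} := finite_maximal_of_finite_algHom Ω A
    have : IsJacobsonRing A := isJacobsonRing_of_finiteType (A := Ω)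
    have hj : p.jacobson = p := IsJacobsonRing.out inferInstance hp.isRadical
    -- the finite set of maximal ideals above `p`
    have hfin : Set.Finite {J : Ideal A | p ≤ J ∧ J.IsMaximal} := by
      have : Set.Finite {J : Ideal A | J.IsMaximal} := Set.finite_coe_iff.mp (inferInstanceAs (Finite {m : Ideal A // m.IsMaximal}))
      exact this.subset fun J hJ => hJ.2
    have hle : hfin.toFinset.inf id ≤ p := by
      intro a ha
      rw [← hj, Ideal.jacobson, Ideal.mem_sInf]
      intro J hJ
      have : hfin.toFinset.inf id ≤ J := Finset.inf_le (f := id) (hfin.mem_toFinset.2 hJ)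
      exact this ha
    obtain ⟨J, hJmem, hJp⟩ := (Ideal.IsPrime.inf_le' hp).1 hle
    have hJ := hfin.mem_toFinset.1 hJmem
    have : J = p := le_antisymm hJp hJ.1
    rw [← this]
    exact hJ.2

end Ring

end Groth.Agent.Lib.Helper31.StabFin
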