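import Mathlib
import Groth.Agent.Lib.Helper31.StabFinA

/-!
# Lemma F: an affine scheme of finite type over an algebraically closed field is finite iff it
has finitely many rational points
-/

set_option autoImplicit false

universe u

namespace Groth.Agent.Lib.Helper31.StabFin

open AlgebraicGeometry CategoryTheory

section Scheme

variable {Ω : Type u} [Field Ω] [IsAlgClosed Ω]

/-- Lemma F for `Spec.map φ`. -/
theorem isFinite_SpecMap_iff {R : CommRingCat.{u}} (φ : CommRingCat.of Ω ⟶ R)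
    [LocallyOfFiniteType (Spec.map φ)] :
    IsFinite (Spec.map φ) ↔
      Set.Finite {s : Spec (CommRingCat.of Ω) ⟶ Spec R | s ≫ Spec.map φ = 𝟙 _} := by
  letI : Algebra Ω R := φ.hom.toAlgebra
  have hft : Algebra.FiniteType Ω R := by
    have : φ.hom.FiniteType :=
      (HasRingHomProperty.Spec_iff (P := @LocallyOfFiniteType)).1 inferInstance
    exact this
  rw [IsFinite.SpecMap_iff]
  change Module.Finite Ω R ↔ _
  rw [finite_iff_finite_algHom Ω R]
  -- sections ↔ algebra homs
  let Θ : (R →ₐ[Ω] Ω) → {s : Spec (CommRingCat.of Ω) ⟶ Spec R | s ≫ Spec.map φ = 𝟙 _} :=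
    fun ψ => ⟨Spec.map (CommRingCat.ofHom ψ.toRingHom), by
      show Spec.map (CommRingCat.ofHom ψ.toRingHom) ≫ Spec.map φ = 𝟙 _
      rw [← Spec.map_comp, ← Spec.map_id]
      congr 1
      ext r
      exact ψ.commutes r⟩
  have hΘi : Function.Injective Θ := by
    intro ψ ψ' h
    have h1 : Spec.map (CommRingCat.ofHom ψ.toRingHom) = Spec.map (CommRingCat.ofHom ψ'.toRingHom) :=
      congrArg Subtype.val h
    have h2 := Spec.map_injective h1
    ext r
    have := congrArg (fun g : R ⟶ CommRingCat.of Ω => g.hom r) h2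
    exact this
  have hΘs : Function.Surjective Θ := by
    rintro ⟨s, hs⟩
    obtain ⟨ψ, rfl⟩ := Spec.map_surjective s
    have hs' : Spec.map ψ ≫ Spec.map φ = 𝟙 _ := hs
    rw [← Spec.map_comp, ← Spec.map_id] at hs'
    have h3 := Spec.map_injective hs'
    refine ⟨{ toRingHom := ψ.hom, commutes' := fun r => ?_ }, ?_⟩
    · have := congrArg (fun g : CommRingCat.of Ω ⟶ CommRingCat.of Ω => g.hom r) h3
      exact this
    · apply Subtype.ext
      rfl
  constructor
  · intro h
    exact Set.finite_coe_iff.mp (Finite.of_surjective Θ hΘs)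
  · intro h
    haveI : Finite {s : Spec (CommRingCat.of Ω) ⟶ Spec R | s ≫ Spec.map φ = 𝟙 _} :=
      Set.finite_coe_iff.mpr h
    exact Finite.of_injective Θ hΘi

/-- Lemma F over `Spec Ω`. -/
theorem isFinite_iff_finite_sections_Spec {Z : Scheme.{u}} [IsAffine Z]
    (f : Z ⟶ Spec (CommRingCat.of Ω)) [LocallyOfFiniteType f] :
    IsFinite f ↔ Set.Finite {s : Spec (CommRingCat.of Ω) ⟶ Z | s ≫ f = 𝟙 _} := by
  obtain ⟨φ, hφ⟩ := Spec.map_surjective (Z.isoSpec.inv ≫ f)
  have hf : f = Z.isoSpec.hom ≫ Spec.map φ := by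
    rw [hφ, Iso.hom_inv_id_assoc]
  haveI : LocallyOfFiniteType (Spec.map φ) := by
    rw [hφ]; infer_instance
  have h1 : IsFinite f ↔ IsFinite (Spec.map φ) := by
    rw [hf]
    exact MorphismProperty.cancel_left_of_respectsIso (P := @IsFinite) Z.isoSpec.hom _
  rw [h1, isFinite_SpecMap_iff]
  -- transport sections along `Z.isoSpec`
  let E : {s : Spec (CommRingCat.of Ω) ⟶ Z | s ≫ f = 𝟙 _} ≃
      {s : Spec (CommRingCat.of Ω) ⟶ Spec Γ(Z, ⊤) | s ≫ Spec.map φ = 𝟙 _} :=
    { toFun := fun s => ⟨s.1 ≫ Z.isoSpec.hom, by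
        show (s.1 ≫ Z.isoSpec.hom) ≫ Spec.map φ = 𝟙 _
        rw [Category.assoc, ← hf]; exact s.2⟩
      invFun := fun s => ⟨s.1 ≫ Z.isoSpec.inv, by
        show (s.1 ≫ Z.isoSpec.inv) ≫ f = 𝟙 _
        rw [hf, Category.assoc, Iso.inv_hom_id_assoc]; exact s.2⟩
      left_inv := fun s => by
        apply Subtype.ext
        show (s.1 ≫ Z.isoSpec.hom) ≫ Z.isoSpec.inv = s.1
        rw [Category.assoc, Iso.hom_inv_id, Category.comp_id]
      right_inv := fun s => by
        apply Subtype.ext
        show (s.1 ≫ Z.isoSpec.inv) ≫ Z.isoSpec.hom = s.1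
        rw [Category.assoc, Iso.inv_hom_id, Category.comp_id] }
  rw [← Set.finite_coe_iff, ← Set.finite_coe_iff]
  exact E.finite_iff.symm

/-- **Lemma F**: for `T ≅ Spec Ω` with `Ω` algebraically closed and `Z` affine, locally of finite
type over `T`: `Z ⟶ T` is finite iff it has finitely many sections. -/
theorem isFinite_iff_finite_sections {Z T : Scheme.{u}} [IsAffine Z]
    (e : T ≅ Spec (CommRingCat.of Ω)) (f : Z ⟶ T) [LocallyOfFiniteType f] :
    IsFinite f ↔ Set.Finite {s : T ⟶ Z | s ≫ f = 𝟙 T} := by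
  have h1 : IsFinite f ↔ IsFinite (f ≫ e.hom) :=
    (MorphismProperty.cancel_right_of_respectsIso (P := @IsFinite) f e.hom).symm
  rw [h1, isFinite_iff_finite_sections_Spec]
  let E : {s : T ⟶ Z | s ≫ f = 𝟙 T} ≃
      {s : Spec (CommRingCat.of Ω) ⟶ Z | s ≫ f ≫ e.hom = 𝟙 _} :=
    { toFun := fun s => ⟨e.inv ≫ s.1, by
        show (e.inv ≫ s.1) ≫ f ≫ e.hom = 𝟙 _
        have := s.2
        simp only [Set.mem_setOf_eq] at this
        rw [Category.assoc, reassoc_of% this, Iso.inv_hom_id]⟩
      invFun := fun s => ⟨e.hom ≫ s.1, by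
        show (e.hom ≫ s.1) ≫ f = 𝟙 _
        have := s.2
        simp only [Set.mem_setOf_eq] at this
        rw [← cancel_mono e.hom, Category.assoc, Category.assoc, this, Category.comp_id,
          Category.id_comp]⟩
      left_inv := fun s => by
        apply Subtype.ext
        show e.hom ≫ e.inv ≫ s.1 = s.1
        rw [Iso.hom_inv_id_assoc]
      right_inv := fun s => by
        apply Subtype.ext
        show e.inv ≫ e.hom ≫ s.1 = s.1
        rw [Iso.inv_hom_id_assoc] }
  rw [← Set.finite_coe_iff, ← Set.finite_coe_iff]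
  exact E.finite_iff.symm

end Scheme

end Groth.Agent.Lib.Helper31.StabFin
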