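import Mathlib
import Groth.Agent.Lib.Helper33.ZetaFrobStable

/-!
# Lifting points with values in an algebraically closed field along a surjective morphism
-/

set_option autoImplicit false

universe u

namespace Groth.Agent.Lib.Helper31.StabFin

open AlgebraicGeometry CategoryTheory Limits

/-- A nonempty scheme locally of finite type over an algebraically closed field has a rational
point. -/
theorem exists_section_of_nonempty {K : Type u} [Field K] [IsAlgClosed K] {Z : Scheme.{u}}
    (g : Z ⟶ Spec (CommRingCat.of K)) [LocallyOfFiniteType g] [Nonempty Z] :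
    ∃ s : Spec (CommRingCat.of K) ⟶ Z, s ≫ g = 𝟙 _ := by
  haveI : JacobsonSpace Z := LocallyOfFiniteType.jacobsonSpace g
  have h1 : closure (closedPoints Z) = Set.univ := by
    have := JacobsonSpace.closure_inter_closedPoints (X := Z) isClosed_univ
    rwa [Set.univ_inter] at this
  have h2 : (closedPoints Z).Nonempty := by
    by_contra hcon
    rw [Set.not_nonempty_iff_eq_empty] at hcon
    rw [hcon, closure_empty] at h1
    exact Set.empty_ne_univ h1
  obtain ⟨z, hz⟩ := h2
  obtain ⟨s, hs, -⟩ := Groth.Agent.Lib.Helper33.ZetaFrobStable.exists_section g z hz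
  exact ⟨s, hs⟩

/-- (P6) Points with values in an algebraically closed field lift along a surjective morphism
locally of finite type. -/
theorem exists_lift_left {G H T : Scheme.{u}} (q : G ⟶ H) [Surjective q] [LocallyOfFiniteType q]
    {Ω : Type u} [Field Ω] [IsAlgClosed Ω] (e : T ≅ Spec (CommRingCat.of Ω)) (h : T ⟶ H) :
    ∃ g : T ⟶ G, g ≫ q = h := by
  let F := pullback q h
  haveI : Surjective (pullback.snd q h) := inferInstance
  haveI : Nonempty F := by
    have hne : Nonempty T := ⟨e.inv (Classical.arbitrary _)⟩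
    obtain ⟨t⟩ := hne
    obtain ⟨z, -⟩ := (pullback.snd q h).surjective t
    exact ⟨z⟩
  obtain ⟨s, hs⟩ := exists_section_of_nonempty (pullback.snd q h ≫ e.hom)
  refine ⟨e.hom ≫ s ≫ pullback.fst q h, ?_⟩
  have hs' : s ≫ pullback.snd q h = e.inv := by
    rw [← cancel_mono e.hom, Category.assoc, hs, Iso.inv_hom_id]
  rw [Category.assoc, Category.assoc, pullback.condition, reassoc_of% hs', Iso.hom_inv_id_assoc]

/-- (P6), `Over` form. -/
theorem exists_lift_of_surjective {k : Type u} [Field k] {G H P : Over (Spec (CommRingCat.of k))}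
    (q : G ⟶ H) [Surjective q.left] [LocallyOfFiniteType G.hom]
    {Ω : Type u} [Field Ω] [IsAlgClosed Ω] (e : P.left ≅ Spec (CommRingCat.of Ω)) (h : P ⟶ H) :
    ∃ g : P ⟶ G, g ≫ q = h := by
  haveI : LocallyOfFiniteType (q.left ≫ H.hom) := by
    rw [Over.w q]; infer_instance
  haveI : LocallyOfFiniteType q.left := locallyOfFiniteType_of_comp q.left H.hom
  obtain ⟨g, hg⟩ := exists_lift_left q.left e h.left
  refine ⟨Over.homMk g ?_, ?_⟩
  · rw [← Over.w q, reassoc_of% hg, Over.w h]
  · ext
    exact hg

end Groth.Agent.Lib.Helper31.StabFin
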