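import Mathlib
import Groth.Prelude.Def_GLinSh
import Groth.Prelude.Def_ChGrp
import Groth.Agent.Lib.Helper31.StabFinB

/-!
# The stabiliser of a geometric point is finite iff it has finitely many rational points
-/

set_option autoImplicit false
set_option linter.unusedSectionVars false
set_option linter.style.haveILetI false

universe u

namespace Groth.Agent.Lib.Helper31.StabFin

open CategoryTheory CategoryTheory.Limits MonoidalCategory CartesianMonoidalCategory MonObj
  AlgebraicGeometry

section General

variable {S : Scheme.{u}} {G X : Over S} [GrpObj G] (a : AlgGrp.Action G X) {T : Over S}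
  (f : T ⟶ X)

/-- The `T`-points of `G` fixing the `T`-point `f`. -/
def StabPts : Set (T ⟶ G) := {g | lift g f ≫ a.act = f}

theorem psi_snd : GIT.psi a f ≫ snd X T = snd G T := by
  unfold GIT.psi
  rw [lift_snd]

theorem psi_fst : GIT.psi a f ≫ fst X T = (G ◁ f) ≫ a.act := by
  unfold GIT.psi
  rw [lift_fst]

theorem lift_psi (g : T ⟶ G) :
    lift g (𝟙 T) ≫ GIT.psi a f = lift (lift g f ≫ a.act) (𝟙 T) := by
  apply CartesianMonoidalCategory.hom_ext
  · rw [Category.assoc, psi_fst, lift_fst, lift_whiskerLeft_assoc, Category.id_comp]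
  · rw [Category.assoc, psi_snd, lift_snd, lift_snd]

theorem diag_left_snd : (lift f (𝟙 T)).left ≫ (snd X T).left = 𝟙 T.left := by
  rw [← Over.comp_left, lift_snd]; rfl

/-- The projection of the stabiliser to `G ⊗ T`. -/
noncomputable def stabFst : GLinSh.stab a f ⟶ (G ⊗ T).left :=
  pullback.fst (GIT.psi a f).left (lift f (𝟙 T)).left

theorem stab_condition :
    stabFst a f ≫ (GIT.psi a f).left = GLinSh.stabTo a f ≫ (lift f (𝟙 T)).left :=
  pullback.condition

/-- Lifting into the stabiliser. -/
noncomputable def stabLift {W : Scheme.{u}} (u : W ⟶ (G ⊗ T).left) (v : W ⟶ T.left)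
    (h : u ≫ (GIT.psi a f).left = v ≫ (lift f (𝟙 T)).left) : W ⟶ GLinSh.stab a f :=
  pullback.lift u v h

theorem stabLift_fst {W : Scheme.{u}} (u : W ⟶ (G ⊗ T).left) (v : W ⟶ T.left)
    (h : u ≫ (GIT.psi a f).left = v ≫ (lift f (𝟙 T)).left) :
    stabLift a f u v h ≫ stabFst a f = u :=
  pullback.lift_fst _ _ _

theorem stabLift_snd {W : Scheme.{u}} (u : W ⟶ (G ⊗ T).left) (v : W ⟶ T.left)
    (h : u ≫ (GIT.psi a f).left = v ≫ (lift f (𝟙 T)).left) :
    stabLift a f u v h ≫ GLinSh.stabTo a f = v :=
  pullback.lift_snd _ _ _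

theorem stab_hom_ext {W : Scheme.{u}} (s s' : W ⟶ GLinSh.stab a f)
    (h1 : s ≫ stabFst a f = s' ≫ stabFst a f)
    (h2 : s ≫ GLinSh.stabTo a f = s' ≫ GLinSh.stabTo a f) : s = s' :=
  pullback.hom_ext h1 h2

/-- The section of the stabiliser attached to a stabiliser point. -/
noncomputable def secOf (g : T ⟶ G) (hg : lift g f ≫ a.act = f) : T.left ⟶ GLinSh.stab a f :=
  stabLift a f (lift g (𝟙 T)).left (𝟙 T.left) (by
    rw [← Over.comp_left, lift_psi, hg, Category.id_comp])

theorem secOf_stabTo (g : T ⟶ G) (hg : lift g f ≫ a.act = f) :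
    secOf a f g hg ≫ GLinSh.stabTo a f = 𝟙 T.left :=
  stabLift_snd a f _ _ _

theorem secOf_fst (g : T ⟶ G) (hg : lift g f ≫ a.act = f) :
    secOf a f g hg ≫ stabFst a f = (lift g (𝟙 T)).left :=
  stabLift_fst a f _ _ _

theorem secOf_injective (g g' : T ⟶ G) (hg : lift g f ≫ a.act = f)
    (hg' : lift g' f ≫ a.act = f) (h : secOf a f g hg = secOf a f g' hg') : g = g' := by
  have h1 : (lift g (𝟙 T)).left = (lift g' (𝟙 T)).left := by
    rw [← secOf_fst a f g hg, ← secOf_fst a f g' hg', h]
  have h2 : lift g (𝟙 T) = lift g' (𝟙 T) := Over.OverMorphism.ext h1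
  have h3 := congrArg (· ≫ fst G T) h2
  simpa using h3

theorem stabTo_eq : GLinSh.stabTo a f = stabFst a f ≫ (snd G T).left := by
  have h1 : (snd G T).left = (GIT.psi a f).left ≫ (snd X T).left := by
    rw [← Over.comp_left, psi_snd]
  rw [h1, ← Category.assoc, stab_condition, Category.assoc, diag_left_snd, Category.comp_id]

section Sec

variable (s : T.left ⟶ GLinSh.stab a f) (hs : s ≫ GLinSh.stabTo a f = 𝟙 T.left)

include hs in
theorem sec_fst_snd : (s ≫ stabFst a f) ≫ (snd G T).left = 𝟙 T.left := by
  rw [Category.assoc, ← stabTo_eq, hs]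

/-- The `G ⊗ T`-point attached to a section of the stabiliser. -/
noncomputable def toPt : T ⟶ G ⊗ T :=
  Over.homMk (s ≫ stabFst a f) (by
    have h1 : (G ⊗ T).hom = (snd G T).left ≫ T.hom := (Over.w (snd G T)).symm
    rw [h1, ← Category.assoc, sec_fst_snd a f s hs, Category.id_comp])

theorem toPt_left : (toPt a f s hs).left = s ≫ stabFst a f := rfl

theorem toPt_snd : toPt a f s hs ≫ snd G T = 𝟙 T := by
  apply Over.OverMorphism.ext
  rw [Over.comp_left, toPt_left, sec_fst_snd a f s hs]
  rfl

theorem toPt_eq : toPt a f s hs = lift (toPt a f s hs ≫ fst G T) (𝟙 T) := by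
  apply CartesianMonoidalCategory.hom_ext
  · rw [lift_fst]
  · rw [lift_snd, toPt_snd]

theorem toPt_psi : toPt a f s hs ≫ GIT.psi a f = lift f (𝟙 T) := by
  apply Over.OverMorphism.ext
  rw [Over.comp_left, toPt_left, Category.assoc, stab_condition, ← Category.assoc, hs,
    Category.id_comp]

theorem toPt_mem : lift (toPt a f s hs ≫ fst G T) f ≫ a.act = f := by
  have h1 := toPt_psi a f s hs
  rw [toPt_eq, lift_psi] at h1
  have h2 := congrArg (· ≫ fst X T) h1
  simpa using h2

theorem secOf_toPt : secOf a f (toPt a f s hs ≫ fst G T) (toPt_mem a f s hs) = s := by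
  apply stab_hom_ext
  · rw [secOf_fst, ← toPt_eq, toPt_left]
  · rw [secOf_stabTo, hs]

end Sec

/-- Sections of the stabiliser are the stabiliser points. -/
theorem finite_sections_iff :
    Set.Finite {s : T.left ⟶ GLinSh.stab a f | s ≫ GLinSh.stabTo a f = 𝟙 T.left}
      ↔ (StabPts a f).Finite := by
  let Θ : StabPts a f → {s : T.left ⟶ GLinSh.stab a f | s ≫ GLinSh.stabTo a f = 𝟙 T.left} :=
    fun g => ⟨secOf a f g.1 g.2, secOf_stabTo a f g.1 g.2⟩
  have hΘi : Function.Injective Θ := by
    intro g g' h
    apply Subtype.ext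
    exact secOf_injective a f g.1 g'.1 g.2 g'.2 (congrArg Subtype.val h)
  have hΘs : Function.Surjective Θ := by
    rintro ⟨s, hs⟩
    exact ⟨⟨toPt a f s hs ≫ fst G T, toPt_mem a f s hs⟩, Subtype.ext (secOf_toPt a f s hs)⟩
  rw [← Set.finite_coe_iff, ← Set.finite_coe_iff]
  exact (Equiv.ofBijective Θ ⟨hΘi, hΘs⟩).finite_iff.symm

end General

section Field

variable {S : Scheme.{u}} [IsAffine S] {G X : Over S} [GrpObj G] [IsAffine G.left]
  [LocallyOfFiniteType G.hom] (a : AlgGrp.Action G X) {T : Over S} (f : T ⟶ X)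
  {Ω : Type u} [Field Ω] (e : T.left ≅ Spec (CommRingCat.of Ω))

include e in
theorem subsingleton_left : Subsingleton T.left := by
  haveI : Subsingleton (Spec (CommRingCat.of Ω)) :=
    inferInstanceAs (Subsingleton (PrimeSpectrum Ω))
  exact e.hom.isOpenEmbedding.injective.subsingleton

include e in
theorem isAffine_left : IsAffine T.left := IsAffine.of_isIso e.hom

include e in
theorem isClosedImmersion_diag : IsClosedImmersion (lift f (𝟙 T)).left := by
  haveI := subsingleton_left e
  exact isClosedImmersion_of_comp_eq_id (snd X T).left (lift f (𝟙 T)).left (diag_left_snd f)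

include e in
theorem isAffine_tensor_left : IsAffine (G ⊗ T).left := by
  haveI := isAffine_left e
  show IsAffine (pullback G.hom T.hom)
  infer_instance

include e in
theorem isAffine_stab : IsAffine (GLinSh.stab a f) := by
  haveI := isClosedImmersion_diag f e
  haveI := isAffine_tensor_left (G := G) e
  haveI : IsClosedImmersion (stabFst a f) :=
    inferInstanceAs (IsClosedImmersion (pullback.fst (GIT.psi a f).left (lift f (𝟙 T)).left))
  exact isAffine_of_isAffineHom (stabFst a f)

include e in
theorem locallyOfFiniteType_stabTo : LocallyOfFiniteType (GLinSh.stabTo a f) := by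
  haveI := isClosedImmersion_diag f e
  haveI : IsClosedImmersion (stabFst a f) :=
    inferInstanceAs (IsClosedImmersion (pullback.fst (GIT.psi a f).left (lift f (𝟙 T)).left))
  haveI : LocallyOfFiniteType (snd G T).left := by
    show LocallyOfFiniteType (pullback.snd G.hom T.hom)
    infer_instance
  rw [stabTo_eq]
  infer_instance

include e in
/-- The stabiliser of a geometric point is finite iff it has finitely many rational points. -/
theorem isFinite_stabTo_iff_finite [IsAlgClosed Ω] :
    IsFinite (GLinSh.stabTo a f) ↔ (StabPts a f).Finite := by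
  haveI := isAffine_stab a f e
  haveI := locallyOfFiniteType_stabTo a f e
  rw [isFinite_iff_finite_sections e (GLinSh.stabTo a f), finite_sections_iff]

end Field

end Groth.Agent.Lib.Helper31.StabFin
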