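import Mathlib
import Groth.Prelude.Def_GLinSh
import Groth.Prelude.Def_ChGrp
import Groth.Prelude.Def_NonAbH2
import Groth.Agent.Lib.Helper93.TorsorPts
import Groth.Agent.Lib.Helper31.StabFinC
import Groth.Agent.Lib.Helper31.StabFinD

/-!
# Stabilisers along a torsor under a normal subgroup (stabiliser half of S18978)
-/

set_option autoImplicit false
set_option linter.unusedSectionVars false
set_option linter.style.haveILetI false

universe u

namespace Groth.Agent.Lib.Helper31.StabFin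

open CategoryTheory CategoryTheory.Limits MonoidalCategory CartesianMonoidalCategory MonObj
  AlgebraicGeometry
open Groth.Agent.Lib.Helper93

section Torsor

variable {S : Scheme.{u}} {G N H X Y : Over S} [GrpObj G] [GrpObj N] [GrpObj H]
  (iN : N ⟶ G) [IsMonHom iN] (q : G ⟶ H) [IsMonHom q] (hker : AlgGrp.IsKernel iN q)
  (a : AlgGrp.Action G X) (φ : X ⟶ Y)
  (hcart : IsPullback (a.restrict iN).act (snd N X) φ φ)
  (aY : AlgGrp.Action H Y) (hequiv : (q ⊗ₘ φ) ≫ aY.act = a.act ≫ φ)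
  {T : Over S} (x : T ⟶ X)

include hequiv in
/-- Points form of the equivariance of `φ`. -/
theorem act_comp_phi (g : T ⟶ G) (x : T ⟶ X) :
    (lift g x ≫ a.act) ≫ φ = lift (g ≫ q) (x ≫ φ) ≫ aY.act := by
  rw [Category.assoc, ← hequiv, ← Category.assoc, lift_map]

include hequiv in
theorem map_mem_stabPts (g : T ⟶ G) (hg : g ∈ StabPts a x) :
    g ≫ q ∈ StabPts aY (x ≫ φ) := by
  show lift (g ≫ q) (x ≫ φ) ≫ aY.act = x ≫ φ
  rw [← act_comp_phi q a φ aY hequiv, hg]

include hker hcart in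
/-- `q` is injective on stabiliser points (the `N`-action is free). -/
theorem stabPts_map_injective (g g' : T ⟶ G) (hg : g ∈ StabPts a x) (hg' : g' ∈ StabPts a x)
    (h : g ≫ q = g' ≫ q) : g = g' := by
  have hg1 : lift g x ≫ a.act = x := hg
  have hg1' : lift g' x ≫ a.act = x := hg'
  have hd : (g' * g⁻¹) ≫ q = 1 := by
    rw [MonObj.mul_comp, GrpObj.inv_comp, h, mul_inv_cancel]
  obtain ⟨n, hn⟩ : ∃ n : T ⟶ N, n ≫ iN = g' * g⁻¹ := by
    refine ⟨hker.lift (g' * g⁻¹) (toUnit T) ?_, hker.lift_fst _ _ _⟩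
    rw [hd, Hom.one_def]
  have hinv : lift g⁻¹ x ≫ a.act = x := by
    have := AlgGrp.Action.lift_mul_act a g⁻¹ g x
    rw [inv_mul_cancel, AlgGrp.Action.lift_one_act, hg1] at this
    exact this.symm
  have hn1 : n = 1 := by
    apply TorsorPts.eq_of_isPullback (a.restrict iN) φ hcart _ _ x
    rw [AlgGrp.Action.lift_restrict_act, AlgGrp.Action.lift_restrict_act, hn,
      AlgGrp.Action.lift_mul_act, hinv, hg1', MonObj.one_comp, AlgGrp.Action.lift_one_act]
  have : g' * g⁻¹ = 1 := by rw [← hn, hn1, MonObj.one_comp]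
  exact (mul_inv_eq_one.mp this).symm

include hker hcart hequiv in
/-- A stabiliser point of `y = φ x` which lifts to `G` lifts to a stabiliser point of `x`. -/
theorem exists_stabPt_of_lift (g₀ : T ⟶ G) (hg₀ : g₀ ≫ q ∈ StabPts aY (x ≫ φ)) :
    ∃ g ∈ StabPts a x, g ≫ q = g₀ ≫ q := by
  have h0 : lift (g₀ ≫ q) (x ≫ φ) ≫ aY.act = x ≫ φ := hg₀
  have h1 : x ≫ φ = (lift g₀ x ≫ a.act) ≫ φ := by
    rw [act_comp_phi q a φ aY hequiv, h0]
  obtain ⟨n, hn⟩ := TorsorPts.exists_of_isPullback (a.restrict iN) φ hcart x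
    (lift g₀ x ≫ a.act) h1
  rw [AlgGrp.Action.lift_restrict_act] at hn
  refine ⟨(n ≫ iN) * g₀, ?_, ?_⟩
  · show lift ((n ≫ iN) * g₀) x ≫ a.act = x
    rw [AlgGrp.Action.lift_mul_act, hn]
  · have hnq : (n ≫ iN) ≫ q = 1 := by
      rw [Category.assoc, hker.w, ← Category.assoc, Hom.one_def]
      congr 1
      exact toUnit_unique _ _
    rw [MonObj.mul_comp, hnq, _root_.one_mul]

end Torsor

section Main

/-- **Stabiliser half of S18978**, in the binder form of the row. -/
theorem isFinite_stabTo_iff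
    (k : Type u) [Field k]
    (G N H X Y : Over (Spec (CommRingCat.of k))) [GrpObj G] [GrpObj N] [GrpObj H]
    [IsAffine G.left] [LocallyOfFiniteType G.hom]
    (iN : N ⟶ G) [IsMonHom iN]
    (q : G ⟶ H) [IsMonHom q] [Surjective q.left] [IsAffine H.left] [LocallyOfFiniteType H.hom]
    (hker : AlgGrp.IsKernel iN q)
    (a : AlgGrp.Action G X) (φ : X ⟶ Y)
    (hcart : IsPullback (a.restrict iN).act (snd N X) φ φ)
    (aY : AlgGrp.Action H Y) (hequiv : (q ⊗ₘ φ) ≫ aY.act = a.act ≫ φ)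
    (Ω : Type u) [Field Ω] [IsAlgClosed Ω] (P : Over (Spec (CommRingCat.of k)))
    (e : P.left ≅ Spec (CommRingCat.of Ω)) (x : P ⟶ X) :
    IsFinite (GLinSh.stabTo a x) ↔ IsFinite (GLinSh.stabTo aY (x ≫ φ)) := by
  rw [isFinite_stabTo_iff_finite a x e, isFinite_stabTo_iff_finite aY (x ≫ φ) e]
  -- the map induced by `q` on stabiliser points is a bijection
  let Θ : StabPts a x → StabPts aY (x ≫ φ) :=
    fun g => ⟨g.1 ≫ q, map_mem_stabPts q a φ aY hequiv x g.1 g.2⟩
  have hΘi : Function.Injective Θ := by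
    intro g g' h
    apply Subtype.ext
    exact stabPts_map_injective iN q hker a φ hcart x g.1 g'.1 g.2 g'.2
      (congrArg Subtype.val h)
  have hΘs : Function.Surjective Θ := by
    rintro ⟨h, hh⟩
    obtain ⟨g₀, hg₀⟩ := exists_lift_of_surjective q e h
    obtain ⟨g, hg, hgq⟩ := exists_stabPt_of_lift iN q hker a φ hcart aY hequiv x g₀
      (by rw [hg₀]; exact hh)
    exact ⟨⟨g, hg⟩, Subtype.ext (by show g ≫ q = h; rw [hgq, hg₀])⟩
  rw [← Set.finite_coe_iff, ← Set.finite_coe_iff]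
  exact (Equiv.ofBijective Θ ⟨hΘi, hΘs⟩).finite_iff

end Main

end Groth.Agent.Lib.Helper31.StabFin
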