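import Mathlib

/-! Trace ideals of direct summands of finitely generated projective modules (helper31). -/

namespace Groth.Agent.Lib.Helper31.TF

open Submodule

variable {R : Type*} [CommRing R] {M : Type*} [AddCommGroup M] [Module R M]

/-- trace ideal of a submodule `N` of `M` with respect to the functionals of `M`. -/
def tr (N : Submodule R M) : Ideal R := ⨆ φ : M →ₗ[R] R, N.map φ

theorem mem_tr {N : Submodule R M} (φ : M →ₗ[R] R) {x : M} (hx : x ∈ N) : φ x ∈ tr N :=
  (le_iSup (fun φ : M →ₗ[R] R => N.map φ) φ) (Submodule.mem_map_of_mem hx)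

theorem tr_le_iff {N : Submodule R M} {I : Ideal R} :
    tr N ≤ I ↔ ∀ (φ : M →ₗ[R] R), ∀ x ∈ N, φ x ∈ I := by
  unfold tr
  rw [iSup_le_iff]
  constructor
  · intro h φ x hx
    exact h φ (Submodule.mem_map_of_mem hx)
  · intro h φ y hy
    obtain ⟨x, hx, rfl⟩ := hy
    exact h φ x hx

theorem tr_mono {N N' : Submodule R M} (h : N ≤ N') : tr N ≤ tr N' :=
  tr_le_iff.2 fun φ _ hx => mem_tr φ (h hx)

theorem tr_bot : tr (⊥ : Submodule R M) = ⊥ := by
  rw [eq_bot_iff, tr_le_iff]
  intro φ x hx
  rw [Submodule.mem_bot] at hx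
  simp [hx]

/-- `tr N` is the span of the values `φ x`. -/
theorem tr_eq_span (N : Submodule R M) :
    tr N = Ideal.span {a | ∃ (φ : M →ₗ[R] R) (x : M), x ∈ N ∧ φ x = a} := by
  apply le_antisymm
  · rw [tr_le_iff]
    intro φ x hx
    exact Ideal.subset_span ⟨φ, x, hx, rfl⟩
  · rw [Ideal.span_le]
    rintro a ⟨φ, x, hx, rfl⟩
    exact mem_tr φ hx

variable [Module.Finite R M] [Module.Projective R M]

/-- For a direct summand `N` of a finitely generated projective module the trace ideal is generated
by an idempotent acting as the identity on `N`. -/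
theorem exists_idem (N : Submodule R M) (P : M →ₗ[R] M) (hP : ∀ x, P x ∈ N)
    (hPN : ∀ x ∈ N, P x = x) :
    ∃ e : R, IsIdempotentElem e ∧ e ∈ tr N ∧ (∀ s ∈ tr N, e * s = s) ∧ ∀ x ∈ N, e • x = x := by
  obtain ⟨n, f, g, -, -, hfg⟩ := Module.Finite.exists_comp_eq_id_of_projective R M
  -- dual basis
  let mm : Fin n → M := fun j => f (Pi.single j 1)
  let ψ : Fin n → (M →ₗ[R] R) := fun j => (LinearMap.proj j) ∘ₗ g
  have hdb : ∀ x : M, x = ∑ j, ψ j x • mm j := by
    intro x
    have h1 : f (g x) = x := by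
      have := congrArg (fun h => h x) hfg
      simpa using this
    conv_lhs => rw [← h1]
    have h2 : g x = ∑ j, (g x j) • (Pi.single j (1 : R) : Fin n → R) := by
      ext i
      simp [Finset.sum_apply, Pi.single_apply]
    conv_lhs => rw [h2]
    rw [map_sum]
    refine Finset.sum_congr rfl fun j _ => ?_
    rw [map_smul]
    rfl
  have hx : ∀ x ∈ N, x = ∑ j, ψ j x • P (mm j) := by
    intro x hx
    conv_lhs => rw [← hPN x hx, hdb x]
    rw [map_sum]
    refine Finset.sum_congr rfl fun j _ => ?_
    rw [map_smul]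
  -- finitely generated
  have hfgN : N.FG := by
    have : N = Submodule.map P ⊤ := by
      apply le_antisymm
      · intro x hx
        exact ⟨x, trivial, hPN x hx⟩
      · rintro _ ⟨x, -, rfl⟩
        exact hP x
    rw [this]
    exact Submodule.FG.map _ Module.Finite.fg_top
  have htr : tr N = ⨆ j : Fin n, N.map (ψ j) := by
    apply le_antisymm
    · rw [tr_le_iff]
      intro φ x hx
      have : φ x = ∑ j, φ (mm j) • ψ j x := by
        conv_lhs => rw [hdb x]
        rw [map_sum]
        refine Finset.sum_congr rfl fun j _ => ?_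
        rw [map_smul, smul_eq_mul, smul_eq_mul, mul_comm]
      rw [this]
      refine Submodule.sum_mem _ fun j _ => ?_
      refine Submodule.smul_mem _ _ ?_
      exact (le_iSup (fun j : Fin n => N.map (ψ j)) j) (Submodule.mem_map_of_mem hx)
    · exact iSup_le fun j => le_iSup (fun φ : M →ₗ[R] R => N.map φ) (ψ j)
  have hfgI : (tr N).FG := by
    rw [htr]
    exact Submodule.fg_iSup _ fun j => Submodule.FG.map _ hfgN
  have hidem : IsIdempotentElem (tr N) := by
    apply le_antisymm
    · exact Ideal.mul_le_left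
    · rw [tr_le_iff]
      intro φ x hxN
      have : φ x = ∑ j, ψ j x * φ (P (mm j)) := by
        conv_lhs => rw [hx x hxN]
        rw [map_sum]
        refine Finset.sum_congr rfl fun j _ => ?_
        rw [map_smul, smul_eq_mul]
      rw [this]
      refine Submodule.sum_mem _ fun j _ => ?_
      exact Ideal.mul_mem_mul (mem_tr _ hxN) (mem_tr _ (hP _))
  obtain ⟨e, he, heq⟩ := (Ideal.isIdempotentElem_iff_of_fg _ hfgI).1 hidem
  have hes : ∀ s ∈ tr N, e * s = s := by
    intro s hs
    rw [heq, Ideal.mem_span_singleton'] at hs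
    obtain ⟨a, rfl⟩ := hs
    rw [mul_comm a e, ← mul_assoc, he.eq]
  refine ⟨e, he, ?_, hes, ?_⟩
  · rw [heq]
    exact Ideal.mem_span_singleton_self e
  · intro x hxN
    conv_rhs => rw [hx x hxN]
    conv_lhs => rw [hx x hxN]
    rw [Finset.smul_sum]
    refine Finset.sum_congr rfl fun j _ => ?_
    rw [smul_smul, hes _ (mem_tr _ hxN)]

end Groth.Agent.Lib.Helper31.TF
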