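import Mathlib

/-! Contractions of tensor powers and the tensor-power filtration (helper31). -/

set_option linter.unusedSectionVars false

namespace Groth.Agent.Lib.Helper31.TF

open scoped TensorProduct
open PiTensorProduct

variable {R : Type*} [CommRing R] {M : Type*} [AddCommGroup M] [Module R M]

/-- scalar contraction `x ↦ ∏ φ i (x i)`. -/
noncomputable def contrScalar {k : ℕ} (φ : Fin k → (M →ₗ[R] R)) :
    MultilinearMap R (fun _ : Fin k => M) R :=
  (MultilinearMap.mkPiAlgebra R (Fin k) R).compLinearMap φ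

theorem contrScalar_apply {k : ℕ} (φ : Fin k → (M →ₗ[R] R)) (x : Fin k → M) :
    contrScalar φ x = ∏ i, φ i (x i) := by
  simp [contrScalar]

noncomputable def contrAux {k : ℕ} (φ : Fin k → (M →ₗ[R] R)) :
    M →ₗ[R] MultilinearMap R (fun _ : Fin k => M) M where
  toFun z := (contrScalar φ).smulRight z
  map_add' := by
    intro a b
    ext x
    show (contrScalar φ) x • (a + b) = (contrScalar φ) x • a + (contrScalar φ) x • b
    exact smul_add _ _ _
  map_smul' := by
    intro r a
    ext x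
    show (contrScalar φ) x • (r • a) = r • ((contrScalar φ) x • a)
    exact smul_comm _ _ _

/-- contraction of the last `k` slots of `M^{⊗(k+1)}` by functionals. -/
noncomputable def contr {k : ℕ} (φ : Fin k → (M →ₗ[R] R)) :
    (⨂[R] _ : Fin (k + 1), M) →ₗ[R] M :=
  PiTensorProduct.lift (LinearMap.uncurryLeft (M := fun _ : Fin (k + 1) => M) (contrAux φ))

theorem contr_tprod {k : ℕ} (φ : Fin k → (M →ₗ[R] R)) (x : Fin (k + 1) → M) :
    contr φ (tprod R x) = (∏ i : Fin k, φ i (x i.succ)) • x 0 := by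
  unfold contr
  rw [PiTensorProduct.lift.tprod, LinearMap.uncurryLeft_apply]
  show (contrScalar φ).smulRight (x 0) (Fin.tail x) = _
  rw [MultilinearMap.smulRight_apply, contrScalar_apply]
  rfl

variable {Γ : Type*} [AddCommGroup Γ] [LinearOrder Γ]

/-- the filtration induced on the `k`-th tensor power. -/
def TFil (k : ℕ) (F : Γ → Submodule R M) (γ : Γ) : Submodule R (⨂[R] _ : Fin k, M) :=
  ⨆ c : {c : Fin k → Γ // ∑ i, c i = γ},
    LinearMap.range (PiTensorProduct.map (R := R) (fun i => (F (c.1 i)).subtype))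

theorem tprod_mem_TFil {k : ℕ} {F : Γ → Submodule R M} {γ : Γ} {c : Fin k → Γ}
    (hc : ∑ i, c i = γ) {x : Fin k → M} (hx : ∀ i, x i ∈ F (c i)) :
    tprod R x ∈ TFil k F γ := by
  refine (le_iSup (fun c : {c : Fin k → Γ // ∑ i, c i = γ} =>
    LinearMap.range (PiTensorProduct.map (R := R) (fun i => (F (c.1 i)).subtype))) ⟨c, hc⟩) ?_
  refine ⟨tprod R (fun i => (⟨x i, hx i⟩ : F (c i))), ?_⟩
  rw [PiTensorProduct.map_tprod]
  rfl

theorem TFil_le_iff {k : ℕ} {F : Γ → Submodule R M} {γ : Γ}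
    {B : Submodule R (⨂[R] _ : Fin k, M)} :
    TFil k F γ ≤ B ↔ ∀ c : Fin k → Γ, ∑ i, c i = γ → ∀ x : Fin k → M, (∀ i, x i ∈ F (c i)) →
      tprod R x ∈ B := by
  constructor
  · intro h c hc x hx
    exact h (tprod_mem_TFil hc hx)
  · intro h
    unfold TFil
    rw [iSup_le_iff]
    rintro ⟨c, hc⟩
    rw [PiTensorProduct.map_range_eq_span_tprod, Submodule.span_le]
    rintro t ⟨m, rfl⟩
    exact h c hc _ fun i => (m i).2

variable [IsOrderedAddMonoid Γ]

theorem exists_le_of_sum_eq {k : ℕ} (c : Fin (k + 1) → Γ) (η : Γ)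
    (hc : ∑ i, c i = (k + 1) • η) : ∃ i, η ≤ c i := by
  by_contra hcon
  push Not at hcon
  have : ∑ i, c i < ∑ _i : Fin (k + 1), η :=
    Finset.sum_lt_sum_of_nonempty Finset.univ_nonempty fun i _ => hcon i
  rw [hc, Finset.sum_const, Finset.card_univ, Fintype.card_fin] at this
  exact lt_irrefl _ this

theorem exists_lt_of_sum_eq {k : ℕ} (c : Fin (k + 1) → Γ) (γ η : Γ)
    (hc : ∑ i, c i = γ + k • η) (h0 : c 0 < γ) : ∃ i : Fin k, η < c i.succ := by
  by_contra hcon
  push Not at hcon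
  have h1 : ∑ i : Fin k, c i.succ ≤ ∑ _i : Fin k, η :=
    Finset.sum_le_sum fun i _ => hcon i
  rw [Finset.sum_const, Finset.card_univ, Fintype.card_fin] at h1
  rw [Fin.sum_univ_succ] at hc
  have : c 0 + ∑ i : Fin k, c i.succ < γ + k • η := add_lt_add_of_lt_of_le h0 h1
  rw [hc] at this
  exact lt_irrefl _ this

end Groth.Agent.Lib.Helper31.TF
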