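import Mathlib
import Groth.Agent.Lib.Helper31.TF1
import Groth.Agent.Lib.Helper31.TF2

/-! Split filtrations are determined by their tensor-power filtrations (helper31). -/

set_option linter.unusedSectionVars false

namespace Groth.Agent.Lib.Helper31.TF

open scoped TensorProduct
open PiTensorProduct

variable {R : Type*} [CommRing R] {M : Type*} [AddCommGroup M] [Module R M]
variable {Γ : Type*} [AddCommGroup Γ] [LinearOrder Γ]

section split

variable (G : Γ → Submodule R M) (hInt : DirectSum.IsInternal G)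
  (F : Γ → Submodule R M) (hF : ∀ γ, F γ = ⨆ η ∈ Set.Ici γ, G η)

include hF in
theorem split_antitone : Antitone F := by
  intro a b hab
  rw [hF a, hF b]
  exact biSup_mono fun η hη => le_trans hab hη

include hF in
theorem G_le_F {η γ : Γ} (h : γ ≤ η) : G η ≤ F γ := by
  rw [hF γ]
  exact le_biSup (fun η => G η) (show η ∈ Set.Ici γ from h)

include hInt hF in
theorem split_proj (η : Γ) : ∃ P : M →ₗ[R] M, (∀ x, P x ∈ F η) ∧ ∀ x ∈ F η, P x = x := by
  have hc : IsCompl (F η) (⨆ ζ ∈ Set.Iio η, G ζ) := by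
    constructor
    · rw [hF η]
      apply hInt.submodule_iSupIndep.disjoint_biSup_biSup
      rw [Set.disjoint_left]
      intro a ha hb
      exact absurd (lt_of_le_of_lt (show η ≤ a from ha) (show a < η from hb)) (lt_irrefl _)
    · rw [codisjoint_iff, eq_top_iff, ← hInt.submodule_iSup_eq_top]
      refine iSup_le fun ζ => ?_
      by_cases h : η ≤ ζ
      · exact le_trans (G_le_F G F hF h) le_sup_left
      · exact le_trans (le_biSup (fun ζ => G ζ) (show ζ ∈ Set.Iio η from not_le.1 h)) le_sup_right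
  refine ⟨(F η).projection _ hc, ?_, ?_⟩
  · intro x
    exact Submodule.projection_apply_mem hc x
  · intro x hx
    exact Submodule.projection_apply_of_mem_left hc hx

include hInt in
theorem split_finite [Module.Finite R M] : ∃ S : Finset Γ, ∀ ζ ∉ S, G ζ = ⊥ := by
  have htop : (⊤ : Submodule R M) ≤ ⨆ ζ, G ζ := hInt.submodule_iSup_eq_top.ge
  have hc : IsCompactElement (⊤ : Submodule R M) :=
    (Submodule.fg_iff_compact ⊤).1 Module.Finite.fg_top
  obtain ⟨S, hS⟩ := CompleteLattice.IsCompactElement.exists_finset_of_le_iSup _ hc G htop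
  refine ⟨S, fun ζ hζ => ?_⟩
  have h1 : Disjoint (G ζ) (⨆ i ∈ (S : Set Γ), G i) :=
    hInt.submodule_iSupIndep.disjoint_biSup (by simpa using hζ)
  have h2 : (⊤ : Submodule R M) ≤ ⨆ i ∈ (S : Set Γ), G i := by
    refine le_trans hS ?_
    exact iSup₂_le fun i hi => le_biSup (fun i => G i) (show i ∈ (S : Set Γ) from hi)
  exact disjoint_top.1 (h1.mono_right h2)

end split

/-- Idempotent ideals: local units. -/
theorem exists_unit_of_mem_smul {𝔞 : Ideal R} (hLU : ∀ a ∈ 𝔞, ∃ u ∈ 𝔞, u * a = a) :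
    ∀ z ∈ 𝔞 • (⊤ : Submodule R M), ∃ u ∈ 𝔞, u • z = z := by
  intro z hz
  refine Submodule.smul_induction_on hz ?_ ?_
  · intro r hr n _
    obtain ⟨u, hu, hur⟩ := hLU r hr
    exact ⟨u, hu, by rw [smul_smul, hur]⟩
  · intro x y hx hy
    obtain ⟨u, hu, hux⟩ := hx
    obtain ⟨v, hv, hvy⟩ := hy
    refine ⟨u + v - u * v, ?_, ?_⟩
    · exact 𝔞.sub_mem (𝔞.add_mem hu hv) (𝔞.mul_mem_left _ hv)
    · have h1 : (u + v - u * v) • x = x := by
        rw [sub_smul, add_smul, mul_comm u v, mul_smul, hux]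
        abel
      have h2 : (u + v - u * v) • y = y := by
        rw [sub_smul, add_smul, mul_smul, hvy]
        abel
      rw [smul_add, h1, h2]

theorem pow_mem_of_forall_prod {I : Ideal R} (s : Set R) (hI : I = Ideal.span s) (J : Ideal R)
    (n : ℕ) (h : ∀ f : Fin n → R, (∀ i, f i ∈ s) → ∏ i, f i ∈ J) {a : R} (ha : a ∈ I) :
    a ^ n ∈ J := by
  have h1 : a ^ n ∈ I ^ n := Ideal.pow_mem_pow ha n
  have h2 : I ^ n ≤ J := by
    rw [hI]
    show (Submodule.span R s) ^ n ≤ J
    rw [Submodule.span_pow, Submodule.span_le]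
    intro b hb
    rw [Set.mem_pow] at hb
    obtain ⟨f, rfl⟩ := hb
    rw [List.prod_ofFn]
    exact h (fun i => (f i : R)) fun i => (f i).2
  exact h2 h1

variable [IsOrderedAddMonoid Γ] [Module.Finite R M] [Module.Projective R M]

/-- comparison of trace ideals from equality of tensor filtrations. -/
theorem tr_le_of_TFil
    (F₁ F₂ : Γ → Submodule R M) (hanti₂ : Antitone F₂)
    (k : ℕ) (η : Γ) (h : TFil (k + 1) F₁ ((k + 1) • η) = TFil (k + 1) F₂ ((k + 1) • η))
    (e : R) (he : IsIdempotentElem e) (hmem : e ∈ tr (F₁ η)) (hes : ∀ s ∈ tr (F₁ η), e * s = s) :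
    tr (F₁ η) ≤ tr (F₂ η) := by
  have key2 : ∀ (ψ : M →ₗ[R] R) (φ : Fin k → (M →ₗ[R] R)),
      TFil (k + 1) F₂ ((k + 1) • η) ≤ Submodule.comap (ψ ∘ₗ contr φ) (tr (F₂ η)) := by
    intro ψ φ
    rw [TFil_le_iff]
    intro c hc x hx
    rw [Submodule.mem_comap, LinearMap.comp_apply, contr_tprod, map_smul, smul_eq_mul]
    obtain ⟨i, hi⟩ := exists_le_of_sum_eq c η hc
    induction i using Fin.cases with
    | zero =>
      exact Ideal.mul_mem_left _ _ (tr_mono (hanti₂ hi) (mem_tr ψ (hx 0)))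
    | succ j =>
      refine Ideal.mul_mem_right _ _ ?_
      refine Ideal.mem_of_dvd _ (Finset.dvd_prod_of_mem (fun i : Fin k => φ i (x i.succ))
        (Finset.mem_univ j)) ?_
      exact tr_mono (hanti₂ hi) (mem_tr (φ j) (hx j.succ))
  have key : e ∈ tr (F₂ η) := by
    rw [← he.pow_succ_eq k]
    refine pow_mem_of_forall_prod _ (tr_eq_span (F₁ η)) _ (k + 1) ?_ hmem
    intro f hf
    choose φ x hx hφx using hf
    have h1 : tprod R x ∈ TFil (k + 1) F₁ ((k + 1) • η) := by
      refine tprod_mem_TFil (c := fun _ => η) ?_ hx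
      rw [Finset.sum_const, Finset.card_univ, Fintype.card_fin]
    rw [h] at h1
    have h2 := key2 (φ 0) (fun i => φ i.succ) h1
    rw [Submodule.mem_comap, LinearMap.comp_apply, contr_tprod, map_smul, smul_eq_mul] at h2
    rw [Fin.prod_univ_succ, mul_comm]
    simpa only [hφx] using h2
  intro s hs
  rw [← hes s hs]
  exact Ideal.mul_mem_right _ _ key

theorem main_le
    (F₁ F₂ : Γ → Submodule R M)
    (G₁ : Γ → Submodule R M) (hI₁ : DirectSum.IsInternal G₁)
    (hF₁ : ∀ γ, F₁ γ = ⨆ η ∈ Set.Ici γ, G₁ η)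
    (G₂ : Γ → Submodule R M) (hI₂ : DirectSum.IsInternal G₂)
    (hF₂ : ∀ γ, F₂ γ = ⨆ η ∈ Set.Ici γ, G₂ η)
    (k : ℕ) (h : ∀ γ, TFil (k + 1) F₁ γ = TFil (k + 1) F₂ γ) (γ : Γ) : F₁ γ ≤ F₂ γ := by
  have hanti₁ := split_antitone G₁ F₁ hF₁
  have hanti₂ := split_antitone G₂ F₂ hF₂
  have hex₁ : ∀ η, ∃ e : R, IsIdempotentElem e ∧ e ∈ tr (F₁ η) ∧ (∀ s ∈ tr (F₁ η), e * s = s) ∧
      ∀ x ∈ F₁ η, e • x = x := fun η => by
    obtain ⟨P, hP, hPN⟩ := split_proj G₁ hI₁ F₁ hF₁ η
    exact exists_idem (F₁ η) P hP hPN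
  have hex₂ : ∀ η, ∃ e : R, IsIdempotentElem e ∧ e ∈ tr (F₂ η) ∧ (∀ s ∈ tr (F₂ η), e * s = s) ∧
      ∀ x ∈ F₂ η, e • x = x := fun η => by
    obtain ⟨P, hP, hPN⟩ := split_proj G₂ hI₂ F₂ hF₂ η
    exact exists_idem (F₂ η) P hP hPN
  choose e₁ he₁ he₁mem he₁s he₁x using hex₁
  choose e₂ he₂ he₂mem he₂s he₂x using hex₂
  have htr : ∀ η, tr (F₁ η) = tr (F₂ η) := fun η =>
    le_antisymm (tr_le_of_TFil F₁ F₂ hanti₂ k η (h _) (e₁ η) (he₁ η) (he₁mem η) (he₁s η))
      (tr_le_of_TFil F₂ F₁ hanti₁ k η (h _).symm (e₂ η) (he₂ η) (he₂mem η) (he₂s η))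
  intro m hm
  obtain ⟨S, hS⟩ := split_finite G₁ hI₁
  -- empty case
  have hbot : ∀ η, (∀ s ∈ S, ¬ η ≤ s) → e₁ η • m ∈ F₂ γ := by
    intro η hη
    have hF : F₁ η = ⊥ := by
      rw [hF₁ η, eq_bot_iff]
      refine iSup₂_le fun ζ hζ => ?_
      rw [hS ζ fun hζS => hη ζ hζS hζ]
    have : e₁ η = 0 := by
      have := he₁mem η
      rw [hF, tr_bot] at this
      exact this
    rw [this, zero_smul]
    exact Submodule.zero_mem _
  -- main step
  have hstep : ∀ θ, (∀ η', θ < η' → e₁ η' • m ∈ F₂ γ) → e₁ θ • m ∈ F₂ γ := by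
    intro θ IH
    set 𝔞 : Ideal R := ⨆ η' : Set.Ioi θ, tr (F₂ η'.1) with h𝔞
    have h𝔞le : ∀ η', θ < η' → tr (F₂ η') ≤ 𝔞 := fun η' hη' =>
      le_iSup (fun η' : Set.Ioi θ => tr (F₂ η'.1)) ⟨η', hη'⟩
    set B : Submodule R M := F₂ γ ⊔ 𝔞 • ⊤ with hB
    -- (ii)
    have hii : ∀ φ : Fin k → (M →ₗ[R] R), TFil (k + 1) F₂ (γ + k • θ) ≤ B.comap (contr φ) := by
      intro φ
      rw [TFil_le_iff]
      intro c hc x hx
      rw [Submodule.mem_comap, contr_tprod]
      by_cases h0 : γ ≤ c 0
      · exact Submodule.mem_sup_left (Submodule.smul_mem _ _ (hanti₂ h0 (hx 0)))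
      · obtain ⟨i, hi⟩ := exists_lt_of_sum_eq c γ θ hc (not_le.1 h0)
        refine Submodule.mem_sup_right (Submodule.smul_mem_smul ?_ Submodule.mem_top)
        refine Ideal.mem_of_dvd _ (Finset.dvd_prod_of_mem (fun i : Fin k => φ i (x i.succ))
          (Finset.mem_univ i)) ?_
        exact h𝔞le _ hi (mem_tr (φ i) (hx i.succ))
    -- (i)
    have hi : ∀ a ∈ tr (F₁ θ), a ^ k • m ∈ B := by
      intro a ha
      have : a ^ k ∈ B.comap (LinearMap.toSpanSingleton R M m) := by
        refine pow_mem_of_forall_prod _ (tr_eq_span (F₁ θ)) _ k ?_ ha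
        intro f hf
        choose φ x hx hφx using hf
        rw [Submodule.mem_comap, LinearMap.toSpanSingleton_apply]
        have h1 : tprod R (Fin.cons m x : Fin (k + 1) → M) ∈ TFil (k + 1) F₁ (γ + k • θ) := by
          refine tprod_mem_TFil (c := Fin.cons γ (fun _ => θ)) ?_ ?_
          · rw [Fin.sum_univ_succ]
            simp
          · intro i
            induction i using Fin.cases with
            | zero => simpa using hm
            | succ j => simpa using hx j
        rw [h] at h1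
        have h2 := hii φ h1
        rw [Submodule.mem_comap, contr_tprod] at h2
        simpa only [Fin.cons_succ, Fin.cons_zero, hφx] using h2
      rwa [Submodule.mem_comap, LinearMap.toSpanSingleton_apply] at this
    have hy : e₁ θ • m ∈ B := by
      have := Submodule.smul_mem B (e₁ θ) (hi _ (he₁mem θ))
      rwa [smul_smul, ← pow_succ', (he₁ θ).pow_succ_eq] at this
    -- local units in 𝔞
    have hLU : ∀ a ∈ 𝔞, ∃ u ∈ 𝔞, u * a = a := by
      intro a ha
      rw [h𝔞] at ha
      induction ha using Submodule.iSup_induction' with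
      | mem i x hx =>
        exact ⟨e₂ i.1, h𝔞le _ i.2 (he₂mem _), he₂s _ x hx⟩
      | zero => exact ⟨0, Submodule.zero_mem _, by simp⟩
      | add x y _ _ hx hy =>
        obtain ⟨u, hu, hux⟩ := hx
        obtain ⟨v, hv, hvy⟩ := hy
        refine ⟨u + v - u * v, ?_, ?_⟩
        · exact 𝔞.sub_mem (𝔞.add_mem hu hv) (𝔞.mul_mem_left _ hv)
        · linear_combination (1 - v) * hux + (1 - u) * hvy
    -- Claim A
    have hA : ∀ a ∈ 𝔞, a • m ∈ F₂ γ := by
      have : 𝔞 ≤ (F₂ γ).comap (LinearMap.toSpanSingleton R M m) := by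
        rw [h𝔞]
        refine iSup_le fun η' => ?_
        intro s hs
        rw [Submodule.mem_comap, LinearMap.toSpanSingleton_apply]
        rw [← htr] at hs
        rw [← he₁s _ s hs, mul_comm, mul_smul]
        exact Submodule.smul_mem _ _ (IH _ η'.2)
      intro a ha
      have := this ha
      rwa [Submodule.mem_comap, LinearMap.toSpanSingleton_apply] at this
    rw [hB, Submodule.mem_sup] at hy
    obtain ⟨f, hf, z, hz, hfz⟩ := hy
    obtain ⟨u, hu, huz⟩ := exists_unit_of_mem_smul hLU z hz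
    have h1 : (1 - u) • (e₁ θ • m) ∈ F₂ γ := by
      rw [← hfz, smul_add, sub_smul (1 : R) u z, one_smul, huz, sub_self, add_zero]
      exact Submodule.smul_mem _ _ hf
    have h2 : u • (e₁ θ • m) ∈ F₂ γ := by
      rw [smul_comm]
      exact Submodule.smul_mem _ _ (hA u hu)
    have : e₁ θ • m = (1 - u) • (e₁ θ • m) + u • (e₁ θ • m) := by
      rw [sub_smul, one_smul]
      abel
    rw [this]
    exact Submodule.add_mem _ h1 h2
  -- induction
  have key : ∀ n : ℕ, ∀ η, (S.filter (fun s => η ≤ s)).card ≤ n → e₁ η • m ∈ F₂ γ := by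
    intro n
    induction n with
    | zero =>
      intro η hcard
      apply hbot
      intro s hs hηs
      have : s ∈ S.filter (fun s => η ≤ s) := Finset.mem_filter.2 ⟨hs, hηs⟩
      rw [Finset.card_eq_zero.1 (Nat.le_zero.1 hcard)] at this
      exact absurd this (Finset.notMem_empty _)
    | succ n ih =>
      intro η hcard
      by_cases hne : (S.filter (fun s => η ≤ s)).Nonempty
      · set θ := (S.filter (fun s => η ≤ s)).min' hne with hθ
        have hθmem : θ ∈ S.filter (fun s => η ≤ s) := Finset.min'_mem _ hne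
        have hηθ : η ≤ θ := (Finset.mem_filter.1 hθmem).2
        have hFeq : F₁ η = F₁ θ := by
          apply le_antisymm
          · rw [hF₁ η]
            refine iSup₂_le fun ζ hζ => ?_
            by_cases hζS : ζ ∈ S
            · have : θ ≤ ζ := Finset.min'_le _ _ (Finset.mem_filter.2 ⟨hζS, hζ⟩)
              exact G_le_F G₁ F₁ hF₁ this
            · rw [hS ζ hζS]
              exact bot_le
          · exact hanti₁ hηθ
        have hθm : e₁ θ • m ∈ F₂ γ := by
          apply hstep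
          intro η' hη'
          apply ih
          have hsub : S.filter (fun s => η' ≤ s) ⊂ S.filter (fun s => η ≤ s) := by
            rw [Finset.ssubset_iff_of_subset]
            · refine ⟨θ, hθmem, ?_⟩
              intro hcon
              exact absurd (Finset.mem_filter.1 hcon).2 (not_le.2 hη')
            · intro s hs
              rw [Finset.mem_filter] at hs ⊢
              exact ⟨hs.1, le_trans hηθ (le_trans hη'.le hs.2)⟩
          have := Finset.card_lt_card hsub
          omega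
        have h1 : e₁ η = e₁ θ * e₁ η := by
          have : e₁ η ∈ tr (F₁ θ) := by
            rw [← hFeq]
            exact he₁mem η
          exact (he₁s θ _ this).symm
        rw [h1, mul_comm, mul_smul]
        exact Submodule.smul_mem _ _ hθm
      · apply hbot
        intro s hs hηs
        exact hne ⟨s, Finset.mem_filter.2 ⟨hs, hηs⟩⟩
  have := key _ γ le_rfl
  rwa [he₁x γ m hm] at this

end Groth.Agent.Lib.Helper31.TF
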