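import Mathlib

/-!
# The five-dimensional Lie algebra `sl₂ ⋉ K²` inside a Lie algebra (abstract bracket data)
-/

set_option autoImplicit false
set_option linter.unusedSectionVars false
set_option linter.unusedVariables false

namespace Groth.Agent.Lib.Helper31.Tw

open LieAlgebra

/-- bracket data of `sl₂ ⋉ K²` -/
structure Data (K L : Type*) [Field K] [LieRing L] [LieAlgebra K L] where
  h : L
  e : L
  f : L
  x : L
  y : L
  he : ⁅h, e⁆ = (2 : K) • e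
  hf : ⁅h, f⁆ = -((2 : K) • f)
  ef : ⁅e, f⁆ = h
  hx : ⁅h, x⁆ = x
  hy : ⁅h, y⁆ = -y
  ex : ⁅e, x⁆ = 0
  fx : ⁅f, x⁆ = y
  ey : ⁅e, y⁆ = x
  fy : ⁅f, y⁆ = 0
  xy : ⁅x, y⁆ = 0
  li : LinearIndependent K ![e, f, h, x, y]

variable {K L : Type*} [Field K] [CharZero K] [LieRing L] [LieAlgebra K L] (D : Data K L)

namespace Data

/-- the five vectors -/
def v : Fin 5 → L := ![D.e, D.f, D.h, D.x, D.y]

/-- their span -/
def S : Submodule K L := Submodule.span K (Set.range D.v)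

lemma e_mem : D.e ∈ D.S := Submodule.subset_span ⟨0, rfl⟩
lemma f_mem : D.f ∈ D.S := Submodule.subset_span ⟨1, rfl⟩
lemma h_mem : D.h ∈ D.S := Submodule.subset_span ⟨2, rfl⟩
lemma x_mem : D.x ∈ D.S := Submodule.subset_span ⟨3, rfl⟩
lemma y_mem : D.y ∈ D.S := Submodule.subset_span ⟨4, rfl⟩

lemma eh : ⁅D.e, D.h⁆ = -((2 : K) • D.e) := by rw [← lie_skew, D.he]
lemma fh : ⁅D.f, D.h⁆ = (2 : K) • D.f := by rw [← lie_skew, D.hf, neg_neg]
lemma fe : ⁅D.f, D.e⁆ = -D.h := by rw [← lie_skew, D.ef]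
lemma xh : ⁅D.x, D.h⁆ = -D.x := by rw [← lie_skew, D.hx]
lemma yh : ⁅D.y, D.h⁆ = D.y := by rw [← lie_skew, D.hy, neg_neg]
lemma xe : ⁅D.x, D.e⁆ = 0 := by rw [← lie_skew, D.ex, neg_zero]
lemma xf : ⁅D.x, D.f⁆ = -D.y := by rw [← lie_skew, D.fx]
lemma ye : ⁅D.y, D.e⁆ = -D.x := by rw [← lie_skew, D.ey]
lemma yf : ⁅D.y, D.f⁆ = 0 := by rw [← lie_skew, D.fy, neg_zero]
lemma yx : ⁅D.y, D.x⁆ = 0 := by rw [← lie_skew, D.xy, neg_zero]

lemma lie_v_mem (i j : Fin 5) : ⁅D.v i, D.v j⁆ ∈ D.S := by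
  have e_mem := D.e_mem
  have f_mem := D.f_mem
  have h_mem := D.h_mem
  have x_mem := D.x_mem
  have y_mem := D.y_mem
  fin_cases i <;> fin_cases j
  · show ⁅D.e, D.e⁆ ∈ D.S
    rw [lie_self]; exact zero_mem _
  · show ⁅D.e, D.f⁆ ∈ D.S
    rw [D.ef]; exact h_mem
  · show ⁅D.e, D.h⁆ ∈ D.S
    rw [D.eh]; exact neg_mem (Submodule.smul_mem _ _ e_mem)
  · show ⁅D.e, D.x⁆ ∈ D.S
    rw [D.ex]; exact zero_mem _
  · show ⁅D.e, D.y⁆ ∈ D.S
    rw [D.ey]; exact x_mem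
  · show ⁅D.f, D.e⁆ ∈ D.S
    rw [D.fe]; exact neg_mem h_mem
  · show ⁅D.f, D.f⁆ ∈ D.S
    rw [lie_self]; exact zero_mem _
  · show ⁅D.f, D.h⁆ ∈ D.S
    rw [D.fh]; exact Submodule.smul_mem _ _ f_mem
  · show ⁅D.f, D.x⁆ ∈ D.S
    rw [D.fx]; exact y_mem
  · show ⁅D.f, D.y⁆ ∈ D.S
    rw [D.fy]; exact zero_mem _
  · show ⁅D.h, D.e⁆ ∈ D.S
    rw [D.he]; exact Submodule.smul_mem _ _ e_mem
  · show ⁅D.h, D.f⁆ ∈ D.S
    rw [D.hf]; exact neg_mem (Submodule.smul_mem _ _ f_mem)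
  · show ⁅D.h, D.h⁆ ∈ D.S
    rw [lie_self]; exact zero_mem _
  · show ⁅D.h, D.x⁆ ∈ D.S
    rw [D.hx]; exact x_mem
  · show ⁅D.h, D.y⁆ ∈ D.S
    rw [D.hy]; exact neg_mem y_mem
  · show ⁅D.x, D.e⁆ ∈ D.S
    rw [D.xe]; exact zero_mem _
  · show ⁅D.x, D.f⁆ ∈ D.S
    rw [D.xf]; exact neg_mem y_mem
  · show ⁅D.x, D.h⁆ ∈ D.S
    rw [D.xh]; exact neg_mem x_mem
  · show ⁅D.x, D.x⁆ ∈ D.S
    rw [lie_self]; exact zero_mem _
  · show ⁅D.x, D.y⁆ ∈ D.S
    rw [D.xy]; exact zero_mem _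
  · show ⁅D.y, D.e⁆ ∈ D.S
    rw [D.ye]; exact neg_mem x_mem
  · show ⁅D.y, D.f⁆ ∈ D.S
    rw [D.yf]; exact zero_mem _
  · show ⁅D.y, D.h⁆ ∈ D.S
    rw [D.yh]; exact y_mem
  · show ⁅D.y, D.x⁆ ∈ D.S
    rw [D.yx]; exact zero_mem _
  · show ⁅D.y, D.y⁆ ∈ D.S
    rw [lie_self]; exact zero_mem _

lemma lie_mem_S {a c : L} (ha : a ∈ D.S) (hc : c ∈ D.S) : ⁅a, c⁆ ∈ D.S := by
  unfold S at ha hc
  induction ha, hc using Submodule.span_induction₂ with
  | mem_mem a c ha hc =>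
    obtain ⟨i, rfl⟩ := ha
    obtain ⟨j, rfl⟩ := hc
    exact D.lie_v_mem i j
  | zero_left c hc => rw [zero_lie]; exact zero_mem _
  | zero_right a ha => rw [lie_zero]; exact zero_mem _
  | add_left a a' c ha ha' hc h1 h2 => rw [add_lie]; exact add_mem h1 h2
  | add_right a c c' ha hc hc' h1 h2 => rw [lie_add]; exact add_mem h1 h2
  | smul_left r a c ha hc h1 => rw [smul_lie]; exact Submodule.smul_mem _ _ h1
  | smul_right r a c ha hc h1 => rw [lie_smul]; exact Submodule.smul_mem _ _ h1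

/-- the subalgebra -/
def A₀ : LieSubalgebra K L :=
  { D.S with lie_mem' := fun ha hc => D.lie_mem_S ha hc }

lemma mem_A₀ (z : L) : z ∈ D.A₀ ↔ z ∈ D.S := Iff.rfl

theorem finrank_A₀ : Module.finrank K ↥D.A₀ = 5 := by
  have h := finrank_span_eq_card D.li
  rw [Fintype.card_fin] at h
  exact h

theorem lieSpan_eq : LieSubalgebra.lieSpan K L ({D.e, D.f, D.x} : Set L) = D.A₀ := by
  apply le_antisymm
  · rw [LieSubalgebra.lieSpan_le]
    intro z hz
    rcases hz with rfl | rfl | rfl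
    · exact D.e_mem
    · exact D.f_mem
    · exact D.x_mem
  · intro z hz
    have hsub : ({D.e, D.f, D.x} : Set L) ⊆ LieSubalgebra.lieSpan K L ({D.e, D.f, D.x} : Set L) :=
      LieSubalgebra.subset_lieSpan
    have he : D.e ∈ LieSubalgebra.lieSpan K L ({D.e, D.f, D.x} : Set L) := hsub (by simp)
    have hf : D.f ∈ LieSubalgebra.lieSpan K L ({D.e, D.f, D.x} : Set L) := hsub (by simp)
    have hx : D.x ∈ LieSubalgebra.lieSpan K L ({D.e, D.f, D.x} : Set L) := hsub (by simp)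
    have hh : D.h ∈ LieSubalgebra.lieSpan K L ({D.e, D.f, D.x} : Set L) := by
      rw [← D.ef]; exact LieSubalgebra.lie_mem _ he hf
    have hy : D.y ∈ LieSubalgebra.lieSpan K L ({D.e, D.f, D.x} : Set L) := by
      rw [← D.fx]; exact LieSubalgebra.lie_mem _ hf hx
    have hle : D.S ≤ (LieSubalgebra.lieSpan K L ({D.e, D.f, D.x} : Set L)).toSubmodule := by
      unfold S
      rw [Submodule.span_le]
      rintro _ ⟨i, rfl⟩
      fin_cases i
      · exact he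
      · exact hf
      · exact hh
      · exact hx
      · exact hy
    exact hle hz

/-- the span of `x, y` -/
def R' : Submodule K L := Submodule.span K ({D.x, D.y} : Set L)

lemma R'_le_S : D.R' ≤ D.S := by
  unfold R'
  rw [Submodule.span_le]
  intro z hz
  rcases hz with rfl | rfl
  · exact D.x_mem
  · exact D.y_mem

lemma x_mem_R' : D.x ∈ D.R' := Submodule.subset_span (by simp)
lemma y_mem_R' : D.y ∈ D.R' := Submodule.subset_span (by simp)

lemma lie_S_R' {a r : L} (ha : a ∈ D.S) (hr : r ∈ D.R') : ⁅a, r⁆ ∈ D.R' := by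
  have x_mem := D.x_mem_R'
  have y_mem := D.y_mem_R'
  unfold S at ha
  unfold R' at hr
  induction ha, hr using Submodule.span_induction₂ with
  | mem_mem a c ha hc =>
    obtain ⟨i, rfl⟩ := ha
    rcases hc with rfl | rfl
    · fin_cases i
      · show ⁅D.e, D.x⁆ ∈ D.R'
        rw [D.ex]; exact zero_mem _
      · show ⁅D.f, D.x⁆ ∈ D.R'
        rw [D.fx]; exact y_mem
      · show ⁅D.h, D.x⁆ ∈ D.R'
        rw [D.hx]; exact x_mem
      · show ⁅D.x, D.x⁆ ∈ D.R'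
        rw [lie_self]; exact zero_mem _
      · show ⁅D.y, D.x⁆ ∈ D.R'
        rw [D.yx]; exact zero_mem _
    · fin_cases i
      · show ⁅D.e, D.y⁆ ∈ D.R'
        rw [D.ey]; exact x_mem
      · show ⁅D.f, D.y⁆ ∈ D.R'
        rw [D.fy]; exact zero_mem _
      · show ⁅D.h, D.y⁆ ∈ D.R'
        rw [D.hy]; exact neg_mem y_mem
      · show ⁅D.x, D.y⁆ ∈ D.R'
        rw [D.xy]; exact zero_mem _
      · show ⁅D.y, D.y⁆ ∈ D.R'
        rw [lie_self]; exact zero_mem _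
  | zero_left c hc => rw [zero_lie]; exact zero_mem _
  | zero_right a ha => rw [lie_zero]; exact zero_mem _
  | add_left a a' c ha ha' hc h1 h2 => rw [add_lie]; exact add_mem h1 h2
  | add_right a c c' ha hc hc' h1 h2 => rw [lie_add]; exact add_mem h1 h2
  | smul_left r a c ha hc h1 => rw [smul_lie]; exact Submodule.smul_mem _ _ h1
  | smul_right r a c ha hc h1 => rw [lie_smul]; exact Submodule.smul_mem _ _ h1

lemma lie_R'_R' {r r' : L} (hr : r ∈ D.R') (hr' : r' ∈ D.R') : ⁅r, r'⁆ = 0 := by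
  unfold R' at hr hr'
  induction hr, hr' using Submodule.span_induction₂ with
  | mem_mem a c ha hc =>
    rcases ha with rfl | rfl <;> rcases hc with rfl | rfl
    · exact lie_self _
    · exact D.xy
    · exact D.yx
    · exact lie_self _
  | zero_left c hc => rw [zero_lie]
  | zero_right a ha => rw [lie_zero]
  | add_left a a' c ha ha' hc h1 h2 => rw [add_lie, h1, h2, add_zero]
  | add_right a c c' ha hc hc' h1 h2 => rw [lie_add, h1, h2, add_zero]
  | smul_left r a c ha hc h1 => rw [smul_lie, h1, smul_zero]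
  | smul_right r a c ha hc h1 => rw [lie_smul, h1, smul_zero]

end Data

end Groth.Agent.Lib.Helper31.Tw
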