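import Mathlib
import Groth.Agent.Lib.Helper31.Tw1

/-!
# The radical of `sl₂ ⋉ K²`
-/

set_option autoImplicit false
set_option linter.unusedSectionVars false
set_option linter.unusedVariables false

namespace Groth.Agent.Lib.Helper31.Tw

open LieAlgebra

variable {K L : Type*} [Field K] [CharZero K] [LieRing L] [LieAlgebra K L] (D : Data K L)

namespace Data

lemma exists_coeff {z : L} (hz : z ∈ D.S) : ∃ a b c d g : K,
    z = a • D.e + b • D.f + c • D.h + d • D.x + g • D.y := by
  unfold S at hz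
  obtain ⟨t, rfl⟩ := (Submodule.mem_span_range_iff_exists_fun K).mp hz
  refine ⟨t 0, t 1, t 2, t 3, t 4, ?_⟩
  rw [Fin.sum_univ_five]
  rfl

lemma smul_mem_iff' (I' : Submodule K L) {c : K} (hc : c ≠ 0) {z : L} (h : c • z ∈ I') : z ∈ I' := by
  have := I'.smul_mem c⁻¹ h
  rwa [smul_smul, inv_mul_cancel₀ hc, one_smul] at this

/-- a subspace of `S` stable under `ad S` and not inside `R'` contains `e, f, h`. -/
lemma efh_mem (I' : Submodule K L) (hst : ∀ a ∈ D.S, ∀ z ∈ I', ⁅a, z⁆ ∈ I') (hIS : I' ≤ D.S)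
    (hnot : ¬ I' ≤ D.R') : D.e ∈ I' ∧ D.f ∈ I' ∧ D.h ∈ I' := by
  have h2 : (2 : K) ≠ 0 := two_ne_zero
  have he_all : D.e ∈ I' → D.e ∈ I' ∧ D.f ∈ I' ∧ D.h ∈ I' := by
    intro he
    have hh : D.h ∈ I' := by
      have := hst D.f D.f_mem D.e he
      rw [D.fe] at this
      exact neg_mem_iff.mp this
    have hf : D.f ∈ I' := by
      have := hst D.f D.f_mem D.h hh
      rw [D.fh] at this
      exact smul_mem_iff' I' h2 this
    exact ⟨he, hf, hh⟩
  have hf_all : D.f ∈ I' → D.e ∈ I' ∧ D.f ∈ I' ∧ D.h ∈ I' := by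
    intro hf
    have hh : D.h ∈ I' := by
      have := hst D.e D.e_mem D.f hf
      rwa [D.ef] at this
    have he : D.e ∈ I' := by
      have := hst D.e D.e_mem D.h hh
      rw [D.eh] at this
      exact smul_mem_iff' I' h2 (neg_mem_iff.mp this)
    exact ⟨he, hf, hh⟩
  obtain ⟨z, hz, hzR⟩ := SetLike.not_le_iff_exists.mp hnot
  obtain ⟨a, b, c, d, g, rfl⟩ := D.exists_coeff (hIS hz)
  by_cases ha : a = 0
  · by_cases hb : b = 0
    · by_cases hc : c = 0
      · exfalso
        apply hzR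
        subst ha hb hc
        simp only [zero_smul, zero_add]
        exact add_mem (Submodule.smul_mem _ _ D.x_mem_R') (Submodule.smul_mem _ _ D.y_mem_R')
      · subst ha hb
        have ht := hst D.e D.e_mem _ hz
        have ht2 := hst D.h D.h_mem _ ht
        have key : ⁅D.e, (0 : K) • D.e + (0 : K) • D.f + c • D.h + d • D.x + g • D.y⁆ -
            ⁅D.h, ⁅D.e, (0 : K) • D.e + (0 : K) • D.f + c • D.h + d • D.x + g • D.y⁆⁆ =
            (2 * c) • D.e := by
          simp only [lie_add, lie_smul, D.eh, D.ex, D.ey, D.he, D.hx, lie_neg,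
            smul_zero, zero_smul, add_zero, zero_add]
          module
        have hmem : (2 * c) • D.e ∈ I' := by
          rw [← key]
          exact sub_mem ht ht2
        exact he_all (smul_mem_iff' I' (mul_ne_zero h2 hc) hmem)
    · subst ha
      have ht := hst D.e D.e_mem _ hz
      have ht2 := hst D.e D.e_mem _ ht
      have key : ⁅D.e, ⁅D.e, (0 : K) • D.e + b • D.f + c • D.h + d • D.x + g • D.y⁆⁆ =
          (-(2 * b)) • D.e := by
        simp only [lie_add, lie_smul, lie_self, D.ef, D.eh, D.ex, D.ey, lie_neg,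
          smul_zero, zero_smul, add_zero, zero_add]
        module
      rw [key] at ht2
      exact he_all (smul_mem_iff' I' (neg_ne_zero.mpr (mul_ne_zero h2 hb)) ht2)
  · have ht := hst D.f D.f_mem _ hz
    have ht2 := hst D.f D.f_mem _ ht
    have key : ⁅D.f, ⁅D.f, a • D.e + b • D.f + c • D.h + d • D.x + g • D.y⁆⁆ =
        (-(2 * a)) • D.f := by
      simp only [lie_add, lie_smul, lie_self, D.fe, D.fh, D.fx, D.fy, lie_neg,
        smul_zero, add_zero]
      module
    rw [key] at ht2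
    exact hf_all (smul_mem_iff' I' (neg_ne_zero.mpr (mul_ne_zero h2 ha)) ht2)

/-- the candidate radical -/
def R : LieIdeal K D.A₀ :=
  { (D.R'.comap D.A₀.incl.toLinearMap) with
    lie_mem := fun {a z} hz => D.lie_S_R' a.2 hz }

lemma mem_R (z : D.A₀) : z ∈ D.R ↔ (z : L) ∈ D.R' := Iff.rfl

instance : IsLieAbelian ↥D.R := by
  constructor
  intro a c
  apply Subtype.ext
  apply Subtype.ext
  exact D.lie_R'_R' a.2 c.2

/-- elements as members of the subalgebra -/
def e' : D.A₀ := ⟨D.e, D.e_mem⟩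
def f' : D.A₀ := ⟨D.f, D.f_mem⟩
def h' : D.A₀ := ⟨D.h, D.h_mem⟩

lemma mem_derived (I : LieIdeal K D.A₀) (he : D.e' ∈ I) (hf : D.f' ∈ I) (hh : D.h' ∈ I) (k : ℕ) :
    D.e' ∈ derivedSeriesOfIdeal K D.A₀ k I ∧ D.f' ∈ derivedSeriesOfIdeal K D.A₀ k I ∧
      D.h' ∈ derivedSeriesOfIdeal K D.A₀ k I := by
  induction k with
  | zero => exact ⟨he, hf, hh⟩
  | succ k ih =>
    rw [derivedSeriesOfIdeal_succ]
    obtain ⟨h1, h2, h3⟩ := ih
    have h2' : (2 : K) ≠ 0 := two_ne_zero
    refine ⟨?_, ?_, ?_⟩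
    · have : D.e' = (2 : K)⁻¹ • ⁅D.h', D.e'⁆ := by
        apply Subtype.ext
        show D.e = (2 : K)⁻¹ • ⁅D.h, D.e⁆
        rw [D.he, smul_smul, inv_mul_cancel₀ h2', one_smul]
      rw [this]
      exact Submodule.smul_mem _ _ (LieSubmodule.lie_mem_lie h3 h1)
    · have : D.f' = (-(2 : K)⁻¹) • ⁅D.h', D.f'⁆ := by
        apply Subtype.ext
        show D.f = (-(2 : K)⁻¹) • ⁅D.h, D.f⁆
        rw [D.hf, smul_neg, neg_smul, neg_neg, smul_smul, inv_mul_cancel₀ h2', one_smul]
      rw [this]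
      exact Submodule.smul_mem _ _ (LieSubmodule.lie_mem_lie h3 h2)
    · have : D.h' = ⁅D.e', D.f'⁆ := by
        apply Subtype.ext
        show D.h = ⁅D.e, D.f⁆
        rw [D.ef]
      rw [this]
      exact LieSubmodule.lie_mem_lie h1 h2

variable [FiniteDimensional K L]

theorem radical_eq : radical K D.A₀ = D.R := by
  apply le_antisymm
  · -- radical ≤ R
    by_contra hnot
    set I := radical K D.A₀ with hI
    let I' : Submodule K L := I.toSubmodule.map D.A₀.incl.toLinearMap
    have hIS : I' ≤ D.S := by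
      rintro _ ⟨z, _, rfl⟩
      exact z.2
    have hst : ∀ a ∈ D.S, ∀ z ∈ I', ⁅a, z⁆ ∈ I' := by
      rintro a ha _ ⟨z, hz, rfl⟩
      exact ⟨⁅(⟨a, ha⟩ : D.A₀), z⁆, I.lie_mem hz, rfl⟩
    have hnot' : ¬ I' ≤ D.R' := by
      intro hle
      apply hnot
      intro z hz
      exact hle ⟨z, hz, rfl⟩
    obtain ⟨he, hf, hh⟩ := D.efh_mem I' hst hIS hnot'
    have lift : ∀ (w : L) (hw : w ∈ D.S), w ∈ I' → (⟨w, hw⟩ : D.A₀) ∈ I := by
      rintro w hw ⟨z, hz, hzw⟩
      have : z = ⟨w, hw⟩ := Subtype.ext hzw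
      rw [← this]
      exact hz
    have he' := lift _ D.e_mem he
    have hf' := lift _ D.f_mem hf
    have hh' := lift _ D.h_mem hh
    have hsolv : IsSolvable ↥I := by
      rw [hI]
      infer_instance
    obtain ⟨k, hk⟩ := (LieAlgebra.isSolvable_iff K ↥I).mp hsolv
    rw [LieIdeal.derivedSeries_eq_bot_iff] at hk
    have := (D.mem_derived I he' hf' hh' k).1
    rw [hk] at this
    have h0 : D.e' = 0 := (LieSubmodule.mem_bot _).mp this
    have h1 : D.e = 0 := congrArg Subtype.val h0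
    exact D.li.ne_zero 0 h1
  · rw [← LieIdeal.solvable_iff_le_radical]
    infer_instance

theorem map_radical :
    (radical K D.A₀).toSubmodule.map D.A₀.incl.toLinearMap = D.R' := by
  rw [radical_eq]
  ext w
  constructor
  · rintro ⟨z, hz, rfl⟩
    exact hz
  · intro hw
    exact ⟨⟨w, D.R'_le_S hw⟩, hw, rfl⟩

theorem finrank_radical : Module.finrank K ↥(radical K D.A₀) = 2 := by
  have hinj : Function.Injective (D.A₀.incl.toLinearMap : D.A₀ →ₗ[K] L) := Subtype.val_injective
  have e1 := Submodule.equivMapOfInjective (D.A₀.incl.toLinearMap : D.A₀ →ₗ[K] L) hinj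
    (radical K D.A₀).toSubmodule
  have h1 : Module.finrank K ↥(radical K D.A₀) =
      Module.finrank K ↥((radical K D.A₀).toSubmodule.map D.A₀.incl.toLinearMap) :=
    LinearEquiv.finrank_eq e1
  rw [h1, map_radical]
  have hli : LinearIndependent K ![D.x, D.y] := by
    have := D.li.comp ![(3 : Fin 5), 4] (by decide)
    convert this using 1
    ext i
    fin_cases i <;> rfl
  have := finrank_span_eq_card hli
  rw [Fintype.card_fin] at this
  have hset : Set.range ![D.x, D.y] = ({D.x, D.y} : Set L) := by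
    ext w
    simp only [Set.mem_range, Set.mem_insert_iff, Set.mem_singleton_iff]
    constructor
    · rintro ⟨i, rfl⟩
      fin_cases i
      · left; rfl
      · right; rfl
    · rintro (rfl | rfl)
      · exact ⟨0, rfl⟩
      · exact ⟨1, rfl⟩
  rw [hset] at this
  exact this

end Data

end Groth.Agent.Lib.Helper31.Tw
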