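import Mathlib
import Groth.Agent.Lib.Helper31.Lie5
import Groth.Agent.Lib.Helper31.Tw2

/-!
# The subalgebra generated by the highest root `sl₂` and the Borel-stable line (S17433)
-/

set_option autoImplicit false
set_option linter.unusedSectionVars false
set_option linter.unusedVariables false

universe u v w

open LieAlgebra LieModule LieAlgebra.IsKilling

namespace Groth.Agent.Lib.Helper31.LieHW

variable {ι : Type u} {K : Type v} {L : Type w} [Fintype ι] [Field K] [CharZero K]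
    [IsAlgClosed K] [LieRing L] [LieAlgebra K L] [FiniteDimensional K L]
    {H : LieSubalgebra K L} [H.IsCartanSubalgebra] (b : LieAlgebra.Basis ι H)
    [LieAlgebra.IsSimple K L]

omit [Fintype ι] in
theorem neg_not_weight (χ : H → K) (h : rootSpace H χ = ⊥) : rootSpace H (-χ) = ⊥ := by
  by_contra hne
  let W : Weight K H L := ⟨-χ, hne⟩
  have h1 := (-W).genWeightSpace_ne_bot
  apply h1
  have : (⇑(-W) : H → K) = χ := by
    ext t
    simp [W]
  rw [this]
  exact h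

omit [Fintype ι] in
theorem neg_weight (χ : H → K) (h : rootSpace H χ ≠ ⊥) : rootSpace H (-χ) ≠ ⊥ := by
  intro h0
  apply h
  have := neg_not_weight (-χ) h0
  rwa [neg_neg] at this

theorem alpha_weight (i : ι) : rootSpace H ⇑(b.baseSupp i) ≠ ⊥ := by
  intro h0
  have := e_mem_rootSpace b i
  rw [h0] at this
  exact e_ne_zero b i ((LieSubmodule.mem_bot _).mp this)

section Twistor

variable (ρ : Module.Dual K H) (hρ : rootSpace H ρ ≠ ⊥)
  (htop : ∀ i, rootSpace H (ρ + b.baseSupp i) = ⊥)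
  (j : ι) (hN : ∀ i, ρ (b.h' i) ≠ 0 ↔ i = j) (hj : ρ (b.h' j) = 1)

include hρ htop hN hj

theorem two_rho_sub_not_weight : rootSpace H ⇑(ρ + (ρ - b.baseSupp j)) = ⊥ := by
  by_contra hne
  obtain ⟨n, hn⟩ := exists_eq_wt_rho b ρ hρ htop _ hne
  obtain ⟨n', hn'⟩ := exists_eq_wt_rho b ρ hρ htop _ (alpha_weight b j)
  have e1 : ρ + (ρ - b.baseSupp j) = wt b ρ n := LinearMap.ext (fun t => congrFun hn t)
  have e2 : b.baseSupp j = wt b ρ n' := LinearMap.ext (fun t => congrFun hn' t)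
  have e3 : wt b ρ (n + n') = wt b ρ 0 := by
    rw [wt_add, ← e1, wt_zero]
    have : wt b (ρ + (ρ - b.baseSupp j)) n' = (ρ + (ρ - b.baseSupp j)) - (ρ - wt b ρ n') := by
      unfold wt
      abel
    rw [this, ← e2]
    abel
  have e4 := wt_injective b ρ _ _ e3
  have hn0 : n' = 0 := by
    funext i
    have := congrFun e4 i
    simp only [Pi.add_apply, Pi.zero_apply] at this ⊢
    omega
  rw [hn0, wt_zero] at e2
  have := congrArg (fun φ : Module.Dual K H => φ (b.h' j)) e2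
  simp only [hj, b.baseSupp_apply_h', A_diag] at this
  norm_num at this

/-- the bracket data -/
theorem exists_data : ∃ D : Tw.Data K L, D.e ∈ rootSpace H ⇑ρ ∧ D.f ∈ rootSpace H ⇑(-ρ) ∧
    D.x ∈ rootSpace H ⇑(ρ - b.baseSupp j) ∧ D.y ∈ rootSpace H ⇑(-b.baseSupp j) := by
  have hρ0 : (⇑ρ : H → K) ≠ 0 := rho_ne_zero b ρ hρ htop j hN hj
  let ρW : Weight K H L := ⟨⇑ρ, hρ⟩
  have hnz : ρW.IsNonZero := fun h => hρ0 h
  obtain ⟨h, e, f, ht, heρ, hfρ⟩ := exists_isSl2Triple_of_weight_isNonZero hnz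
  have hcor : h = coroot ρW := ht.h_eq_coroot hnz heρ hfρ
  have hβne := sub_j_weight b ρ hρ htop j hN hj
  have hβne' := hβne
  rw [Ne, LieSubmodule.eq_bot_iff] at hβne'
  push Not at hβne'
  obtain ⟨x, hxβ, hx0⟩ := hβne'
  -- the value of α_j on the coroot of ρ
  let αW : Weight K H L := ⟨⇑(b.baseSupp j), alpha_weight b j⟩
  have hchain := rootSpace_zsmul_add_ne_bot_iff ρW αW hnz
  have hval := apply_coroot_eq_cast ρW αW
  have c1 : ¬ ((1 : ℤ) ≤ chainTopCoeff ρW αW ∧ -(1 : ℤ) ≤ chainBotCoeff ρW αW) := by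
    intro hc
    have := (hchain 1).mpr hc
    apply this
    have e : ((1 : ℤ) • (⇑ρW : H → K) + ⇑αW) = ⇑(ρ + b.baseSupp j) := by
      ext t
      simp [ρW, αW]
    rw [e]
    exact htop j
  have c2 : (-(1 : ℤ)) ≤ chainTopCoeff ρW αW ∧ -(-(1 : ℤ)) ≤ chainBotCoeff ρW αW := by
    apply (hchain (-1)).mp
    have e : ((-1 : ℤ) • (⇑ρW : H → K) + ⇑αW) = -⇑(ρ - b.baseSupp j) := by
      ext t
      simp [ρW, αW]
      ring
    rw [e]
    exact neg_weight _ hβne
  have c3 : ¬ ((-(2 : ℤ)) ≤ chainTopCoeff ρW αW ∧ -(-(2 : ℤ)) ≤ chainBotCoeff ρW αW) := by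
    intro hc
    have := (hchain (-2)).mpr hc
    apply this
    have e : ((-2 : ℤ) • (⇑ρW : H → K) + ⇑αW) = -⇑(ρ + (ρ - b.baseSupp j)) := by
      ext t
      simp [ρW, αW]
      ring
    rw [e]
    exact neg_not_weight _ (two_rho_sub_not_weight b ρ hρ htop j hN hj)
  have htopc : chainTopCoeff ρW αW = 0 := by
    by_contra hne
    apply c1
    constructor <;> omega
  have hbotc : chainBotCoeff ρW αW = 1 := by
    have := c2.2
    by_contra hne
    apply c3
    constructor <;> omega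
  have hα : (b.baseSupp j) (coroot ρW) = 1 := by
    have : αW (coroot ρW) = (b.baseSupp j) (coroot ρW) := rfl
    rw [← this, hval, htopc, hbotc]
    norm_num
  have hρc : ρ (coroot ρW) = 2 := root_apply_coroot hnz
  have hβc : (ρ - b.baseSupp j) (coroot ρW) = 1 := by
    rw [LinearMap.sub_apply, hα, hρc]
    norm_num
  -- the table
  have t_he : ⁅h, e⁆ = (2 : K) • e := by
    rw [ht.lie_h_e_nsmul, two_nsmul, two_smul]
  have t_hf : ⁅h, f⁆ = -((2 : K) • f) := by
    rw [ht.lie_h_f_nsmul, two_nsmul, two_smul]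
  have t_ef : ⁅e, f⁆ = h := ht.lie_e_f
  have t_hx : ⁅h, x⁆ = x := by
    have := lie_eq_smul_of_mem_rootSpace hxβ (coroot ρW)
    rw [LieSubalgebra.coe_bracket_of_module, ← hcor] at this
    rw [this]
    have h1 : (⇑(ρ - b.baseSupp j) : H → K) (coroot ρW) = 1 := hβc
    rw [h1, one_smul]
  have t_ex : ⁅e, x⁆ = 0 := by
    have := lie_mem_genWeightSpace_of_mem_genWeightSpace heρ hxβ
    have h0 : rootSpace H ⇑(ρ + (ρ - b.baseSupp j)) = ⊥ :=
      two_rho_sub_not_weight b ρ hρ htop j hN hj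
    have h2 : ⁅e, x⁆ ∈ rootSpace H ⇑(ρ + (ρ - b.baseSupp j)) := this
    rw [h0] at h2
    exact (LieSubmodule.mem_bot _).mp h2
  have t_hy : ⁅h, ⁅f, x⁆⁆ = -⁅f, x⁆ := by
    rw [leibniz_lie, t_hf, t_hx, neg_lie, smul_lie, two_smul]
    abel
  have t_ey : ⁅e, ⁅f, x⁆⁆ = x := by
    rw [leibniz_lie, t_ef, t_hx, t_ex, lie_zero, add_zero]
  have hyw : ⁅f, x⁆ ∈ rootSpace H ((-⇑ρW : H → K) + ⇑(ρ - b.baseSupp j)) :=
    lie_mem_genWeightSpace_of_mem_genWeightSpace hfρ hxβ
  have t_fy : ⁅f, ⁅f, x⁆⁆ = 0 := by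
    have := lie_mem_genWeightSpace_of_mem_genWeightSpace hfρ hyw
    have e : ((-⇑ρW : H → K) + ((-⇑ρW : H → K) + ⇑(ρ - b.baseSupp j))) =
        -⇑(ρ + b.baseSupp j) := by
      ext t
      simp [ρW]
      ring
    have h0 : rootSpace H (-⇑(ρ + b.baseSupp j)) = ⊥ := neg_not_weight _ (htop j)
    have h2 : ⁅f, ⁅f, x⁆⁆ ∈ rootSpace H (-⇑(ρ + b.baseSupp j)) := by
      rw [← e]
      exact this
    rw [h0] at h2
    exact (LieSubmodule.mem_bot _).mp h2
  have t_xy : ⁅x, ⁅f, x⁆⁆ = 0 := by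
    have := lie_mem_genWeightSpace_of_mem_genWeightSpace hxβ hyw
    have e : ((⇑(ρ - b.baseSupp j) : H → K) + ((-⇑ρW : H → K) + ⇑(ρ - b.baseSupp j))) =
        ⇑(ρ - b.baseSupp j - b.baseSupp j) := by
      ext t
      simp [ρW]
      ring
    have h0 : rootSpace H ⇑(ρ - b.baseSupp j - b.baseSupp j) = ⊥ :=
      sub_two_j_not_weight b ρ hρ htop j hN hj
    have h2 : ⁅x, ⁅f, x⁆⁆ ∈ rootSpace H ⇑(ρ - b.baseSupp j - b.baseSupp j) := by
      rw [← e]
      exact this
    rw [h0] at h2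
    exact (LieSubmodule.mem_bot _).mp h2
  have hy0 : ⁅f, x⁆ ≠ 0 := by
    intro h0
    rw [h0, lie_zero] at t_ey
    exact hx0 t_ey.symm
  -- linear independence
  have hli : LinearIndependent K ![e, f, h, x, ⁅f, x⁆] := by
    apply Module.End.eigenvectors_linearIndependent' (LieAlgebra.ad K L h) ![2, -2, 0, 1, -1]
    · intro i k hik
      fin_cases i <;> fin_cases k <;> simp at hik ⊢ <;> norm_num at hik
    · intro i
      rw [Module.End.hasEigenvector_iff, Module.End.mem_eigenspace_iff, LieAlgebra.ad_apply]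
      fin_cases i
      · exact ⟨t_he, ht.e_ne_zero⟩
      · refine ⟨?_, ht.f_ne_zero⟩
        show ⁅h, f⁆ = (-2 : K) • f
        rw [t_hf, neg_smul]
      · refine ⟨?_, ht.h_ne_zero⟩
        show ⁅h, h⁆ = (0 : K) • h
        rw [lie_self, zero_smul]
      · refine ⟨?_, hx0⟩
        show ⁅h, x⁆ = (1 : K) • x
        rw [t_hx, one_smul]
      · refine ⟨?_, hy0⟩
        show ⁅h, ⁅f, x⁆⁆ = (-1 : K) • ⁅f, x⁆
        rw [t_hy, neg_smul, one_smul]
  refine ⟨⟨h, e, f, x, ⁅f, x⁆, t_he, t_hf, t_ef, t_hx, t_hy, t_ex, rfl, t_ey, t_fy, t_xy, hli⟩,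
    heρ, hfρ, hxβ, ?_⟩
  have e : ((-⇑ρW : H → K) + ⇑(ρ - b.baseSupp j)) = ⇑(-b.baseSupp j) := by
    ext t
    simp [ρW]
    ring
  rw [← e]
  exact hyw

theorem twistor_main (A : LieSubalgebra K L)
    (hA : A = LieSubalgebra.lieSpan K L
      ((rootSpace H ρ : Set L) ∪ (rootSpace H (-ρ) : Set L) ∪
        (rootSpace H (ρ - b.baseSupp j) : Set L))) :
    Module.finrank K A = 5 ∧ Module.finrank K (LieAlgebra.radical K A) = 2 ∧
      (LieAlgebra.radical K A).toSubmodule.map (A.incl : A →ₗ⁅K⁆ L).toLinearMap =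
        (rootSpace H (ρ - b.baseSupp j) : Submodule K L) ⊔
          (rootSpace H (-b.baseSupp j) : Submodule K L) := by
  obtain ⟨D, he, hf, hx, hy⟩ := exists_data b ρ hρ htop j hN hj
  have he0 : D.e ≠ 0 := D.li.ne_zero 0
  have hf0 : D.f ≠ 0 := D.li.ne_zero 1
  have hx0 : D.x ≠ 0 := D.li.ne_zero 3
  have hy0 : D.y ≠ 0 := D.li.ne_zero 4
  have hρ0 : (⇑ρ : H → K) ≠ 0 := rho_ne_zero b ρ hρ htop j hN hj
  have hnρ0 : (⇑(-ρ) : H → K) ≠ 0 := by
    intro h
    apply hρ0
    have : (-⇑ρ : H → K) = 0 := h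
    exact neg_eq_zero.mp this
  have hβ0 : (⇑(ρ - b.baseSupp j) : H → K) ≠ 0 := rho_sub_ne_zero b ρ hρ htop j hN hj
  have hα0 : (⇑(-b.baseSupp j) : H → K) ≠ 0 := by
    intro h
    have := congrFun h (b.h' j)
    simp only [LinearMap.neg_apply, b.baseSupp_apply_h', A_diag, Pi.zero_apply] at this
    norm_num at this
  have hspan : LieSubalgebra.lieSpan K L
      ((rootSpace H ρ : Set L) ∪ (rootSpace H (-ρ) : Set L) ∪
        (rootSpace H (ρ - b.baseSupp j) : Set L)) = D.A₀ := by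
    rw [← D.lieSpan_eq]
    have hsub : ({D.e, D.f, D.x} : Set L) ⊆
        LieSubalgebra.lieSpan K L ({D.e, D.f, D.x} : Set L) := LieSubalgebra.subset_lieSpan
    apply le_antisymm
    · rw [LieSubalgebra.lieSpan_le]
      rintro z ((hz | hz) | hz)
      · exact rootSpace_le_of_mem _ hρ0 D.e he0 he
          (LieSubalgebra.lieSpan K L ({D.e, D.f, D.x} : Set L)).toSubmodule (hsub (by simp)) hz
      · exact rootSpace_le_of_mem _ hnρ0 D.f hf0 hf
          (LieSubalgebra.lieSpan K L ({D.e, D.f, D.x} : Set L)).toSubmodule (hsub (by simp)) hz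
      · exact rootSpace_le_of_mem _ hβ0 D.x hx0 hx
          (LieSubalgebra.lieSpan K L ({D.e, D.f, D.x} : Set L)).toSubmodule (hsub (by simp)) hz
    · apply LieSubalgebra.lieSpan_mono
      intro z hz
      rcases hz with rfl | rfl | rfl
      · exact Or.inl (Or.inl he)
      · exact Or.inl (Or.inr hf)
      · exact Or.inr hx
  obtain rfl : A = D.A₀ := hA.trans hspan
  refine ⟨D.finrank_A₀, D.finrank_radical, ?_⟩
  rw [D.map_radical]
  unfold Tw.Data.R'
  rw [Submodule.span_insert]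
  congr 1
  · apply le_antisymm
    · rw [Submodule.span_le, Set.singleton_subset_iff]
      exact hx
    · exact rootSpace_le_of_mem _ hβ0 D.x hx0 hx _ (Submodule.mem_span_singleton_self _)
  · apply le_antisymm
    · rw [Submodule.span_le, Set.singleton_subset_iff]
      exact hy
    · exact rootSpace_le_of_mem _ hα0 D.y hy0 hy _ (Submodule.mem_span_singleton_self _)

end Twistor

end Groth.Agent.Lib.Helper31.LieHW
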