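import Mathlib
import Groth.Agent.Lib.Helper31.WeylBase

/-!
# Simple transitivity of the Weyl group on bases (S2954)
-/

set_option autoImplicit false
set_option linter.unusedSectionVars false

open RootPairing
open scoped Classical

namespace Groth.Agent.Lib.Helper31.WB

variable {ι R M N : Type*} [CommRing R] [AddCommGroup M] [Module R M]
  [AddCommGroup N] [Module R N] {P : RootPairing ι R M N}
  [CharZero R] [IsDomain R] [Finite ι] [P.IsCrystallographic] [P.IsReduced]

theorem root_smul (g : P.Aut) (k : ι) : P.root (g • k) = g • P.root k :=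
  Equiv.root_indexEquiv_eq_smul P k g

/-- if `g` maps the simple roots of `b` to positive roots of `b'`, it maps all positive roots of
`b` to positive roots of `b'` -/
theorem preserves_pos_of_simple (b b' : P.Base) {g : P.Aut}
    (h : ∀ l ∈ b.support, b'.IsPos (g • l)) : ∀ k, b.IsPos k → b'.IsPos (g • k) := by
  intro k hk
  refine hk.induction_on_add (p := fun k => b'.IsPos (g • k)) h ?_
  intro i j k hk hi hj
  refine RootPairing.Base.IsPos.add hi (h j hj) ?_
  rw [root_smul, root_smul, root_smul, hk, smul_add]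

theorem exists_weyl_pos_subset (b b' : P.Base) :
    ∃ g : P.Aut, g ∈ P.weylGroup ∧ ∀ k, b.IsPos k → b'.IsPos (g • k) := by
  let Nf : P.Aut → ℕ := fun g => Set.ncard {k | b.IsPos k ∧ b'.IsPos (g • k)}
  have hbd : ∀ g, Nf g ≤ Nat.card ι := fun g => by
    calc Nf g ≤ (Set.univ : Set ι).ncard :=
          Set.ncard_le_ncard (Set.subset_univ _) (Set.toFinite _)
      _ = Nat.card ι := Set.ncard_univ ι
  obtain ⟨g, hgW, hmax⟩ : ∃ g ∈ P.weylGroup, ∀ g' ∈ P.weylGroup, Nf g' ≤ Nf g := by
    let T : Set ℕ := Nf '' (P.weylGroup : Set P.Aut)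
    have hTne : T.Nonempty := ⟨Nf 1, 1, one_mem _, rfl⟩
    have hTbdd : BddAbove T := ⟨Nat.card ι, by rintro _ ⟨g, _, rfl⟩; exact hbd g⟩
    obtain ⟨g, hg, hgeq⟩ := Nat.sSup_mem hTne hTbdd
    refine ⟨g, hg, fun g' hg' => ?_⟩
    rw [hgeq]
    exact le_csSup hTbdd ⟨g', hg', rfl⟩
  refine ⟨g, hgW, preserves_pos_of_simple b b' ?_⟩
  intro l hl
  by_contra hgl
  have hlpos : b.IsPos l := b.isPos_of_mem_support hl
  have hg'W : g * Equiv.reflection P l ∈ P.weylGroup :=
    mul_mem hgW (P.reflection_mem_weylGroup l)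
  have hlt : Nf g < Nf (g * Equiv.reflection P l) := by
    have hsub : insert l ((P.reflectionPerm l) '' {k | b.IsPos k ∧ b'.IsPos (g • k)}) ⊆
        {k | b.IsPos k ∧ b'.IsPos ((g * Equiv.reflection P l) • k)} := by
      intro x hx
      rcases hx with rfl | ⟨k, ⟨hk, hgk⟩, rfl⟩
      · refine ⟨hlpos, ?_⟩
        rw [mul_smul, reflection_smul_idx, smul_negIdx]
        exact (isPos_neg_iff b' _).mpr hgl
      · have hkl : k ≠ l := by
          rintro rfl
          exact hgl hgk
        refine ⟨hk.reflectionPerm hl hkl, ?_⟩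
        rw [mul_smul, reflection_smul_idx, P.reflectionPerm_self]
        exact hgk
    have hnotin : l ∉ (P.reflectionPerm l) '' {k | b.IsPos k ∧ b'.IsPos (g • k)} := by
      rintro ⟨k, ⟨hk, -⟩, hkl⟩
      have : k = P.reflectionPerm l l := by
        have h5 := P.reflectionPerm_self l k
        rw [hkl] at h5
        exact h5.symm
      rw [this] at hk
      exact (isPos_neg_iff b l).mp hk hlpos
    calc Nf g = ((P.reflectionPerm l) '' {k | b.IsPos k ∧ b'.IsPos (g • k)}).ncard :=
          (Set.ncard_image_of_injective _ (P.reflectionPerm l).injective).symm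
      _ < (insert l ((P.reflectionPerm l) '' {k | b.IsPos k ∧ b'.IsPos (g • k)})).ncard := by
          rw [Set.ncard_insert_of_notMem hnotin (Set.toFinite _)]
          exact Nat.lt_succ_self _
      _ ≤ Nf (g * Equiv.reflection P l) := Set.ncard_le_ncard hsub (Set.toFinite _)
  exact absurd (hmax _ hg'W) (not_le.mpr hlt)

/-- decomposable positive roots -/
def Decomp (b : P.Base) (j : ι) : Prop :=
  ∃ i k, b.IsPos i ∧ b.IsPos k ∧ P.root j = P.root i + P.root k

theorem mem_support_iff (b : P.Base) (j : ι) :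
    j ∈ b.support ↔ b.IsPos j ∧ ¬ Decomp b j := by
  constructor
  · intro hj
    refine ⟨b.isPos_of_mem_support hj, ?_⟩
    rintro ⟨i, k, hi, hk, hjik⟩
    have h1 := b.height_add hjik
    rw [RootPairing.Base.height_one_of_mem_support hj] at h1
    rw [RootPairing.Base.isPos_iff] at hi hk
    omega
  · rintro ⟨hpos, hnd⟩
    have key : b.IsPos j ∧ (j ∈ b.support ∨ Decomp b j) := by
      refine hpos.induction_on_add (p := fun j => b.IsPos j ∧ (j ∈ b.support ∨ Decomp b j)) ?_ ?_
      · intro i hi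
        exact ⟨b.isPos_of_mem_support hi, Or.inl hi⟩
      · rintro i l k hk ⟨hi, -⟩ hl
        have hlpos := b.isPos_of_mem_support hl
        exact ⟨hi.add hlpos hk, Or.inr ⟨i, l, hi, hlpos, hk⟩⟩
    exact key.2.resolve_right hnd

theorem isPos_smul_iff (b b' : P.Base) {g : P.Aut}
    (hg : ∀ k, b.IsPos k → b'.IsPos (g • k)) (k : ι) : b'.IsPos (g • k) ↔ b.IsPos k := by
  constructor
  · intro h
    by_contra hk
    have h1 : b.IsPos (P.reflectionPerm k k) := (isPos_neg_iff b k).mpr hk
    have h2 := hg _ h1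
    rw [smul_negIdx] at h2
    exact (isPos_neg_iff b' _).mp h2 h
  · exact hg k

theorem decomp_smul_iff (b b' : P.Base) {g : P.Aut}
    (hg : ∀ k, b.IsPos k → b'.IsPos (g • k)) (j : ι) : Decomp b' (g • j) ↔ Decomp b j := by
  constructor
  · rintro ⟨i', k', hi', hk', h⟩
    refine ⟨g⁻¹ • i', g⁻¹ • k', ?_, ?_, ?_⟩
    · rw [← isPos_smul_iff b b' hg, smul_inv_smul]; exact hi'
    · rw [← isPos_smul_iff b b' hg, smul_inv_smul]; exact hk'
    · have := congrArg (fun x => g⁻¹ • x) h
      simp only [root_smul, smul_add, inv_smul_smul] at this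
      rw [root_smul, root_smul]
      exact this
  · rintro ⟨i, k, hi, hk, h⟩
    refine ⟨g • i, g • k, hg i hi, hg k hk, ?_⟩
    rw [root_smul, root_smul, root_smul, h, smul_add]

theorem image_support_eq (b b' : P.Base) {g : P.Aut}
    (hg : ∀ k, b.IsPos k → b'.IsPos (g • k)) :
    (fun i : ι => g • i) '' (b.support : Set ι) = (b'.support : Set ι) := by
  have key : ∀ j, g • j ∈ b'.support ↔ j ∈ b.support := by
    intro j
    rw [mem_support_iff b', mem_support_iff b, isPos_smul_iff b b' hg, decomp_smul_iff b b' hg]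
  ext x
  constructor
  · rintro ⟨j, hj, rfl⟩
    exact (key j).mpr hj
  · intro hx
    refine ⟨g⁻¹ • x, ?_, smul_inv_smul g x⟩
    rw [Finset.mem_coe, ← key, smul_inv_smul]
    exact hx

/-- **S2954** -/
theorem existsUnique_weyl_base (b b' : P.Base) :
    ∃! g : P.weylGroup,
      (fun i : ι => (g : P.Aut) • i) '' (b.support : Set ι) = (b'.support : Set ι) := by
  obtain ⟨g, hgW, hg⟩ := exists_weyl_pos_subset b b'
  refine ⟨⟨g, hgW⟩, image_support_eq b b' hg, ?_⟩
  rintro ⟨g', hg'W⟩ hg'
  apply Subtype.ext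
  change g' = g
  have himg := image_support_eq b b' hg
  change (fun i : ι => g' • i) '' (b.support : Set ι) = (b'.support : Set ι) at hg'
  -- h = g⁻¹ g' preserves b.support
  have hh : ∀ l ∈ b.support, b.IsPos ((g⁻¹ * g') • l) := by
    intro l hl
    have h1 : g' • l ∈ (b'.support : Set ι) := by
      rw [← hg']
      exact ⟨l, hl, rfl⟩
    rw [← himg] at h1
    obtain ⟨l', hl', h2⟩ := h1
    have h3 : (g⁻¹ * g') • l = l' := by
      rw [mul_smul, ← h2]
      exact inv_smul_smul g l'
    rw [h3]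
    exact b.isPos_of_mem_support hl'
  have h1 : g⁻¹ * g' = 1 :=
    eq_one_of_preserves_pos b (mul_mem (inv_mem hgW) hg'W) (preserves_pos_of_simple b b hh)
  exact (inv_mul_eq_one.mp h1).symm

end Groth.Agent.Lib.Helper31.WB
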