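import Mathlib
import Groth.Agent.Lib.Helper31.WeylBase2

set_option autoImplicit false
set_option linter.unusedSectionVars false

open RootPairing
open scoped Classical

namespace Groth.Agent.Lib.Helper31.WB

variable {ι R M N : Type*} [CommRing R] [AddCommGroup M] [Module R M]
  [AddCommGroup N] [Module R N] {P : RootPairing ι R M N}
  [CharZero R] [IsDomain R] [Finite ι] [P.IsCrystallographic] [P.IsReduced]

/-- roots in the `ℤ`-span of two given roots -/
def InSpan2 (P : RootPairing ι R M N) (α γ k : ι) : Prop :=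
  ∃ p q : ℤ, P.root k = p • P.root α + q • P.root γ

omit [IsDomain R] [Finite ι] [P.IsReduced] in
theorem inSpan2_reflection (α γ δ k : ι) (hδ : δ = α ∨ δ = γ) (h : InSpan2 P α γ k) :
    InSpan2 P α γ (Equiv.reflection P δ • k) := by
  obtain ⟨p, q, hpq⟩ := h
  rw [reflection_smul_idx]
  have h1 : P.root (P.reflectionPerm δ k) = P.root k - (P.pairingIn ℤ k δ) • P.root δ := by
    rw [root_reflectionPerm, reflection_apply_root, ← P.algebraMap_pairingIn ℤ,
      algebraMap_int_eq, eq_intCast, Int.cast_smul_eq_zsmul]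
  rcases hδ with rfl | rfl
  · refine ⟨p - P.pairingIn ℤ k δ, q, ?_⟩
    rw [h1, hpq, sub_smul]; abel
  · refine ⟨p, q - P.pairingIn ℤ k δ, ?_⟩
    rw [h1, hpq, sub_smul]; abel

omit [IsDomain R] [Finite ι] [P.IsReduced] in
theorem inSpan2_word (α γ : ι) (l : List ι) (hl : ∀ a ∈ l, a = α ∨ a = γ) (k : ι)
    (h : InSpan2 P α γ k) : InSpan2 P α γ (wordProd P l • k) := by
  induction l with
  | nil => rwa [wordProd_nil, one_smul]
  | cons a t ih =>
    rw [wordProd_cons, mul_smul]
    exact inSpan2_reflection α γ a _ (hl a List.mem_cons_self)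
      (ih fun x hx => hl x (List.mem_cons_of_mem _ hx))

omit [IsDomain R] [Finite ι] [P.IsReduced] in
theorem inSpan2_of_mem_closure (α γ : ι) {u : P.Aut}
    (hu : u ∈ Subgroup.closure {Equiv.reflection P α, Equiv.reflection P γ}) (k : ι)
    (h : InSpan2 P α γ k) : InSpan2 P α γ (u • k) := by
  have h1 : ({Equiv.reflection P α, Equiv.reflection P γ} : Set P.Aut) =
      (fun i : ι => Equiv.reflection P i) '' ({α, γ} : Set ι) := by
    rw [Set.image_pair]
  rw [h1] at hu
  obtain ⟨l, hl, rfl⟩ := exists_word_of_mem_closure hu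
  exact inSpan2_word α γ l (fun a ha => by simpa using hl a ha) k h

/-- uniqueness of integer coordinates w.r.t. a base -/
theorem coeff_unique (b : P.Base) (f g : ι → ℤ)
    (h : ∑ j ∈ b.support, f j • P.root j = ∑ j ∈ b.support, g j • P.root j) :
    ∀ j ∈ b.support, f j = g j := by
  have h0 : ∑ j ∈ b.support, ((f j - g j : ℤ) : R) • P.root j = 0 := by
    simp_rw [Int.cast_smul_eq_zsmul, sub_smul]
    rw [Finset.sum_sub_distrib, h, sub_self]
  intro j hj
  have := linearIndepOn_finset_iff.mp b.linearIndepOn_root _ h0 j hj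
  have h2 : (f j - g j : ℤ) = 0 := by exact_mod_cast this
  omega

/-- signs of the two coordinates of a root in the span of two simple roots -/
theorem coeff_sign (b : P.Base) (α γ k : ι) (hα : α ∈ b.support) (hγ : γ ∈ b.support)
    (hne : α ≠ γ) (p q : ℤ) (h : P.root k = p • P.root α + q • P.root γ) :
    (b.IsPos k → 0 ≤ p ∧ 0 ≤ q) ∧ (¬ b.IsPos k → p ≤ 0 ∧ q ≤ 0) := by
  obtain ⟨f, -, hf, hfk⟩ := b.exists_root_eq_sum_int k
  let g : ι → ℤ := fun j => if j = α then p else if j = γ then q else 0
  have hg : P.root k = ∑ j ∈ b.support, g j • P.root j := by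
    rw [h]
    have h1 : ∀ j ∈ b.support, g j • P.root j =
        (if j = α then p • P.root α else 0) + (if j = γ then q • P.root γ else 0) := by
      intro j _
      simp only [g]
      by_cases h1 : j = α
      · subst h1
        rw [if_pos rfl, if_pos rfl, if_neg hne, add_zero]
      · rw [if_neg h1, if_neg h1]
        by_cases h2 : j = γ
        · subst h2; rw [if_pos rfl, if_pos rfl, zero_add]
        · rw [if_neg h2, if_neg h2, zero_smul, add_zero]
    rw [Finset.sum_congr rfl h1, Finset.sum_add_distrib, Finset.sum_ite_eq' b.support α,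
      Finset.sum_ite_eq' b.support γ, if_pos hα, if_pos hγ]
  have hfg := coeff_unique b f g (hfk.symm.trans hg)
  have hfα : f α = p := by rw [hfg α hα]; simp [g]
  have hfγ : f γ = q := by
    rw [hfg γ hγ]
    change (if γ = α then p else if γ = γ then q else 0) = q
    rw [if_neg (Ne.symm hne), if_pos rfl]
  have hht : b.height k = ∑ j ∈ b.support, f j := RootPairing.Base.height_eq_sum hfk
  rcases hf with hf | hf
  · have hpos : b.IsPos k := by
      rw [b.isPos_iff', hht]
      exact Finset.sum_nonneg fun j _ => hf.le j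
    refine ⟨fun _ => ⟨hfα ▸ hf.le α, hfγ ▸ hf.le γ⟩, fun hn => absurd hpos hn⟩
  · have hneg : ¬ b.IsPos k := by
      rw [b.isPos_iff, hht, not_lt]
      exact Finset.sum_nonpos fun j _ => hf.le j
    refine ⟨fun hp => absurd hp hneg, fun _ => ⟨hfα ▸ hf.le α, hfγ ▸ hf.le γ⟩⟩

/-- linearity of the height -/
theorem height_lin (b : P.Base) (i j k : ι) (p q : ℤ)
    (h : P.root k = p • P.root i + q • P.root j) :
    b.height k = p * b.height i + q * b.height j := by
  obtain ⟨f, -, -, hf⟩ := b.exists_root_eq_sum_int i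
  obtain ⟨g, -, -, hg⟩ := b.exists_root_eq_sum_int j
  have hfg : P.root k = ∑ l ∈ b.support, (p • f + q • g) l • P.root l := by
    simp_rw [Pi.add_apply, Pi.smul_apply, add_smul, smul_assoc, Finset.sum_add_distrib,
      ← Finset.smul_sum, ← hf, ← hg, h]
  simp_rw [RootPairing.Base.height_eq_sum hf, RootPairing.Base.height_eq_sum hg,
    RootPairing.Base.height_eq_sum hfg, Pi.add_apply, Pi.smul_apply,
    Finset.sum_add_distrib, smul_eq_mul, Finset.mul_sum]

end Groth.Agent.Lib.Helper31.WB
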