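import Mathlib
import Groth.Agent.Lib.Helper31.WeylTits1

set_option autoImplicit false
set_option linter.unusedSectionVars false

open RootPairing
open scoped Classical

namespace Groth.Agent.Lib.Helper31.WB

variable {ι R M N : Type*} [CommRing R] [AddCommGroup M] [Module R M]
  [AddCommGroup N] [Module R N] {P : RootPairing ι R M N}
  [CharZero R] [IsDomain R] [Finite ι] [P.IsCrystallographic] [P.IsReduced]

/-- deletion: if `wordProd l • δ` is negative (δ simple), `wordProd l * s_δ` has a shorter word -/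
theorem exists_shorter_of_neg (b : P.Base) (l : List ι) (hl : ∀ a ∈ l, a ∈ b.support) (δ : ι)
    (hδ : δ ∈ b.support) (hneg : ¬ b.IsPos (wordProd P l • δ)) :
    ∃ l' : List ι, (∀ a ∈ l', a ∈ b.support) ∧ l'.length + 1 = l.length ∧
      wordProd P l' = wordProd P l * Equiv.reflection P δ := by
  obtain ⟨l₁, c, l₂, hdec, hc⟩ := exists_split_of_neg b l hl δ
    (b.isPos_of_mem_support hδ) hneg
  have hconj := reflection_wordProd_smul (P := P) l₂ δ
  rw [hc] at hconj
  refine ⟨l₁ ++ l₂, ?_, ?_, ?_⟩
  · intro x hx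
    apply hl
    rw [hdec]
    rcases List.mem_append.mp hx with h | h
    · exact List.mem_append_left _ h
    · exact List.mem_append_right _ (List.mem_cons_of_mem _ h)
  · rw [hdec]
    simp
    omega
  · rw [hdec, wordProd_append, wordProd_append, wordProd_cons, hconj]
    have := reflection_mul_self (P := P) δ
    group
    rw [mul_assoc, this, mul_one]

/-- a minimal length representative of a coset `w W'` maps the simple roots whose reflection
lies in `W'` to positive roots -/
theorem pos_of_coset_minimal (b : P.Base) (W' : Subgroup P.Aut) (l : List ι)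
    (hl : ∀ a ∈ l, a ∈ b.support)
    (hmin : ∀ l'' : List ι, (∀ a ∈ l'', a ∈ b.support) →
      (wordProd P l'')⁻¹ * wordProd P l ∈ W' → l.length ≤ l''.length)
    (δ : ι) (hδ : δ ∈ b.support) (hδW : Equiv.reflection P δ ∈ W') :
    b.IsPos (wordProd P l • δ) := by
  by_contra hneg
  obtain ⟨l', hl', hlen, hprod⟩ := exists_shorter_of_neg b l hl δ hδ hneg
  have := hmin l' hl' (by
    rw [hprod, mul_inv_rev, mul_assoc, inv_mul_cancel, mul_one, Equiv.reflection_inv]
    exact hδW)
  omega

/-- the rank two step -/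
theorem rank2_step (b : P.Base) (α γ β : ι) (hα : α ∈ b.support) (hγ : γ ∈ b.support)
    (hβ : β ∈ b.support) (hne : α ≠ γ) (u w' : P.Aut)
    (hu : u ∈ Subgroup.closure {Equiv.reflection P α, Equiv.reflection P γ})
    (h1 : b.IsPos (w' • α)) (h2 : b.IsPos (w' • γ)) (h : w' • (u • α) = β) :
    u • α = α ∨ u • α = γ := by
  obtain ⟨p, q, hpq⟩ := inSpan2_of_mem_closure α γ hu α ⟨1, 0, by simp⟩
  have hβr : P.root β = p • P.root (w' • α) + q • P.root (w' • γ) := by
    rw [← h, root_smul, hpq, smul_add, root_smul, root_smul, smul_comm w' p, smul_comm w' q]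
  have hht := height_lin b _ _ _ p q hβr
  rw [RootPairing.Base.height_one_of_mem_support hβ] at hht
  rw [b.isPos_iff] at h1 h2
  have hsign := coeff_sign b α γ (u • α) hα hγ hne p q hpq
  by_cases hpos : b.IsPos (u • α)
  · obtain ⟨hp, hq⟩ := hsign.1 hpos
    -- 1 = p h1 + q h2, p,q ≥ 0, h1, h2 ≥ 1
    have hp1 : p ≤ 1 := by nlinarith
    have hq1 : q ≤ 1 := by nlinarith
    have : (p = 1 ∧ q = 0) ∨ (p = 0 ∧ q = 1) := by
      have hp' : p = 0 ∨ p = 1 := by omega
      have hq' : q = 0 ∨ q = 1 := by omega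
      rcases hp' with rfl | rfl <;> rcases hq' with rfl | rfl
      · exfalso; simp at hht
      · right; exact ⟨rfl, rfl⟩
      · left; exact ⟨rfl, rfl⟩
      · exfalso; nlinarith
    rcases this with ⟨rfl, rfl⟩ | ⟨rfl, rfl⟩
    · left
      apply P.root.injective
      rw [hpq]; simp
    · right
      apply P.root.injective
      rw [hpq]; simp
  · obtain ⟨hp, hq⟩ := hsign.2 hpos
    exfalso
    nlinarith

end Groth.Agent.Lib.Helper31.WB
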