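import Mathlib
import Groth.Agent.Lib.Helper31.WeylTits2

set_option autoImplicit false
set_option linter.unusedSectionVars false

open RootPairing
open scoped Classical

namespace Groth.Agent.Lib.Helper31.WB

variable {ι R M N : Type*} [CommRing R] [AddCommGroup M] [Module R M]
  [AddCommGroup N] [Module R N] {P : RootPairing ι R M N}
  [CharZero R] [IsDomain R] [Finite ι] [P.IsCrystallographic] [P.IsReduced]

/-- Tits chains -/
inductive Chain (b : P.Base) : ι → ι → P.Aut → Prop
  | nil (α : ι) (hα : α ∈ b.support) : Chain b α α 1
  | cons {α α1 β : ι} {u w' : P.Aut} (γ : ι) (hα : α ∈ b.support) (hγ : γ ∈ b.support)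
      (hu : u ∈ Subgroup.closure {Equiv.reflection P α, Equiv.reflection P γ})
      (hα1 : u • α = α1) (hne : α ≠ α1 → γ = α1) (hc : Chain b α1 β w') : Chain b α β (w' * u)

theorem chain_of_word (b : P.Base) : ∀ n : ℕ, ∀ l : List ι, (∀ a ∈ l, a ∈ b.support) →
    l.length = n → ∀ α β : ι, α ∈ b.support → β ∈ b.support → wordProd P l • α = β →
    Chain b α β (wordProd P l) := by
  intro n
  induction n using Nat.strong_induction_on with
  | _ n ih =>
    intro l hl hlen α β hα hβ hw
    set w := wordProd P l with hwdef
    by_cases hall : ∀ γ ∈ b.support, b.IsPos (w • γ)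
    · have h1 : w = 1 := eq_one_of_preserves_pos b (wordProd_mem_weylGroup l)
        (preserves_pos_of_simple b b hall)
      rw [h1, one_smul] at hw
      subst hw
      rw [h1]
      exact Chain.nil α hα
    · push Not at hall
      obtain ⟨γ, hγ, hγneg⟩ := hall
      have hne : α ≠ γ := by
        rintro rfl
        rw [hw] at hγneg
        exact hγneg (b.isPos_of_mem_support hβ)
      set W' : Subgroup P.Aut :=
        Subgroup.closure {Equiv.reflection P α, Equiv.reflection P γ} with hW'
      have hαW : Equiv.reflection P α ∈ W' := Subgroup.subset_closure (by simp)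
      have hγW : Equiv.reflection P γ ∈ W' := Subgroup.subset_closure (by simp)
      have hex : ∃ n' : ℕ, ∃ l' : List ι, (∀ a ∈ l', a ∈ b.support) ∧ l'.length = n' ∧
          (wordProd P l')⁻¹ * w ∈ W' :=
        ⟨n, l, hl, hlen, by rw [inv_mul_cancel]; exact one_mem _⟩
      obtain ⟨l', hl', hlen', hu⟩ := Nat.find_spec hex
      set w' := wordProd P l' with hw'def
      set u := w'⁻¹ * w with hudef
      have hwu : w' * u = w := by rw [hudef, mul_inv_cancel_left]
      have hmin' : ∀ l'' : List ι, (∀ a ∈ l'', a ∈ b.support) →
          (wordProd P l'')⁻¹ * wordProd P l' ∈ W' → l'.length ≤ l''.length := by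
        intro l'' hl'' hmem
        rw [hlen']
        refine Nat.find_min' hex ⟨l'', hl'', rfl, ?_⟩
        have : (wordProd P l'')⁻¹ * w = ((wordProd P l'')⁻¹ * wordProd P l') * u := by
          rw [← hwu, mul_assoc]
        rw [this]
        exact mul_mem hmem hu
      have hposα := pos_of_coset_minimal b W' l' hl' hmin' α hα hαW
      have hposγ := pos_of_coset_minimal b W' l' hl' hmin' γ hγ hγW
      have hle : Nat.find hex ≤ n := Nat.find_min' hex
        ⟨l, hl, hlen, by rw [inv_mul_cancel]; exact one_mem _⟩
      have hlt : l'.length < n := by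
        rw [hlen']
        rcases Nat.lt_or_ge (Nat.find hex) n with h | h
        · exact h
        · exfalso
          have heq : Nat.find hex = n := le_antisymm hle h
          have hminl : ∀ l'' : List ι, (∀ a ∈ l'', a ∈ b.support) →
              (wordProd P l'')⁻¹ * wordProd P l ∈ W' → l.length ≤ l''.length := by
            intro l'' hl'' hmem
            rw [hlen, ← heq]
            exact Nat.find_min' hex ⟨l'', hl'', rfl, hmem⟩
          exact hγneg (pos_of_coset_minimal b W' l hl hminl γ hγ hγW)
      have hβ' : w' • (u • α) = β := by rw [← mul_smul, hwu, hw]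
      have hstep := rank2_step b α γ β hα hγ hβ hne u w' hu hposα hposγ hβ'
      have hα1 : u • α ∈ b.support := by
        rcases hstep with h | h <;> rw [h] <;> assumption
      have hchain := ih l'.length hlt l' hl' rfl (u • α) β hα1 hβ hβ'
      have := Chain.cons (b := b) γ hα hγ hu rfl (fun hne' => by
        rcases hstep with h | h
        · exact absurd h.symm hne'
        · exact h.symm) hchain
      rwa [hwu] at this

end Groth.Agent.Lib.Helper31.WB
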