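import Mathlib
import Groth.Agent.Lib.Helper31.WeylTits3

set_option autoImplicit false
set_option linter.unusedSectionVars false

open RootPairing
open scoped Classical

namespace Groth.Agent.Lib.Helper31.WB

variable {ι R M N : Type*} [CommRing R] [AddCommGroup M] [Module R M]
  [AddCommGroup N] [Module R N] {P : RootPairing ι R M N}
  [CharZero R] [IsDomain R] [Finite ι] [P.IsCrystallographic] [P.IsReduced]

/-- the output format of S2957 -/
def Out (b : P.Base) (α β : ι) (w : P.Aut) : Prop :=
  ∃ (m : ℕ) (a : Fin (m + 1) → ι) (ws : Fin m → P.Aut),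
      (∀ i, a i ∈ b.support) ∧ a 0 = α ∧ a (Fin.last m) = β ∧
      (∀ i, ws i ∈ P.weylGroup) ∧
      w = (List.ofFn fun i : Fin m => ws (Fin.rev i)).prod ∧
      (∀ i : Fin m, ws i • a (Fin.castSucc i) = a (Fin.succ i)) ∧
      ∀ i : Fin m, ∃ γ ∈ b.support,
        ws i ∈ Subgroup.closure {Equiv.reflection P (a (Fin.castSucc i)), Equiv.reflection P γ} ∧
        (a (Fin.castSucc i) ≠ a (Fin.succ i) → γ = a (Fin.succ i))

theorem out_of_chain (b : P.Base) {α β : ι} {w : P.Aut} (h : Chain b α β w) : Out b α β w := by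
  induction h with
  | nil α hα =>
    refine ⟨0, fun _ => α, Fin.elim0, fun _ => hα, rfl, rfl, fun i => i.elim0, ?_,
      fun i => i.elim0, fun i => i.elim0⟩
    simp
  | @cons α α1 β u w' γ hα hγ hu hα1 hne hc ih =>
    obtain ⟨m, a, ws, ha, ha0, hal, hws, hprod, hstep, hcl⟩ := ih
    refine ⟨m + 1, Fin.cons α a, Fin.cons u ws, ?_, ?_, ?_, ?_, ?_, ?_, ?_⟩
    · intro i
      refine Fin.cases ?_ (fun j => ?_) i
      · simpa using hα
      · simpa using ha j
    · simp
    · rw [show Fin.last (m + 1) = Fin.succ (Fin.last m) from rfl, Fin.cons_succ]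
      exact hal
    · intro i
      refine Fin.cases ?_ (fun j => ?_) i
      · rw [Fin.cons_zero]
        have hle : Subgroup.closure {Equiv.reflection P α, Equiv.reflection P γ} ≤ P.weylGroup := by
          rw [Subgroup.closure_le]
          rintro _ (rfl | rfl)
          · exact P.reflection_mem_weylGroup _
          · exact P.reflection_mem_weylGroup _
        exact hle hu
      · rw [Fin.cons_succ]
        exact hws j
    · rw [List.ofFn_succ', List.concat_eq_append, List.prod_append, List.prod_singleton]
      have h1 : (fun i : Fin m => (Fin.cons u ws : Fin (m + 1) → P.Aut)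
          (Fin.rev (Fin.castSucc i))) = fun i : Fin m => ws (Fin.rev i) := by
        funext i
        rw [Fin.rev_castSucc, Fin.cons_succ]
      rw [h1, Fin.rev_last, Fin.cons_zero, ← hprod]
    · intro i
      refine Fin.cases ?_ (fun j => ?_) i
      · rw [Fin.cons_zero, Fin.castSucc_zero, Fin.cons_zero, Fin.cons_succ, ha0]
        exact hα1
      · rw [Fin.cons_succ, Fin.cons_succ, ← Fin.succ_castSucc, Fin.cons_succ]
        exact hstep j
    · intro i
      refine Fin.cases ?_ (fun j => ?_) i
      · refine ⟨γ, hγ, ?_, ?_⟩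
        · rw [Fin.cons_zero, Fin.castSucc_zero, Fin.cons_zero]
          exact hu
        · rw [Fin.castSucc_zero, Fin.cons_zero, Fin.cons_succ, ha0]
          exact hne
      · obtain ⟨γ', hγ', h1, h2⟩ := hcl j
        refine ⟨γ', hγ', ?_, ?_⟩
        · rw [Fin.cons_succ, ← Fin.succ_castSucc, Fin.cons_succ]
          exact h1
        · rw [Fin.cons_succ, ← Fin.succ_castSucc, Fin.cons_succ]
          exact h2

theorem tits (b : P.Base) (α β : ι) (hα : α ∈ b.support) (hβ : β ∈ b.support) (w : P.Aut)
    (hw : w ∈ P.weylGroup) (hwα : w • α = β) : Out b α β w := by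
  rw [← (Groth.Agent.S2952.result P b).1] at hw
  obtain ⟨l, hl, rfl⟩ := exists_word_of_mem_closure hw
  exact out_of_chain b (chain_of_word b l.length l (fun a ha => hl a ha) rfl α β hα hβ hwα)

end Groth.Agent.Lib.Helper31.WB
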